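import Cfsg.Agent.Held.Config
import Cfsg.Agent.SporadicRecognition.CosetCertHyp

/-!
# Letters and relators for the groups of Held type

Letters `0..11` are the root elements `x01 x02 x03 x04 x12 x13 x14 x23 x24 x34 x21 x32` (0-based),
`12, 13, 14, 15` are `y1, y1⁻¹, y2, y2⁻¹`.  `relsP` are the relators of the Steinberg presentation
of the centraliser of a transvection (with `x31 = [x32, x21]` eliminated).
-/

set_option autoImplicit false

namespace Cfsg.Agent.Held.Letters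

open Cfsg.Agent.SporadicRecognition.CosetCert Cfsg.Agent.Held.Config

/-- the relators in the root elements -/
def relsP : List (List ℕ) := [
  [11,10,11,10,11,10,11,10], [0,1,0,1], [0,2,0,2], [0,3,0,3], [0,4,0,4,1], [0,5,0,5,2],
  [0,6,0,6,3], [0,7,0,7], [0,8,0,8], [0,9,0,9], [0,10,0,10], [0,11,0,11],
  [0,11,10,11,10,0,11,10,11,10], [1,2,1,2], [1,3,1,3], [1,4,1,4], [1,5,1,5], [1,6,1,6],
  [1,7,1,7,2], [1,8,1,8,3], [1,9,1,9], [1,10,1,10,0], [1,11,1,11],
  [1,11,10,11,10,1,11,10,11,10], [2,3,2,3], [2,4,2,4], [2,5,2,5], [2,6,2,6], [2,7,2,7],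
  [2,8,2,8], [2,9,2,9,3], [2,10,2,10], [2,11,2,11,1], [2,11,10,11,10,2,11,10,11,10,0],
  [3,4,3,4], [3,5,3,5], [3,6,3,6], [3,7,3,7], [3,8,3,8], [3,9,3,9], [3,10,3,10], [3,11,3,11],
  [3,11,10,11,10,3,11,10,11,10], [4,5,4,5], [4,6,4,6], [4,7,4,7,5], [4,8,4,8,6], [4,9,4,9],
  [4,10,4,10,4,10], [4,11,4,11], [5,6,5,6], [5,7,5,7], [5,8,5,8], [5,9,5,9,6], [5,11,5,11,4],
  [5,11,10,11,10,5,11,10,11,10,5,11,10,11,10], [6,7,6,7], [6,8,6,8], [6,9,6,9], [6,11,6,11],
  [7,8,7,8], [7,9,7,9,8], [7,11,7,11,7,11], [7,11,10,11,10,7,11,10,11], [8,9,8,9],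
  [8,11,10,11,10,8,11,10,11,10], [10,5,10,5,7], [10,6,10,6,8], [10,7,10,7], [10,8,10,8],
  [10,9,10,9], [11,8,11,8,9], [11,9,11,9], [10,11,10,4,11,10,11,10,4],
  [11,10,11,10,6,11,10,11,10,6,9], [11,10,11,10,9,11,10,11,10,9]]

section
variable {G : Type*} [Group G]

/-- the values of the letters `0..11` -/
def gx (x : ℕ → ℕ → G) (n : ℕ) : G :=
  [x 0 1, x 0 2, x 0 3, x 0 4, x 1 2, x 1 3, x 1 4, x 2 3, x 2 4, x 3 4, x 2 1, x 3 2].getD n 1

/-- the values of the letters `0..15` -/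
def gy (x : ℕ → ℕ → G) (y1 y2 : G) (n : ℕ) : G :=
  [x 0 1, x 0 2, x 0 3, x 0 4, x 1 2, x 1 3, x 1 4, x 2 3, x 2 4, x 3 4, x 2 1, x 3 2,
    y1, y1⁻¹, y2, y2⁻¹].getD n 1

/-- The root elements satisfy the Steinberg relations. -/
structure St (x : ℕ → ℕ → G) : Prop where
  sq : ∀ n, gx x n * gx x n = 1
  rel : ∀ r ∈ relsP, ev (gx x) r = 1

theorem ev_congr {g g' : ℕ → G} {r : List ℕ} (h : ∀ l ∈ r, g l = g' l) : ev g r = ev g' r := by
  unfold ev
  rw [List.map_congr_left h]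

theorem ev_map {H : Type*} [Group H] (f : G →* H) (g : ℕ → G) (r : List ℕ) :
    f (ev g r) = ev (fun n => f (g n)) r := by
  unfold ev
  rw [map_list_prod, List.map_map]
  rfl

theorem ev_flatten (g : ℕ → G) (n : ℕ) (w : List ℕ) :
    ev g (List.replicate n w).flatten = ev g w ^ n := by
  induction n with
  | zero => simp [ev]
  | succ n ih => rw [List.replicate_succ, List.flatten_cons, ev_append, ih, pow_succ']

theorem ev_one (l : ℕ) (g : ℕ → G) : ev g [l] = g l := by simp [ev]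

theorem ev_mem (H : Subgroup G) (g : ℕ → G) (r : List ℕ) (h : ∀ l ∈ r, g l ∈ H) : ev g r ∈ H := by
  unfold ev
  refine list_prod_mem ?_
  intro y hy
  obtain ⟨l, hl, rfl⟩ := List.mem_map.mp hy
  exact h l hl

theorem gy_of_lt (x : ℕ → ℕ → G) (y1 y2 : G) {n : ℕ} (h : n < 12) : gy x y1 y2 n = gx x n := by
  interval_cases n <;> rfl

theorem gx_of_ge (x : ℕ → ℕ → G) {n : ℕ} (h : 12 ≤ n) : gx x n = 1 := by
  unfold gx
  rw [List.getD_eq_getElem?_getD, List.getElem?_eq_none (by simpa using h)]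
  rfl

theorem gy_of_ge (x : ℕ → ℕ → G) (y1 y2 : G) {n : ℕ} (h : 16 ≤ n) : gy x y1 y2 n = 1 := by
  unfold gy
  rw [List.getD_eq_getElem?_getD, List.getElem?_eq_none (by simpa using h)]
  rfl

theorem relsP_lt : ∀ r ∈ relsP, ∀ l ∈ r, l < 12 := by decide +kernel

/-! ### products -/

theorem ev_prod {H : Type*} [Group H] (g : ℕ → G) (h : ℕ → H) (r : List ℕ) :
    ev (fun n => (g n, h n)) r = (ev g r, ev h r) := by
  induction r with
  | nil => rfl
  | cons l r ih => rw [ev_cons, ev_cons, ev_cons, ih]; rfl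

theorem gx_prod {H : Type*} [Group H] (x : ℕ → ℕ → G) (x' : ℕ → ℕ → H) :
    gx (fun i j => (x i j, x' i j)) = fun n => (gx x n, gx x' n) := by
  funext n
  rcases Nat.lt_or_ge n 12 with h | h
  · interval_cases n <;> rfl
  · rw [gx_of_ge _ h, gx_of_ge _ h, gx_of_ge _ h]; rfl

theorem gy_prod {H : Type*} [Group H] (x : ℕ → ℕ → G) (x' : ℕ → ℕ → H) (y1 y2 : G) (y1' y2' : H) :
    gy (fun i j => (x i j, x' i j)) (y1, y1') (y2, y2') =
      fun n => (gy x y1 y2 n, gy x' y1' y2' n) := by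
  funext n
  rcases Nat.lt_or_ge n 16 with h | h
  · interval_cases n <;> rfl
  · rw [gy_of_ge _ _ _ h, gy_of_ge _ _ _ h, gy_of_ge _ _ _ h]; rfl

theorem St.prod {H : Type*} [Group H] {x : ℕ → ℕ → G} {x' : ℕ → ℕ → H} (h : St x) (h' : St x') :
    St (fun i j => (x i j, x' i j)) where
  sq := by
    intro n
    rw [gx_prod]
    exact Prod.ext (h.sq n) (h'.sq n)
  rel := by
    intro r hr
    rw [gx_prod, ev_prod, h.rel r hr, h'.rel r hr]
    rfl

theorem Side.prod {H : Type*} [Group H] {x : ℕ → ℕ → G} {x' : ℕ → ℕ → H} {t : ℕ} {y : G} {y' : H}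
    (h : Side x t y) (h' : Side x' t y') : Side (fun i j => (x i j, x' i j)) t (y, y') where
  cube := Prod.ext h.cube h'.cube
  inv := Prod.ext h.inv h'.inv
  act3 := fun i hi => Prod.ext (h.act3 i hi) (h'.act3 i hi)
  act4 := fun i hi => Prod.ext (h.act4 i hi) (h'.act4 i hi)
  x01 := Prod.ext h.x01 h'.x01
  x02 := Prod.ext h.x02 h'.x02
  x12 := Prod.ext h.x12 h'.x12
  x21 := Prod.ext h.x21 h'.x21

theorem Config.prod {H : Type*} [Group H] {x : ℕ → ℕ → G} {x' : ℕ → ℕ → H} {t1 t2 : ℕ}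
    {f y1 y2 : G} {f' y1' y2' : H} (h : Config x t1 t2 f y1 y2) (h' : Config x' t1 t2 f' y1' y2') :
    Config (fun i j => (x i j, x' i j)) t1 t2 (f, f') (y1, y1') (y2, y2') where
  side1 := Side.prod h.side1 h'.side1
  side2 := Side.prod h.side2 h'.side2
  comm := Prod.ext h.comm h'.comm

/-- **Transfer**: if the group generated by the pairs `(gM n, gG n)` is not larger than `M`, then
`gM n ↦ gG n` extends to a homomorphism. -/
theorem exists_hom {M : Type*} [Group M] [Finite M] (gM : ℕ → M) (gG : ℕ → G) (k : ℕ)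
    (hgen : Subgroup.closure (gM '' {n | n < k}) = ⊤)
    (hfin : Finite (Subgroup.closure ((fun n => (gM n, gG n)) '' {n | n < k})))
    (hcard : Nat.card (Subgroup.closure ((fun n => (gM n, gG n)) '' {n | n < k})) ≤ Nat.card M) :
    ∃ f : M →* G, (∀ n < k, f (gM n) = gG n) ∧ f.range = Subgroup.closure (gG '' {n | n < k}) := by
  set D : Subgroup (M × G) := Subgroup.closure ((fun n => (gM n, gG n)) '' {n | n < k}) with hD
  have hmem : ∀ n < k, (gM n, gG n) ∈ D := fun n hn => Subgroup.subset_closure ⟨n, hn, rfl⟩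
  let π : D →* M := (MonoidHom.fst M G).comp D.subtype
  have hsurj : Function.Surjective π := by
    rw [← MonoidHom.range_eq_top, eq_top_iff, ← hgen, Subgroup.closure_le]
    rintro z ⟨n, hn, rfl⟩
    exact ⟨⟨_, hmem n hn⟩, rfl⟩
  have hbij : Function.Bijective π := hsurj.bijective_of_nat_card_le hcard
  let e : D ≃* M := MulEquiv.ofBijective π hbij
  have hf : ∀ n < k, ((MonoidHom.snd M G).comp D.subtype).comp e.symm.toMonoidHom (gM n) = gG n := by
    intro n hn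
    have : e.symm (gM n) = ⟨_, hmem n hn⟩ := by
      rw [MulEquiv.symm_apply_eq]; rfl
    change ((e.symm (gM n) : D) : M × G).2 = gG n
    rw [this]
  refine ⟨((MonoidHom.snd M G).comp D.subtype).comp e.symm.toMonoidHom, hf, ?_⟩
  rw [MonoidHom.range_eq_map, ← hgen, MonoidHom.map_closure]
  congr 1
  ext z
  constructor
  · rintro ⟨_, ⟨n, hn, rfl⟩, rfl⟩
    exact ⟨n, hn, (hf n hn).symm⟩
  · rintro ⟨n, hn, rfl⟩
    exact ⟨_, ⟨n, hn, rfl⟩, hf n hn⟩

end

end Cfsg.Agent.Held.Letters
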