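import Cfsg.Agent.Held.SideWords

/-!
# The Steinberg relators hold for an embedding of the codes
-/

set_option autoImplicit false

namespace Cfsg.Agent.Held.EmbSt

open Cfsg.Agent.SporadicRecognition.CosetCert Cfsg.Agent.Held.Config Cfsg.Agent.Held.Letters
  Cfsg.Agent.Held.Code

/-- codes of the letters -/
def cx (n : ℕ) : ℕ :=
  [X 0 1, X 0 2, X 0 3, X 0 4, X 1 2, X 1 3, X 1 4, X 2 3, X 2 4, X 3 4, X 2 1, X 3 2].getD n e1

/-- code of a word -/
def evC (r : List ℕ) : ℕ := r.foldr (fun l a => mu (cx l) a) e1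

theorem cx_of_ge {n : ℕ} (h : 12 ≤ n) : cx n = e1 := by
  unfold cx
  rw [List.getD_eq_getElem?_getD, List.getElem?_eq_none (by simpa using h)]
  rfl

theorem C_cx (n : ℕ) : C (cx n) := by
  rcases Nat.lt_or_ge n 12 with h | h
  · have key : ∀ n < 12, isC (cx n) (cx n) = true := by decide +kernel
    exact C_of_isC (key n h)
  · rw [cx_of_ge h]; exact C_e1

theorem C_evC (r : List ℕ) : C (evC r) := by
  induction r with
  | nil => exact C_e1
  | cons l r ih => exact (C_cx l).mul ih

section
variable {G : Type*} [Group G] {z : G} {ph : ℕ → G}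

theorem ph_e1 (h : Emb z ph) : ph e1 = 1 := by
  have h1 := h.mul C_e1 C_e1
  rw [mu_e1 (by decide)] at h1
  exact mul_eq_left.mp h1.symm

theorem gx_ph (h : Emb z ph) (n : ℕ) : gx (fun i j => ph (X i j)) n = ph (cx n) := by
  rcases Nat.lt_or_ge n 12 with hn | hn
  · interval_cases n <;> rfl
  · rw [cx_of_ge hn, gx_of_ge _ hn, ph_e1 h]

theorem ev_ph (h : Emb z ph) (r : List ℕ) : ev (gx (fun i j => ph (X i j))) r = ph (evC r) := by
  induction r with
  | nil => exact (ph_e1 h).symm
  | cons l r ih =>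
    rw [ev_cons, ih, gx_ph h, ← h.mul (C_cx l) (C_evC r)]
    rfl

theorem relsP_codes : ∀ r ∈ relsP, evC r = e1 := by decide +kernel

theorem cx_sq (n : ℕ) : mu (cx n) (cx n) = e1 := by
  rcases Nat.lt_or_ge n 12 with h | h
  · have key : ∀ n < 12, mu (cx n) (cx n) = e1 := by decide +kernel
    exact key n h
  · rw [cx_of_ge h]; decide +kernel

/-- the root elements of an embedding satisfy the Steinberg relations -/
theorem st_of_emb (h : Emb z ph) : St (fun i j => ph (X i j)) where
  sq := by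
    intro n
    rw [gx_ph h, ← h.mul (C_cx n) (C_cx n), cx_sq, ph_e1 h]
  rel := by
    intro r hr
    rw [ev_ph h, relsP_codes r hr, ph_e1 h]

end

end Cfsg.Agent.Held.EmbSt
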