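import Cfsg.Agent.Held.AffineCase
import Cfsg.Agent.S0215
import Cfsg.Agent.S1180

/-!
# The affine case, unconditional
-/

set_option autoImplicit false

universe u

namespace Cfsg.Agent.Held.AffineCaseZ

open Cfsg Subgroup

/-- Glauberman's Z*-theorem in commutator form, for all finite groups. -/
theorem zstar (X : Type u) [Group X] [Finite X] (v : X) (hv : IsIsolatedInvolution v) :
    ∀ x : X, v * x * v⁻¹ * x⁻¹ ∈ oddCore X := by
  classical
  have hf : Fact (Nat.Prime 2) := ⟨Nat.prime_two⟩
  have hzp : IsPGroup 2 (Subgroup.zpowers v) := by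
    apply IsPGroup.of_card (n := 1)
    rw [Nat.card_zpowers, hv.1, pow_one]
  obtain ⟨P, hP⟩ := hzp.exists_le_sylow
  have hzP : v ∈ P := hP (Subgroup.mem_zpowers v)
  obtain ⟨N, hN, hodd, hNz⟩ := Cfsg.Agent.S0215.result P v hv.1 hzP
    (fun g hg => Cfsg.Agent.S1180.eq_of_conj_mem_isPGroup v hv P P.isPGroup' hzP g hg)
  intro x
  have hle : N ≤ oddCore X := le_sSup ⟨hN, Nat.coprime_two_right.mpr hodd⟩
  exact hle (hNz x)

/-- If `z` is fused (in the Sylow 2-subgroup `T`) exactly to the involutions of a self-centralizing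
elementary abelian `A` of order 16, `|C_G(z)| = 21504`, `C_G(z) ≤ N_G(A)` and `T` splits over `A`, then
`G` is the stabiliser of a vector in `SL(5,2)`. -/
theorem affineCase {G : Type u} [Group G] [Finite G] {z : G} {T : Sylow 2 G} {A U : Subgroup G}
    (h : AffineBasic.Hyp z T A U) :
    ∃ v : Fin 5 → ZMod 2, v ≠ 0 ∧
      Nonempty (G ≃* MulAction.stabilizer (Matrix.SpecialLinearGroup (Fin 5) (ZMod 2)) v) :=
  AffineCase.nonempty_equiv h zstar

end Cfsg.Agent.Held.AffineCaseZ
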