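import Cfsg.Agent.Held.CodeEnum

/-!
# Calculus of conjugation on codes; the normaliser of `V2`
-/

set_option autoImplicit false

namespace Cfsg.Agent.Held.Code

open Cfsg.Agent.Lib.F2Mat

variable {G : Type*} [Group G] {z : G} {ph : ℕ → G}

/-- `Ac ph y a b` : `y⁻¹ * ph a * y = ph b`. -/
structure Ac (ph : ℕ → G) (y : G) (a b : ℕ) : Prop where
  l : C a
  r : C b
  e : ph a * y = y * ph b

/-! ### elements of `C` in `G` -/

theorem Emb.one (E : Emb z ph) : ph e1 = 1 := by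
  have h : ph (mu e1 e1) = ph e1 * ph e1 := E.mul C_e1 C_e1
  rw [mu_e1 (by decide)] at h
  exact (mul_eq_left.mp h.symm)

theorem Emb.eq_iff (E : Emb z ph) {a b : ℕ} (ha : C a) (hb : C b) : ph a = ph b ↔ a = b :=
  ⟨E.inj ha hb, fun h => by rw [h]⟩

theorem Emb.inv_eq (E : Emb z ph) {a b : ℕ} (ha : C a) (hb : C b) (h : mu a b = e1) :
    (ph a)⁻¹ = ph b := by
  apply inv_eq_of_mul_eq_one_right
  rw [← E.mul ha hb, h, E.one]

theorem Emb.eq_one (E : Emb z ph) {a : ℕ} (ha : C a) (h : ph a = 1) : a = e1 :=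
  E.inj ha C_e1 (by rw [h, E.one])

theorem Emb.comm_iff (E : Emb z ph) {a b : ℕ} (ha : C a) (hb : C b) :
    ph a * ph b = ph b * ph a ↔ mu a b = mu b a := by
  rw [← E.mul ha hb, ← E.mul hb ha, E.eq_iff (ha.mul hb) (hb.mul ha)]

/-! ### `Ac` -/

theorem Ac.one (E : Emb z ph) (y : G) : Ac ph y e1 e1 := ⟨C_e1, C_e1, by rw [E.one]; simp⟩

theorem Ac.mul (E : Emb z ph) {y : G} {a b a' b' : ℕ} (h : Ac ph y a b) (h' : Ac ph y a' b') :
    Ac ph y (mu a a') (mu b b') :=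
  ⟨h.l.mul h'.l, h.r.mul h'.r, by
    rw [E.mul h.l h'.l, E.mul h.r h'.r, mul_assoc, h'.e, ← mul_assoc, h.e, mul_assoc]⟩

theorem Ac.comp {x y : G} {a b c : ℕ} (h : Ac ph x a b) (h' : Ac ph y b c) :
    Ac ph (x * y) a c :=
  ⟨h.l, h'.r, by rw [← mul_assoc, h.e, mul_assoc, h'.e, mul_assoc]⟩

theorem Ac.inv {y : G} {a b : ℕ} (h : Ac ph y a b) : Ac ph y⁻¹ b a :=
  ⟨h.r, h.l, by
    have := h.e
    rw [eq_inv_mul_iff_mul_eq, ← mul_assoc, ← this, mul_assoc, mul_inv_cancel, mul_one]⟩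

theorem Ac.uniq (E : Emb z ph) {y : G} {a b b' : ℕ} (h : Ac ph y a b) (h' : Ac ph y a b') :
    b = b' :=
  E.inj h.r h'.r (mul_left_cancel (h.e.symm.trans h'.e))

theorem Ac.inj (E : Emb z ph) {y : G} {a a' b : ℕ} (h : Ac ph y a b) (h' : Ac ph y a' b) :
    a = a' :=
  E.inj h.l h'.l (mul_right_cancel (h.e.trans h'.e.symm))

theorem Ac.of_ph (E : Emb z ph) {a b c : ℕ} (ha : C a) (hb : C b) (hc : C c)
    (h : mu a c = mu c b) : Ac ph (ph c) a b :=
  ⟨ha, hb, by rw [← E.mul ha hc, ← E.mul hc hb, h]⟩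

theorem Ac.one_right {a : ℕ} (ha : C a) : Ac ph (1 : G) a a := ⟨ha, ha, by simp⟩

theorem Ac.congr {y : G} {a b a' b' : ℕ} (h : Ac ph y a b) (ha : a = a') (hb : b = b') :
    Ac ph y a' b' := by subst ha; subst hb; exact h

theorem Ac.congr_right {x y : G} {a b : ℕ} (h : Ac ph x a b) (e : x = y) : Ac ph y a b := by
  subst e; exact h


theorem C_zc : C zc := C_of_isC (b := zc) (by decide +kernel)

/-- an element fixing the code of `z` is coded -/
theorem Emb.of_fix (E : Emb z ph) {y : G} (h : Ac ph y zc zc) : ∃ c, C c ∧ ph c = y := by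
  apply E.surj
  have := h.e
  rw [E.z_eq] at this
  exact this.symm

/-! ### Booleans -/

/-- bounded existential quantifier -/
def anyb (N : ℕ) (P : ℕ → Bool) : Bool :=
  Nat.rec false (fun n ih => cond (P n) true ih) N

theorem of_anyb {N : ℕ} {P : ℕ → Bool} (h : anyb N P = true) : ∃ n < N, P n = true := by
  induction N with
  | zero => exact absurd h Bool.false_ne_true
  | succ N ih =>
    have h' : cond (P N) true (anyb N P) = true := h
    rcases hp : P N with _ | _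
    · rw [hp] at h'
      obtain ⟨n, hn, hn'⟩ := ih h'
      exact ⟨n, Nat.lt_succ_of_lt hn, hn'⟩
    · exact ⟨N, Nat.lt_succ_self N, hp⟩

theorem beq_true {a b : ℕ} (h : Nat.beq a b = true) : a = b := Nat.eq_of_beq_eq_true h

theorem beq_of_eq {a b : ℕ} (h : a = b) : Nat.beq a b = true := by subst h; exact Nat.beq_refl a

/-! ### `V2` -/

/-- the elements of `V2`: bits `0,1` of `n` are the entries `(0,3),(0,4)`, bits `2,3` the entries
`(1,3),(1,4)`, bits `4,5` the entries `(2,3),(2,4)`. -/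
def vv (n : ℕ) : ℕ :=
  Nat.add (Nat.add (Nat.add 17043521 (Nat.mul (Nat.mod n 4) 8))
    (Nat.mul (Nat.mod (Nat.div n 4) 4) 256)) (Nat.mul (Nat.div n 16) 8192)

theorem vv_ck : allb 64 (fun n => isC (vv n) (vv n)) = true := by decide +kernel

theorem vv_C {n : ℕ} (hn : n < 64) : C (vv n) := C_of_isC (of_allb vv_ck n hn)

theorem vv_mul_ck : allb 64 (fun n => allb 64 (fun m =>
    Nat.beq (mu (vv n) (vv m)) (vv (Nat.xor n m)))) = true := by decide +kernel

theorem vv_mul {n m : ℕ} (hn : n < 64) (hm : m < 64) :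
    mu (vv n) (vv m) = vv (Nat.xor n m) := beq_true (of_allb (of_allb vv_mul_ck n hn) m hm)

theorem xor_lt {n m : ℕ} (hn : n < 64) (hm : m < 64) : Nat.xor n m < 64 :=
  Nat.xor_lt_two_pow (n := 6) hn hm

theorem vv_sq {n : ℕ} (hn : n < 64) : mu (vv n) (vv n) = e1 := by
  rw [vv_mul hn hn]
  have : Nat.xor n n = 0 := Nat.xor_self n
  rw [this]; rfl

/-- the subgroup `V2` of `G` -/
def V2s (E : Emb z ph) : Subgroup G where
  carrier := {g | ∃ n < 64, g = ph (vv n)}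
  mul_mem' := by
    rintro _ _ ⟨n, hn, rfl⟩ ⟨m, hm, rfl⟩
    exact ⟨Nat.xor n m, xor_lt hn hm, by rw [← vv_mul hn hm, E.mul (vv_C hn) (vv_C hm)]⟩
  one_mem' := ⟨0, by norm_num, by rw [← E.one]; rfl⟩
  inv_mem' := by
    rintro _ ⟨n, hn, rfl⟩
    exact ⟨n, hn, E.inv_eq (vv_C hn) (vv_C hn) (vv_sq hn)⟩

theorem mem_V2s (E : Emb z ph) {g : G} : g ∈ V2s E ↔ ∃ n < 64, g = ph (vv n) := Iff.rfl

/-- the normaliser of `V2` -/
def NV (E : Emb z ph) : Subgroup G := Subgroup.normalizer (V2s E : Set G)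

theorem NV.act {E : Emb z ph} {g : G} (hg : g ∈ NV E) {n : ℕ} (hn : n < 64) :
    ∃ m < 64, Ac ph g (vv n) (vv m) := by
  have h1 : g⁻¹ ∈ NV E := (NV E).inv_mem hg
  have h2 := (Subgroup.mem_normalizer_iff.mp h1 (ph (vv n))).mp ⟨n, hn, rfl⟩
  obtain ⟨m, hm, h3⟩ := h2
  refine ⟨m, hm, vv_C hn, vv_C hm, ?_⟩
  rw [← h3]; group

theorem NV.of_act {E : Emb z ph} {g : G} (h : ∀ n < 64, ∃ m < 64, Ac ph g (vv n) (vv m)) :
    g ∈ NV E := by
  classical
  choose f hf1 hf2 using h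
  let F : Fin 64 → Fin 64 := fun i => ⟨f i i.2, hf1 i i.2⟩
  have hF : Function.Injective F := by
    intro i j hij
    have h1 : f i i.2 = f j j.2 := congrArg Fin.val hij
    have h2 := hf2 i i.2
    have h3 := hf2 j j.2
    rw [h1] at h2
    have h4 := Ac.inj E h2 h3
    have h5 : ∀ n < 64, ∀ m < 64, vv n = vv m → n = m := by
      intro n hn m hm e
      have hck : allb 64 (fun n => allb 64 (fun m => imp (Nat.beq (vv n) (vv m)) (Nat.beq n m)))
        = true := by decide +kernel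
      exact beq_true (imp_mp (of_allb (of_allb hck n hn) m hm) (beq_of_eq e))
    exact Fin.ext (h5 i i.2 j j.2 h4)
  have hS : Function.Surjective F := Finite.surjective_of_injective hF
  have key1 : ∀ x, x ∈ V2s E → g⁻¹ * x * g ∈ V2s E := by
    rintro _ ⟨n, hn, rfl⟩
    refine ⟨f n hn, hf1 n hn, ?_⟩
    rw [mul_assoc, (hf2 n hn).e]; group
  have key2 : ∀ x, x ∈ V2s E → g * x * g⁻¹ ∈ V2s E := by
    rintro _ ⟨m, hm, rfl⟩
    obtain ⟨i, hi⟩ := hS ⟨m, hm⟩
    have h1 : f i i.2 = m := congrArg Fin.val hi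
    refine ⟨i, i.2, ?_⟩
    have := (hf2 i i.2).e
    rw [h1] at this
    rw [← this]; group
  apply Subgroup.mem_normalizer_iff.mpr
  intro x
  constructor
  · exact key2 x
  · intro hx
    have := key1 _ hx
    have e : g⁻¹ * (g * x * g⁻¹) * g = x := by group
    rwa [e] at this

/-- Boolean test: the code `c` (with inverse `d`) normalises `V2` -/
def normV (c d : ℕ) : Bool :=
  allb 64 fun n => anyb 64 fun m => Nat.beq (mu d (mu (vv n) c)) (vv m)

theorem NV.of_normV {E : Emb z ph} {c d : ℕ} (hc : C c) (hcd : mu c d = e1)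
    (h : normV c d = true) : ph c ∈ NV E := by
  apply NV.of_act
  intro n hn
  obtain ⟨m, hm, h1⟩ := of_anyb (of_allb h n hn)
  refine ⟨m, hm, Ac.of_ph E (vv_C hn) (vv_C hm) hc ?_⟩
  have h2 := beq_true h1
  rw [← h2, ← mu_assoc c, hcd, e1_mu (mu_lt _ _)]

end Cfsg.Agent.Held.Code
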