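import Cfsg.Agent.Held.Code

/-!
# Enumeration of the codes in `C` and in `C_C(x03)`
-/

set_option autoImplicit false

namespace Cfsg.Agent.Held.Code

open Cfsg.Agent.Lib.F2Mat

/-- bounded universal quantifier, kernel friendly -/
def allb (N : ℕ) (P : ℕ → Bool) : Bool :=
  Nat.rec true (fun n ih => cond (P n) ih false) N

theorem of_allb {N : ℕ} {P : ℕ → Bool} (h : allb N P = true) : ∀ n < N, P n = true := by
  induction N with
  | zero => intro n hn; omega
  | succ N ih =>
    have h' : cond (P N) (allb N P) false = true := h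
    rcases hp : P N with _ | _
    · rw [hp] at h'; exact absurd h' Bool.false_ne_true
    · rw [hp] at h'
      intro n hn
      rcases Nat.lt_succ_iff_lt_or_eq.mp hn with h1 | rfl
      · exact ih h' n h1
      · exact hp

/-- implication of Booleans, lazy -/
def imp (a b : Bool) : Bool := cond a b true

theorem imp_mp {a b : Bool} (h : imp a b = true) (ha : a = true) : b = true := by
  subst ha; exact h

theorem mu_ent (a b : ℕ) (i j : Fin 5) :
    toMat 5 (mu a b) i j = ∑ k, toMat 5 a i k * toMat 5 b k j := by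
  have : toMat 5 (mu a b) = toMat 5 a * toMat 5 b := toMat_mul 5 a b
  rw [this, Matrix.mul_apply]

theorem zc_ent (i j : Fin 5) : toMat 5 zc i j = if i = j ∨ (i = 0 ∧ j = 4) then 1 else 0 := by
  show bz (Nat.testBit zc (5 * i + j)) = _
  revert i j; decide

theorem e1_ent (i j : Fin 5) : toMat 5 e1 i j = if i = j then 1 else 0 := by
  show bz (Nat.testBit e1 (5 * i + j)) = _
  revert i j; decide

theorem C.col0 {a : ℕ} (h : C a) (i : Fin 5) : toMat 5 a i 0 = if i = 0 then 1 else 0 := by
  obtain ⟨_, h2, b, _, h4, h5⟩ := h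
  have key : ∀ i j : Fin 5, toMat 5 (mu a zc) i j = toMat 5 (mu zc a) i j := by
    intro i j; rw [h2]
  have hi : ∀ i : Fin 5, i ≠ 0 → toMat 5 a i 0 = 0 := by
    intro i hi
    have := key i 4
    rw [mu_ent, mu_ent, Fin.sum_univ_five, Fin.sum_univ_five] at this
    simp only [zc_ent] at this
    fin_cases i
    · exact absurd rfl hi
    all_goals
      simp at this
      exact this
  by_cases h0 : i = 0
  · subst h0
    have h6 := mu_ent b a 0 0
    rw [h5, Fin.sum_univ_five, hi 1 (by decide), hi 2 (by decide), hi 3 (by decide),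
      hi 4 (by decide), e1_ent] at h6
    simp only [mul_zero, add_zero, if_true] at h6 ⊢
    generalize toMat 5 b 0 0 = u at h6
    generalize toMat 5 a 0 0 = v at h6
    revert h6; revert u v; decide
  · rw [if_neg h0, hi i h0]

theorem C.row4 {a : ℕ} (h : C a) (j : Fin 5) : toMat 5 a 4 j = if j = 4 then 1 else 0 := by
  obtain ⟨_, h2, b, _, h4, h5⟩ := h
  have key : ∀ i j : Fin 5, toMat 5 (mu a zc) i j = toMat 5 (mu zc a) i j := by
    intro i j; rw [h2]
  have hj : ∀ j : Fin 5, j ≠ 4 → toMat 5 a 4 j = 0 := by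
    intro j hj
    have := key 0 j
    rw [mu_ent, mu_ent, Fin.sum_univ_five, Fin.sum_univ_five] at this
    simp only [zc_ent] at this
    fin_cases j
    · simp at this; exact this
    · simp at this; exact this
    · simp at this; exact this
    · simp at this; exact this
    · exact absurd rfl hj
  by_cases h0 : j = 4
  · subst h0
    have h6 := mu_ent a b 4 4
    rw [h4, Fin.sum_univ_five, hj 0 (by decide), hj 1 (by decide), hj 2 (by decide),
      hj 3 (by decide), e1_ent] at h6
    simp only [zero_mul, zero_add, if_true] at h6 ⊢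
    generalize toMat 5 b 4 4 = u at h6
    generalize toMat 5 a 4 4 = v at h6
    revert h6; revert u v; decide
  · rw [if_neg h0, hj j h0]

/-- row `i` of a code -/
def row (a i : ℕ) : ℕ := a / 2 ^ (5 * i) % 32

theorem row_lt (a i : ℕ) : row a i < 32 := Nat.mod_lt _ (by norm_num)

theorem testBit_row (a i j : ℕ) (hj : j < 5) : (row a i).testBit j = a.testBit (5 * i + j) := by
  unfold row
  rw [show (32 : ℕ) = 2 ^ 5 from rfl, Nat.testBit_mod_two_pow, Nat.testBit_div_two_pow]
  simp [hj, Nat.add_comm]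

theorem bz_row (a : ℕ) (i j : Fin 5) : bz ((row a i).testBit j) = toMat 5 a i j := by
  rw [testBit_row a i j j.2]; rfl

theorem eq_rows {a : ℕ} (h : a < 2 ^ 25) :
    a = row a 0 + 32 * row a 1 + 1024 * row a 2 + 32768 * row a 3 + 1048576 * row a 4 := by
  unfold row
  norm_num
  norm_num at h
  omega

theorem bz_eq_zero {b : Bool} (h : bz b = 0) : b = false := by
  cases b
  · rfl
  · exact absurd h (by decide)

theorem bz_eq_one {b : Bool} (h : bz b = 1) : b = true := by
  cases b
  · exact absurd h (by decide)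
  · rfl

/-- the code with rows `1 + 2a, 2b, 2d, 2f, 16` -/
def mkC (a b d f : ℕ) : ℕ :=
  Nat.add (Nat.add (Nat.add (Nat.add (Nat.succ (Nat.mul 2 a)) (Nat.mul 64 b)) (Nat.mul 2048 d))
    (Nat.mul 65536 f)) 16777216

theorem row_eq_two_pow {c : ℕ} (i k : Fin 5)
    (h : ∀ j : Fin 5, toMat 5 c i j = if j = k then 1 else 0) : row c i = 2 ^ (k : ℕ) := by
  apply Nat.eq_of_testBit_eq
  intro p
  rw [Nat.testBit_two_pow]
  rcases Nat.lt_or_ge p 5 with hp | hp
  · have h1 := bz_row c i ⟨p, hp⟩
    rw [h ⟨p, hp⟩] at h1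
    have h1' : bz ((row c i).testBit p) = if (⟨p, hp⟩ : Fin 5) = k then 1 else 0 := h1
    by_cases hpk : (⟨p, hp⟩ : Fin 5) = k
    · rw [if_pos hpk] at h1'
      rw [bz_eq_one h1']
      have : (k : ℕ) = p := by rw [← hpk]
      simp [this]
    · rw [if_neg hpk] at h1'
      rw [bz_eq_zero h1']
      have : ¬ (k : ℕ) = p := fun e => hpk (Fin.ext e.symm)
      simp [this]
  · have h1 : row c i < 2 ^ p := lt_of_lt_of_le (row_lt c i)
      (by calc 32 = 2 ^ 5 := rfl
            _ ≤ 2 ^ p := Nat.pow_le_pow_right (by norm_num) hp)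
    rw [Nat.testBit_lt_two_pow h1]
    have := k.2
    have : ¬ (k : ℕ) = p := by omega
    simp [this]

theorem C.exists_mkC {c : ℕ} (h : C c) : ∃ a < 16, ∃ b < 16, ∃ d < 16, ∃ f < 16,
    c = mkC a b d f ∧ row c 3 = 2 * f := by
  have e0 : (row c 0) % 2 = 1 := by
    have h1 := bz_row c 0 0
    rw [h.col0 0, if_pos rfl] at h1
    have h2 := bz_eq_one h1
    have h3 : (row c 0).testBit 0 = true := h2
    rw [Nat.testBit_zero] at h3
    simpa using h3
  have ei : ∀ i : Fin 5, i ≠ 0 → (row c i) % 2 = 0 := by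
    intro i hi
    have h1 := bz_row c i 0
    rw [h.col0 i, if_neg hi] at h1
    have h2 := bz_eq_zero h1
    have h3 : (row c i).testBit 0 = false := h2
    rw [Nat.testBit_zero] at h3
    simp only [decide_eq_false_iff_not] at h3
    omega
  have e4 : row c 4 = 16 := row_eq_two_pow 4 4 h.row4
  have e1' := ei 1 (by decide)
  have e2' := ei 2 (by decide)
  have e3' := ei 3 (by decide)
  have l0 := row_lt c 0
  have l1 := row_lt c 1
  have l2 := row_lt c 2
  have l3 := row_lt c 3
  have hc := eq_rows h.1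
  have c1 : ((1 : Fin 5) : ℕ) = 1 := rfl
  have c2 : ((2 : Fin 5) : ℕ) = 2 := rfl
  have c3 : ((3 : Fin 5) : ℕ) = 3 := rfl
  rw [c1] at e1'
  rw [c2] at e2'
  rw [c3] at e3'
  refine ⟨row c 0 / 2, by omega, row c 1 / 2, by omega, row c 2 / 2, by omega, row c 3 / 2,
    by omega, ?_, by omega⟩
  have : mkC (row c 0 / 2) (row c 1 / 2) (row c 2 / 2) (row c 3 / 2) =
      1 + 2 * (row c 0 / 2) + 64 * (row c 1 / 2) + 2048 * (row c 2 / 2) +
        65536 * (row c 3 / 2) + 16777216 := by
    unfold mkC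
    show (2 * (row c 0 / 2)).succ + 64 * (row c 1 / 2) + 2048 * (row c 2 / 2) +
        65536 * (row c 3 / 2) + 16777216 = _
    omega
  rw [this]
  omega

theorem X_ent (i j : Fin 5) (k l : Fin 5) (hij : i ≠ j) :
    toMat 5 (X i j) k l = if k = l ∨ (k = i ∧ l = j) then 1 else 0 := by
  show bz (Nat.testBit (X i j) (5 * k + l)) = _
  revert i j k l; decide +kernel

/-- elements of `C` commuting with `x03` -/
theorem C.exists_mkK {c : ℕ} (h : C c) (hc : mu c (X 0 3) = mu (X 0 3) c) :
    ∃ a < 16, ∃ b < 16, ∃ d < 16, c = mkC a b d 4 := by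
  obtain ⟨a, ha, b, hb, d, hd, f, hf, e, e3⟩ := h.exists_mkC
  have h3 : ∀ j : Fin 5, toMat 5 c 3 j = if j = 3 then 1 else 0 := by
    intro j
    have h1 : toMat 5 (mu c (X 0 3)) 0 j = toMat 5 (mu (X 0 3) c) 0 j := by rw [hc]
    have hX := X_ent 0 3
    have c0 : ((0 : Fin 5) : ℕ) = 0 := rfl
    have c3 : ((3 : Fin 5) : ℕ) = 3 := rfl
    rw [c0, c3] at hX
    rw [mu_ent, mu_ent, Fin.sum_univ_five, Fin.sum_univ_five] at h1
    simp only [hX _ _ (by decide : (0 : Fin 5) ≠ 3)] at h1
    have h0 := h.col0 0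
    have h0' := h.col0 3
    rw [if_pos rfl] at h0
    rw [if_neg (by decide)] at h0'
    fin_cases j
    · simpa [h0, h0'] using h1
    · simpa [h0, h0'] using h1
    · simpa [h0, h0'] using h1
    · simp [h0, h0'] at h1
      rw [add_comm] at h1
      exact (add_left_cancel h1).symm
    · simpa [h0, h0'] using h1
  have e4 : row c 3 = 8 := row_eq_two_pow 3 3 h3
  have : f = 4 := by omega
  subst this
  exact ⟨a, ha, b, hb, d, hd, e⟩

/-- enumeration of `C_C(x03)` -/
def allK (P : ℕ → Bool) : Bool :=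
  allb 16 fun a => allb 16 fun b => allb 16 fun d => force (mkC a b d 4) P

theorem of_allK {P : ℕ → Bool} (hP : allK P = true) {c : ℕ} (h : C c)
    (hc : mu c (X 0 3) = mu (X 0 3) c) : P c = true := by
  obtain ⟨a, ha, b, hb, d, hd, rfl⟩ := h.exists_mkK hc
  have := of_allb (of_allb (of_allb hP a ha) b hb) d hd
  rw [force_eq] at this
  exact this

/-- enumeration of `C` -/
def allC (P : ℕ → Bool) : Bool :=
  allb 16 fun a => allb 16 fun b => allb 16 fun d => allb 16 fun f => force (mkC a b d f) P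

theorem of_allC {P : ℕ → Bool} (hP : allC P = true) {c : ℕ} (h : C c) : P c = true := by
  obtain ⟨a, ha, b, hb, d, hd, f, hf, rfl, _⟩ := h.exists_mkC
  have := of_allb (of_allb (of_allb (of_allb hP a ha) b hb) d hd) f hf
  rw [force_eq] at this
  exact this

end Cfsg.Agent.Held.Code
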