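import Cfsg.Agent.Held.Code

/-!
# The mirror: anti-transposition of codes and the mirrored embedding
-/

set_option autoImplicit false

namespace Cfsg.Agent.Held.Mirror

open Cfsg.Agent.Lib.F2Mat Cfsg.Agent.Held.Code

/-- anti-transpose of a code: entry `(i, j)` goes to `(4 - j, 4 - i)` -/
def flip (a : ℕ) : ℕ :=
  blk 1 (fun p => Nat.land (Nat.shiftRight a (24 - (5 * (p % 5) + p / 5))) 1) 25

theorem flip_aux (a i : ℕ) :
    Nat.land (Nat.shiftRight a (24 - (5 * (i % 5) + i / 5))) 1 < 2 ^ 1 := by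
  have : Nat.land (Nat.shiftRight a (24 - (5 * (i % 5) + i / 5))) 1 ≤ 1 := Nat.and_le_right
  omega

theorem flip_lt (a : ℕ) : flip a < 2 ^ 25 := by
  have h := blk_lt (n := 1) (a := fun p => Nat.land (Nat.shiftRight a
    (24 - (5 * (p % 5) + p / 5))) 1) 25 (fun i _ => flip_aux a i)
  exact h

theorem toMat_flip (a : ℕ) (i j : Fin 5) : toMat 5 (flip a) i j = toMat 5 a (Fin.rev j) (Fin.rev i) := by
  rw [toMat_apply, toMat_apply]
  congr 1
  have hi := i.2
  have hj := j.2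
  have h := testBit_blk (n := 1) (a := fun p => Nat.land (Nat.shiftRight a
    (24 - (5 * (p % 5) + p / 5))) 1) 25 (fun i _ => flip_aux a i) (i := 5 * i + j) (j := 0)
    (by omega) (by norm_num)
  have e1 : 1 * (5 * (i : ℕ) + j) + 0 = 5 * i + j := by ring
  rw [e1] at h
  unfold flip
  rw [h]
  have e2 : (5 * (i : ℕ) + j) % 5 = j := by omega
  have e3 : (5 * (i : ℕ) + j) / 5 = i := by omega
  simp only [e2, e3]
  show ((a >>> (24 - (5 * (j : ℕ) + i))) &&& 1).testBit 0 = _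
  rw [Nat.testBit_and, Nat.testBit_shiftRight]
  have e4 : 24 - (5 * (j : ℕ) + i) + 0 = 5 * ((Fin.rev j : Fin 5) : ℕ) + ((Fin.rev i : Fin 5) : ℕ) := by
    rw [Fin.val_rev, Fin.val_rev]; omega
  rw [e4]
  simp

theorem flip_flip {a : ℕ} (h : a < 2 ^ 25) : flip (flip a) = a := by
  apply toMat_inj (n := 5) (flip_lt _) h
  ext i j
  rw [toMat_flip, toMat_flip, Fin.rev_rev, Fin.rev_rev]

theorem flip_mu (a b : ℕ) : flip (mu a b) = mu (flip b) (flip a) := by
  apply toMat_inj (n := 5) (flip_lt _) (mu_lt _ _)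
  ext i j
  rw [toMat_flip]
  have h1 : toMat 5 (mu a b) = toMat 5 a * toMat 5 b := toMat_mul 5 a b
  have h2 : toMat 5 (mu (flip b) (flip a)) = toMat 5 (flip b) * toMat 5 (flip a) :=
    toMat_mul 5 (flip b) (flip a)
  rw [h1, h2, Matrix.mul_apply, Matrix.mul_apply, ← Equiv.sum_comp Fin.revPerm]
  apply Finset.sum_congr rfl
  intro k _
  rw [toMat_flip, toMat_flip, mul_comm]
  rfl

theorem flip_e1 : flip e1 = e1 := by decide +kernel

theorem flip_zc : flip zc = zc := by decide +kernel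

theorem C_flip {a : ℕ} (h : C a) : C (flip a) := by
  obtain ⟨_, h2, b, hb, h3, h4⟩ := h
  refine ⟨flip_lt _, ?_, flip b, flip_lt _, ?_, ?_⟩
  · rw [← flip_zc, ← flip_mu, ← flip_mu, h2]
  · rw [← flip_mu, h4, flip_e1]
  · rw [← flip_mu, h3, flip_e1]

/-- the mirrored map -/
def mir {G : Type*} [Group G] (ph : ℕ → G) : ℕ → G := fun a => (ph (flip a))⁻¹

theorem mir_emb {G : Type*} [Group G] {z : G} {ph : ℕ → G} (h : Emb z ph) : Emb z (mir ph) := by
  have hzc : C zc := C_of_isC (b := zc) (by decide +kernel)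
  have h1 : ph e1 = 1 := by
    have := h.mul C_e1 C_e1
    rw [mu_e1 C_e1.1] at this
    exact mul_left_cancel (this.symm.trans (mul_one _).symm)
  have hz2 : z * z = 1 := by
    rw [← h.z_eq, ← h.mul hzc hzc, show mu zc zc = e1 from by decide +kernel, h1]
  refine ⟨?_, ?_, ?_, ?_, ?_⟩
  · intro a b ha hb
    show (ph (flip (mu a b)))⁻¹ = (ph (flip a))⁻¹ * (ph (flip b))⁻¹
    rw [flip_mu, h.mul (C_flip hb) (C_flip ha), mul_inv_rev]
  · intro a b ha hb hab
    have h2 := h.inj (C_flip ha) (C_flip hb) (inv_injective hab)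
    rw [← flip_flip ha.1, ← flip_flip hb.1, h2]
  · show (ph (flip zc))⁻¹ = z
    rw [flip_zc, h.z_eq]
    exact inv_eq_of_mul_eq_one_right hz2
  · intro a ha
    show (ph (flip a))⁻¹ * z = z * (ph (flip a))⁻¹
    rw [inv_mul_eq_iff_eq_mul, ← mul_assoc, h.comm (C_flip ha)]; group
  · intro g hg
    have hg' : g⁻¹ * z = z * g⁻¹ := by
      rw [inv_mul_eq_iff_eq_mul, ← mul_assoc, hg]; group
    obtain ⟨a, ha, hag⟩ := h.surj g⁻¹ hg'
    refine ⟨flip a, C_flip ha, ?_⟩
    show (ph (flip (flip a)))⁻¹ = g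
    rw [flip_flip ha.1, hag, inv_inv]

theorem mir_mir {G : Type*} [Group G] (ph : ℕ → G) {a : ℕ} (h : a < 2 ^ 25) :
    mir (mir ph) a = ph a := by
  show ((ph (flip (flip a)))⁻¹)⁻¹ = ph a
  rw [flip_flip h, inv_inv]

end Cfsg.Agent.Held.Mirror
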