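import Mathlib

/-!
# Words normalising a fixed point free element of order 3

Abstract core of the "word theorems": `P : ℕ → G` is an elementary abelian self-centralising
subgroup of order 64 (coded by `v < 64`, addition `^^^`), `y` has order 3 and acts fixed point
freely on it, every letter acts by a coded linear map and normalises `⟨y⟩`.  Then a word which
acts trivially is trivial.
-/

set_option autoImplicit false

namespace Cfsg.Agent.Held.WordCore

variable {G : Type*} [Group G]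

/-- row vector (6 bits) times matrix (36 bits) -/
def app (M v : ℕ) : ℕ :=
  Nat.xor (Nat.mul (Nat.land v 1) (Nat.land M 63))
  (Nat.xor (Nat.mul (Nat.land (Nat.shiftRight v 1) 1) (Nat.land (Nat.shiftRight M 6) 63))
  (Nat.xor (Nat.mul (Nat.land (Nat.shiftRight v 2) 1) (Nat.land (Nat.shiftRight M 12) 63))
  (Nat.xor (Nat.mul (Nat.land (Nat.shiftRight v 3) 1) (Nat.land (Nat.shiftRight M 18) 63))
  (Nat.xor (Nat.mul (Nat.land (Nat.shiftRight v 4) 1) (Nat.land (Nat.shiftRight M 24) 63))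
    (Nat.mul (Nat.land (Nat.shiftRight v 5) 1) (Nat.land (Nat.shiftRight M 30) 63))))))

theorem app_lt (M v : ℕ) : app M v < 64 := by
  have h : ∀ x y : ℕ, Nat.mul (Nat.land x 1) (Nat.land y 63) < 2 ^ 6 := by
    intro x y
    have h1 : Nat.land x 1 ≤ 1 := Nat.and_le_right
    have h2 : Nat.land y 63 ≤ 63 := Nat.and_le_right
    calc Nat.mul (Nat.land x 1) (Nat.land y 63) ≤ 1 * 63 := Nat.mul_le_mul h1 h2
      _ < 2 ^ 6 := by norm_num
  unfold app
  exact Nat.xor_lt_two_pow (h _ _) (Nat.xor_lt_two_pow (h _ _) (Nat.xor_lt_two_pow (h _ _)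
    (Nat.xor_lt_two_pow (h _ _) (Nat.xor_lt_two_pow (h _ _) (h _ _)))))

/-- `P` is a homomorphism from `(Z/2)^6` -/
def IsHom6 (P : ℕ → G) : Prop := ∀ v w : ℕ, v < 64 → w < 64 → P (v ^^^ w) = P v * P w

/-- `g` acts on `P` through the matrix `M`: `g⁻¹ P(v) g = P(v M)` -/
def Acts (P : ℕ → G) (g : G) (M : ℕ) : Prop := ∀ v : ℕ, v < 64 → P v * g = g * P (app M v)

theorem IsHom6.zero {P : ℕ → G} (h : IsHom6 P) : P 0 = 1 := by
  have h1 := h 0 0 (by norm_num) (by norm_num)
  rw [Nat.xor_self] at h1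
  exact mul_left_cancel (h1.symm.trans (mul_one _).symm)

theorem IsHom6.sq {P : ℕ → G} (h : IsHom6 P) {v : ℕ} (hv : v < 64) : P v * P v = 1 := by
  rw [← h v v hv hv, Nat.xor_self, h.zero]

theorem split_bits : ∀ v < 64, v = (v &&& 1) ^^^ ((v &&& 2) ^^^ ((v &&& 4) ^^^ ((v &&& 8) ^^^
    ((v &&& 16) ^^^ (v &&& 32))))) := by
  decide

theorem bit_cases : ∀ v < 64, ((v &&& 1 = 0 ∨ v &&& 1 = 1) ∧ (v &&& 2 = 0 ∨ v &&& 2 = 2) ∧
    (v &&& 4 = 0 ∨ v &&& 4 = 4) ∧ (v &&& 8 = 0 ∨ v &&& 8 = 8) ∧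
    (v &&& 16 = 0 ∨ v &&& 16 = 16) ∧ (v &&& 32 = 0 ∨ v &&& 32 = 32)) := by
  decide

/-- additivity of `app` (proved bitwise) -/
theorem app_xor (M v w : ℕ) : app M (v ^^^ w) = app M v ^^^ app M w := by
  have key : ∀ k n, Nat.mul (Nat.land (Nat.shiftRight (v ^^^ w) k) 1) n =
      Nat.mul (Nat.land (Nat.shiftRight v k) 1) n ^^^ Nat.mul (Nat.land (Nat.shiftRight w k) 1) n := by
    intro k n
    have e1 : Nat.shiftRight (v ^^^ w) k = (v >>> k) ^^^ (w >>> k) := Nat.shiftRight_xor_distrib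
    have e2 : Nat.land ((v >>> k) ^^^ (w >>> k)) 1 = ((v >>> k) &&& 1) ^^^ ((w >>> k) &&& 1) :=
      Nat.and_xor_distrib_right
    rw [e1, e2]
    show (((v >>> k) &&& 1) ^^^ ((w >>> k) &&& 1)) * n = ((v >>> k) &&& 1) * n ^^^ ((w >>> k) &&& 1) * n
    have h1 : (v >>> k) &&& 1 = 0 ∨ (v >>> k) &&& 1 = 1 := by
      rw [Nat.and_one_is_mod]; omega
    have h2 : (w >>> k) &&& 1 = 0 ∨ (w >>> k) &&& 1 = 1 := by
      rw [Nat.and_one_is_mod]; omega
    rcases h1 with h1 | h1 <;> rcases h2 with h2 | h2 <;> rw [h1, h2] <;> simp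
  have key0 : ∀ n, Nat.mul (Nat.land (v ^^^ w) 1) n =
      Nat.mul (Nat.land v 1) n ^^^ Nat.mul (Nat.land w 1) n := by
    intro n
    have := key 0 n
    simpa using this
  unfold app
  rw [key0, key, key, key, key, key]
  have hx : ∀ a b : ℕ, Nat.xor a b = a ^^^ b := fun _ _ => rfl
  simp only [hx]
  ac_rfl

theorem app_zero (M : ℕ) : app M 0 = 0 := by
  have := app_xor M 0 0
  simpa using this

/-- it is enough to know the action on the basis -/
theorem acts_of_basis {P : ℕ → G} (hP : IsHom6 P) {g : G} {M : ℕ}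
    (h0 : P 1 * g = g * P (app M 1)) (h1 : P 2 * g = g * P (app M 2))
    (h2 : P 4 * g = g * P (app M 4)) (h3 : P 8 * g = g * P (app M 8))
    (h4 : P 16 * g = g * P (app M 16)) (h5 : P 32 * g = g * P (app M 32)) : Acts P g M := by
  have hz : P 0 * g = g * P (app M 0) := by rw [app_zero, hP.zero]; simp
  have add : ∀ v w, v < 64 → w < 64 → P v * g = g * P (app M v) → P w * g = g * P (app M w) →
      P (v ^^^ w) * g = g * P (app M (v ^^^ w)) := by
    intro v w hv hw hv' hw'
    rw [hP v w hv hw, app_xor, hP _ _ (app_lt _ _) (app_lt _ _), mul_assoc, hw', ← mul_assoc, hv',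
      mul_assoc]
  have hlt : ∀ v w, v < 64 → w < 64 → v ^^^ w < 64 := fun v w hv hw =>
    Nat.xor_lt_two_pow (n := 6) hv hw
  intro v hv
  obtain ⟨c0, c1, c2, c3, c4, c5⟩ := bit_cases v hv
  have l : ∀ k, v &&& k < 64 := fun k => lt_of_le_of_lt Nat.and_le_left hv
  rw [split_bits v hv]
  have g0 : P (v &&& 1) * g = g * P (app M (v &&& 1)) := by
    rcases c0 with h | h <;> rw [h] <;> assumption
  have g1 : P (v &&& 2) * g = g * P (app M (v &&& 2)) := by
    rcases c1 with h | h <;> rw [h] <;> assumption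
  have g2 : P (v &&& 4) * g = g * P (app M (v &&& 4)) := by
    rcases c2 with h | h <;> rw [h] <;> assumption
  have g3 : P (v &&& 8) * g = g * P (app M (v &&& 8)) := by
    rcases c3 with h | h <;> rw [h] <;> assumption
  have g4 : P (v &&& 16) * g = g * P (app M (v &&& 16)) := by
    rcases c4 with h | h <;> rw [h] <;> assumption
  have g5 : P (v &&& 32) * g = g * P (app M (v &&& 32)) := by
    rcases c5 with h | h <;> rw [h] <;> assumption
  exact add _ _ (l _) (hlt _ _ (l _) (hlt _ _ (l _) (hlt _ _ (l _) (hlt _ _ (l _) (l _))))) g0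
    (add _ _ (l _) (hlt _ _ (l _) (hlt _ _ (l _) (hlt _ _ (l _) (l _)))) g1
    (add _ _ (l _) (hlt _ _ (l _) (hlt _ _ (l _) (l _))) g2
    (add _ _ (l _) (hlt _ _ (l _) (l _)) g3
    (add _ _ (l _) (l _) g4 g5))))

/-- the data of a word problem -/
structure Core (P : ℕ → G) (y : G) (My : ℕ) : Prop where
  hom : IsHom6 P
  inj : ∀ v < 64, P v = 1 → v = 0
  cent : ∀ g : G, (∀ v < 64, P v * g = g * P v) → ∃ v < 64, g = P v
  acts : Acts P y My
  fpf : ∀ v < 64, app My v = v → v = 0

/-- `g` normalises `⟨y⟩` -/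
def Nrm (y g : G) : Prop := y * g = g * y ∨ y * g = g * y⁻¹

theorem Nrm.mul {y g h : G} (hg : Nrm y g) (hh : Nrm y h) : Nrm y (g * h) := by
  have inv_of : ∀ k : G, Nrm y k → (y⁻¹ * k = k * y⁻¹ ∨ y⁻¹ * k = k * y) := by
    rintro k (h | h)
    · left
      rw [inv_mul_eq_iff_eq_mul, ← mul_assoc, h]; group
    · right
      rw [inv_mul_eq_iff_eq_mul, ← mul_assoc, h]; group
  rcases hg with hg | hg
  · rcases hh with hh | hh
    · left; rw [← mul_assoc, hg, mul_assoc, hh, mul_assoc]
    · right; rw [← mul_assoc, hg, mul_assoc, hh, mul_assoc]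
  · rcases inv_of h hh with hh' | hh'
    · right; rw [← mul_assoc, hg, mul_assoc, hh', mul_assoc]
    · left; rw [← mul_assoc, hg, mul_assoc, hh', mul_assoc]

theorem Nrm.one (y : G) : Nrm y 1 := Or.inl (by simp)

theorem Nrm.inv {y g : G} (hg : Nrm y g) : Nrm y g⁻¹ := by
  rcases hg with h | h
  · left
    rw [eq_inv_mul_iff_mul_eq, ← mul_assoc, ← h]; group
  · right
    have : y⁻¹ * g = g * y := by
      rw [inv_mul_eq_iff_eq_mul, ← mul_assoc, h]; group
    rw [eq_inv_mul_iff_mul_eq, ← mul_assoc, ← this]; group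

/-- an element acting trivially and normalising `⟨y⟩` is trivial -/
theorem Core.eq_one {P : ℕ → G} {y : G} {My : ℕ} (hc : Core P y My) {g : G}
    (hg : ∀ v < 64, P v * g = g * P v) (hn : Nrm y g) : g = 1 := by
  obtain ⟨v, hv, rfl⟩ := hc.cent g hg
  have hact := hc.acts v hv
  rcases hn with h | h
  · -- P v commutes with y
    have h1 : y * P (app My v) = y * P v := by rw [← hact, h]
    have h2 : P (app My v) = P v := mul_left_cancel h1
    have h3 : P (app My v ^^^ v) = 1 := by
      rw [hc.hom _ _ (app_lt _ _) hv, h2, hc.hom.sq hv]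
    have h4 := hc.inj _ (Nat.xor_lt_two_pow (n := 6) (app_lt _ _) hv) h3
    have h5 : app My v = v := by
      have : app My v ^^^ v ^^^ v = 0 ^^^ v := by rw [h4]
      simpa [Nat.xor_assoc] using this
    rw [hc.fpf v hv h5, hc.hom.zero]
  · -- y P v = P v y⁻¹ : then y⁻² is in P
    exfalso
    have h1 : y * (P v * y) = P v := by
      rw [← mul_assoc, h]; group
    rw [hact] at h1
    have h2 : y * y = P v * P (app My v) := by
      have h6 : P (app My v) * P (app My v) = 1 := hc.hom.sq (app_lt _ _)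
      calc y * y = y * (y * P (app My v)) * P (app My v) := by
            rw [mul_assoc, mul_assoc, h6, mul_one]
        _ = _ := by rw [h1]
    have hu : v ^^^ app My v < 64 := Nat.xor_lt_two_pow (n := 6) hv (app_lt _ _)
    rw [← hc.hom _ _ hv (app_lt _ _)] at h2
    -- y⁴ acts trivially and y² centralises P
    have hcomm : ∀ w < 64, P w * (y * y) = (y * y) * P w := by
      intro w hw
      rw [h2, ← hc.hom _ _ hw hu, ← hc.hom _ _ hu hw, Nat.xor_comm]
    have h3 : ∀ w < 64, app My (app My w) = w := by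
      intro w hw
      have e1 : P w * (y * y) = (y * y) * P (app My (app My w)) := by
        rw [← mul_assoc, hc.acts w hw, mul_assoc, hc.acts _ (app_lt _ _), mul_assoc]
      rw [hcomm w hw] at e1
      have e2 : P w = P (app My (app My w)) := mul_left_cancel e1
      have e3 : P (w ^^^ app My (app My w)) = 1 := by
        rw [hc.hom _ _ hw (app_lt _ _), ← e2, hc.hom.sq hw]
      have e4 := hc.inj _ (Nat.xor_lt_two_pow (n := 6) hw (app_lt _ _)) e3
      have : w ^^^ (w ^^^ app My (app My w)) = w ^^^ 0 := by rw [e4]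
      simpa [← Nat.xor_assoc] using this
    -- then 1 ^^^ app My 1 is fixed, hence zero
    have h4 : app My (1 ^^^ app My 1) = 1 ^^^ app My 1 := by
      rw [app_xor, h3 1 (by norm_num), Nat.xor_comm]
    have h5 := hc.fpf _ (Nat.xor_lt_two_pow (n := 6) (by norm_num) (app_lt _ _)) h4
    have h6 : app My 1 = 1 := by
      have : 1 ^^^ (1 ^^^ app My 1) = 1 ^^^ 0 := by rw [h5]
      simpa [← Nat.xor_assoc] using this
    exact absurd (hc.fpf 1 (by norm_num) h6) (by norm_num)

/-- image of a vector under a word of matrices -/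
def appW (Ms : ℕ → ℕ) : List ℕ → ℕ → ℕ
  | [], v => v
  | a :: l, v => appW Ms l (app (Ms a) v)

/-- the group element of a word -/
def evalW (gs : ℕ → G) : List ℕ → G
  | [] => 1
  | a :: l => gs a * evalW gs l

theorem evalW_append (gs : ℕ → G) (l m : List ℕ) : evalW gs (l ++ m) = evalW gs l * evalW gs m := by
  induction l with
  | nil => simp [evalW]
  | cons a l ih => simp [evalW, ih, mul_assoc]

/-- Boolean test: the word acts trivially -/
def triv (Ms : ℕ → ℕ) (l : List ℕ) : Bool :=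
  Nat.beq (appW Ms l 1) 1 && (Nat.beq (appW Ms l 2) 2 && (Nat.beq (appW Ms l 4) 4 &&
    (Nat.beq (appW Ms l 8) 8 && (Nat.beq (appW Ms l 16) 16 && Nat.beq (appW Ms l 32) 32))))

theorem appW_xor (Ms : ℕ → ℕ) (l : List ℕ) : ∀ v w, appW Ms l (v ^^^ w) =
    appW Ms l v ^^^ appW Ms l w := by
  induction l with
  | nil => intro v w; rfl
  | cons a l ih => intro v w; simp only [appW, app_xor, ih]

theorem appW_of_triv {Ms : ℕ → ℕ} {l : List ℕ} (h : triv Ms l = true) :
    ∀ v < 64, appW Ms l v = v := by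
  unfold triv at h
  simp only [Bool.and_eq_true, Nat.beq_eq] at h
  obtain ⟨h0, h1, h2, h3, h4, h5⟩ := h
  have hz : appW Ms l 0 = 0 := by
    have := appW_xor Ms l 0 0
    simpa using this
  intro v hv
  obtain ⟨c0, c1, c2, c3, c4, c5⟩ := bit_cases v hv
  conv_lhs => rw [split_bits v hv]
  conv_rhs => rw [split_bits v hv]
  simp only [appW_xor]
  have g0 : appW Ms l (v &&& 1) = v &&& 1 := by
    rcases c0 with h | h <;> rw [h] <;> assumption
  have g1 : appW Ms l (v &&& 2) = v &&& 2 := by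
    rcases c1 with h | h <;> rw [h] <;> assumption
  have g2 : appW Ms l (v &&& 4) = v &&& 4 := by
    rcases c2 with h | h <;> rw [h] <;> assumption
  have g3 : appW Ms l (v &&& 8) = v &&& 8 := by
    rcases c3 with h | h <;> rw [h] <;> assumption
  have g4 : appW Ms l (v &&& 16) = v &&& 16 := by
    rcases c4 with h | h <;> rw [h] <;> assumption
  have g5 : appW Ms l (v &&& 32) = v &&& 32 := by
    rcases c5 with h | h <;> rw [h] <;> assumption
  rw [g0, g1, g2, g3, g4, g5]

theorem acts_evalW {P : ℕ → G} {gs : ℕ → G} {Ms : ℕ → ℕ} {n : ℕ}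
    (h : ∀ i < n, Acts P (gs i) (Ms i)) : ∀ (l : List ℕ), (∀ a ∈ l, a < n) →
    ∀ v < 64, P v * evalW gs l = evalW gs l * P (appW Ms l v) := by
  intro l
  induction l with
  | nil => intro _ v _; simp [evalW, appW]
  | cons a l ih =>
    intro hl v hv
    simp only [evalW, appW]
    have h1 := h a (hl a (by simp)) v hv
    have h2 := ih (fun b hb => hl b (by simp [hb])) (app (Ms a) v) (app_lt _ _)
    rw [← mul_assoc, h1, mul_assoc, h2, mul_assoc]

theorem nrm_evalW {y : G} {gs : ℕ → G} {n : ℕ} (h : ∀ i < n, Nrm y (gs i)) :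
    ∀ (l : List ℕ), (∀ a ∈ l, a < n) → Nrm y (evalW gs l) := by
  intro l
  induction l with
  | nil => intro _; exact Nrm.one y
  | cons a l ih =>
    intro hl
    exact (h a (hl a (by simp))).mul (ih (fun b hb => hl b (by simp [hb])))

/-- **Word theorem**: a word in letters normalising `⟨y⟩` whose action on `P` is trivial is
trivial in the group. -/
theorem word_one {P : ℕ → G} {y : G} {My : ℕ} (hc : Core P y My) {gs : ℕ → G} {Ms : ℕ → ℕ} {n : ℕ}
    (ha : ∀ i < n, Acts P (gs i) (Ms i)) (hn : ∀ i < n, Nrm y (gs i)) {l : List ℕ}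
    (hl : (l.all fun a => Nat.blt a n) = true) (ht : triv Ms l = true) : evalW gs l = 1 := by
  have hl' : ∀ a ∈ l, a < n := by
    intro a ha
    rw [List.all_eq_true] at hl
    have := hl a ha
    rwa [Nat.blt_eq] at this
  apply hc.eq_one _ (nrm_evalW hn l hl')
  intro v hv
  rw [acts_evalW ha l hl' v hv, appW_of_triv ht v hv]

end Cfsg.Agent.Held.WordCore
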