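import Cfsg.Agent.Held.SideDef
import Cfsg.Agent.Held.WordCore
import Cfsg.Agent.Held.Mirror
import Cfsg.Agent.Held.CodeEnum

/-!
# Actions on `V1` and `V2`

`P1 ph v`, `P2 ph v` (`v < 64`) are the elements of `V1 = ⟨x02,x03,x04,x12,x13,x14⟩` and
`V2 = ⟨x03,x04,x13,x14,x23,x24⟩`; the actions of `y1`, `y2` (from `Side`) and of coded elements.
-/

set_option autoImplicit false
set_option linter.unusedSectionVars false

namespace Cfsg.Agent.Held.Acts

open Cfsg.Agent.Held.Code Cfsg.Agent.Held.SideDef Cfsg.Agent.Held.WordCore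
  Cfsg.Agent.Held.Mirror

variable {G : Type*} [Group G] {z : G} {ph : ℕ → G}

/-- code of the element `v` of `V1` (bits: x02, x03, x04, x12, x13, x14) -/
def v1c (v : ℕ) : ℕ := Nat.xor 17043521 (Nat.xor (Nat.shiftLeft (Nat.land v 7) 2)
  (Nat.shiftLeft (Nat.land (Nat.shiftRight v 3) 7) 7))

/-- code of the element `v` of `V2` (bits: x03, x04, x13, x14, x23, x24) -/
def v2c (v : ℕ) : ℕ := Nat.xor 17043521 (Nat.xor (Nat.shiftLeft (Nat.land v 3) 3)
  (Nat.xor (Nat.shiftLeft (Nat.land (Nat.shiftRight v 2) 3) 8)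
  (Nat.shiftLeft (Nat.land (Nat.shiftRight v 4) 3) 13)))

theorem v1_chk : allb 64 (fun v => isC (v1c v) (v1c v) &&
    allb 64 (fun w => Nat.beq (mu (v1c v) (v1c w)) (v1c (v ^^^ w)))) = true := by decide +kernel

theorem v2_chk : allb 64 (fun v => isC (v2c v) (v2c v) &&
    allb 64 (fun w => Nat.beq (mu (v2c v) (v2c w)) (v2c (v ^^^ w)))) = true := by decide +kernel

theorem v1_C {v : ℕ} (hv : v < 64) : C (v1c v) := by
  have h := of_allb v1_chk v hv
  rw [Bool.and_eq_true] at h
  exact C_of_isC h.1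

theorem v2_C {v : ℕ} (hv : v < 64) : C (v2c v) := by
  have h := of_allb v2_chk v hv
  rw [Bool.and_eq_true] at h
  exact C_of_isC h.1

theorem v1_mu {v w : ℕ} (hv : v < 64) (hw : w < 64) : mu (v1c v) (v1c w) = v1c (v ^^^ w) := by
  have h := of_allb v1_chk v hv
  rw [Bool.and_eq_true] at h
  exact Nat.eq_of_beq_eq_true (of_allb h.2 w hw)

theorem v2_mu {v w : ℕ} (hv : v < 64) (hw : w < 64) : mu (v2c v) (v2c w) = v2c (v ^^^ w) := by
  have h := of_allb v2_chk v hv
  rw [Bool.and_eq_true] at h
  exact Nat.eq_of_beq_eq_true (of_allb h.2 w hw)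

/-- elements of `V1` -/
def P1 (ph : ℕ → G) (v : ℕ) : G := ph (v1c v)

/-- elements of `V2` -/
def P2 (ph : ℕ → G) (v : ℕ) : G := ph (v2c v)

theorem hom1 (h : Emb z ph) : IsHom6 (P1 ph) := fun v w hv hw => by
  show ph (v1c (v ^^^ w)) = ph (v1c v) * ph (v1c w)
  rw [← h.mul (v1_C hv) (v1_C hw), v1_mu hv hw]

theorem hom2 (h : Emb z ph) : IsHom6 (P2 ph) := fun v w hv hw => by
  show ph (v2c (v ^^^ w)) = ph (v2c v) * ph (v2c w)
  rw [← h.mul (v2_C hv) (v2_C hw), v2_mu hv hw]

theorem ph_e1 (h : Emb z ph) : ph e1 = 1 := by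
  have := h.mul C_e1 C_e1
  rw [mu_e1 C_e1.1] at this
  exact mul_left_cancel (this.symm.trans (mul_one _).symm)

theorem v1c_inj : ∀ v < 64, v1c v = e1 → v = 0 := by decide +kernel

theorem v2c_inj : ∀ v < 64, v2c v = e1 → v = 0 := by decide +kernel

theorem inj1 (h : Emb z ph) : ∀ v < 64, P1 ph v = 1 → v = 0 := fun v hv hv1 =>
  v1c_inj v hv (h.inj (v1_C hv) C_e1 (by rw [ph_e1 h]; exact hv1))

theorem inj2 (h : Emb z ph) : ∀ v < 64, P2 ph v = 1 → v = 0 := fun v hv hv1 =>
  v2c_inj v hv (h.inj (v2_C hv) C_e1 (by rw [ph_e1 h]; exact hv1))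

/-- commutation of codes from commutation of elements -/
theorem mu_comm_of (h : Emb z ph) {a b : ℕ} (ha : C a) (hb : C b)
    (hab : ph a * ph b = ph b * ph a) : mu a b = mu b a := by
  rw [← h.mul ha hb, ← h.mul hb ha] at hab
  exact h.inj (ha.mul hb) (hb.mul ha) hab

/-- commutation test -/
def cmt (a b : ℕ) : Bool := Nat.beq (mu a b) (mu b a)

theorem cent1_chk : allK (fun c => imp (cmt c (X 0 2) && (cmt c (X 0 4) && (cmt c (X 1 2) &&
    (cmt c (X 1 3) && cmt c (X 1 4))))) (Nat.beq c (v1c ((Nat.land (Nat.shiftRight c 2) 7) +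
      8 * (Nat.land (Nat.shiftRight c 7) 7))))) = true := by decide +kernel

theorem cent2_chk : allK (fun c => imp (cmt c (X 0 4) && (cmt c (X 1 3) && (cmt c (X 1 4) &&
    (cmt c (X 2 3) && cmt c (X 2 4))))) (Nat.beq c (v2c ((Nat.land (Nat.shiftRight c 3) 3) +
      4 * (Nat.land (Nat.shiftRight c 8) 3) + 16 * (Nat.land (Nat.shiftRight c 13) 3)))))
      = true := by decide +kernel

theorem CX {i j : ℕ} (h : isC (X i j) (X i j) = true) : C (X i j) := C_of_isC h

theorem cent1 (h : Emb z ph) (g : G) (hg : ∀ v < 64, P1 ph v * g = g * P1 ph v) :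
    ∃ v < 64, g = P1 ph v := by
  have hz : g * z = z * g := by
    have := hg 4 (by norm_num)
    have e : P1 ph 4 = z := by
      show ph (v1c 4) = z
      rw [show v1c 4 = zc from by decide +kernel, h.z_eq]
    rw [e] at this; exact this.symm
  obtain ⟨c, hc, rfl⟩ := h.surj g hz
  have k : ∀ v, v < 64 → mu c (v1c v) = mu (v1c v) c := fun v hv =>
    mu_comm_of h hc (v1_C hv) (hg v hv).symm
  have k3 : mu c (X 0 3) = mu (X 0 3) c := by
    have := k 2 (by norm_num)
    rwa [show v1c 2 = X 0 3 from by decide +kernel] at this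
  have c2 : cmt c (X 0 2) = true := by
    have := k 1 (by norm_num)
    rw [show v1c 1 = X 0 2 from by decide +kernel] at this
    unfold cmt; rw [Nat.beq_eq]; exact this
  have c4 : cmt c (X 0 4) = true := by
    have := k 4 (by norm_num)
    rw [show v1c 4 = X 0 4 from by decide +kernel] at this
    unfold cmt; rw [Nat.beq_eq]; exact this
  have c12 : cmt c (X 1 2) = true := by
    have := k 8 (by norm_num)
    rw [show v1c 8 = X 1 2 from by decide +kernel] at this
    unfold cmt; rw [Nat.beq_eq]; exact this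
  have c13 : cmt c (X 1 3) = true := by
    have := k 16 (by norm_num)
    rw [show v1c 16 = X 1 3 from by decide +kernel] at this
    unfold cmt; rw [Nat.beq_eq]; exact this
  have c14 : cmt c (X 1 4) = true := by
    have := k 32 (by norm_num)
    rw [show v1c 32 = X 1 4 from by decide +kernel] at this
    unfold cmt; rw [Nat.beq_eq]; exact this
  have hh := of_allK cent1_chk hc k3
  have h2 := imp_mp hh (by simp [c2, c4, c12, c13, c14])
  rw [Nat.beq_eq] at h2
  have l1 : Nat.land (Nat.shiftRight c 2) 7 ≤ 7 := Nat.and_le_right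
  have l2 : Nat.land (Nat.shiftRight c 7) 7 ≤ 7 := Nat.and_le_right
  exact ⟨_, by omega, congrArg ph h2⟩

theorem cent2 (h : Emb z ph) (g : G) (hg : ∀ v < 64, P2 ph v * g = g * P2 ph v) :
    ∃ v < 64, g = P2 ph v := by
  have hz : g * z = z * g := by
    have := hg 2 (by norm_num)
    have e : P2 ph 2 = z := by
      show ph (v2c 2) = z
      rw [show v2c 2 = zc from by decide +kernel, h.z_eq]
    rw [e] at this; exact this.symm
  obtain ⟨c, hc, rfl⟩ := h.surj g hz
  have k : ∀ v, v < 64 → mu c (v2c v) = mu (v2c v) c := fun v hv =>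
    mu_comm_of h hc (v2_C hv) (hg v hv).symm
  have k3 : mu c (X 0 3) = mu (X 0 3) c := by
    have := k 1 (by norm_num)
    rwa [show v2c 1 = X 0 3 from by decide +kernel] at this
  have c4 : cmt c (X 0 4) = true := by
    have := k 2 (by norm_num)
    rw [show v2c 2 = X 0 4 from by decide +kernel] at this
    unfold cmt; rw [Nat.beq_eq]; exact this
  have c13 : cmt c (X 1 3) = true := by
    have := k 4 (by norm_num)
    rw [show v2c 4 = X 1 3 from by decide +kernel] at this
    unfold cmt; rw [Nat.beq_eq]; exact this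
  have c14 : cmt c (X 1 4) = true := by
    have := k 8 (by norm_num)
    rw [show v2c 8 = X 1 4 from by decide +kernel] at this
    unfold cmt; rw [Nat.beq_eq]; exact this
  have c23 : cmt c (X 2 3) = true := by
    have := k 16 (by norm_num)
    rw [show v2c 16 = X 2 3 from by decide +kernel] at this
    unfold cmt; rw [Nat.beq_eq]; exact this
  have c24 : cmt c (X 2 4) = true := by
    have := k 32 (by norm_num)
    rw [show v2c 32 = X 2 4 from by decide +kernel] at this
    unfold cmt; rw [Nat.beq_eq]; exact this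
  have hh := of_allK cent2_chk hc k3
  have h2 := imp_mp hh (by simp [c4, c13, c14, c23, c24])
  rw [Nat.beq_eq] at h2
  have l1 : Nat.land (Nat.shiftRight c 3) 3 ≤ 3 := Nat.and_le_right
  have l2 : Nat.land (Nat.shiftRight c 8) 3 ≤ 3 := Nat.and_le_right
  have l3 : Nat.land (Nat.shiftRight c 13) 3 ≤ 3 := Nat.and_le_right
  exact ⟨_, by omega, congrArg ph h2⟩

/-! ### the action of coded elements -/

/-- test: the code `a` acts on `V1` by `M` -/
def chk1 (a M : ℕ) : Bool :=
  allb 64 (fun v => Nat.beq (mu (v1c v) a) (mu a (v1c (app M v))))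

/-- test: the code `a` acts on `V2` by `M` -/
def chk2 (a M : ℕ) : Bool :=
  allb 64 (fun v => Nat.beq (mu (v2c v) a) (mu a (v2c (app M v))))

theorem acts1_of_chk (h : Emb z ph) {a M : ℕ} (ha : C a) (hc : chk1 a M = true) :
    Acts (P1 ph) (ph a) M := by
  intro v hv
  show ph (v1c v) * ph a = ph a * ph (v1c (app M v))
  rw [← h.mul (v1_C hv) ha, ← h.mul ha (v1_C (app_lt _ _))]
  exact congrArg ph (Nat.eq_of_beq_eq_true (of_allb hc v hv))

theorem acts2_of_chk (h : Emb z ph) {a M : ℕ} (ha : C a) (hc : chk2 a M = true) :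
    Acts (P2 ph) (ph a) M := by
  intro v hv
  show ph (v2c v) * ph a = ph a * ph (v2c (app M v))
  rw [← h.mul (v2_C hv) ha, ← h.mul ha (v2_C (app_lt _ _))]
  exact congrArg ph (Nat.eq_of_beq_eq_true (of_allb hc v hv))

/-! ### basis elements -/

theorem p1_1 : P1 ph 1 = ph (X 0 2) := congrArg ph (by decide +kernel)
theorem p1_2 : P1 ph 2 = ph (X 0 3) := congrArg ph (by decide +kernel)
theorem p1_4 : P1 ph 4 = ph (X 0 4) := congrArg ph (by decide +kernel)
theorem p1_8 : P1 ph 8 = ph (X 1 2) := congrArg ph (by decide +kernel)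
theorem p1_16 : P1 ph 16 = ph (X 1 3) := congrArg ph (by decide +kernel)
theorem p1_32 : P1 ph 32 = ph (X 1 4) := congrArg ph (by decide +kernel)
theorem p2_1 : P2 ph 1 = ph (X 0 3) := congrArg ph (by decide +kernel)
theorem p2_2 : P2 ph 2 = ph (X 0 4) := congrArg ph (by decide +kernel)
theorem p2_4 : P2 ph 4 = ph (X 1 3) := congrArg ph (by decide +kernel)
theorem p2_8 : P2 ph 8 = ph (X 1 4) := congrArg ph (by decide +kernel)
theorem p2_16 : P2 ph 16 = ph (X 2 3) := congrArg ph (by decide +kernel)
theorem p2_32 : P2 ph 32 = ph (X 2 4) := congrArg ph (by decide +kernel)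

theorem ph_z (h : Emb z ph) : ph (X 0 4) = z := by
  rw [← h.z_eq]; exact congrArg ph (by decide +kernel)

/-- matrix of `y1` on `V1` -/
def A11 (t : Bool) : ℕ := cond t 52079124755 52078600449
/-- matrix of `y1` on `V2` -/
def A12 : ℕ := 52079657154
/-- matrix of `y2` on `V1` -/
def A21 : ℕ := 4328932489
/-- matrix of `y2` on `V2` -/
def A22 (t : Bool) : ℕ := cond t 47647822469 34628702853

theorem side_acts2 (h : Emb z ph) {t : Bool} {y : G} (s : Side z ph t y) : Acts (P2 ph) y A12 := by
  have hm := hom2 h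
  apply acts_of_basis hm
  · rw [show app A12 1 = 2 from by decide +kernel, p2_1, p2_2]; exact s.a03
  · rw [show app A12 2 = 1 ^^^ 2 from by decide +kernel, hm 1 2 (by norm_num) (by norm_num),
      p2_1, p2_2]; exact s.a04
  · rw [show app A12 4 = 8 from by decide +kernel, p2_4, p2_8]; exact s.a13
  · rw [show app A12 8 = 4 ^^^ 8 from by decide +kernel, hm 4 8 (by norm_num) (by norm_num),
      p2_4, p2_8]; exact s.a14
  · rw [show app A12 16 = 32 from by decide +kernel, p2_16, p2_32]; exact s.a23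
  · rw [show app A12 32 = 16 ^^^ 32 from by decide +kernel, hm 16 32 (by norm_num) (by norm_num),
      p2_16, p2_32]; exact s.a24

theorem side_acts1 (h : Emb z ph) {t : Bool} {y : G} (s : Side z ph t y) :
    Acts (P1 ph) y (A11 t) := by
  have hm := hom1 h
  apply acts_of_basis hm
  · rw [p1_1]
    have := s.a02
    cases t
    · rw [show app (A11 false) 1 = 1 from by decide +kernel, p1_1]
      simpa [tw] using this
    · rw [show app (A11 true) 1 = 1 ^^^ (2 ^^^ 16) from by decide +kernel,
        hm 1 _ (by norm_num) (by decide), hm 2 16 (by norm_num) (by norm_num), p1_1, p1_2, p1_16]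
      exact this
  · rw [show app (A11 t) 2 = 4 from by cases t <;> decide +kernel, p1_2, p1_4]
    exact s.a03
  · rw [show app (A11 t) 4 = 2 ^^^ 4 from by cases t <;> decide +kernel,
      hm 2 4 (by norm_num) (by norm_num), p1_2, p1_4]
    exact s.a04
  · have h12 := s.a12
    cases t
    · rw [show app (A11 false) 8 = 8 from by decide +kernel, p1_8]
      simpa [tw] using h12
    · rw [show app (A11 true) 8 = 8 ^^^ 2 from by decide +kernel,
        hm 8 2 (by norm_num) (by norm_num), p1_8, p1_2]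
      have h12' : ph (X 1 2) * z * y = y * (ph (X 1 2) * z) := h12
      have h4 := s.a04
      rw [ph_z h] at h4
      have hz2 : z * z = 1 := by
        have := hm.sq (v := 4) (by norm_num)
        rwa [p1_4, ph_z h] at this
      -- x12 y = x12 z z y = x12 z y (x03 z) = y x12 z x03 z... 
      have h23 : ph (X 0 3) * z = z * ph (X 0 3) := h.comm (CX (by decide +kernel))
      have e1 : z * y = y * (ph (X 0 3) * z) := h4
      calc ph (X 1 2) * y = ph (X 1 2) * z * (z * y) := by
            rw [mul_assoc, ← mul_assoc z z y, hz2, one_mul]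
        _ = (ph (X 1 2) * z * y) * (ph (X 0 3) * z) := by rw [e1]; simp only [mul_assoc]
        _ = y * (ph (X 1 2) * z) * (z * ph (X 0 3)) := by rw [h12', h23]
        _ = y * (ph (X 1 2) * (z * z) * ph (X 0 3)) := by simp only [mul_assoc]
        _ = y * (ph (X 1 2) * ph (X 0 3)) := by rw [hz2, mul_one]
  · rw [show app (A11 t) 16 = 32 from by cases t <;> decide +kernel, p1_16, p1_32]
    exact s.a13
  · rw [show app (A11 t) 32 = 16 ^^^ 32 from by cases t <;> decide +kernel,
      hm 16 32 (by norm_num) (by norm_num), p1_16, p1_32]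
    exact s.a14

/-! ### mirrored side in original coordinates -/

theorem mir_X (h : Emb z ph) {a b : ℕ} (hc : isC b b = true) (hf : flip a = b) :
    mir ph a = ph b := by
  show (ph (flip a))⁻¹ = ph b
  rw [hf, inv_eq_iff_mul_eq_one]
  have hb : C b := C_of_isC hc
  have e : mu b b = e1 := by
    unfold isC at hc
    simp only [Bool.and_eq_true] at hc
    exact Nat.eq_of_beq_eq_true hc.1.2
  rw [← h.mul hb hb, e, ph_e1 h]

/-- the mirrored side, written in the original coordinates -/
structure Side2 {G : Type*} [Group G] (z : G) (ph : ℕ → G) (t : Bool) (y : G) : Prop where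
  cube : y ^ 3 = 1
  inv01 : ph (X 0 1) * y * ph (X 0 1) = y⁻¹
  b14 : ph (X 1 4) * y = y * ph (X 0 4)
  b13 : ph (X 1 3) * y = y * ph (X 0 3)
  b12 : ph (X 1 2) * y = y * ph (X 0 2)
  b04 : ph (X 0 4) * y = y * (ph (X 1 4) * ph (X 0 4))
  b03 : ph (X 0 3) * y = y * (ph (X 1 3) * ph (X 0 3))
  b02 : ph (X 0 2) * y = y * (ph (X 1 2) * ph (X 0 2))
  b34 : ph (X 3 4) * y = y * (ph (X 3 4) * tw t (ph (X 1 4) * ph (X 1 2)))
  b24 : ph (X 2 4) * y = y * (ph (X 2 4) * tw t (ph (X 1 4) * ph (X 1 3)))
  b23 : (ph (X 2 3) * tw t z) * y = y * (ph (X 2 3) * tw t z)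
  b32 : (ph (X 3 2) * tw t z) * y = y * (ph (X 3 2) * tw t z)

theorem side2_of (h : Emb z ph) {t : Bool} {y : G} (s : Side z (mir ph) t y) :
    Side2 z ph t y := by
  have m01 : mir ph (X 0 1) = ph (X 3 4) := mir_X h (by decide +kernel) (by decide +kernel)
  have m02 : mir ph (X 0 2) = ph (X 2 4) := mir_X h (by decide +kernel) (by decide +kernel)
  have m03 : mir ph (X 0 3) = ph (X 1 4) := mir_X h (by decide +kernel) (by decide +kernel)
  have m04 : mir ph (X 0 4) = ph (X 0 4) := mir_X h (by decide +kernel) (by decide +kernel)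
  have m12 : mir ph (X 1 2) = ph (X 2 3) := mir_X h (by decide +kernel) (by decide +kernel)
  have m13 : mir ph (X 1 3) = ph (X 1 3) := mir_X h (by decide +kernel) (by decide +kernel)
  have m14 : mir ph (X 1 4) = ph (X 0 3) := mir_X h (by decide +kernel) (by decide +kernel)
  have m21 : mir ph (X 2 1) = ph (X 3 2) := mir_X h (by decide +kernel) (by decide +kernel)
  have m23 : mir ph (X 2 3) = ph (X 1 2) := mir_X h (by decide +kernel) (by decide +kernel)
  have m24 : mir ph (X 2 4) = ph (X 0 2) := mir_X h (by decide +kernel) (by decide +kernel)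
  have m34 : mir ph (X 3 4) = ph (X 0 1) := mir_X h (by decide +kernel) (by decide +kernel)
  obtain ⟨c, i34, a03, a13, a23, a04, a14, a24, a01, a02, a12, a21⟩ := s
  simp only [m01, m02, m03, m04, m12, m13, m14, m21, m23, m24, m34] at *
  exact ⟨c, i34, a03, a13, a23, a04, a14, a24, a01, a02, a12, a21⟩

theorem side2_acts1 (h : Emb z ph) {t : Bool} {y : G} (s : Side2 z ph t y) :
    Acts (P1 ph) y A21 := by
  have hm := hom1 h
  apply acts_of_basis hm
  · rw [show app A21 1 = 8 ^^^ 1 from by decide +kernel, hm 8 1 (by norm_num) (by norm_num),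
      p1_1, p1_8]; exact s.b02
  · rw [show app A21 2 = 16 ^^^ 2 from by decide +kernel, hm 16 2 (by norm_num) (by norm_num),
      p1_2, p1_16]; exact s.b03
  · rw [show app A21 4 = 32 ^^^ 4 from by decide +kernel, hm 32 4 (by norm_num) (by norm_num),
      p1_4, p1_32]; exact s.b04
  · rw [show app A21 8 = 1 from by decide +kernel, p1_8, p1_1]; exact s.b12
  · rw [show app A21 16 = 2 from by decide +kernel, p1_16, p1_2]; exact s.b13
  · rw [show app A21 32 = 4 from by decide +kernel, p1_32, p1_4]; exact s.b14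

theorem side2_acts2 (h : Emb z ph) {t : Bool} {y : G} (s : Side2 z ph t y) :
    Acts (P2 ph) y (A22 t) := by
  have hm := hom2 h
  have hz2 : z * z = 1 := by
    have := hm.sq (v := 2) (by norm_num)
    rwa [p2_2, ph_z h] at this
  apply acts_of_basis hm
  · rw [show app (A22 t) 1 = 4 ^^^ 1 from by cases t <;> decide +kernel,
      hm 4 1 (by norm_num) (by norm_num), p2_1, p2_4]; exact s.b03
  · rw [show app (A22 t) 2 = 8 ^^^ 2 from by cases t <;> decide +kernel,
      hm 8 2 (by norm_num) (by norm_num), p2_2, p2_8]; exact s.b04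
  · rw [show app (A22 t) 4 = 1 from by cases t <;> decide +kernel, p2_4, p2_1]; exact s.b13
  · rw [show app (A22 t) 8 = 2 from by cases t <;> decide +kernel, p2_8, p2_2]; exact s.b14
  · have h23 := s.b23
    cases t
    · rw [show app (A22 false) 16 = 16 from by decide +kernel, p2_16]
      simpa [tw] using h23
    · rw [show app (A22 true) 16 = 16 ^^^ 8 from by decide +kernel,
        hm 16 8 (by norm_num) (by norm_num), p2_16, p2_8]
      have h23' : ph (X 2 3) * z * y = y * (ph (X 2 3) * z) := h23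
      have h4 := s.b04
      rw [ph_z h] at h4
      have hc : ph (X 1 4) * z = z * ph (X 1 4) := h.comm (CX (by decide +kernel))
      calc ph (X 2 3) * y = ph (X 2 3) * z * (z * y) := by
            rw [mul_assoc, ← mul_assoc z z y, hz2, one_mul]
        _ = (ph (X 2 3) * z * y) * (ph (X 1 4) * z) := by rw [h4]; simp only [mul_assoc]
        _ = y * (ph (X 2 3) * z) * (z * ph (X 1 4)) := by rw [h23', hc]
        _ = y * (ph (X 2 3) * (z * z) * ph (X 1 4)) := by simp only [mul_assoc]
        _ = y * (ph (X 2 3) * ph (X 1 4)) := by rw [hz2, mul_one]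
  · have h24 := s.b24
    cases t
    · rw [show app (A22 false) 32 = 32 from by decide +kernel, p2_32]
      simpa [tw] using h24
    · rw [show app (A22 true) 32 = 32 ^^^ (8 ^^^ 4) from by decide +kernel,
        hm 32 _ (by norm_num) (by decide), hm 8 4 (by norm_num) (by norm_num),
        p2_32, p2_8, p2_4]
      exact h24

end Cfsg.Agent.Held.Acts
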