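import Mathlib
import Cfsg.Prelude.Def_Involutions
import Cfsg.Prelude.Def_TwoFusion
import Cfsg.Agent.Held.MaxStab
import Cfsg.Agent.Solvable.Gaschutz
import Cfsg.Agent.Transfer.ElemAbAut

/-!
# Groups with a self-centralizing TI subgroup of order 16 (affine case)

`z` is an involution of the finite group `G`, `T` a Sylow 2-subgroup, `A ≤ T` elementary abelian
of order 16 with `A# = z^G ∩ T`, `C_G(A) = A`, `C_G(z) ≤ N_G(A)`, `|C_G(z)| = 21504` and `T` splits
over `A`.  This file: `H = N_G(A)` has order 322560, is transitive on `A#`, contains the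
centralizers of the elements of `A#`, `A` is TI, `H = A : L` with `L = Aut(A)`.
-/

set_option autoImplicit false

universe u

namespace Cfsg.Agent.Held.AffineBasic

open Cfsg Subgroup

variable {G : Type u} [Group G]

/-- The hypotheses of the affine case. -/
structure Hyp (z : G) (T : Sylow 2 G) (A U : Subgroup G) : Prop where
  order : orderOf z = 2
  zA : z ∈ A
  AT : A ≤ (T : Subgroup G)
  Tz : (T : Subgroup G) ≤ centralizer ({z} : Set G)
  card : Nat.card A = 16
  sq : ∀ x ∈ A, x * x = 1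
  cent : ∀ x : G, (∀ y ∈ A, x * y = y * x) → x ∈ A
  CN : centralizer ({z} : Set G) ≤ normalizer (A : Set G)
  cardC : Nat.card (centralizer ({z} : Set G)) = 21504
  conj : ∀ x ∈ A, x ≠ 1 → IsConj z x
  fus : ∀ x ∈ (T : Subgroup G), IsConj z x → x ∈ A
  disj : A ⊓ U = ⊥
  sup : A ⊔ U = (T : Subgroup G)

theorem mem_normalizer_of_conj [Finite G] (A : Subgroup G) (k : G) (h : ∀ a ∈ A, k * a * k⁻¹ ∈ A) :
    k ∈ normalizer (A : Set G) := by
  have h1 : A.map (MulAut.conj k).toMonoidHom ≤ A := by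
    rintro _ ⟨a, ha, rfl⟩
    exact h a ha
  have h2 : A.map (MulAut.conj k).toMonoidHom = A := by
    apply Subgroup.eq_of_le_of_card_ge h1
    rw [← Nat.card_congr (A.equivMapOfInjective (MulAut.conj k).toMonoidHom (MulAut.conj k).injective).toEquiv]
  rw [Subgroup.mem_normalizer_iff]
  intro x
  refine ⟨h x, fun hx => ?_⟩
  rw [← h2] at hx
  obtain ⟨y, hy, hyx⟩ := hx
  have h3 : k * y * k⁻¹ = k * x * k⁻¹ := hyx
  have h4 : y = x := by
    have := congrArg (fun w => k⁻¹ * w * k) h3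
    simpa [mul_assoc] using this
  rwa [← h4]

namespace Hyp

variable {z : G} {T : Sylow 2 G} {A U : Subgroup G} (h : Hyp z T A U)

include h

theorem comm : ∀ x ∈ A, ∀ y ∈ A, x * y = y * x := by
  intro x hx y hy
  have h1 := h.sq (x * y) (A.mul_mem hx hy)
  have hx' : x⁻¹ = x := inv_eq_of_mul_eq_one_right (h.sq x hx)
  have hy' : y⁻¹ = y := inv_eq_of_mul_eq_one_right (h.sq y hy)
  have h2 : x * y = (x * y)⁻¹ := (inv_eq_of_mul_eq_one_right h1).symm
  rw [h2, mul_inv_rev, hx', hy']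

theorem inv_eq {x : G} (hx : x ∈ A) : x⁻¹ = x := inv_eq_of_mul_eq_one_right (h.sq x hx)

theorem z_ne_one : z ≠ 1 := by
  intro h5
  have := h.order
  rw [h5, orderOf_one] at this
  exact absurd this (by norm_num)

theorem ne_one_of_isConj {x : G} (hx : IsConj z x) : x ≠ 1 := by
  intro h1
  rw [h1, isConj_iff] at hx
  obtain ⟨c, hc⟩ := hx
  apply h.z_ne_one
  have : z = c⁻¹ * (c * z * c⁻¹) * c := by group
  rw [this, hc]; group

theorem orderOf_of_isConj {x : G} (hx : IsConj z x) : orderOf x = 2 := by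
  rw [isConj_iff] at hx
  obtain ⟨c, hc⟩ := hx
  rw [← hc, TwoFusion.StronglyEmbeddedBasic.orderOf_conj, h.order]

variable [Finite G]

theorem TN : (T : Subgroup G) ≤ normalizer (A : Set G) := by
  intro t ht
  apply mem_normalizer_of_conj
  intro a ha
  by_cases h1 : a = 1
  · rw [h1]; simp
  · apply h.fus
    · exact (T : Subgroup G).mul_mem ((T : Subgroup G).mul_mem ht (h.AT ha)) ((T : Subgroup G).inv_mem ht)
    · have h2 := h.conj a ha h1
      rw [isConj_iff] at h2 ⊢
      obtain ⟨c, hc⟩ := h2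
      exact ⟨t * c, by rw [← hc]; group⟩

theorem trans {x : G} (hx : x ∈ A) (hx1 : x ≠ 1) :
    ∃ k ∈ normalizer (A : Set G), k * z * k⁻¹ = x := by
  have f2 : Fact (Nat.Prime 2) := ⟨Nat.prime_two⟩
  obtain ⟨g, hg⟩ := isConj_iff.1 (h.conj x hx hx1)
  let C : Subgroup G := centralizer ({x} : Set G)
  have hAC : A ≤ C := by
    intro a ha
    show a ∈ centralizer ({x} : Set G)
    rw [Subgroup.mem_centralizer_singleton_iff]
    exact h.comm a ha x hx
  have hTC : ((g • T : Sylow 2 G) : Subgroup G) ≤ C := by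
    intro t ht
    rw [Sylow.coe_subgroup_smul, Subgroup.mem_pointwise_smul_iff_inv_smul_mem] at ht
    have h1 : g⁻¹ * t * g ∈ (T : Subgroup G) := by
      rw [← map_inv, MulAut.smul_def, MulAut.conj_apply, inv_inv] at ht
      exact ht
    have h2 := h.Tz h1
    rw [Subgroup.mem_centralizer_singleton_iff] at h2
    show t ∈ centralizer ({x} : Set G)
    rw [Subgroup.mem_centralizer_singleton_iff, ← hg]
    have h3 : t * (g * z * g⁻¹) = g * ((g⁻¹ * t * g) * z) * g⁻¹ := by group
    rw [h3, h2]; group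
  have hA2 : IsPGroup 2 (A.subgroupOf C) := by
    have h1 : IsPGroup 2 A := T.isPGroup'.to_le h.AT
    exact h1.of_equiv (Subgroup.subgroupOfEquivOfLe hAC).symm
  obtain ⟨S, hS⟩ := hA2.exists_le_sylow
  obtain ⟨c, hc⟩ := MulAction.exists_smul_eq C ((g • T : Sylow 2 G).subtype hTC) S
  have hkey : ∀ a ∈ A, ((c : G) * g)⁻¹ * a * ((c : G) * g) ∈ (T : Subgroup G) := by
    intro a ha
    have h1 : (⟨a, hAC ha⟩ : C) ∈ (S : Subgroup C) := hS ha
    rw [← hc, Sylow.coe_subgroup_smul, Subgroup.mem_pointwise_smul_iff_inv_smul_mem, ← map_inv,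
      MulAut.smul_def, MulAut.conj_apply, inv_inv] at h1
    have h2 : (c : G)⁻¹ * a * (c : G) ∈ ((g • T : Sylow 2 G) : Subgroup G) := h1
    rw [Sylow.coe_subgroup_smul, Subgroup.mem_pointwise_smul_iff_inv_smul_mem, ← map_inv,
      MulAut.smul_def, MulAut.conj_apply, inv_inv] at h2
    have h3 : ((c : G) * g)⁻¹ * a * ((c : G) * g) = g⁻¹ * ((c : G)⁻¹ * a * (c : G)) * g := by group
    rw [h3]; exact h2
  have hk : ((c : G) * g)⁻¹ ∈ normalizer (A : Set G) := by
    apply mem_normalizer_of_conj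
    intro a ha
    rw [inv_inv]
    by_cases ha1 : a = 1
    · rw [ha1]; simp
    · apply h.fus _ (hkey a ha)
      obtain ⟨d, hd⟩ := isConj_iff.1 (h.conj a ha ha1)
      rw [isConj_iff]
      exact ⟨((c : G) * g)⁻¹ * d, by rw [← hd]; group⟩
  refine ⟨(c : G) * g, by simpa using (normalizer (A : Set G)).inv_mem hk, ?_⟩
  have h1 : (c : G) * x * (c : G)⁻¹ = x := by
    have h2 : (c : G) ∈ centralizer ({x} : Set G) := c.2
    rw [Subgroup.mem_centralizer_singleton_iff] at h2
    rw [h2]; group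
  calc (c : G) * g * z * ((c : G) * g)⁻¹ = (c : G) * (g * z * g⁻¹) * (c : G)⁻¹ := by group
    _ = x := by rw [hg, h1]

/-- `A` is a TI-subgroup. -/
theorem mem_of_conj_mem {x g : G} (hx : x ∈ A) (hx1 : x ≠ 1) (hg : g * x * g⁻¹ ∈ A) :
    g ∈ normalizer (A : Set G) := by
  obtain ⟨k, hk, hkx⟩ := h.trans hx hx1
  have h1 : g * x * g⁻¹ ≠ 1 := by
    intro h2; apply hx1
    have : x = g⁻¹ * (g * x * g⁻¹) * g := by group
    rw [this, h2]; group
  obtain ⟨l, hl, hlx⟩ := h.trans hg h1
  have h2 : l⁻¹ * g * k ∈ centralizer ({z} : Set G) := by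
    rw [Subgroup.mem_centralizer_singleton_iff]
    have h3 : l * z * l⁻¹ = g * (k * z * k⁻¹) * g⁻¹ := by rw [hlx, hkx]
    have h4 : z = l⁻¹ * (g * (k * z * k⁻¹) * g⁻¹) * l := by rw [← h3]; group
    calc l⁻¹ * g * k * z = (l⁻¹ * (g * (k * z * k⁻¹) * g⁻¹) * l) * (l⁻¹ * g * k) := by group
      _ = z * (l⁻¹ * g * k) := by rw [← h4]
  have h3 := h.CN h2
  have h4 : g = l * (l⁻¹ * g * k) * k⁻¹ := by group
  rw [h4]
  exact (normalizer (A : Set G)).mul_mem ((normalizer (A : Set G)).mul_mem hl h3)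
    ((normalizer (A : Set G)).inv_mem hk)

/-- `z^G ∩ N(A) = A#`. -/
theorem mem_of_isConj {x : G} (hx : x ∈ normalizer (A : Set G)) (hzx : IsConj z x) : x ∈ A := by
  have f2 : Fact (Nat.Prime 2) := ⟨Nat.prime_two⟩
  have h1 : IsPGroup 2 (zpowers (⟨x, hx⟩ : normalizer (A : Set G))) := by
    apply IsPGroup.of_card (n := 1)
    rw [Nat.card_zpowers, Subgroup.orderOf_mk, h.orderOf_of_isConj hzx, pow_one]
  obtain ⟨S, hS⟩ := h1.exists_le_sylow
  obtain ⟨c, hc⟩ := MulAction.exists_smul_eq (normalizer (A : Set G)) S (T.subtype h.TN)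
  have h2 : (⟨x, hx⟩ : normalizer (A : Set G)) ∈ (S : Subgroup (normalizer (A : Set G))) :=
    hS (mem_zpowers _)
  have h3 : (c : G) * x * (c : G)⁻¹ ∈ (T : Subgroup G) := by
    have h4 : c * (⟨x, hx⟩ : normalizer (A : Set G)) * c⁻¹ ∈
        ((T.subtype h.TN : Sylow 2 (normalizer (A : Set G))) : Subgroup (normalizer (A : Set G))) := by
      rw [← hc, Sylow.coe_subgroup_smul, Subgroup.mem_pointwise_smul_iff_inv_smul_mem, ← map_inv,
        MulAut.smul_def, MulAut.conj_apply, inv_inv]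
      have : c⁻¹ * (c * (⟨x, hx⟩ : normalizer (A : Set G)) * c⁻¹) * c = ⟨x, hx⟩ := by group
      rw [this]; exact h2
    exact h4
  have h5 : (c : G) * x * (c : G)⁻¹ ∈ A := by
    apply h.fus _ h3
    obtain ⟨d, hd⟩ := isConj_iff.1 hzx
    rw [isConj_iff]
    exact ⟨c * d, by rw [← hd]; group⟩
  exact (Subgroup.mem_normalizer_iff.1 c.2 x).2 h5

/-- If a conjugate of a nontrivial element of `A` lies in `N(A)` then the conjugating element does. -/
theorem mem_of_conj_mem_normalizer {x g : G} (hx : x ∈ A) (hx1 : x ≠ 1)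
    (hg : g * x * g⁻¹ ∈ normalizer (A : Set G)) : g ∈ normalizer (A : Set G) := by
  apply h.mem_of_conj_mem hx hx1
  apply h.mem_of_isConj hg
  obtain ⟨d, hd⟩ := isConj_iff.1 (h.conj x hx hx1)
  rw [isConj_iff]
  exact ⟨g * d, by rw [← hd]; group⟩

theorem centralizer_le {x : G} (hx : x ∈ A) (hx1 : x ≠ 1) :
    centralizer ({x} : Set G) ≤ normalizer (A : Set G) := by
  intro g hg
  rw [Subgroup.mem_centralizer_singleton_iff] at hg
  apply h.mem_of_conj_mem hx hx1
  have : g * x * g⁻¹ = x := by rw [hg]; group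
  rwa [this]

/-- The order of `N(A)`. -/
theorem card_normalizer : Nat.card (normalizer (A : Set G)) = 322560 := by
  let H : Subgroup G := normalizer (A : Set G)
  let act : MulAction H G :=
    { smul := fun k x => (k : G) * x * (k : G)⁻¹
      one_smul := by
        intro x
        show ((1 : H) : G) * x * ((1 : H) : G)⁻¹ = x
        simp
      mul_smul := by
        intro a b x
        show ((a * b : H) : G) * x * ((a * b : H) : G)⁻¹ = a * (b * x * (b : G)⁻¹) * (a : G)⁻¹
        rw [Subgroup.coe_mul, mul_inv_rev]; group }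
  have horb : MulAction.orbit H z = {x : G | x ∈ A ∧ x ≠ 1} := by
    ext x
    constructor
    · rintro ⟨k, hk⟩
      have hk' : (k : G) * z * (k : G)⁻¹ = x := hk
      refine ⟨?_, ?_⟩
      · rw [← hk']
        exact (Subgroup.mem_normalizer_iff.1 k.2 z).1 h.zA
      · exact h.ne_one_of_isConj (isConj_iff.2 ⟨k, hk'⟩)
    · rintro ⟨hx, hx1⟩
      obtain ⟨k, hk, hkx⟩ := h.trans hx hx1
      exact ⟨⟨k, hk⟩, hkx⟩
  have hcardorb : Nat.card (MulAction.orbit H z) = 15 := by
    rw [horb]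
    have h1 : {x : G | x ∈ A ∧ x ≠ 1} = (A : Set G) \ {1} := by
      ext x; simp
    rw [h1]
    have h2 : ((A : Set G) \ {1}).ncard = (A : Set G).ncard - 1 :=
      Set.ncard_sdiff_singleton_of_mem A.one_mem
    have h3 : (A : Set G).ncard = 16 := by
      rw [← h.card]; rfl
    rw [h3] at h2
    exact h2
  have hstab : Nat.card (MulAction.stabilizer H z) = 21504 := by
    rw [← h.cardC]
    refine Nat.card_congr ⟨fun k => ⟨((k : H) : G), ?_⟩, fun c => ⟨⟨c, h.CN c.2⟩, ?_⟩, fun k => rfl,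
      fun c => rfl⟩
    · have h1 : ((k : H) : G) * z * ((k : H) : G)⁻¹ = z := k.2
      rw [Subgroup.mem_centralizer_singleton_iff]
      exact mul_inv_eq_iff_eq_mul.1 h1
    · have h1 := c.2
      rw [Subgroup.mem_centralizer_singleton_iff] at h1
      show (c : G) * z * (c : G)⁻¹ = z
      exact mul_inv_eq_iff_eq_mul.2 h1
  have h1 : Nat.card (MulAction.orbit H z) * Nat.card (MulAction.stabilizer H z) = Nat.card H := by
    rw [← Nat.card_prod]
    exact Nat.card_congr (MulAction.orbitProdStabilizerEquivGroup H z)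
  rw [hcardorb, hstab] at h1
  exact h1.symm

theorem card_mulAut : Nat.card (MulAut A) = 20160 := by
  have f2 : Fact (Nat.Prime 2) := ⟨Nat.prime_two⟩
  rw [Cfsg.Agent.Transfer.ElemAbAut.card_mulAut 2 4
    (fun x y => Subtype.ext (h.comm x x.2 y y.2))
    (fun x => Subtype.ext (by
      show (x : G) ^ 2 = 1
      rw [pow_two]; exact h.sq x x.2)) (by rw [h.card]; norm_num)]
  decide

/-- The index of `T` in `N(A)` is odd. -/
theorem odd_index : Odd ((T : Subgroup G).subgroupOf (normalizer (A : Set G))).index := by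
  have f2 : Fact (Nat.Prime 2) := ⟨Nat.prime_two⟩
  have h1 : ¬ 2 ∣ ((T.subtype h.TN : Sylow 2 _) : Subgroup (normalizer (A : Set G))).index :=
    Sylow.not_dvd_index _
  rw [← Nat.not_even_iff_odd, even_iff_two_dvd]
  exact h1

/-- A complement of `A` in `N(A)` inducing all automorphisms of `A`. -/
structure IsCompl (A L : Subgroup G) : Prop where
  le : L ≤ normalizer (A : Set G)
  mul : ∀ g ∈ normalizer (A : Set G), ∃ a ∈ A, ∃ l ∈ L, g = a * l
  disj : A ⊓ L = ⊥
  aut : ∀ σ : MulAut A, ∃ l ∈ L, ∀ a : A, l * a * l⁻¹ = σ a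

theorem exists_compl : ∃ L : Subgroup G, IsCompl A L := by
  let H : Subgroup G := normalizer (A : Set G)
  have hAH : A ≤ H := Subgroup.le_normalizer
  let A' : Subgroup H := A.subgroupOf H
  have hA'n : A'.Normal := Subgroup.normal_in_normalizer
  have hA'c : IsMulCommutative A' :=
    ⟨⟨fun a b => Subtype.ext (Subtype.ext (h.comm _ a.2 _ b.2))⟩⟩
  have hb : Function.Bijective
      fun k : A' => k ^ ((T : Subgroup G).subgroupOf H).index := by
    obtain ⟨m, hm⟩ := h.odd_index
    have h1 : (fun k : A' => k ^ ((T : Subgroup G).subgroupOf H).index) = id := by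
      funext k
      have h2 : k * k = 1 := Subtype.ext (Subtype.ext (h.sq _ k.2))
      show k ^ ((T : Subgroup G).subgroupOf (normalizer (A : Set G))).index = k
      rw [hm, pow_succ, pow_mul, pow_two, h2, one_pow, one_mul]
    rw [h1]
    exact Function.bijective_id
  obtain ⟨L', hL'⟩ := Cfsg.Agent.Solvable.Gaschutz.exists_complement A'
    ((T : Subgroup G).subgroupOf H) hb (U.subgroupOf H) (by
      rw [eq_bot_iff]
      rintro x ⟨hx1, hx2⟩
      have h1 : (x : G) ∈ A ⊓ U := ⟨hx2, hx1⟩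
      rw [h.disj, Subgroup.mem_bot] at h1
      exact Subgroup.mem_bot.2 (Subtype.ext h1)) (by
      have hUH : U ≤ H := (le_sup_right.trans h.sup.le).trans h.TN
      have h1 : (A ⊔ U).subgroupOf H = A.subgroupOf H ⊔ U.subgroupOf H :=
        Subgroup.subgroupOf_sup hAH hUH
      rw [← h1, h.sup])
  let L : Subgroup G := L'.map H.subtype
  have hmul : ∀ g ∈ H, ∃ a ∈ A, ∃ l ∈ L, g = a * l := by
    intro g hg
    obtain ⟨⟨a, l⟩, hal⟩ := hL'.2 ⟨g, hg⟩
    have h1 : ((a : H) : G) * ((l : H) : G) = g := congrArg Subtype.val hal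
    exact ⟨_, a.2, _, ⟨l, l.2, rfl⟩, h1.symm⟩
  have hdisj : A ⊓ L = ⊥ := by
    rw [eq_bot_iff]
    rintro _ ⟨hx, ⟨l, hl, rfl⟩⟩
    have h1 : l ∈ A' ⊓ L' := ⟨hx, hl⟩
    rw [hL'.disjoint.eq_bot, Subgroup.mem_bot] at h1
    rw [Subgroup.mem_bot, h1]; rfl
  -- the action on `A`
  let f : L' →* MulAut A' := (MulAut.conjNormal (H := A')).comp L'.subtype
  have hfinj : Function.Injective f := by
    rw [injective_iff_map_eq_one]
    intro l hl
    have h1 : (((l : H) : G)) ∈ A := by
      apply h.cent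
      intro y hy
      have h2 := congrArg (fun σ : MulAut A' => ((σ ⟨⟨y, hAH hy⟩, hy⟩ : A') : H)) hl
      have h3 : (l : H) * ⟨y, hAH hy⟩ * (l : H)⁻¹ = ⟨y, hAH hy⟩ := by
        have h4 := MulAut.conjNormal_apply (H := A') (l : H) ⟨⟨y, hAH hy⟩, hy⟩
        rw [← h4]; exact h2
      have h5 : ((l : H) : G) * y * ((l : H) : G)⁻¹ = y := congrArg Subtype.val h3
      exact mul_inv_eq_iff_eq_mul.1 h5
    have h2 : (l : H) ∈ A' ⊓ L' := ⟨h1, l.2⟩
    rw [hL'.disjoint.eq_bot, Subgroup.mem_bot] at h2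
    exact Subtype.ext h2
  have hcardL : Nat.card L' = 20160 := by
    have h1 := hL'.card_mul_card
    have h2 : Nat.card A' = 16 := by
      rw [Nat.card_congr (Subgroup.subgroupOfEquivOfLe hAH).toEquiv, h.card]
    rw [h2, h.card_normalizer] at h1
    omega
  let e : A' ≃* A := Subgroup.subgroupOfEquivOfLe hAH
  have hcardA : Nat.card (MulAut A') = 20160 := by
    rw [← h.card_mulAut]
    exact Nat.card_congr (MulAut.congr e).toEquiv
  have hfin : Finite (MulAut A') := by
    apply Nat.finite_of_card_ne_zero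
    rw [hcardA]; norm_num
  have hfsurj : Function.Surjective f := by
    have h1 : Function.Bijective f := by
      rw [Nat.bijective_iff_injective_and_card]
      exact ⟨hfinj, by rw [hcardL, hcardA]⟩
    exact h1.2
  refine ⟨L, ?_, hmul, hdisj, ?_⟩
  · rintro _ ⟨l, -, rfl⟩
    exact l.2
  · intro σ
    obtain ⟨l, hl⟩ := hfsurj ((e.trans σ).trans e.symm)
    refine ⟨((l : H) : G), ⟨l, l.2, rfl⟩, ?_⟩
    intro a
    have h1 : f l (e.symm a) = e.symm (σ a) := by
      rw [hl]
      show e.symm (σ (e (e.symm a))) = _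
      rw [e.apply_symm_apply]
    have h2 := MulAut.conjNormal_apply (H := A') (l : H) (e.symm a)
    have h3 : (l : H) * ((e.symm a : A') : H) * (l : H)⁻¹ = ((e.symm (σ a) : A') : H) := by
      rw [← h2, ← h1]; rfl
    exact congrArg Subtype.val h3

end Hyp

end Cfsg.Agent.Held.AffineBasic
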