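import Mathlib
import Cfsg.Prelude.Def_Involutions
import Cfsg.Prelude.Def_TwoFusion
import Cfsg.Prelude.Def_CaseTheorems
import Cfsg.Agent.Held.MaxStab
import Cfsg.Agent.Held.AffineBasic
import Cfsg.Agent.Lib.KleinGen
import Cfsg.Agent.Lib.Cores

/-!
# The affine case: `A` is normal in `G`

Closing argument.  `zs` is Glauberman's Z*-theorem, given as a hypothesis.
-/

set_option autoImplicit false

universe u

namespace Cfsg.Agent.Held.AffineClose

open Cfsg Subgroup Cfsg.Agent.Held.AffineBasic Cfsg.Agent.Held.MaxStab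

variable {G : Type u} [Group G] [Finite G]
variable {z : G} {T : Sylow 2 G} {A U : Subgroup G}

/-- `r` acts on `A` as a transvection with centre `v`. -/
def RankOne (A : Subgroup G) (r : G) : Prop :=
  ∃ v ∈ A, v ≠ 1 ∧ ∀ a ∈ A, a * (r * a * r⁻¹) = 1 ∨ a * (r * a * r⁻¹) = v

/-- Centralizers of "transvections" lie in `N(A)`. -/
theorem centralizer_le_of_rankOne (h : Hyp z T A U)
    (zs : ∀ (X : Type u) [Group X] [Finite X] (v : X), IsIsolatedInvolution v →
      ∀ x : X, v * x * v⁻¹ * x⁻¹ ∈ oddCore X)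
    {r : G} (hr : r ∈ normalizer (A : Set G)) (hrr : r * r = 1) (hrA : r ∉ A)
    (h1 : RankOne A r) : centralizer ({r} : Set G) ≤ normalizer (A : Set G) := by
  obtain ⟨v, hvA, hv1, hv⟩ := h1
  -- some element is moved
  obtain ⟨a₀, ha₀, hav⟩ : ∃ a₀ ∈ A, a₀ * (r * a₀ * r⁻¹) = v := by
    by_contra hcon
    push Not at hcon
    apply hrA
    apply h.cent
    intro a ha
    have h2 := (hv a ha).resolve_right (hcon a ha)
    have h3 : r * a * r⁻¹ = a := by
      have h4 : r * a * r⁻¹ = a⁻¹ := (inv_eq_of_mul_eq_one_right h2).symm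
      rw [h4, h.inv_eq ha]
    exact mul_inv_eq_iff_eq_mul.1 h3
  have hconjA : ∀ a ∈ A, r * a * r⁻¹ ∈ A := fun a ha => (Subgroup.mem_normalizer_iff.1 hr a).1 ha
  have hri : r⁻¹ = r := inv_eq_of_mul_eq_one_right hrr
  have hrv : r * v * r⁻¹ = v := by
    have h2 : r * (r * a₀ * r⁻¹) * r⁻¹ = a₀ := by
      calc r * (r * a₀ * r⁻¹) * r⁻¹ = (r * r) * a₀ * (r⁻¹ * r⁻¹) := by group
        _ = a₀ := by rw [hri, hrr]; simp
    calc r * v * r⁻¹ = (r * a₀ * r⁻¹) * (r * (r * a₀ * r⁻¹) * r⁻¹) := by rw [← hav]; group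
      _ = (r * a₀ * r⁻¹) * a₀ := by rw [h2]
      _ = v := by rw [← hav]; exact h.comm _ (hconjA a₀ ha₀) _ ha₀
  -- second element centralized by `r`
  obtain ⟨v', hv'A, hv'1, hv'v, hrv'⟩ : ∃ v' ∈ A, v' ≠ 1 ∧ v' ≠ v ∧ r * v' * r⁻¹ = v' := by
    have hex : ∃ a ∈ A, a ≠ 1 ∧ a ≠ v ∧ a ≠ a₀ ∧ a ≠ a₀ * v := by
      by_contra hcon
      push Not at hcon
      have h2 : (A : Set G) ⊆ {1, v, a₀, a₀ * v} := by
        intro a ha
        by_cases h3 : a = 1
        · simp [h3]
        · by_cases h4 : a = v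
          · simp [h4]
          · by_cases h5 : a = a₀
            · simp [h5]
            · have := hcon a ha h3 h4 h5
              simp [this]
      have h3 : (A : Set G).ncard ≤ ({1, v, a₀, a₀ * v} : Set G).ncard := Set.ncard_le_ncard h2
      have h4 : (A : Set G).ncard = 16 := by rw [← h.card]; rfl
      have h5 : ({1, v, a₀, a₀ * v} : Set G).ncard ≤ 4 := by
        refine (Set.ncard_insert_le _ _).trans ?_
        refine (Nat.succ_le_succ ((Set.ncard_insert_le _ _).trans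
          (Nat.succ_le_succ ((Set.ncard_insert_le _ _).trans ?_))))
        rw [Set.ncard_singleton]
      omega
    obtain ⟨a, ha, ha1, hav', haa, haav⟩ := hex
    rcases hv a ha with h2 | h2
    · refine ⟨a, ha, ha1, hav', ?_⟩
      have h4 : r * a * r⁻¹ = a⁻¹ := (inv_eq_of_mul_eq_one_right h2).symm
      rw [h4, h.inv_eq ha]
    · refine ⟨a₀ * a, A.mul_mem ha₀ ha, ?_, ?_, ?_⟩
      · intro h3
        apply haa
        have h4 : a = a₀⁻¹ := (inv_eq_of_mul_eq_one_right h3).symm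
        rw [h4, h.inv_eq ha₀]
      · intro h3
        apply haav
        rw [← h3, ← mul_assoc, h.sq a₀ ha₀, one_mul]
      · have h3 : r * (a₀ * a) * r⁻¹ = (r * a₀ * r⁻¹) * (r * a * r⁻¹) := by group
        have h4 : r * a₀ * r⁻¹ = a₀ * v := by
          rw [← hav, ← mul_assoc, h.sq a₀ ha₀, one_mul]
        have h5 : r * a * r⁻¹ = a * v := by
          rw [← h2, ← mul_assoc, h.sq a ha, one_mul]
        rw [h3, h4, h5]
        have h6 : a * v = v * a := h.comm a ha v hvA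
        calc a₀ * v * (a * v) = a₀ * v * (v * a) := by rw [h6]
          _ = a₀ * (v * v) * a := by group
          _ = a₀ * a := by rw [h.sq v hvA, mul_one]
  -- the centralizer of `r`
  let X : Subgroup G := centralizer ({r} : Set G)
  have hmemX : ∀ g : G, g ∈ X ↔ g * r = r * g := fun g => Subgroup.mem_centralizer_singleton_iff
  have hvX : v ∈ X := by
    rw [hmemX]
    exact (mul_inv_eq_iff_eq_mul.1 hrv).symm
  have hv'X : v' ∈ X := by
    rw [hmemX]
    exact (mul_inv_eq_iff_eq_mul.1 hrv').symm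
  have hiso : IsIsolatedInvolution (⟨v, hvX⟩ : X) := by
    refine ⟨?_, ?_⟩
    · rw [Subgroup.orderOf_mk]
      exact h.orderOf_of_isConj (h.conj v hvA hv1)
    · intro c hc
      have h2 : (v : G) * ((c : G) * v * (c : G)⁻¹) = ((c : G) * v * (c : G)⁻¹) * v :=
        congrArg Subtype.val hc
      have h3 : (c : G) * v * (c : G)⁻¹ ∈ normalizer (A : Set G) := by
        apply h.centralizer_le hvA hv1
        rw [Subgroup.mem_centralizer_singleton_iff]
        exact h2.symm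
      have h4 : (c : G) ∈ normalizer (A : Set G) := h.mem_of_conj_mem_normalizer hvA hv1 h3
      have h5 : (c : G) * v * (c : G)⁻¹ ∈ A := (Subgroup.mem_normalizer_iff.1 h4 v).1 hvA
      have hcr : (c : G) * r = r * c := (hmemX c).1 c.2
      have h6 : (c : G) * a₀ * (c : G)⁻¹ ∈ A := (Subgroup.mem_normalizer_iff.1 h4 a₀).1 ha₀
      have h7 : (c : G) * v * (c : G)⁻¹ =
          ((c : G) * a₀ * (c : G)⁻¹) * (r * ((c : G) * a₀ * (c : G)⁻¹) * r⁻¹) := by
        have hcr' : (c : G) * r⁻¹ = r⁻¹ * c := by rw [hri]; exact hcr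
        have hcr'' : r * (c : G) = c * r := hcr.symm
        have h8 : r⁻¹ * (c : G)⁻¹⁻¹ = (c : G) * r⁻¹ := by rw [inv_inv, hcr']
        calc (c : G) * v * (c : G)⁻¹ = (c : G) * a₀ * ((r * a₀) * r⁻¹) * (c : G)⁻¹ := by
              rw [← hav]; group
          _ = (c : G) * a₀ * (c : G)⁻¹ * (((c : G) * r) * a₀ * ((c : G) * r)⁻¹) := by
              group
          _ = ((c : G) * a₀ * (c : G)⁻¹) * (r * ((c : G) * a₀ * (c : G)⁻¹) * r⁻¹) := by
              rw [hcr]; group
      have h8 : (c : G) * v * (c : G)⁻¹ ≠ 1 := by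
        intro h9
        apply hv1
        have : v = (c : G)⁻¹ * ((c : G) * v * (c : G)⁻¹) * c := by group
        rw [this, h9]; group
      have h9 := hv _ h6
      rw [← h7] at h9
      exact Subtype.ext (h9.resolve_left h8)
  -- the odd core of `X` lies in `N(A)`
  let O : Subgroup G := (oddCore X).map X.subtype
  have hOn : ∀ x ∈ X, ∀ o ∈ O, x * o * x⁻¹ ∈ O := by
    rintro x hx _ ⟨o, ho, rfl⟩
    exact ⟨⟨x, hx⟩ * o * ⟨x, hx⟩⁻¹, (Cfsg.Agent.Lib.Cores.pPrimeCore_normal 2).conj_mem o ho _, rfl⟩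
  have hOodd : Odd (Nat.card O) := by
    have h2 : Nat.card O = Nat.card (oddCore X) :=
      (Nat.card_congr (Subgroup.equivMapOfInjective _ _ X.subtype_injective).toEquiv).symm
    rw [h2]
    exact Nat.coprime_two_right.mp (Cfsg.Agent.Lib.Cores.pPrimeCore_coprime 2)
  have hOle : O ≤ normalizer (A : Set G) := by
    apply Cfsg.Agent.Lib.KleinGen.le_of_klein O (normalizer (A : Set G)) hOodd v v'
      (h.sq v hvA) (h.sq v' hv'A) (h.comm v hvA v' hv'A)
      (fun o ho => hOn v hvX o ho) (fun o ho => hOn v' hv'X o ho)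
      (inf_le_right.trans (h.centralizer_le hvA hv1))
      (inf_le_right.trans (h.centralizer_le hv'A hv'1))
      (inf_le_right.trans (h.centralizer_le (A.mul_mem hvA hv'A) ?_))
    intro h2
    apply hv'v
    have h3 : v' = v⁻¹ := (inv_eq_of_mul_eq_one_right h2).symm
    rw [h3, h.inv_eq hvA]
  intro x hx
  have h2 := zs X ⟨v, hvX⟩ hiso ⟨x, hx⟩
  have h3 : v * x * v⁻¹ * x⁻¹ ∈ O := ⟨_, h2, rfl⟩
  have h4 := hOle h3
  have h5 : x * v * x⁻¹ ∈ normalizer (A : Set G) := by
    have h6 : x * v * x⁻¹ = (v * x * v⁻¹ * x⁻¹)⁻¹ * v := by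
      group
    rw [h6]
    exact (normalizer (A : Set G)).mul_mem ((normalizer (A : Set G)).inv_mem h4)
      (Subgroup.le_normalizer hvA)
  exact h.mem_of_conj_mem_normalizer hvA hv1 h5

/-- A 2-subgroup of `N(A)` centralizes a nontrivial element of `A`. -/
theorem exists_fixed (h : Hyp z T A U) (R : Subgroup G) (hR : IsPGroup 2 R)
    (hRN : R ≤ normalizer (A : Set G)) : ∃ a ∈ A, a ≠ 1 ∧ ∀ x ∈ R, x * a * x⁻¹ = a := by
  have f2 : Fact (Nat.Prime 2) := ⟨Nat.prime_two⟩
  let act : MulAction R A :=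
    { smul := fun t m => ⟨t * m * (t : G)⁻¹, (Subgroup.mem_normalizer_iff.1 (hRN t.2) m).1 m.2⟩
      one_smul := by
        intro m; apply Subtype.ext
        show ((1 : R) : G) * m * ((1 : R) : G)⁻¹ = m
        simp
      mul_smul := by
        intro a b m; apply Subtype.ext
        show ((a * b : R) : G) * m * ((a * b : R) : G)⁻¹
          = a * (b * m * (b : G)⁻¹) * (a : G)⁻¹
        rw [Subgroup.coe_mul, mul_inv_rev]; group }
  have h1fix : (1 : A) ∈ MulAction.fixedPoints R A := by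
    intro t
    apply Subtype.ext
    show (t : G) * 1 * (t : G)⁻¹ = 1
    simp
  obtain ⟨b, hb, hb1⟩ := hR.exists_fixed_point_of_prime_dvd_card_of_fixed_point A
    (by rw [h.card]; norm_num) h1fix
  refine ⟨b, b.2, fun h2 => hb1 (Subtype.ext h2.symm), fun x hx => ?_⟩
  exact congrArg Subtype.val (hb ⟨x, hx⟩)

/-- The "transvection" `a ↦ a` on `D`, `a ↦ a * w` outside `D`, for a subgroup `D ∋ w` of index 2 of an
abelian group, `w * w = 1`. -/
theorem exists_transv {B : Type*} [Group B] (hc : ∀ x y : B, x * y = y * x) (D : Subgroup B)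
    (hD : D.index = 2) (w : B) (hw : w ∈ D) (hww : w * w = 1) :
    ∃ σ : MulAut B, (∀ a ∈ D, σ a = a) ∧ (∀ a, a ∉ D → σ a = a * w) := by
  classical
  let f : B → B := fun a => if a ∈ D then a else a * w
  have hf1 : ∀ a ∈ D, f a = a := fun a ha => if_pos ha
  have hf2 : ∀ a, a ∉ D → f a = a * w := fun a ha => if_neg ha
  have hmul : ∀ a b, f (a * b) = f a * f b := by
    intro a b
    have hiff := Subgroup.mul_mem_iff_of_index_two hD (a := a) (b := b)
    by_cases ha : a ∈ D <;> by_cases hb : b ∈ D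
    · rw [hf1 a ha, hf1 b hb, hf1 _ (D.mul_mem ha hb)]
    · rw [hf1 a ha, hf2 b hb, hf2 _ (fun h => hb ((hiff.1 h).1 ha)), mul_assoc]
    · rw [hf2 a ha, hf1 b hb, hf2 _ (fun h => ha ((hiff.1 h).2 hb)), mul_assoc, mul_assoc, hc b w]
    · rw [hf2 a ha, hf2 b hb, hf1 _ (hiff.2 ⟨fun h => absurd h ha, fun h => absurd h hb⟩)]
      calc a * b = a * b * (w * w) := by rw [hww, mul_one]
        _ = a * (b * w) * w := by group
        _ = a * (w * b) * w := by rw [hc b w]
        _ = a * w * (b * w) := by group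
  have hff : ∀ a, f (f a) = a := by
    intro a
    by_cases ha : a ∈ D
    · rw [hf1 a ha, hf1 a ha]
    · rw [hf2 a ha, hf2 _ (fun h => ha ((D.mul_mem_cancel_right hw).1 h)), mul_assoc, hww, mul_one]
  exact ⟨⟨⟨f, f, hff, hff⟩, hmul⟩, hf1, hf2⟩

/-- **Closing.** Modulo the Z*-theorem `A` is normal in `G`. -/
theorem normalizer_eq_top (h : Hyp z T A U)
    (zs : ∀ (X : Type u) [Group X] [Finite X] (v : X), IsIsolatedInvolution v →
      ∀ x : X, v * x * v⁻¹ * x⁻¹ ∈ oddCore X) : normalizer (A : Set G) = ⊤ := by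
  by_contra hH
  obtain ⟨R, g, hR⟩ := exists_isMaxStab (normalizer (A : Set G)) hH
  have hRle := hR.le
  -- no element of `R` is conjugate to `z`
  have hRz : ∀ x ∈ R, ¬ IsConj z x := by
    intro x hx hzx
    have h1 : x ∈ A := h.mem_of_isConj (hRle hx) hzx
    have h2 := hR.le' x hx
    have h3 : g⁻¹ ∈ normalizer (A : Set G) :=
      h.mem_of_conj_mem_normalizer h1 (h.ne_one_of_isConj hzx) (by rwa [inv_inv])
    exact hR.notMem (by simpa using (normalizer (A : Set G)).inv_mem h3)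
  have hRA : ∀ x ∈ R, x ∈ A → x = 1 := by
    intro x hx hxA
    by_contra hx1
    exact hRz x hx (h.conj x hxA hx1)
  -- no "transvections" in `R`
  have hR1 : ∀ r ∈ R, r * r = 1 → r ≠ 1 → ¬ RankOne A r := by
    intro r hr hrr hr1 hrank
    have hcent := centralizer_le_of_rankOne h zs (hRle hr) hrr
      (fun hA => hr1 (hRA r hr hA)) hrank
    have h2 := hR.le' r hr
    have h3 : IsPGroup 2 (zpowers (g⁻¹ * r * g)) := by
      apply IsPGroup.of_card (n := 1)
      have h4 : orderOf (g⁻¹ * r * g) = 2 := by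
        have h5 := TwoFusion.StronglyEmbeddedBasic.orderOf_conj g⁻¹ r
        rw [inv_inv] at h5
        rw [h5]
        exact TwoFusion.StronglyEmbeddedBasic.orderOf_eq_two_of_mul_self hrr hr1
      rw [Nat.card_zpowers, h4, pow_one]
    obtain ⟨a, ha, ha1, hfix⟩ := exists_fixed h _ h3 (by rw [zpowers_le]; exact h2)
    have h4 := hfix _ (mem_zpowers _)
    have h5 : g * a * g⁻¹ ∈ centralizer ({r} : Set G) := by
      rw [Subgroup.mem_centralizer_singleton_iff]
      have h6 : (g⁻¹ * r * g) * a = a * (g⁻¹ * r * g) := mul_inv_eq_iff_eq_mul.1 h4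
      calc g * a * g⁻¹ * r = g * (a * (g⁻¹ * r * g)) * g⁻¹ := by group
        _ = g * ((g⁻¹ * r * g) * a) * g⁻¹ := by rw [h6]
        _ = r * (g * a * g⁻¹) := by group
    exact hR.notMem (h.mem_of_conj_mem_normalizer ha ha1 (hcent h5))
  -- elements of `z`-type normalizing `R`
  obtain ⟨a, haA, ha1, hafix⟩ := exists_fixed h R hR.two hRle
  have hR' : IsPGroup 2 (R.map (MulAut.conj g⁻¹).toMonoidHom) := hR.two.map _
  obtain ⟨a', ha'A, ha'1, ha'fix⟩ := exists_fixed h _ hR' (by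
    rintro _ ⟨x, hx, rfl⟩
    have h1 := hR.le' x hx
    have h2 : g⁻¹ * x * g⁻¹⁻¹ = g⁻¹ * x * g := by group
    show g⁻¹ * x * g⁻¹⁻¹ ∈ normalizer (A : Set G)
    rw [h2]; exact h1)
  have hcomm_norm : ∀ y : G, (∀ x ∈ R, x * y = y * x) → y ∈ normalizer (R : Set G) := by
    intro y hy
    rw [Subgroup.mem_normalizer_iff]
    intro x
    constructor
    · intro hx
      have : y * x * y⁻¹ = x := by rw [← hy x hx]; group
      rwa [this]
    · intro hx
      have h1 := hy _ hx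
      have h2 : y * x * y⁻¹ = x := by
        have h3 : y * x * y⁻¹ * y = y * (y * x * y⁻¹) := h1
        have h4 : y * x = y * (y * x * y⁻¹) := by rw [← h3]; group
        exact (mul_left_cancel h4).symm
      rwa [h2] at hx
  have haR : a ∉ R := fun h1 => ha1 (hRA a h1 haA)
  have haN : a ∈ normalizer (R : Set G) := by
    apply hcomm_norm
    intro x hx
    exact mul_inv_eq_iff_eq_mul.1 (hafix x hx)
  have hbfix : ∀ x ∈ R, x * (g * a' * g⁻¹) = (g * a' * g⁻¹) * x := by
    intro x hx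
    have h1 := ha'fix (g⁻¹ * x * g) ⟨x, hx, by
      show g⁻¹ * x * g⁻¹⁻¹ = g⁻¹ * x * g
      group⟩
    have h2 : (g⁻¹ * x * g) * a' = a' * (g⁻¹ * x * g) := mul_inv_eq_iff_eq_mul.1 h1
    calc x * (g * a' * g⁻¹) = g * ((g⁻¹ * x * g) * a') * g⁻¹ := by group
      _ = g * (a' * (g⁻¹ * x * g)) * g⁻¹ := by rw [h2]
      _ = (g * a' * g⁻¹) * x := by group
  have hbR : g * a' * g⁻¹ ∉ R := by
    intro h1
    apply hRz _ h1
    obtain ⟨d, hd⟩ := isConj_iff.1 (h.conj a' ha'A ha'1)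
    rw [isConj_iff]
    exact ⟨g * d, by rw [← hd]; group⟩
  have hbN : g * a' * g⁻¹ ∈ normalizer (R : Set G) := hcomm_norm _ hbfix
  have hbb : (g * a' * g⁻¹) * (g * a' * g⁻¹) ∈ R := by
    have h1 : (g * a' * g⁻¹) * (g * a' * g⁻¹) = g * (a' * a') * g⁻¹ := by group
    rw [h1, h.sq a' ha'A, mul_one, mul_inv_cancel]
    exact R.one_mem
  have hbH : g⁻¹ * (g * a' * g⁻¹) * g ∈ normalizer (A : Set G) := by
    have h1 : g⁻¹ * (g * a' * g⁻¹) * g = a' := by group
    rw [h1]
    exact Subgroup.le_normalizer ha'A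
  have key : ∀ x ∈ normalizer (R : Set G), x ∉ R → x * x ∈ R →
      ∃ r ∈ R, IsConj z (x * r) := by
    intro x hxN hxR hxx
    obtain ⟨n, r, hr, hn⟩ := exists_conj hR (g * a' * g⁻¹) hbH hbN hbR hbb a
      (Subgroup.le_normalizer haA) haN haR (by rw [h.sq a haA]; exact R.one_mem) x hxN hxR hxx
    refine ⟨r, hr, ?_⟩
    rw [← hn]
    obtain ⟨d, hd⟩ := isConj_iff.1 (h.conj a haA ha1)
    rw [isConj_iff]
    exact ⟨n * d, by rw [← hd]; group⟩
  have f2 : Fact (Nat.Prime 2) := ⟨Nat.prime_two⟩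
  by_cases hRbot : R = ⊥
  · -- strongly embedded
    have hUne : U ≠ ⊥ := by
      intro hU
      have h1 : (T : Subgroup G) = A := by rw [← h.sup, hU, sup_bot_eq]
      have h2 : Nat.card (T : Subgroup G) = 16 := by rw [h1, h.card]
      have h3 : 2 ^ 10 ∣ Nat.card G := by
        have h4 : Nat.card (centralizer ({z} : Set G)) ∣ Nat.card G := Subgroup.card_subgroup_dvd_card _
        rw [h.cardC] at h4
        exact (by norm_num : 2 ^ 10 ∣ 21504).trans h4
      have h4 := T.pow_dvd_card_of_pow_dvd_card h3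
      rw [h2] at h4
      exact absurd (Nat.le_of_dvd (by norm_num) h4) (by norm_num)
    have hUT : U ≤ (T : Subgroup G) := le_sup_right.trans h.sup.le
    have hU2 : IsPGroup 2 U := T.isPGroup'.to_le hUT
    have hUnt : Nontrivial U := (Subgroup.nontrivial_iff_ne_bot U).2 hUne
    have hdvd : 2 ∣ Nat.card U := by
      obtain ⟨n, hn, hc⟩ := (IsPGroup.nontrivial_iff_card hU2).1 hUnt
      rw [hc]; exact dvd_pow_self 2 (Nat.pos_iff_ne_zero.1 hn)
    obtain ⟨y, hy⟩ := exists_prime_orderOf_dvd_card' 2 hdvd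
    have hy2 : orderOf (y : G) = 2 := by rw [← hy]; exact Subgroup.orderOf_coe y
    have hy1 : (y : G) ≠ 1 := by
      intro h1; rw [h1, orderOf_one] at hy2; exact absurd hy2 (by norm_num)
    have hyy : (y : G) * y = 1 := TwoFusion.StronglyEmbeddedBasic.mul_self_of_orderOf hy2
    obtain ⟨r, hr, hzr⟩ := key (y : G) (by
        rw [hRbot]
        rw [Subgroup.mem_normalizer_iff]
        intro x
        rw [Subgroup.mem_bot, Subgroup.mem_bot]
        constructor
        · intro h1; rw [h1]; group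
        · intro h1
          have : x = (y : G)⁻¹ * ((y : G) * x * (y : G)⁻¹) * y := by group
          rw [this, h1]; group)
      (by rw [hRbot, Subgroup.mem_bot]; exact hy1) (by rw [hyy]; exact R.one_mem)
    rw [hRbot, Subgroup.mem_bot] at hr
    rw [hr, mul_one] at hzr
    have h1 : (y : G) ∈ A ⊓ U := ⟨h.fus _ (hUT y.2) hzr, y.2⟩
    rw [h.disj, Subgroup.mem_bot] at h1
    exact hy1 h1
  · -- central involution of `R`
    have hRnt : Nontrivial R := (Subgroup.nontrivial_iff_ne_bot R).2 hRbot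
    have hcnt : Nontrivial (center R) := hR.two.center_nontrivial
    have hc2 : IsPGroup 2 (center R) := hR.two.to_subgroup _
    have hdvd : 2 ∣ Nat.card (center R) := by
      obtain ⟨n, hn, hc⟩ := (IsPGroup.nontrivial_iff_card hc2).1 hcnt
      rw [hc]; exact dvd_pow_self 2 (Nat.pos_iff_ne_zero.1 hn)
    obtain ⟨r₀, hr₀⟩ := exists_prime_orderOf_dvd_card' 2 hdvd
    obtain ⟨r, hrR, hrr, hr1, hrc⟩ : ∃ r ∈ R, r * r = 1 ∧ r ≠ 1 ∧ ∀ x ∈ R, x * r = r * x := by
      have h2 : orderOf (((r₀ : center R) : R) : G) = 2 := by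
        rw [← hr₀, Subgroup.orderOf_coe, Subgroup.orderOf_coe]
      refine ⟨((r₀ : R) : G), (r₀ : R).2, TwoFusion.StronglyEmbeddedBasic.mul_self_of_orderOf h2, ?_, ?_⟩
      · intro h1; rw [h1, orderOf_one] at h2; exact absurd h2 (by norm_num)
      · intro x hx
        have h3 := (Subgroup.mem_center_iff.1 r₀.2) ⟨x, hx⟩
        exact congrArg Subtype.val h3
    have hrN := hRle hrR
    have hri : r⁻¹ = r := inv_eq_of_mul_eq_one_right hrr
    have hcA : ∀ x y : A, x * y = y * x := fun x y => Subtype.ext (h.comm x x.2 y y.2)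
    have hconj : ∀ x ∈ normalizer (A : Set G), ∀ a ∈ A, x * a * x⁻¹ ∈ A := fun x hx a ha =>
      (Subgroup.mem_normalizer_iff.1 hx a).1 ha
    let cm : A →* A :=
      { toFun := fun x => ⟨x * (r * x * r⁻¹), A.mul_mem x.2 (hconj r hrN x x.2)⟩
        map_one' := by apply Subtype.ext; show (1 : G) * (r * 1 * r⁻¹) = 1; group
        map_mul' := by
          intro x y
          apply Subtype.ext
          show ((x : G) * y) * (r * (x * y) * r⁻¹) = (x * (r * x * r⁻¹)) * (y * (r * y * r⁻¹))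
          have h1 : (y : G) * (r * x * r⁻¹) = (r * x * r⁻¹) * y :=
            h.comm _ y.2 _ (hconj r hrN x x.2)
          calc ((x : G) * y) * (r * (x * y) * r⁻¹) = x * (y * (r * x * r⁻¹)) * (r * y * r⁻¹) := by group
            _ = x * ((r * x * r⁻¹) * y) * (r * y * r⁻¹) := by rw [h1]
            _ = (x * (r * x * r⁻¹)) * (y * (r * y * r⁻¹)) := by group }
    have hcm : ∀ x : A, ((cm x : A) : G) = x * (r * x * r⁻¹) := fun x => rfl
    have hcm1 : ∀ x : A, cm x = 1 ↔ r * x * r⁻¹ = x := by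
      intro x
      constructor
      · intro h1
        have h2 : (x : G) * (r * x * r⁻¹) = 1 := congrArg Subtype.val h1
        have h4 : r * x * r⁻¹ = (x : G)⁻¹ := (inv_eq_of_mul_eq_one_right h2).symm
        rw [h4, h.inv_eq x.2]
      · intro h1
        apply Subtype.ext
        rw [hcm, h1]; exact h.sq x x.2
    have hle : cm.range ≤ cm.ker := by
      rintro _ ⟨x, rfl⟩
      rw [MonoidHom.mem_ker, hcm1, hcm]
      have h2 : r * (r * x * r⁻¹) * r⁻¹ = x := by
        calc r * (r * (x : G) * r⁻¹) * r⁻¹ = (r * r) * x * (r⁻¹ * r⁻¹) := by group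
          _ = x := by rw [hri, hrr]; simp
      calc r * (x * (r * x * r⁻¹)) * r⁻¹ = (r * x * r⁻¹) * (r * (r * x * r⁻¹) * r⁻¹) := by group
        _ = (r * x * r⁻¹) * x := by rw [h2]
        _ = x * (r * x * r⁻¹) := h.comm _ (hconj r hrN x x.2) _ x.2
    have hcard : Nat.card cm.ker * Nat.card cm.range = 16 := by
      have h1 := cm.ker.card_mul_index
      rwa [Subgroup.index_ker, h.card] at h1
    have hrank := hR1 r hrR hrr hr1
    -- at least three elements in the range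
    have h3le : 3 ≤ Nat.card cm.range := by
      obtain ⟨a₁, ha₁⟩ : ∃ a₁ : A, cm a₁ ≠ 1 := by
        by_contra hcon
        push Not at hcon
        apply hr1
        apply hRA r hrR
        apply h.cent
        intro y hy
        exact mul_inv_eq_iff_eq_mul.1 ((hcm1 ⟨y, hy⟩).1 (hcon ⟨y, hy⟩))
      obtain ⟨a₂, ha₂, ha₂'⟩ : ∃ a₂ : A, cm a₂ ≠ 1 ∧ cm a₂ ≠ cm a₁ := by
        by_contra hcon
        push Not at hcon
        apply hrank
        refine ⟨(cm a₁ : A), (cm a₁).2, fun h1 => ha₁ (Subtype.ext h1), ?_⟩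
        intro y hy
        by_cases h1 : cm ⟨y, hy⟩ = 1
        · left; exact congrArg Subtype.val h1
        · right; exact congrArg Subtype.val (hcon _ h1)
      have h1 : ({1, cm a₁, cm a₂} : Set A) ⊆ (cm.range : Set A) := by
        rintro x (rfl | rfl | rfl)
        · exact cm.range.one_mem
        · exact ⟨a₁, rfl⟩
        · exact ⟨a₂, rfl⟩
      have h2 := Set.ncard_le_ncard h1
      have h3 : ({1, cm a₁, cm a₂} : Set A).ncard = 3 := by
        rw [Set.ncard_eq_three]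
        exact ⟨1, cm a₁, cm a₂, ha₁.symm, ha₂.symm, ha₂'.symm, rfl⟩
      rw [h3] at h2
      exact h2
    have hle' : Nat.card cm.range ≤ Nat.card cm.ker := Subgroup.card_le_of_le hle
    have hr4 : Nat.card cm.range = 4 ∧ Nat.card cm.ker = 4 := by
      have h1 : Nat.card cm.range ∣ 16 := ⟨Nat.card cm.ker, by rw [mul_comm]; exact hcard.symm⟩
      have h2 : Nat.card cm.range ≤ 16 := Nat.le_of_dvd (by norm_num) h1
      generalize Nat.card cm.range = p at *
      generalize Nat.card cm.ker = q at *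
      have h3 : p ≤ 4 := by
        by_contra h4
        push Not at h4
        have : 5 * 5 ≤ q * p := Nat.mul_le_mul (by omega) (by omega)
        omega
      interval_cases p
      · omega
      · omega
    have hrk : cm.range = cm.ker := by
      apply Subgroup.eq_of_le_of_card_ge hle
      rw [hr4.1, hr4.2]
    let w : A := ⟨a, haA⟩
    have hw1 : w ≠ 1 := fun h1 => ha1 (congrArg Subtype.val h1)
    have hww : w * w = 1 := Subtype.ext (h.sq a haA)
    have hwk : cm w = 1 := (hcm1 w).2 (hafix r hrR)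
    have hwr : w ∈ cm.range := by rw [hrk]; exact hwk
    have hmemW : ∀ x : A, x ∈ zpowers w ↔ x = 1 ∨ x = w := by
      intro x
      constructor
      · intro hx
        obtain ⟨k, hk⟩ := Subgroup.mem_zpowers_iff.1 hx
        rcases Int.even_or_odd' k with ⟨m, hm | hm⟩
        · left; rw [← hk, hm, zpow_mul, zpow_two, hww, one_zpow]
        · right; rw [← hk, hm, zpow_add, zpow_mul, zpow_two, hww, one_zpow, one_mul, zpow_one]
      · rintro (rfl | rfl)
        · exact one_mem _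
        · exact mem_zpowers _
    let D : Subgroup A := (zpowers w).comap cm
    have hDi : D.index = 2 := by
      show ((zpowers w).comap cm).index = 2
      rw [Subgroup.index_comap]
      have h1 : zpowers w ≤ cm.range := by rw [zpowers_le]; exact hwr
      have h2 := ((zpowers w).subgroupOf cm.range).card_mul_index
      rw [Nat.card_congr (Subgroup.subgroupOfEquivOfLe h1).toEquiv, hr4.1, Nat.card_zpowers,
        TwoFusion.StronglyEmbeddedBasic.orderOf_eq_two_of_mul_self hww hw1] at h2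
      show ((zpowers w).subgroupOf cm.range).index = 2
      omega
    have hmemD : ∀ x : A, x ∈ D ↔ (cm x = 1 ∨ cm x = w) := fun x => hmemW (cm x)
    have hwD : w ∈ D := (hmemD w).2 (Or.inl hwk)
    obtain ⟨σ, hσ1, hσ2⟩ := exists_transv hcA D hDi w hwD hww
    obtain ⟨L, hL⟩ := h.exists_compl
    have huniq : ∀ x ∈ A, ∀ x' ∈ A, ∀ l ∈ L, ∀ l' ∈ L, x * l = x' * l' → x = x' ∧ l = l' := by
      intro x hx x' hx' l hl l' hl' he
      have h1 : x'⁻¹ * x = l' * l⁻¹ := by
        calc x'⁻¹ * x = x'⁻¹ * (x * l) * l⁻¹ := by group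
          _ = x'⁻¹ * (x' * l') * l⁻¹ := by rw [he]
          _ = l' * l⁻¹ := by group
      have h2 : x'⁻¹ * x ∈ A ⊓ L :=
        ⟨A.mul_mem (A.inv_mem hx') hx, by rw [h1]; exact L.mul_mem hl' (L.inv_mem hl)⟩
      rw [hL.disj, Subgroup.mem_bot] at h2
      have h3 : x = x' := by
        have : x = x' * (x'⁻¹ * x) := by group
        rw [this, h2, mul_one]
      refine ⟨h3, ?_⟩
      rw [h2] at h1
      have : l' = (l' * l⁻¹) * l := by group
      rw [this, ← h1, one_mul]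
    -- `r = b l₀ b⁻¹`
    obtain ⟨α₀, hα₀, l₀, hl₀, hrl⟩ := hL.mul r hrN
    have hact₀ : ∀ x ∈ A, r * x * r⁻¹ = l₀ * x * l₀⁻¹ := by
      intro x hx
      have h1 : l₀ * x * l₀⁻¹ ∈ A := hconj l₀ (hL.le hl₀) x hx
      calc r * x * r⁻¹ = α₀ * (l₀ * x * l₀⁻¹) * α₀⁻¹ := by rw [hrl]; group
        _ = (l₀ * x * l₀⁻¹) * α₀ * α₀⁻¹ := by rw [h.comm α₀ hα₀ _ h1]
        _ = l₀ * x * l₀⁻¹ := by group
    obtain ⟨b, hb, hbr⟩ : ∃ b ∈ A, r = b * l₀ * b⁻¹ := by
      have h1 : (α₀ * (l₀ * α₀ * l₀⁻¹)) * (l₀ * l₀) = 1 * 1 := by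
        rw [mul_one]
        calc (α₀ * (l₀ * α₀ * l₀⁻¹)) * (l₀ * l₀) = (α₀ * l₀) * (α₀ * l₀) := by group
          _ = 1 := by rw [← hrl, hrr]
      have h2 := huniq _ (A.mul_mem hα₀ (hconj l₀ (hL.le hl₀) α₀ hα₀)) 1 A.one_mem _
        (L.mul_mem hl₀ hl₀) 1 L.one_mem h1
      have h3 : cm ⟨α₀, hα₀⟩ = 1 := by
        apply Subtype.ext
        rw [hcm]
        show α₀ * (r * α₀ * r⁻¹) = 1
        rw [hact₀ α₀ hα₀]; exact h2.1
      have h4 : (⟨α₀, hα₀⟩ : A) ∈ cm.range := by rw [hrk]; exact h3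
      obtain ⟨b, hb⟩ := h4
      have h5 : (b : G) * (r * b * r⁻¹) = α₀ := congrArg Subtype.val hb
      rw [hact₀ b b.2] at h5
      refine ⟨b, b.2, ?_⟩
      rw [h.inv_eq b.2, hrl, ← h5]; group
    -- the transvection
    obtain ⟨t, ht, hta⟩ := hL.aut σ
    -- conjugation by elements of `R`
    have hbi : b⁻¹ = b := h.inv_eq hb
    have htR : ∀ ρ ∈ R, t * (b⁻¹ * ρ * b) = (b⁻¹ * ρ * b) * t := by
      intro ρ hρ
      have hρN := hRle hρ
      obtain ⟨α, hα, l, hl, hαl⟩ := hL.mul (b⁻¹ * ρ * b)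
        ((normalizer (A : Set G)).mul_mem ((normalizer (A : Set G)).mul_mem
          ((normalizer (A : Set G)).inv_mem (Subgroup.le_normalizer hb)) hρN) (Subgroup.le_normalizer hb))
      have hρr := hrc ρ hρ
      -- commutes with `l₀`
      have h1 : (α * l) * l₀ = l₀ * (α * l) := by
        rw [← hαl]
        have h2 : l₀ = b⁻¹ * r * b := by rw [hbr]; group
        rw [h2]
        calc b⁻¹ * ρ * b * (b⁻¹ * r * b) = b⁻¹ * (ρ * r) * b := by group
          _ = b⁻¹ * (r * ρ) * b := by rw [hρr]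
          _ = b⁻¹ * r * b * (b⁻¹ * ρ * b) := by group
      have h2 : α * (l * l₀ * l⁻¹) = (l₀ * α * l₀⁻¹) * l₀ := by
        calc α * (l * l₀ * l⁻¹) = ((α * l) * l₀) * l⁻¹ := by group
          _ = (l₀ * (α * l)) * l⁻¹ := by rw [h1]
          _ = (l₀ * α * l₀⁻¹) * l₀ := by group
      have h3 := huniq α hα _ (hconj l₀ (hL.le hl₀) α hα) _
        (L.mul_mem (L.mul_mem hl hl₀) (L.inv_mem hl)) l₀ hl₀ h2
      have hαk : cm ⟨α, hα⟩ = 1 := by
        rw [hcm1]
        show r * α * r⁻¹ = α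
        rw [hact₀ α hα]; exact h3.1.symm
      have htα : t * α = α * t := by
        have h4 := hta ⟨α, hα⟩
        rw [hσ1 _ ((hmemD _).2 (Or.inl hαk))] at h4
        exact mul_inv_eq_iff_eq_mul.1 h4
      -- action of `ρ`
      have hactρ : ∀ x ∈ A, ρ * x * ρ⁻¹ = l * x * l⁻¹ := by
        intro x hx
        have h4 : ρ = b * (α * l) * b⁻¹ := by rw [← hαl]; group
        have h5 : l * (b⁻¹ * x * b) * l⁻¹ = l * x * l⁻¹ := by
          have : b⁻¹ * x * b = x := by
            rw [h.comm _ (A.inv_mem hb) x hx]; group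
          rw [this]
        have h6 : l * x * l⁻¹ ∈ A := hconj l (hL.le hl) x hx
        calc ρ * x * ρ⁻¹ = (b * α) * (l * (b⁻¹ * x * b) * l⁻¹) * (b * α)⁻¹ := by rw [h4]; group
          _ = (b * α) * (l * x * l⁻¹) * (b * α)⁻¹ := by rw [h5]
          _ = (l * x * l⁻¹) * (b * α) * (b * α)⁻¹ := by rw [h.comm _ (A.mul_mem hb hα) _ h6]
          _ = l * x * l⁻¹ := by group
      have hρw : ρ * a * ρ⁻¹ = a := hafix ρ hρ
      have hcmρ : ∀ x : A, cm ⟨ρ * x * ρ⁻¹, hconj ρ hρN x x.2⟩ =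
          ⟨ρ * (cm x : A) * ρ⁻¹, hconj ρ hρN _ (cm x).2⟩ := by
        intro x
        apply Subtype.ext
        show (ρ * x * ρ⁻¹) * (r * (ρ * x * ρ⁻¹) * r⁻¹) = ρ * (x * (r * x * r⁻¹)) * ρ⁻¹
        have h4 : r * ρ = ρ * r := hρr.symm
        calc (ρ * x * ρ⁻¹) * (r * (ρ * x * ρ⁻¹) * r⁻¹)
            = ρ * x * ρ⁻¹ * ((r * ρ) * x * (r * ρ)⁻¹) := by group
          _ = ρ * x * ρ⁻¹ * ((ρ * r) * x * (ρ * r)⁻¹) := by rw [h4]
          _ = ρ * (x * (r * x * r⁻¹)) * ρ⁻¹ := by group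
      have hDρ : ∀ x : A, (⟨ρ * x * ρ⁻¹, hconj ρ hρN x x.2⟩ : A) ∈ D ↔ x ∈ D := by
        intro x
        rw [hmemD, hmemD, hcmρ]
        constructor
        · rintro (h4 | h4)
          · left
            have h5 : ρ * ((cm x : A) : G) * ρ⁻¹ = 1 := congrArg Subtype.val h4
            apply Subtype.ext
            have h6 : ((cm x : A) : G) = ρ⁻¹ * (ρ * ((cm x : A) : G) * ρ⁻¹) * ρ := by group
            rw [h6, h5]
            show ρ⁻¹ * 1 * ρ = 1
            group
          · right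
            have h5 : ρ * ((cm x : A) : G) * ρ⁻¹ = a := congrArg Subtype.val h4
            apply Subtype.ext
            have h6 : ((cm x : A) : G) = ρ⁻¹ * (ρ * ((cm x : A) : G) * ρ⁻¹) * ρ := by group
            rw [h6, h5]
            show ρ⁻¹ * a * ρ = a
            calc ρ⁻¹ * a * ρ = ρ⁻¹ * (ρ * a * ρ⁻¹) * ρ := by rw [hρw]
              _ = a := by group
        · rintro (h4 | h4)
          · left; apply Subtype.ext
            show ρ * ((cm x : A) : G) * ρ⁻¹ = 1
            rw [h4]; show ρ * 1 * ρ⁻¹ = 1; group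
          · right; apply Subtype.ext
            show ρ * ((cm x : A) : G) * ρ⁻¹ = a
            rw [h4]; exact hρw
      have htl : t * l = l * t := by
        have h4 : t * l * t⁻¹ * l⁻¹ ∈ A := by
          apply h.cent
          intro y hy
          have h5 : ∀ x ∈ A, t * (l * x * l⁻¹) * t⁻¹ = l * (t * x * t⁻¹) * l⁻¹ := by
            intro x hx
            rw [← hactρ x hx]
            have h6 := hta ⟨ρ * x * ρ⁻¹, hconj ρ hρN x hx⟩
            have h7 := hta ⟨x, hx⟩
            have h6' : t * (ρ * x * ρ⁻¹) * t⁻¹ = (σ ⟨ρ * x * ρ⁻¹, hconj ρ hρN x hx⟩ : A) := h6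
            have h7' : t * x * t⁻¹ = (σ ⟨x, hx⟩ : A) := h7
            have h8 : t * x * t⁻¹ ∈ A := hconj t (hL.le ht) x hx
            rw [← hactρ _ h8, h6', h7']
            by_cases hxD : (⟨x, hx⟩ : A) ∈ D
            · rw [hσ1 _ hxD, hσ1 _ ((hDρ ⟨x, hx⟩).2 hxD)]
            · rw [hσ2 _ hxD, hσ2 _ (fun h9 => hxD ((hDρ ⟨x, hx⟩).1 h9))]
              show ρ * x * ρ⁻¹ * a = ρ * (x * a) * ρ⁻¹
              calc ρ * x * ρ⁻¹ * a = ρ * x * ρ⁻¹ * (ρ * a * ρ⁻¹) := by rw [hρw]
                _ = ρ * (x * a) * ρ⁻¹ := by group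
          -- `t l t⁻¹ l⁻¹` centralizes `A`
          have h6 : (t * l * t⁻¹ * l⁻¹) * y * (t * l * t⁻¹ * l⁻¹)⁻¹ = y := by
            have h7 : l⁻¹ * y * l⁻¹⁻¹ ∈ A := hconj l⁻¹ (hL.le (L.inv_mem hl)) y hy
            have h8 : t⁻¹ * (l⁻¹ * y * l⁻¹⁻¹) * t⁻¹⁻¹ ∈ A := hconj t⁻¹ (hL.le (L.inv_mem ht)) _ h7
            have h9 := h5 _ h8
            calc (t * l * t⁻¹ * l⁻¹) * y * (t * l * t⁻¹ * l⁻¹)⁻¹
                = t * (l * (t⁻¹ * (l⁻¹ * y * l⁻¹⁻¹) * t⁻¹⁻¹) * l⁻¹) * t⁻¹ := by group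
              _ = l * (t * (t⁻¹ * (l⁻¹ * y * l⁻¹⁻¹) * t⁻¹⁻¹) * t⁻¹) * l⁻¹ := h9
              _ = y := by group
          exact mul_inv_eq_iff_eq_mul.1 h6
        have h5 : t * l * t⁻¹ * l⁻¹ ∈ A ⊓ L :=
          ⟨h4, L.mul_mem (L.mul_mem (L.mul_mem ht hl) (L.inv_mem ht)) (L.inv_mem hl)⟩
        rw [hL.disj, Subgroup.mem_bot] at h5
        have h6 : t * l = (t * l * t⁻¹ * l⁻¹) * (l * t) := by group
        rw [h6, h5, one_mul]
      rw [hαl]
      calc t * (α * l) = (t * α) * l := by group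
        _ = (α * t) * l := by rw [htα]
        _ = α * (t * l) := by group
        _ = α * (l * t) := by rw [htl]
        _ = α * l * t := by group
    have htact : ∀ x ∈ A, (b * t * b⁻¹) * x * (b * t * b⁻¹)⁻¹ = t * x * t⁻¹ := by
      intro x hx
      have h5 : b⁻¹ * x * b = x := by
        rw [h.comm _ (A.inv_mem hb) x hx]; group
      have h6 : t * x * t⁻¹ ∈ A := hconj t (hL.le ht) x hx
      calc (b * t * b⁻¹) * x * (b * t * b⁻¹)⁻¹ = b * (t * (b⁻¹ * x * b) * t⁻¹) * b⁻¹ := by group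
        _ = b * (t * x * t⁻¹) * b⁻¹ := by rw [h5]
        _ = (t * x * t⁻¹) * b * b⁻¹ := by rw [h.comm b hb _ h6]
        _ = t * x * t⁻¹ := by group
    have htt : t * t = 1 := by
      have h4 : t * t ∈ A := by
        apply h.cent
        intro y hy
        have h5 : (t * t) * y * (t * t)⁻¹ = y := by
          have h6 := hta ⟨y, hy⟩
          have h7 := hta (σ ⟨y, hy⟩)
          have h8 : σ (σ ⟨y, hy⟩) = ⟨y, hy⟩ := by
            by_cases hyD : (⟨y, hy⟩ : A) ∈ D
            · rw [hσ1 _ hyD, hσ1 _ hyD]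
            · rw [hσ2 _ hyD, hσ2 _ (fun h9 => hyD ((D.mul_mem_cancel_right hwD).1 h9)), mul_assoc, hww,
                mul_one]
          rw [h8] at h7
          calc (t * t) * y * (t * t)⁻¹ = t * (t * y * t⁻¹) * t⁻¹ := by group
            _ = t * (σ ⟨y, hy⟩ : A) * t⁻¹ := by rw [← h6]
            _ = y := h7
        exact mul_inv_eq_iff_eq_mul.1 h5
      have h5 : t * t ∈ A ⊓ L := ⟨h4, L.mul_mem ht ht⟩
      rwa [hL.disj, Subgroup.mem_bot] at h5
    let τ : G := b * t * b⁻¹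
    have hττ : τ * τ = 1 := by
      have : τ * τ = b * (t * t) * b⁻¹ := by
        show b * t * b⁻¹ * (b * t * b⁻¹) = b * (t * t) * b⁻¹
        group
      rw [this, htt]; group
    have hτR : ∀ ρ ∈ R, ρ * τ = τ * ρ := by
      intro ρ hρ
      have h1 := htR ρ hρ
      show ρ * (b * t * b⁻¹) = (b * t * b⁻¹) * ρ
      calc ρ * (b * t * b⁻¹) = b * ((b⁻¹ * ρ * b) * t) * b⁻¹ := by group
        _ = b * (t * (b⁻¹ * ρ * b)) * b⁻¹ := by rw [h1]
        _ = (b * t * b⁻¹) * ρ := by group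
    have hτrank : ∀ ρ : G, (∀ x ∈ A, ρ * x * ρ⁻¹ = t * x * t⁻¹) → RankOne A ρ := by
      intro ρ hρ
      refine ⟨a, haA, ha1, ?_⟩
      intro x hx
      rw [hρ x hx]
      have h6 : t * x * t⁻¹ = (σ ⟨x, hx⟩ : A) := hta ⟨x, hx⟩
      rw [h6]
      by_cases hxD : (⟨x, hx⟩ : A) ∈ D
      · left; rw [hσ1 _ hxD]; exact h.sq x hx
      · right; rw [hσ2 _ hxD]
        show x * (x * a) = a
        rw [← mul_assoc, h.sq x hx, one_mul]
    -- `t` moves something
    obtain ⟨x₀, hx₀⟩ : ∃ x₀ : A, x₀ ∉ D := by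
      by_contra hcon
      push Not at hcon
      have h1 : D = ⊤ := eq_top_iff.2 fun x _ => hcon x
      rw [h1, Subgroup.index_top] at hDi
      exact absurd hDi (by norm_num)
    have hmove : ∀ ρ : G, (∀ x ∈ A, ρ * x * ρ⁻¹ = t * x * t⁻¹) → ρ ∉ A := by
      intro ρ hρ hρA
      have h1 := hρ x₀ x₀.2
      have h2 : ρ * (x₀ : G) * ρ⁻¹ = x₀ := by rw [h.comm ρ hρA x₀ x₀.2]; group
      have h3 : t * (x₀ : G) * t⁻¹ = (σ x₀ : A) := hta x₀
      rw [h2, h3, hσ2 _ hx₀] at h1
      have h4 : (x₀ : G) = x₀ * a := h1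
      exact ha1 (mul_eq_left.1 h4.symm)
    have hτnotR : τ ∉ R := by
      intro h1
      have h2 : τ ≠ 1 := by
        intro h3
        apply hmove τ htact
        rw [h3]; exact A.one_mem
      exact hR1 τ h1 hττ h2 (hτrank τ htact)
    obtain ⟨ρ, hρ, hzρ⟩ := key τ (hcomm_norm τ hτR) hτnotR (by rw [hττ]; exact R.one_mem)
    -- `τ ρ ∈ A`
    have hτN : τ ∈ normalizer (A : Set G) :=
      (normalizer (A : Set G)).mul_mem ((normalizer (A : Set G)).mul_mem (Subgroup.le_normalizer hb)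
        (hL.le ht)) ((normalizer (A : Set G)).inv_mem (Subgroup.le_normalizer hb))
    have hτρ : τ * ρ ∈ A := h.mem_of_isConj ((normalizer (A : Set G)).mul_mem hτN (hRle hρ)) hzρ
    have hρρ : ρ * ρ = 1 := by
      have h1 := h.sq _ hτρ
      have h2 : τ * ρ * (τ * ρ) = (τ * τ) * (ρ * ρ) := by
        calc τ * ρ * (τ * ρ) = τ * (ρ * τ) * ρ := by group
          _ = τ * (τ * ρ) * ρ := by rw [hτR ρ hρ]
          _ = (τ * τ) * (ρ * ρ) := by group
      rw [h2, hττ, one_mul] at h1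
      exact h1
    have hτi : τ⁻¹ = τ := inv_eq_of_mul_eq_one_right hττ
    have hρact : ∀ x ∈ A, ρ * x * ρ⁻¹ = t * x * t⁻¹ := by
      intro x hx
      rw [← htact x hx]
      have h1 : ρ = τ * (τ * ρ) := by rw [← mul_assoc, hττ, one_mul]
      have h2 : (τ * ρ) * x * (τ * ρ)⁻¹ = x := by rw [h.comm _ hτρ x hx]; group
      calc ρ * x * ρ⁻¹ = (τ * (τ * ρ)) * x * (τ * (τ * ρ))⁻¹ := by rw [← h1]
        _ = τ * ((τ * ρ) * x * (τ * ρ)⁻¹) * τ⁻¹ := by group
        _ = τ * x * τ⁻¹ := by rw [h2]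
    have hρ1 : ρ ≠ 1 := by
      intro h3
      apply hmove ρ hρact
      rw [h3]; exact A.one_mem
    exact hR1 ρ hρ hρρ hρ1 (hτrank ρ hρact)

end Cfsg.Agent.Held.AffineClose
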