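import Mathlib

/-!
# The holomorph of an elementary abelian group of order 16 and the stabiliser in `SL(5,2)`
-/

set_option autoImplicit false

namespace Cfsg.Agent.Held.AffineIso

open Subgroup Matrix

/-- A group which is a semidirect product of a self-centralizing `A` with `L = Aut(A)` is the
holomorph of `A`. -/
theorem nonempty_equiv_hol {G : Type*} [Group G] (A L : Subgroup G) [A.Normal]
    (hcent : ∀ x : G, (∀ y ∈ A, x * y = y * x) → x ∈ A)
    (hmul : ∀ g : G, ∃ a ∈ A, ∃ l ∈ L, g = a * l) (hdisj : A ⊓ L = ⊥)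
    (haut : ∀ σ : MulAut A, ∃ l ∈ L, ∀ a : A, l * a * l⁻¹ = σ a) :
    Nonempty (G ≃* A ⋊[MonoidHom.id (MulAut A)] MulAut A) := by
  let c : L →* MulAut A := (MulAut.conjNormal (H := A)).comp L.subtype
  have hc : ∀ (l : L) (a : A), ((c l a : A) : G) = (l : G) * a * (l : G)⁻¹ := fun l a =>
    MulAut.conjNormal_apply (H := A) (l : G) a
  have hinj : Function.Injective c := by
    rw [injective_iff_map_eq_one]
    intro l hl
    have h1 : (l : G) ∈ A := by
      apply hcent
      intro y hy
      have h2 := hc l ⟨y, hy⟩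
      rw [hl] at h2
      have h3 : y = (l : G) * y * (l : G)⁻¹ := h2
      exact mul_inv_eq_iff_eq_mul.1 h3.symm
    have h2 : (l : G) ∈ A ⊓ L := ⟨h1, l.2⟩
    rw [hdisj, Subgroup.mem_bot] at h2
    exact Subtype.ext h2
  have hsurj : Function.Surjective c := by
    intro σ
    obtain ⟨l, hl, hla⟩ := haut σ
    refine ⟨⟨l, hl⟩, ?_⟩
    apply MulEquiv.ext
    intro a
    apply Subtype.ext
    rw [hc]
    exact hla a
  let e : L ≃* MulAut A := MulEquiv.ofBijective c ⟨hinj, hsurj⟩
  have he : ∀ σ : MulAut A, c (e.symm σ) = σ := fun σ => e.apply_symm_apply σ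
  let Ψ : A ⋊[MonoidHom.id (MulAut A)] MulAut A →* G :=
    SemidirectProduct.lift A.subtype (L.subtype.comp e.symm.toMonoidHom) (by
      intro σ
      apply MonoidHom.ext
      intro a
      show ((σ a : A) : G) = ((e.symm σ : L) : G) * a * ((e.symm σ : L) : G)⁻¹
      rw [← hc, he])
  have hΨ : ∀ x, Ψ x = (x.left : G) * ((e.symm x.right : L) : G) := fun x => rfl
  have hbij : Function.Bijective Ψ := by
    constructor
    · rw [injective_iff_map_eq_one]
      intro x hx
      rw [hΨ] at hx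
      have h1 : (x.left : G) = ((e.symm x.right : L) : G)⁻¹ := eq_inv_of_mul_eq_one_left hx
      have h2 : (x.left : G) ∈ A ⊓ L := ⟨x.left.2, by rw [h1]; exact L.inv_mem (e.symm x.right).2⟩
      rw [hdisj, Subgroup.mem_bot] at h2
      rw [h2, one_mul] at hx
      have h3 : e.symm x.right = 1 := Subtype.ext hx
      have h4 : x.right = 1 := by
        have := congrArg e h3
        rwa [e.apply_symm_apply, map_one] at this
      exact SemidirectProduct.ext (Subtype.ext h2) h4
    · intro g
      obtain ⟨a, ha, l, hl, hg⟩ := hmul g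
      refine ⟨⟨⟨a, ha⟩, c ⟨l, hl⟩⟩, ?_⟩
      rw [hΨ]
      have h1 : e.symm (c ⟨l, hl⟩) = ⟨l, hl⟩ := e.symm_apply_apply ⟨l, hl⟩
      rw [hg]
      show a * ((e.symm (c ⟨l, hl⟩) : L) : G) = a * l
      rw [h1]
  exact ⟨(MulEquiv.ofBijective Ψ hbij).symm⟩

/-- Elementary abelian groups of order 16. -/
theorem nonempty_equiv_vec {A : Type*} [Group A] (hsq : ∀ x : A, x * x = 1)
    (hcard : Nat.card A = 16) : Nonempty (A ≃* Multiplicative (Fin 4 → ZMod 2)) := by
  have hcomm : ∀ x y : A, x * y = y * x := by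
    intro x y
    have h1 := hsq (x * y)
    have hx' : x⁻¹ = x := inv_eq_of_mul_eq_one_right (hsq x)
    have hy' : y⁻¹ = y := inv_eq_of_mul_eq_one_right (hsq y)
    have h2 : x * y = (x * y)⁻¹ := (inv_eq_of_mul_eq_one_right h1).symm
    rw [h2, _root_.mul_inv_rev, hx', hy']
  let inst : CommGroup A := { (inferInstance : Group A) with mul_comm := hcomm }
  have hfin : Finite A := by
    apply Nat.finite_of_card_ne_zero; rw [hcard]; norm_num
  have f2 : Fact (Nat.Prime 2) := ⟨Nat.prime_two⟩
  let m : Module (ZMod 2) (Additive A) := AddCommGroup.zmodModule (n := 2) (fun x => by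
    rw [two_nsmul]; exact congrArg Additive.ofMul (hsq x.toMul))
  have hfinA : Finite (Additive A) := hfin
  have h1 : Module.finrank (ZMod 2) (Additive A) = 4 := by
    have h2 : Nat.card (Additive A) = Nat.card (ZMod 2) ^ Module.finrank (ZMod 2) (Additive A) :=
      Module.natCard_eq_pow_finrank
    rw [Nat.card_zmod] at h2
    have h3 : Nat.card (Additive A) = 16 := hcard
    rw [h3] at h2
    have h4 : (2 : ℕ) ^ 4 = 2 ^ Module.finrank (ZMod 2) (Additive A) := by rw [← h2]; norm_num
    exact (Nat.pow_right_injective le_rfl h4).symm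
  have h2 : Module.finrank (ZMod 2) (Fin 4 → ZMod 2) = 4 := by simp
  let e : Additive A ≃ₗ[ZMod 2] (Fin 4 → ZMod 2) := LinearEquiv.ofFinrankEq _ _ (by rw [h1, h2])
  exact ⟨{ toFun := fun x => Multiplicative.ofAdd (e (Additive.ofMul x))
           invFun := fun y => (e.symm y.toAdd).toMul
           left_inv := fun x => by
             show (e.symm (e (Additive.ofMul x))).toMul = x
             rw [e.symm_apply_apply]; rfl
           right_inv := fun y => by
             show Multiplicative.ofAdd (e (e.symm y.toAdd)) = y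
             rw [e.apply_symm_apply]; rfl
           map_mul' := fun x y => by
             show Multiplicative.ofAdd (e (Additive.ofMul (x * y))) = _
             rw [ofMul_mul, map_add]; rfl }⟩

section Model

/-- The block matrix `(1, f; 0, B)`. -/
def blk (f : Fin 4 → ZMod 2) (B : Matrix (Fin 4) (Fin 4) (ZMod 2)) :
    Matrix (Fin 5) (Fin 5) (ZMod 2) :=
  Matrix.of (Fin.cons (Fin.cons 1 f) fun i => Fin.cons 0 (B i))

@[simp] theorem blk_zero_zero (f : Fin 4 → ZMod 2) (B : Matrix (Fin 4) (Fin 4) (ZMod 2)) :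
    blk f B 0 0 = 1 := rfl

@[simp] theorem blk_zero_succ (f : Fin 4 → ZMod 2) (B : Matrix (Fin 4) (Fin 4) (ZMod 2)) (j : Fin 4) :
    blk f B 0 j.succ = f j := by
  simp [blk]

@[simp] theorem blk_succ_zero (f : Fin 4 → ZMod 2) (B : Matrix (Fin 4) (Fin 4) (ZMod 2)) (i : Fin 4) :
    blk f B i.succ 0 = 0 := by
  simp [blk]

@[simp] theorem blk_succ_succ (f : Fin 4 → ZMod 2) (B : Matrix (Fin 4) (Fin 4) (ZMod 2))
    (i j : Fin 4) : blk f B i.succ j.succ = B i j := by
  simp [blk]

theorem blk_mul (f f' : Fin 4 → ZMod 2) (B B' : Matrix (Fin 4) (Fin 4) (ZMod 2)) :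
    blk f B * blk f' B' = blk (f' + f ᵥ* B') (B * B') := by
  ext i j
  rw [Matrix.mul_apply, Fin.sum_univ_succ]
  refine Fin.cases ?_ (fun i => ?_) i <;> refine Fin.cases ?_ (fun j => ?_) j
  · simp
  · simp [Matrix.vecMul, dotProduct]
  · simp
  · simp [Matrix.mul_apply]

theorem blk_one : blk 0 1 = 1 := by
  ext i j
  refine Fin.cases ?_ (fun i => ?_) i <;> refine Fin.cases ?_ (fun j => ?_) j
  · simp
  · simp [(Fin.succ_ne_zero j).symm]
  · simp [Fin.succ_ne_zero i]
  · simp [Matrix.one_apply]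

theorem det_blk (f : Fin 4 → ZMod 2) (B : Matrix (Fin 4) (Fin 4) (ZMod 2)) :
    (blk f B).det = B.det := by
  rw [Matrix.det_succ_column_zero, Fin.sum_univ_succ]
  have h1 : (blk f B).submatrix (Fin.succAbove 0) Fin.succ = B := by
    ext i j
    simp
  rw [h1]
  simp

theorem eq_blk (g : Matrix (Fin 5) (Fin 5) (ZMod 2)) (h0 : g 0 0 = 1)
    (h : ∀ i : Fin 4, g i.succ 0 = 0) :
    g = blk (fun j => g 0 j.succ) (Matrix.of fun i j => g i.succ j.succ) := by
  ext i j
  refine Fin.cases ?_ (fun i => ?_) i <;> refine Fin.cases ?_ (fun j => ?_) j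
  · simp [h0]
  · simp
  · simp [h]
  · simp

abbrev V := Multiplicative (Fin 4 → ZMod 2)

/-- The linear map of an automorphism of `V`. -/
def lin (σ : MulAut V) : (Fin 4 → ZMod 2) →ₗ[ZMod 2] (Fin 4 → ZMod 2) :=
  AddMonoidHom.toZModLinearMap 2
    { toFun := fun f => (σ (Multiplicative.ofAdd f)).toAdd
      map_zero' := by rw [ofAdd_zero, map_one]; rfl
      map_add' := fun f g => by rw [ofAdd_add, map_mul]; rfl }

theorem lin_apply (σ : MulAut V) (f : Fin 4 → ZMod 2) :
    lin σ f = (σ (Multiplicative.ofAdd f)).toAdd := rfl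

theorem lin_mul (σ τ : MulAut V) : lin (σ * τ) = (lin σ).comp (lin τ) := by
  apply LinearMap.ext
  intro f
  rfl

theorem lin_one : lin 1 = LinearMap.id := by
  apply LinearMap.ext
  intro f
  rfl

/-- The matrix attached to `σ`: transpose of the matrix of `σ⁻¹`. -/
noncomputable def mat (σ : MulAut V) : Matrix (Fin 4) (Fin 4) (ZMod 2) :=
  (LinearMap.toMatrix' (lin σ⁻¹))ᵀ

theorem vecMul_mat (σ : MulAut V) (f : Fin 4 → ZMod 2) : f ᵥ* mat σ = lin σ⁻¹ f := by
  rw [mat, Matrix.vecMul_transpose]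
  rw [← Matrix.toLin'_apply, Matrix.toLin'_toMatrix']

theorem mat_mul (σ τ : MulAut V) : mat (σ * τ) = mat σ * mat τ := by
  rw [mat, mat, mat, _root_.mul_inv_rev, lin_mul, LinearMap.toMatrix'_comp, Matrix.transpose_mul]

theorem mat_one : mat 1 = 1 := by
  rw [mat, inv_one, lin_one, LinearMap.toMatrix'_id, Matrix.transpose_one]

theorem det_mat (σ : MulAut V) : (mat σ).det = 1 := by
  have h1 : mat σ * mat σ⁻¹ = 1 := by rw [← mat_mul, mul_inv_cancel, mat_one]
  have h2 : (mat σ).det * (mat σ⁻¹).det = 1 := by rw [← Matrix.det_mul, h1, Matrix.det_one]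
  have h3 : (mat σ).det ≠ 0 := by
    intro h4; rw [h4, zero_mul] at h2; exact zero_ne_one h2
  revert h3
  generalize (mat σ).det = d
  revert d
  decide

/-- The stabilised vector. -/
def vec0 : Fin 5 → ZMod 2 := Pi.single 0 1

theorem smul_vec0 (g : Matrix.SpecialLinearGroup (Fin 5) (ZMod 2)) :
    g • vec0 = fun i => (g : Matrix (Fin 5) (Fin 5) (ZMod 2)) i 0 := by
  rw [Matrix.SpecialLinearGroup.smul_def]
  show (g : Matrix (Fin 5) (Fin 5) (ZMod 2)) *ᵥ vec0 = _
  funext i
  simp [vec0, Matrix.mulVec, dotProduct, Pi.single_apply]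

/-- The element of `SL(5,2)` with blocks `f`, `B`. -/
def slBlk (f : Fin 4 → ZMod 2) (B : Matrix (Fin 4) (Fin 4) (ZMod 2)) (hB : B.det = 1) :
    Matrix.SpecialLinearGroup (Fin 5) (ZMod 2) := ⟨blk f B, by rw [det_blk, hB]⟩

theorem slBlk_mem (f : Fin 4 → ZMod 2) (B : Matrix (Fin 4) (Fin 4) (ZMod 2)) (hB : B.det = 1) :
    slBlk f B hB ∈ MulAction.stabilizer (Matrix.SpecialLinearGroup (Fin 5) (ZMod 2)) vec0 := by
  rw [MulAction.mem_stabilizer_iff, smul_vec0]
  funext i
  refine Fin.cases ?_ (fun i => ?_) i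
  · show blk f B 0 0 = _
    simp [vec0]
  · show blk f B i.succ 0 = _
    simp [vec0]

/-- The homomorphism from the holomorph to the stabiliser. -/
noncomputable def toStab : (V ⋊[MonoidHom.id (MulAut V)] MulAut V) →*
    MulAction.stabilizer (Matrix.SpecialLinearGroup (Fin 5) (ZMod 2)) vec0 where
  toFun x := ⟨slBlk (x.left.toAdd ᵥ* mat x.right) (mat x.right) (det_mat _), slBlk_mem _ _ _⟩
  map_one' := by
    apply Subtype.ext
    apply Subtype.ext
    show blk ((0 : Fin 4 → ZMod 2) ᵥ* mat 1) (mat 1) = 1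
    rw [mat_one, Matrix.zero_vecMul, blk_one]
  map_mul' x y := by
    apply Subtype.ext
    apply Subtype.ext
    show blk ((x * y).left.toAdd ᵥ* mat (x * y).right) (mat (x * y).right)
      = blk (x.left.toAdd ᵥ* mat x.right) (mat x.right) * blk (y.left.toAdd ᵥ* mat y.right) (mat y.right)
    rw [blk_mul, SemidirectProduct.mul_right, mat_mul]
    congr 1
    have h1 : (x * y).left.toAdd = x.left.toAdd + lin x.right y.left.toAdd := rfl
    rw [h1, Matrix.add_vecMul, ← Matrix.vecMul_vecMul, ← Matrix.vecMul_vecMul]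
    rw [vecMul_mat x.right (lin x.right _)]
    have h2 : lin x.right⁻¹ (lin x.right y.left.toAdd) = y.left.toAdd := by
      have h3 := lin_mul x.right⁻¹ x.right
      rw [inv_mul_cancel, lin_one] at h3
      exact (LinearMap.congr_fun h3 _).symm
    rw [h2, add_comm]

theorem toStab_coe (x : V ⋊[MonoidHom.id (MulAut V)] MulAut V) :
    ((toStab x : Matrix.SpecialLinearGroup (Fin 5) (ZMod 2)) : Matrix (Fin 5) (Fin 5) (ZMod 2)) =
      blk (x.left.toAdd ᵥ* mat x.right) (mat x.right) := rfl

theorem toStab_bijective : Function.Bijective toStab := by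
  constructor
  · rw [injective_iff_map_eq_one]
    intro x hx
    have h1 : blk (x.left.toAdd ᵥ* mat x.right) (mat x.right) = 1 := by
      rw [← toStab_coe, hx]; rfl
    have h2 : mat x.right = 1 := by
      ext i j
      have h3 := congrFun (congrFun h1 i.succ) j.succ
      rw [blk_succ_succ] at h3
      rw [h3]; simp [Matrix.one_apply]
    have h3 : x.left.toAdd = 0 := by
      funext j
      have h4 := congrFun (congrFun h1 0) j.succ
      rw [blk_zero_succ, h2, Matrix.vecMul_one] at h4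
      rw [h4]; simp [(Fin.succ_ne_zero j).symm]
    have h4 : x.right = 1 := by
      have h5 : ∀ f, lin x.right⁻¹ f = f := by
        intro f
        rw [← vecMul_mat, h2, Matrix.vecMul_one]
      have h6 : x.right⁻¹ = 1 := by
        apply MulEquiv.ext
        intro v
        exact congrArg Multiplicative.ofAdd (h5 v.toAdd)
      exact inv_eq_one.1 h6
    exact SemidirectProduct.ext (congrArg Multiplicative.ofAdd h3) h4
  · rintro ⟨g, hg⟩
    rw [MulAction.mem_stabilizer_iff, smul_vec0] at hg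
    have h0 : (g : Matrix (Fin 5) (Fin 5) (ZMod 2)) 0 0 = 1 := by
      have := congrFun hg 0
      simpa [vec0] using this
    have h1 : ∀ i : Fin 4, (g : Matrix (Fin 5) (Fin 5) (ZMod 2)) i.succ 0 = 0 := by
      intro i
      have := congrFun hg i.succ
      simpa [vec0] using this
    have h2 := eq_blk _ h0 h1
    set f : Fin 4 → ZMod 2 := fun j => (g : Matrix (Fin 5) (Fin 5) (ZMod 2)) 0 j.succ with hf
    set B : Matrix (Fin 4) (Fin 4) (ZMod 2) :=
      Matrix.of fun i j => (g : Matrix (Fin 5) (Fin 5) (ZMod 2)) i.succ j.succ with hB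
    have hdet : B.det = 1 := by
      rw [← det_blk f B, ← h2]; exact g.2
    have hBu : IsUnit B.det := by rw [hdet]; exact isUnit_one
    have hB1 : B * B⁻¹ = 1 := Matrix.mul_nonsing_inv B hBu
    have hB2 : B⁻¹ * B = 1 := Matrix.nonsing_inv_mul B hBu
    -- the automorphism `f ↦ f B⁻¹`
    let σ : MulAut V :=
      { toFun := fun v => Multiplicative.ofAdd (v.toAdd ᵥ* B⁻¹)
        invFun := fun v => Multiplicative.ofAdd (v.toAdd ᵥ* B)
        left_inv := fun v => by
          show Multiplicative.ofAdd ((v.toAdd ᵥ* B⁻¹) ᵥ* B) = v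
          rw [Matrix.vecMul_vecMul, hB2, Matrix.vecMul_one]; rfl
        right_inv := fun v => by
          show Multiplicative.ofAdd ((v.toAdd ᵥ* B) ᵥ* B⁻¹) = v
          rw [Matrix.vecMul_vecMul, hB1, Matrix.vecMul_one]; rfl
        map_mul' := fun v w => by
          show Multiplicative.ofAdd ((v.toAdd + w.toAdd) ᵥ* B⁻¹) = _
          rw [Matrix.add_vecMul]; rfl }
    have hσ : mat σ = B := by
      have h3 : ∀ f, lin σ⁻¹ f = f ᵥ* B := fun f => rfl
      ext i j
      have h4 := congrFun (vecMul_mat σ (Pi.single i 1)) j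
      rw [h3] at h4
      simpa using h4
    refine ⟨⟨Multiplicative.ofAdd (f ᵥ* B⁻¹), σ⟩, ?_⟩
    apply Subtype.ext
    apply Subtype.ext
    rw [toStab_coe]
    show blk ((f ᵥ* B⁻¹) ᵥ* mat σ) (mat σ) = g
    rw [hσ, Matrix.vecMul_vecMul, hB2, Matrix.vecMul_one]
    exact h2.symm

/-- The holomorph of an elementary abelian group of order 16. -/
theorem nonempty_equiv_stabilizer {A : Type*} [Group A] (hsq : ∀ x : A, x * x = 1)
    (hcard : Nat.card A = 16) : Nonempty ((A ⋊[MonoidHom.id (MulAut A)] MulAut A) ≃*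
      MulAction.stabilizer (Matrix.SpecialLinearGroup (Fin 5) (ZMod 2)) vec0) := by
  obtain ⟨e⟩ := nonempty_equiv_vec hsq hcard
  refine ⟨(SemidirectProduct.congr (φ₁ := MonoidHom.id (MulAut A)) (φ₂ := MonoidHom.id (MulAut V)) e
    (MulAut.congr e) ?_).trans (MulEquiv.ofBijective toStab toStab_bijective)⟩
  intro σ
  apply MulEquiv.ext
  intro a
  show e (σ a) = e (σ (e.symm (e a)))
  rw [e.symm_apply_apply]

theorem vec0_ne_zero : vec0 ≠ 0 := by
  intro h
  have := congrFun h 0
  simp [vec0] at this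

end Model

end Cfsg.Agent.Held.AffineIso
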