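import Cfsg.Agent.Held.AffineBasic
import Cfsg.Agent.Held.AffineClose
import Cfsg.Agent.Held.AffineIso

/-!
# The affine case: final form (modulo the Z*-theorem, given as hypothesis)
-/

set_option autoImplicit false

universe u

namespace Cfsg.Agent.Held.AffineCase

open Cfsg Subgroup Cfsg.Agent.Held.AffineBasic

/-- If `z` is fused (in the Sylow 2-subgroup `T`) exactly to the involutions of a self-centralizing
elementary abelian `A` of order 16, `|C_G(z)| = 21504`, `C_G(z) ≤ N_G(A)` and `T` splits over `A`, then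
`G` is the stabiliser of a vector in `SL(5,2)`. -/
theorem nonempty_equiv {G : Type u} [Group G] [Finite G] {z : G} {T : Sylow 2 G} {A U : Subgroup G}
    (h : Hyp z T A U)
    (zs : ∀ (X : Type u) [Group X] [Finite X] (v : X), IsIsolatedInvolution v →
      ∀ x : X, v * x * v⁻¹ * x⁻¹ ∈ oddCore X) :
    ∃ v : Fin 5 → ZMod 2, v ≠ 0 ∧
      Nonempty (G ≃* MulAction.stabilizer (Matrix.SpecialLinearGroup (Fin 5) (ZMod 2)) v) := by
  have htop := AffineClose.normalizer_eq_top h zs
  have hn : A.Normal := Subgroup.normalizer_eq_top_iff.1 htop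
  obtain ⟨L, hL⟩ := h.exists_compl
  obtain ⟨e⟩ := AffineIso.nonempty_equiv_hol A L h.cent
    (fun g => hL.mul g (by rw [htop]; trivial)) hL.disj hL.aut
  obtain ⟨f⟩ := AffineIso.nonempty_equiv_stabilizer (A := A)
    (fun x => Subtype.ext (h.sq x x.2)) h.card
  exact ⟨AffineIso.vec0, AffineIso.vec0_ne_zero, ⟨e.trans f⟩⟩

end Cfsg.Agent.Held.AffineCase
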