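import Mathlib
import Cfsg.Prelude.Def_Involutions
import Cfsg.Agent.TwoFusion.StronglyEmbeddedBasic
import Cfsg.Agent.S1225

/-!
# A closing argument for the Held group

`not_stronglyEmbedded`: in a finite group `Y` a subgroup `K` in which `C_K(z)` is a Sylow
2-subgroup `J` of order 64 with the shape of the one of `L3(4)` is not strongly embedded.
`centralizer_le`: hence `C_G(B) ≤ H` for suitable four-groups `B`.
-/

set_option autoImplicit false

namespace Cfsg.Agent.Held.CentV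

open Cfsg Subgroup

/-- In a group of order 60 with a subgroup `D` of order 15, some element of order 5 of `D`
commutes with all commutators. -/
theorem exists_five {L : Type*} [Group L] [Finite L] (D : Subgroup L) (hD : Nat.card D = 15)
    (hL : Nat.card L = 60) : ∃ δ ∈ D, orderOf δ = 5 ∧ ∀ a b : L, Commute δ (a * b * a⁻¹ * b⁻¹) := by
  have f5 : Fact (Nat.Prime 5) := ⟨by norm_num⟩
  obtain ⟨δ', hδ'⟩ := exists_prime_orderOf_dvd_card' (G := D) 5 (by rw [hD]; norm_num)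
  obtain ⟨δ, hδD⟩ := δ'
  have hδ : orderOf δ = 5 := by rwa [Subgroup.orderOf_mk] at hδ'
  -- the subgroup generated by δ is normal in D
  have hP : Nat.card (zpowers δ) = 5 := by rw [Nat.card_zpowers, hδ]
  have hPD : zpowers δ ≤ D := by rw [zpowers_le]; exact hδD
  have hnD : ((zpowers δ).subgroupOf D).Normal := by
    apply Subgroup.normal_of_index_eq_minFac_card
    rw [hD]
    have h1 : Nat.card ((zpowers δ).subgroupOf D) = 5 := by
      rw [← hP]
      exact Nat.card_congr (Subgroup.subgroupOfEquivOfLe hPD).toEquiv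
    have h2 := Subgroup.card_mul_index ((zpowers δ).subgroupOf D)
    rw [h1, hD] at h2
    have h3 : ((zpowers δ).subgroupOf D).index = 3 := by omega
    rw [h3]; norm_num
  have hDN : D ≤ normalizer (zpowers δ : Set L) :=
    (Subgroup.normal_subgroupOf_iff_le_normalizer hPD).1 hnD
  -- Sylow
  have hidx : D.index = 4 := by
    have := Subgroup.card_mul_index D
    rw [hD, hL] at this; omega
  let P : Sylow 5 L := Sylow.ofCard (zpowers δ) (by
    rw [hP, hL]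
    have : (60 : ℕ).factorization 5 = 1 := by
      rw [show (60 : ℕ) = 5 ^ 1 * 12 by norm_num, Nat.factorization_mul (by norm_num) (by norm_num)]
      simp only [Finsupp.add_apply, Nat.factorization_pow, Finsupp.smul_apply]
      rw [Nat.Prime.factorization_self (by norm_num),
        Nat.factorization_eq_zero_of_not_dvd (by norm_num : ¬ 5 ∣ 12)]
      norm_num
    rw [this]; norm_num)
  have hcoe : (P : Subgroup L) = zpowers δ := rfl
  have h1 : Nat.card (Sylow 5 L) ≡ 1 [MOD 5] := card_sylow_modEq_one 5 L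
  have h2 : Nat.card (Sylow 5 L) = (normalizer (P : Set L)).index := P.card_eq_index_normalizer
  have h3 : (normalizer (zpowers δ : Set L)).index ∣ 4 := by
    rw [← hidx]; exact Subgroup.index_dvd_of_le hDN
  have h4 : (normalizer (zpowers δ : Set L)).index = 1 := by
    have h5 : Nat.card (Sylow 5 L) = (normalizer (zpowers δ : Set L)).index := h2
    rw [h5] at h1
    have h6 : (normalizer (zpowers δ : Set L)).index ≤ 4 := Nat.le_of_dvd (by norm_num) h3
    generalize (normalizer (zpowers δ : Set L)).index = n at *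
    interval_cases n
    · exact absurd h1 (by decide)
    · rfl
    · exact absurd h1 (by decide)
    · exact absurd h1 (by decide)
    · exact absurd h1 (by decide)
  have hn : (zpowers δ).Normal := by
    rw [Subgroup.index_eq_one] at h4
    exact Subgroup.normalizer_eq_top_iff.1 h4
  refine ⟨δ, hδD, hδ, ?_⟩
  intro a b
  have hcomm : ∀ f g : MulAut (zpowers δ), f * g = g * f := by
    intro f g
    apply (IsCyclic.mulAutMulEquiv (zpowers δ)).injective
    rw [map_mul, map_mul, mul_comm]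
  have h5 : MulAut.conjNormal (H := zpowers δ) (a * b * a⁻¹ * b⁻¹) = 1 := by
    rw [map_mul, map_mul, map_mul, map_inv, map_inv, hcomm (MulAut.conjNormal a)]
    group
  have h6 := congrArg (fun f => ((f ⟨δ, mem_zpowers δ⟩ : zpowers δ) : L)) h5
  simp only [MulAut.conjNormal_apply, MulAut.one_apply] at h6
  have h7 : (a * b * a⁻¹ * b⁻¹) * δ = δ * (a * b * a⁻¹ * b⁻¹) := by
    rw [mul_inv_eq_iff_eq_mul] at h6
    exact h6
  exact h7.symm

/-- a `2`-element of an odd order subgroup is trivial -/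
theorem eq_one_of_mem_of_mem {Y : Type*} [Group Y] [Finite Y] {D J : Subgroup Y}
    (hD : Odd (Nat.card D)) (hJ : ∃ n, Nat.card J = 2 ^ n) {x : Y} (h1 : x ∈ D) (h2 : x ∈ J) :
    x = 1 := by
  obtain ⟨n, hn⟩ := hJ
  have a1 : orderOf x ∣ Nat.card D := D.orderOf_dvd_natCard h1
  have a2 : orderOf x ∣ 2 ^ n := by rw [← hn]; exact J.orderOf_dvd_natCard h2
  have h3 : Nat.Coprime (Nat.card D) (2 ^ n) := by
    apply Nat.Coprime.pow_right
    exact Nat.coprime_two_right.2 hD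
  rw [← orderOf_eq_one_iff]
  exact Nat.eq_one_of_dvd_coprimes h3 a1 a2

/-- The configuration of `L3(4)` is not a strongly embedded subgroup. -/
theorem not_stronglyEmbedded {Y : Type*} [Group Y] [Finite Y] (K : Subgroup Y)
    (hK : IsStronglyEmbedded K) (z : Y) (hz : orderOf z = 2) (J V X : Subgroup Y)
    (hJK : J ≤ K) (hJ : Nat.card J = 64) (hV : Nat.card V = 16) (hX : Nat.card X = 4)
    (hXV : X ≤ V) (hVJ : V ≤ J) (hzX : z ∈ X) (hVe : ∀ v ∈ V, v * v = 1)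
    (hC : ∀ x, x * z = z * x → x ∈ J)
    (hVw : ∀ g, (∀ v ∈ V, g * v * g⁻¹ ∈ J) → g ∈ normalizer (V : Set Y))
    (hXc : ∀ g, (∀ j ∈ J, g * j * g⁻¹ ∈ J) → g ∈ normalizer (X : Set Y))
    (hJV : J ≤ normalizer (V : Set Y)) (y : Y) (hy : y ∈ K) (hyV : y ∈ normalizer (V : Set Y))
    (hyJ : ∀ j ∈ J, ∃ a ∈ J, ∃ v ∈ V, j = a * y * a⁻¹ * y⁻¹ * v) : False := by
  obtain ⟨u, huK, hu⟩ := TwoFusion.StronglyEmbeddedBasic.exists_involution_notMem hK
  set D : Subgroup Y := K ⊓ K.map (MulAut.conj u).toMonoidHom with hDdef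
  have hDodd : Odd (Nat.card D) := hK.2.2 u huK
  have hVab : ∀ v ∈ V, ∀ w ∈ V, v * w = w * v := by
    intro v hv w hw
    have h1 := hVe (v * w) (V.mul_mem hv hw)
    have h2 := hVe v hv
    have h3 := hVe w hw
    calc v * w = v * w * (v * w) * (v * w)⁻¹ := by group
      _ = (v * w)⁻¹ := by rw [h1, one_mul]
      _ = w⁻¹ * v⁻¹ := by group
      _ = w * v := by rw [inv_eq_of_mul_eq_one_left h2, inv_eq_of_mul_eq_one_left h3]
  have hzV : z ∈ V := hXV hzX
  have hzK : z ∈ K := hJK (hVJ hzV)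
  have hz1 : z ≠ 1 := by
    intro h; rw [h, orderOf_one] at hz; exact absurd hz (by norm_num)
  have hJ2 : ∃ n, Nat.card J = 2 ^ n := ⟨6, by rw [hJ]; norm_num⟩
  have hV2 : ∃ n, Nat.card V = 2 ^ n := ⟨4, by rw [hV]; norm_num⟩
  set D1 : Subgroup Y := D ⊓ normalizer (V : Set Y) with hD1
  have hDtrans : ∀ v ∈ V, v ≠ 1 → ∃ d ∈ D1, d * z * d⁻¹ = v := by
    intro v hv hv1
    have hv2 : orderOf v = 2 := orderOf_eq_prime (by rw [pow_two]; exact hVe v hv) hv1
    obtain ⟨d, hdD, hd⟩ := (S1225.result K hK u hu huK z v hz hzK hv2 (hJK (hVJ hv))).1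
    refine ⟨d, ⟨hdD, ?_⟩, hd⟩
    have h1 : d⁻¹ ∈ normalizer (V : Set Y) := by
      apply hVw
      intro w hw
      apply hC
      have h2 : w * (d * z * d⁻¹) = (d * z * d⁻¹) * w := by rw [hd]; exact hVab w hw v hv
      calc d⁻¹ * w * d⁻¹⁻¹ * z = d⁻¹ * (w * (d * z * d⁻¹)) * d := by group
        _ = d⁻¹ * ((d * z * d⁻¹) * w) * d := by rw [h2]
        _ = z * (d⁻¹ * w * d⁻¹⁻¹) := by group
    have h2 := (normalizer (V : Set Y)).inv_mem h1
    rwa [inv_inv] at h2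
  have hDJ : ∀ d ∈ D1, d ∈ J → d = 1 := fun d hd hdJ => eq_one_of_mem_of_mem hDodd hJ2 hd.1 hdJ
  have hnorm : ∀ g ∈ normalizer (V : Set Y), ∀ v, v ∈ V ↔ g * v * g⁻¹ ∈ V := fun g hg v =>
    Subgroup.mem_normalizer_iff.1 hg v
  -- the order of D1
  have hD1card : Nat.card D1 = 15 := by
    have h15 : Nat.card {v : V // v ≠ 1} = 15 := by
      have h1 : Nat.card {v : V // v ≠ 1} = Nat.card V - 1 := by
        have : Fintype V := Fintype.ofFinite V
        classical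
        rw [Nat.card_eq_fintype_card, Nat.card_eq_fintype_card, Fintype.card_subtype_compl,
          Fintype.card_subtype_eq]
      rw [h1, hV]
    rw [← h15]
    refine Nat.card_congr (Equiv.ofBijective (fun d : D1 => (⟨⟨(d : Y) * z * (d : Y)⁻¹,
      (hnorm d d.2.2 z).1 hzV⟩, ?_⟩ : {v : V // v ≠ 1})) ⟨?_, ?_⟩)
    · intro h
      have h1 : (d : Y) * z * (d : Y)⁻¹ = 1 := congrArg Subtype.val h
      apply hz1
      calc z = (d : Y)⁻¹ * ((d : Y) * z * (d : Y)⁻¹) * d := by group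
        _ = 1 := by rw [h1]; group
    · intro d d' h
      have h1 : (d : Y) * z * (d : Y)⁻¹ = (d' : Y) * z * (d' : Y)⁻¹ :=
        congrArg (fun w => ((w.1 : V) : Y)) h
      have h2 : (d' : Y)⁻¹ * d ∈ J := by
        apply hC
        calc (d' : Y)⁻¹ * d * z = (d' : Y)⁻¹ * ((d : Y) * z * (d : Y)⁻¹) * d := by group
          _ = (d' : Y)⁻¹ * ((d' : Y) * z * (d' : Y)⁻¹) * d := by rw [h1]
          _ = z * ((d' : Y)⁻¹ * d) := by group
      have h3 := hDJ _ (D1.mul_mem (D1.inv_mem d'.2) d.2) h2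
      apply Subtype.ext
      exact (inv_mul_eq_one.1 h3).symm
    · rintro ⟨⟨v, hv⟩, hv1⟩
      obtain ⟨d, hd, hdv⟩ := hDtrans v hv (fun h => hv1 (Subtype.ext h))
      exact ⟨⟨d, hd⟩, Subtype.ext (Subtype.ext hdv)⟩
  -- L = N_K(V)
  set L : Subgroup Y := K ⊓ normalizer (V : Set Y) with hLdef
  have hJL : J ≤ L := le_inf hJK hJV
  have hD1L : D1 ≤ L := fun d hd => ⟨hd.1.1, hd.2⟩
  have hVL : V ≤ L := hVJ.trans hJL
  have hLcard : Nat.card L = 15 * 64 := by
    rw [← hD1card, ← hJ, ← Nat.card_prod]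
    symm
    refine Nat.card_congr (Equiv.ofBijective (fun p : D1 × J => (⟨(p.1 : Y) * p.2,
      L.mul_mem (hD1L p.1.2) (hJL p.2.2)⟩ : L)) ⟨?_, ?_⟩)
    · rintro ⟨⟨d, hd⟩, ⟨j, hj⟩⟩ ⟨⟨d', hd'⟩, ⟨j', hj'⟩⟩ h
      have h1 : d * j = d' * j' := congrArg Subtype.val h
      have h2 : d'⁻¹ * d = j' * j⁻¹ := by
        calc d'⁻¹ * d = d'⁻¹ * (d * j) * j⁻¹ := by group
          _ = d'⁻¹ * (d' * j') * j⁻¹ := by rw [h1]
          _ = j' * j⁻¹ := by group
      have h3 := hDJ _ (D1.mul_mem (D1.inv_mem hd') hd) (by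
        rw [h2]; exact J.mul_mem hj' (J.inv_mem hj))
      have h4 : d = d' := (inv_mul_eq_one.1 h3).symm
      subst h4
      have h5 : j = j' := mul_left_cancel h1
      subst h5
      rfl
    · rintro ⟨l, hl⟩
      have h1 : l * z * l⁻¹ ∈ V := (hnorm l hl.2 z).1 hzV
      have h2 : l * z * l⁻¹ ≠ 1 := by
        intro h
        apply hz1
        calc z = l⁻¹ * (l * z * l⁻¹) * l := by group
          _ = 1 := by rw [h]; group
      obtain ⟨d, hd, hdv⟩ := hDtrans _ h1 h2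
      have h3 : d⁻¹ * l ∈ J := by
        apply hC
        calc d⁻¹ * l * z = d⁻¹ * (l * z * l⁻¹) * l := by group
          _ = d⁻¹ * (d * z * d⁻¹) * l := by rw [hdv]
          _ = z * (d⁻¹ * l) := by group
      exact ⟨⟨⟨d, hd⟩, ⟨_, h3⟩⟩, Subtype.ext (by show d * (d⁻¹ * l) = l; group)⟩
  -- the quotient L / V
  have hVn : (V.subgroupOf L).Normal :=
    (Subgroup.normal_subgroupOf_iff_le_normalizer hVL).2 inf_le_right
  let q : L →* L ⧸ V.subgroupOf L := QuotientGroup.mk' _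
  have hqcard : Nat.card (L ⧸ V.subgroupOf L) = 60 := by
    have h1 := Subgroup.card_eq_card_quotient_mul_card_subgroup (V.subgroupOf L)
    have h2 : Nat.card (V.subgroupOf L) = 16 := by
      rw [← hV]; exact Nat.card_congr (Subgroup.subgroupOfEquivOfLe hVL).toEquiv
    rw [h2, hLcard] at h1
    omega
  have hqD : Nat.card ((D1.subgroupOf L).map q) = 15 := by
    rw [← hD1card]
    have h1 : Function.Injective (fun d : D1 => (⟨q ⟨d, hD1L d.2⟩, ⟨⟨d, hD1L d.2⟩, d.2, rfl⟩⟩ :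
        (D1.subgroupOf L).map q)) := by
      intro d d' h
      have h2 : q ⟨d, hD1L d.2⟩ = q ⟨d', hD1L d'.2⟩ := congrArg Subtype.val h
      have h3 : (⟨d, hD1L d.2⟩ : L)⁻¹ * ⟨d', hD1L d'.2⟩ ∈ V.subgroupOf L := QuotientGroup.eq.1 h2
      have h4 : (d : Y)⁻¹ * d' ∈ V := h3
      have h5 := hDJ _ (D1.mul_mem (D1.inv_mem d.2) d'.2) (hVJ h4)
      exact Subtype.ext (inv_mul_eq_one.1 h5)
    refine (Nat.card_congr (Equiv.ofBijective _ ⟨h1, ?_⟩)).symm
    rintro ⟨_, ⟨l, hl, rfl⟩⟩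
    exact ⟨⟨l, hl⟩, rfl⟩
  obtain ⟨δ', hδ', hδ5, hδc⟩ := exists_five _ hqD hqcard
  obtain ⟨⟨δ, hδL⟩, hδD, rfl⟩ := hδ'
  have hδD' : δ ∈ D1 := hδD
  have hδ5' : δ ^ 5 = 1 := by
    apply hDJ _ (D1.pow_mem hδD' 5)
    apply hVJ
    have h1 : q ⟨δ, hδL⟩ ^ 5 = 1 := by rw [← hδ5]; exact pow_orderOf_eq_one _
    rw [← map_pow] at h1
    have h2 : (⟨δ, hδL⟩ : L) ^ 5 ∈ V.subgroupOf L := (QuotientGroup.eq_one_iff _).1 h1
    exact h2
  have hyL : y ∈ L := ⟨hy, hyV⟩
  have hδJ : ∀ j ∈ J, δ * j * δ⁻¹ ∈ J := by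
    intro j hj
    obtain ⟨a, ha, v, hv, hjv⟩ := hyJ j hj
    have h1 := hδc (q ⟨a, hJL ha⟩) (q ⟨y, hyL⟩)
    have h2 : q (⟨δ, hδL⟩ * (⟨a, hJL ha⟩ * ⟨y, hyL⟩ * ⟨a, hJL ha⟩⁻¹ * ⟨y, hyL⟩⁻¹)) =
        q ((⟨a, hJL ha⟩ * ⟨y, hyL⟩ * ⟨a, hJL ha⟩⁻¹ * ⟨y, hyL⟩⁻¹) * ⟨δ, hδL⟩) := by
      rw [map_mul, map_mul, map_mul, map_mul, map_mul, map_inv, map_inv]
      exact h1.eq
    have h3' : (⟨δ, hδL⟩ * (⟨a, hJL ha⟩ * ⟨y, hyL⟩ * ⟨a, hJL ha⟩⁻¹ * ⟨y, hyL⟩⁻¹) : L)⁻¹ *
        ((⟨a, hJL ha⟩ * ⟨y, hyL⟩ * ⟨a, hJL ha⟩⁻¹ * ⟨y, hyL⟩⁻¹) * ⟨δ, hδL⟩) ∈ V.subgroupOf L :=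
      QuotientGroup.eq.1 h2
    have h3 : (δ * (a * y * a⁻¹ * y⁻¹))⁻¹ * ((a * y * a⁻¹ * y⁻¹) * δ) ∈ V := h3'
    have h4 : δ ∈ normalizer (V : Set Y) := hδD'.2
    -- δ c δ⁻¹ ∈ V c
    set c := a * y * a⁻¹ * y⁻¹ with hc
    have h5 : c ∈ J := by
      have : c = j * v⁻¹ := by rw [hjv]; group
      rw [this]; exact J.mul_mem hj (J.inv_mem (hVJ hv))
    have h6 : δ * c * δ⁻¹ = c * ((δ) * ((δ * c)⁻¹ * (c * δ)) * δ⁻¹)⁻¹ := by group
    rw [hjv]
    have h7 : δ * (c * v) * δ⁻¹ = (δ * c * δ⁻¹) * (δ * v * δ⁻¹) := by group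
    rw [h7, h6]
    refine J.mul_mem (J.mul_mem h5 (J.inv_mem (hVJ ?_))) (hVJ ((hnorm δ h4 v).1 hv))
    exact (hnorm δ h4 _).1 h3
  have hδX := hXc δ hδJ
  -- δ commutes with X
  have hδz : δ * z = z * δ := by
    let φ : normalizer (X : Set Y) →* MulAut X := X.normalizerMonoidHom
    let ψ : MulAut X →* Equiv.Perm X := MulAut.toPerm X
    have h1 : (ψ (φ ⟨δ, hδX⟩)) ^ 5 = 1 := by
      rw [← map_pow, ← map_pow]
      have : (⟨δ, hδX⟩ : normalizer (X : Set Y)) ^ 5 = 1 := Subtype.ext hδ5'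
      rw [this, map_one, map_one]
    have h2 : orderOf (ψ (φ ⟨δ, hδX⟩)) ∣ 5 := orderOf_dvd_of_pow_eq_one h1
    have h3 : orderOf (ψ (φ ⟨δ, hδX⟩)) ∣ 24 := by
      have : Nat.card (Equiv.Perm X) = 24 := by
        rw [Nat.card_perm, hX]; rfl
      rw [← this]; exact orderOf_dvd_natCard _
    have h4 : orderOf (ψ (φ ⟨δ, hδX⟩)) = 1 :=
      Nat.eq_one_of_dvd_coprimes (by norm_num : Nat.Coprime 5 24) h2 h3
    rw [orderOf_eq_one_iff] at h4
    have h5 : (ψ (φ ⟨δ, hδX⟩)) ⟨z, hzX⟩ = ⟨z, hzX⟩ := by rw [h4]; rfl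
    have h6 : δ * z * δ⁻¹ = z := congrArg Subtype.val h5
    rw [mul_inv_eq_iff_eq_mul] at h6
    exact h6
  have h1 := hDJ δ hδD' (hC δ hδz)
  rw [show (⟨δ, hδL⟩ : L) = 1 from Subtype.ext h1, map_one, orderOf_one] at hδ5
  exact absurd hδ5 (by norm_num)

/-- the order of the image in the quotient -/
theorem card_map_mk {Y : Type*} [Group Y] [Finite Y] (N A : Subgroup Y) [N.Normal] (h : N ≤ A) :
    Nat.card (A.map (QuotientGroup.mk' N)) * Nat.card N = Nat.card A := by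
  have h1 : (A.map (QuotientGroup.mk' N)).index = A.index := by
    apply Subgroup.index_map_eq
    · exact QuotientGroup.mk'_surjective N
    · rw [QuotientGroup.ker_mk']; exact h
  have h2 := Subgroup.card_mul_index (A.map (QuotientGroup.mk' N))
  have h3 := Subgroup.card_mul_index A
  have h4 := Subgroup.card_eq_card_quotient_mul_card_subgroup N
  rw [h1] at h2
  have h5 : 0 < A.index := Nat.pos_of_ne_zero Subgroup.index_ne_zero_of_finite
  apply Nat.eq_of_mul_eq_mul_right h5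
  calc Nat.card (A.map (QuotientGroup.mk' N)) * Nat.card N * A.index
      = (Nat.card (A.map (QuotientGroup.mk' N)) * A.index) * Nat.card N := by ring
    _ = Nat.card Y := by rw [h2, h4]
    _ = _ := h3.symm

/-- some power of `x` lies outside `J` and has its square in `J` -/
theorem exists_sq {Y : Type*} [Group Y] {J : Subgroup Y} {x : Y} (hx : x ∉ J) {k : ℕ}
    (hk : x ^ 2 ^ k ∈ J) : ∃ i, x ^ 2 ^ i ∉ J ∧ x ^ 2 ^ i * x ^ 2 ^ i ∈ J := by
  induction k with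
  | zero => exact absurd (by simpa using hk) hx
  | succ k ih =>
    by_cases h : x ^ 2 ^ k ∈ J
    · exact ih h
    · refine ⟨k, h, ?_⟩
      rw [← pow_add]
      have : 2 ^ k + 2 ^ k = 2 ^ (k + 1) := by ring
      rw [this]; exact hk

/-- A `2`-subgroup `J` such that no element `x ∉ J` normalises `J` with `x ^ 2 ∈ J` contains a
conjugate of every `2`-element. -/
theorem exists_conj_mem {M : Type*} [Group M] [Finite M] (J : Subgroup M) (hJ : IsPGroup 2 J)
    (hS : ∀ x : M, (∀ j ∈ J, x * j * x⁻¹ ∈ J) → x * x ∈ J → x ∈ J) (m : M) (k : ℕ)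
    (hm : m ^ 2 ^ k = 1) : ∃ h : M, h * m * h⁻¹ ∈ J := by
  have f2 : Fact (Nat.Prime 2) := ⟨Nat.prime_two⟩
  obtain ⟨S, hJS⟩ := hJ.exists_le_sylow
  have hSJ : (S : Subgroup M) ≤ J := by
    by_contra hcon
    have h1 : J.subgroupOf S < ⊤ := by
      rw [lt_top_iff_ne_top]
      intro h
      apply hcon
      rwa [Subgroup.subgroupOf_eq_top] at h
    have hnil : Group.IsNilpotent S := S.isPGroup'.isNilpotent
    have hnc : NormalizerCondition S := Group.normalizerCondition_of_isNilpotent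
    have h2 := hnc _ h1
    obtain ⟨x, hxN, hxJ⟩ := SetLike.exists_of_lt h2
    obtain ⟨k, hk⟩ := S.isPGroup' x
    obtain ⟨i, hi1, hi2⟩ := exists_sq hxJ (k := k) (by rw [hk]; exact one_mem _)
    have hxi : x ^ 2 ^ i ∈ normalizer ((J.subgroupOf S : Subgroup S) : Set S) :=
      Subgroup.pow_mem _ hxN _
    apply hi1
    show ((x ^ 2 ^ i : S) : M) ∈ J
    apply hS
    · intro j hj
      exact (Subgroup.mem_normalizer_iff.1 hxi ⟨j, hJS hj⟩).1 hj
    · exact hi2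
  have hmp : IsPGroup 2 (zpowers m) := by
    intro y
    obtain ⟨n, hn⟩ := Subgroup.mem_zpowers_iff.1 y.2
    refine ⟨k, Subtype.ext ?_⟩
    show (y : M) ^ 2 ^ k = 1
    rw [← hn, ← zpow_natCast, ← zpow_mul, mul_comm, zpow_mul, zpow_natCast, hm, one_zpow]
  obtain ⟨Q, hQ⟩ := hmp.exists_le_sylow
  obtain ⟨h, hh⟩ := MulAction.exists_smul_eq M Q S
  refine ⟨h, hSJ ?_⟩
  rw [← hh]
  show h * m * h⁻¹ ∈ ((h • Q : Sylow 2 M) : Subgroup M)
  rw [Sylow.coe_subgroup_smul]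
  have := Subgroup.smul_mem_pointwise_smul m (MulAut.conj h) (Q : Subgroup M) (hQ (mem_zpowers m))
  simpa using this

/-- The closing argument for a four-group `B` consisting of non-conjugates of `z`:
`C_G(B) ≤ H`. -/
theorem centralizer_le {G : Type*} [Group G] [Finite G] (z : G) (H B X V J : Subgroup G) (hA : ∀ g, g * z * g⁻¹ ∈ H → g ∈ H) (hBX : B ≤ X) (hXV : X ≤ V)
    (hVJ : V ≤ J) (hJH : J ≤ H) (hB : Nat.card B = 4) (hX : Nat.card X = 16)
    (hV : Nat.card V = 64) (hJ : Nat.card J = 256) (hVe : ∀ v ∈ V, v * v = 1) (hzX : z ∈ X)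
    (hzB : z ∉ B) (hJB : J ≤ centralizer (B : Set G))
    (hCzB : ∀ x, x * z = z * x → x ∈ centralizer (B : Set G) → x ∈ J)
    (hJz : ∀ x ∈ J, x * z = z * x)
    (hJS : ∀ x ∈ centralizer (B : Set G), (∀ j ∈ J, x * j * x⁻¹ ∈ J) → x * x ∈ J → x ∈ J)
    (hcoset : ∀ x ∈ J, x ∉ B → x * x ∈ B → ∃ b ∈ B, ∃ g, g * z * g⁻¹ = x * b)
    (hVw : ∀ g, (∀ v ∈ V, g * v * g⁻¹ ∈ J) → g ∈ normalizer (V : Set G))
    (hXc : ∀ g, (∀ j ∈ J, g * j * g⁻¹ ∈ J) → g ∈ normalizer (X : Set G))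
    (hJV : J ≤ normalizer (V : Set G)) (y : G) (hyH : y ∈ H)
    (hyB : y ∈ centralizer (B : Set G)) (hyV : y ∈ normalizer (V : Set G))
    (hyJ : ∀ j ∈ J, ∃ a ∈ J, ∃ v ∈ V, j = a * y * a⁻¹ * y⁻¹ * v) :
    centralizer (B : Set G) ≤ H := by
  have f2 : Fact (Nat.Prime 2) := ⟨Nat.prime_two⟩
  by_contra hYH
  set Y : Subgroup G := centralizer (B : Set G) with hY
  have hBY : B ≤ Y := (hBX.trans (hXV.trans hVJ)).trans hJB
  have hBH : B ≤ H := (hBX.trans (hXV.trans hVJ)).trans hJH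
  have hJp : IsPGroup 2 J := IsPGroup.of_card (n := 8) (by rw [hJ]; norm_num)
  have hcomm : ∀ y ∈ Y, ∀ b ∈ B, y * b = b * y := by
    intro y hy b hb
    exact (Subgroup.mem_centralizer_iff.1 hy b hb).symm
  -- a 2-element of H ∩ Y modulo B is conjugate into J
  have step0 : ∀ x ∈ H, x ∈ Y → x * x ∈ B → ∃ h ∈ H, h ∈ Y ∧ h * x * h⁻¹ ∈ J := by
    intro x hxH hxY hxx
    let M : Subgroup G := H ⊓ Y
    have hJM : J ≤ M := le_inf hJH hJB
    obtain ⟨h, hh⟩ := exists_conj_mem (M := M) (J.subgroupOf M)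
      (hJp.comap_of_injective M.subtype M.subtype_injective) (by
        intro x h1 h2
        exact hJS (x : G) x.2.2 (fun j hj => h1 ⟨j, hJM hj⟩ hj) h2)
      ⟨x, hxH, hxY⟩ 2 (by
        apply Subtype.ext
        show x ^ 2 ^ 2 = 1
        have h1 := hVe _ (hXV (hBX hxx))
        calc x ^ 2 ^ 2 = (x * x) * (x * x) := by norm_num [pow_succ, mul_assoc]
          _ = 1 := h1)
    exact ⟨h, h.2.1, h.2.2, hh⟩
  have step1 : ∀ n ∈ Y, ∀ x ∈ H, x ∈ Y → x ∉ B → x * x ∈ B → n⁻¹ * x * n ∈ H → n ∈ H := by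
    intro n hn x hxH hxY hxB hxx hnx
    obtain ⟨h, hhH, hhY, hhx⟩ := step0 x hxH hxY hxx
    have h1 : h * x * h⁻¹ ∉ B := by
      intro h1
      apply hxB
      have h2 : h⁻¹ * (h * x * h⁻¹) * h = h * x * h⁻¹ := by
        rw [mul_assoc, ← hcomm h hhY _ h1]; group
      have h3 : x = h * x * h⁻¹ := by
        rw [← h2]; group
      rw [h3]; exact h1
    have h2 : (h * x * h⁻¹) * (h * x * h⁻¹) ∈ B := by
      have : (h * x * h⁻¹) * (h * x * h⁻¹) = x * x := by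
        calc (h * x * h⁻¹) * (h * x * h⁻¹) = h * (x * x) * h⁻¹ := by group
          _ = x * x := by rw [hcomm h hhY _ hxx]; group
      rw [this]; exact hxx
    obtain ⟨b, hb, g, hg⟩ := hcoset _ hhx h1 h2
    have h3 : g ∈ H := by
      apply hA
      rw [hg]
      exact H.mul_mem (H.mul_mem (H.mul_mem hhH hxH) (H.inv_mem hhH)) (hBH hb)
    have h4 : n⁻¹ * h⁻¹ * g ∈ H := by
      apply hA
      have h5 : n⁻¹ * h⁻¹ * g * z * (n⁻¹ * h⁻¹ * g)⁻¹ = (n⁻¹ * x * n) * b := by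
        calc n⁻¹ * h⁻¹ * g * z * (n⁻¹ * h⁻¹ * g)⁻¹
            = n⁻¹ * h⁻¹ * (g * z * g⁻¹) * h * n := by group
          _ = n⁻¹ * (x * (h⁻¹ * (b * h))) * n := by rw [hg]; group
          _ = n⁻¹ * (x * b) * n := by rw [← hcomm h hhY b hb]; group
          _ = (n⁻¹ * x * n) * (n⁻¹ * (b * n)) := by group
          _ = (n⁻¹ * x * n) * b := by rw [← hcomm n hn b hb]; group
      rw [h5]
      exact H.mul_mem hnx (hBH hb)
    have h5 : n⁻¹ = (n⁻¹ * h⁻¹ * g) * g⁻¹ * h := by group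
    have h6 : n⁻¹ ∈ H := by
      rw [h5]
      exact H.mul_mem (H.mul_mem h4 (H.inv_mem h3)) hhH
    have h7 := H.inv_mem h6
    rwa [inv_inv] at h7
  -- the quotient
  let B' : Subgroup Y := B.subgroupOf Y
  have hB'n : B'.Normal := by
    constructor
    intro b hb g
    have h1 : (b : G) ∈ B := hb
    show (g : G) * b * (g : G)⁻¹ ∈ B
    rw [hcomm g g.2 b h1]
    simpa using h1
  let q : Y →* Y ⧸ B' := QuotientGroup.mk' B'
  have hqker : ∀ n : Y, q n = 1 ↔ (n : G) ∈ B := fun n => QuotientGroup.eq_one_iff n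
  -- images of subgroups between B and Y
  have himg : ∀ A : Subgroup G, B ≤ A → ∀ n : Y, q n ∈ (A.subgroupOf Y).map q ↔ (n : G) ∈ A := by
    intro A hBA n
    constructor
    · rintro ⟨m, hm, hmn⟩
      have h1 : (m : Y)⁻¹ * n ∈ B' := QuotientGroup.eq.1 hmn
      have h2 : ((m : Y) : G)⁻¹ * n ∈ B := h1
      have h3 : (n : G) = m * ((m : G)⁻¹ * n) := by group
      rw [h3]
      exact A.mul_mem hm (hBA h2)
    · intro hn
      exact ⟨n, hn, rfl⟩
  have hcard : ∀ A : Subgroup G, B ≤ A → A ≤ Y →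
      Nat.card ((A.subgroupOf Y).map q) * 4 = Nat.card A := by
    intro A hBA hAY
    have h1 := card_map_mk B' (A.subgroupOf Y) (by
      intro x hx
      exact hBA hx)
    have h2 : Nat.card B' = 4 := by
      rw [← hB]; exact Nat.card_congr (Subgroup.subgroupOfEquivOfLe hBY).toEquiv
    have h3 : Nat.card (A.subgroupOf Y) = Nat.card A :=
      Nat.card_congr (Subgroup.subgroupOfEquivOfLe hAY).toEquiv
    rw [h2, h3] at h1
    exact h1
  let K := (H.subgroupOf Y).map q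
  have hzY : z ∈ Y := hJB (hVJ (hXV hzX))
  have hVY : V ≤ Y := hVJ.trans hJB
  have hXY : X ≤ Y := hXV.trans hVY
  have hBV : B ≤ V := hBX.trans hXV
  have hBJ : B ≤ J := hBV.trans hVJ
  have hzz : z * z = 1 := hVe z (hXV hzX)
  have hqz : orderOf (q ⟨z, hzY⟩) = 2 := by
    apply orderOf_eq_prime
    · rw [← map_pow, hqker]
      show z ^ 2 ∈ B
      rw [pow_two, hzz]; exact B.one_mem
    · rw [Ne, hqker]; exact hzB
  have hSE : IsStronglyEmbedded K := by
    refine ⟨?_, ?_, ?_⟩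
    · intro htop
      apply hYH
      intro n hn
      have h1 : q ⟨n, hn⟩ ∈ K := by rw [htop]; trivial
      exact (himg H hBH ⟨n, hn⟩).1 h1
    · have hzK : q ⟨z, hzY⟩ ∈ K := (himg H hBH ⟨z, hzY⟩).2 (hJH (hVJ (hXV hzX)))
      have h1 : orderOf (⟨q ⟨z, hzY⟩, hzK⟩ : K) = 2 := by
        rw [Subgroup.orderOf_mk]; exact hqz
      rw [even_iff_two_dvd, ← h1]
      exact orderOf_dvd_natCard _
    · intro w hw
      obtain ⟨n, rfl⟩ := QuotientGroup.mk'_surjective B' w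
      rw [← Nat.not_even_iff_odd, even_iff_two_dvd]
      intro hdvd
      obtain ⟨w, hw2⟩ := exists_prime_orderOf_dvd_card' 2 hdvd
      obtain ⟨m, hm⟩ := QuotientGroup.mk'_surjective B' (w : Y ⧸ B')
      have hw1 : orderOf (w : Y ⧸ B') = 2 := by rw [← hw2]; exact Subgroup.orderOf_coe w
      have hm' : q m = w := hm
      apply hw
      show q n ∈ K
      rw [himg H hBH]
      apply step1 n n.2 m
      · rw [← himg H hBH, hm']
        exact w.2.1
      · exact m.2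
      · rw [← hqker, hm']
        intro h
        rw [h, orderOf_one] at hw1
        exact absurd hw1 (by norm_num)
      · have h1 : (w : Y ⧸ B') * w = 1 := by
          have := pow_orderOf_eq_one (w : Y ⧸ B')
          rwa [hw1, pow_two] at this
        rw [← hm', ← map_mul, hqker] at h1
        exact h1
      · obtain ⟨v, hv, hvw⟩ := w.2.2
        have h1 : q n * v * (q n)⁻¹ = q m := by rw [hm']; exact hvw
        have h2 : v = q (n⁻¹ * m * n) := by
          rw [map_mul, map_mul, ← h1, map_inv]; group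
        rw [h2] at hv
        exact (himg H hBH (n⁻¹ * m * n)).1 hv
  have hYmul : ∀ a ∈ Y, ∀ b ∈ Y, a * b * a⁻¹ ∈ Y := fun a ha b hb =>
    Y.mul_mem (Y.mul_mem ha hb) (Y.inv_mem ha)
  have hnrm : ∀ A : Subgroup G, B ≤ A → ∀ n : Y, (n : G) ∈ normalizer (A : Set G) →
      q n ∈ normalizer (((A.subgroupOf Y).map q : Subgroup (Y ⧸ B')) : Set (Y ⧸ B')) := by
    intro A hBA n hn
    rw [Subgroup.mem_normalizer_iff]
    intro w
    obtain ⟨m, rfl⟩ := QuotientGroup.mk'_surjective B' w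
    show q m ∈ (A.subgroupOf Y).map q ↔ q n * q m * (q n)⁻¹ ∈ (A.subgroupOf Y).map q
    rw [← map_inv, ← map_mul, ← map_mul, himg A hBA, himg A hBA]
    exact Subgroup.mem_normalizer_iff.1 hn m
  refine not_stronglyEmbedded K hSE (q ⟨z, hzY⟩) hqz ((J.subgroupOf Y).map q)
    ((V.subgroupOf Y).map q) ((X.subgroupOf Y).map q) ?_ ?_ ?_ ?_ ?_ ?_ ?_ ?_ ?_ ?_ ?_ ?_
    (q ⟨y, hyB⟩) ?_ ?_ ?_
  · exact Subgroup.map_mono (fun x hx => hJH hx)
  · have := hcard J hBJ hJB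
    rw [hJ] at this; omega
  · have := hcard V hBV hVY
    rw [hV] at this; omega
  · have := hcard X hBX hXY
    rw [hX] at this; omega
  · exact Subgroup.map_mono (fun x hx => hXV hx)
  · exact Subgroup.map_mono (fun x hx => hVJ hx)
  · exact (himg X hBX ⟨z, hzY⟩).2 hzX
  · rintro _ ⟨v, hv, rfl⟩
    rw [← map_mul, hqker]
    show (v : G) * v ∈ B
    rw [hVe v hv]; exact B.one_mem
  · intro w hw
    obtain ⟨x, rfl⟩ := QuotientGroup.mk'_surjective B' w
    show q x ∈ (J.subgroupOf Y).map q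
    rw [himg J hBJ]
    have h1 : q (x * ⟨z, hzY⟩) = q (⟨z, hzY⟩ * x) := by
      rw [map_mul, map_mul]; exact hw
    have h2 : (x * ⟨z, hzY⟩)⁻¹ * (⟨z, hzY⟩ * x) ∈ B' := QuotientGroup.eq.1 h1
    have h3' : ((x : G) * z)⁻¹ * (z * x) ∈ B := h2
    obtain ⟨b, hb⟩ : ∃ b, b = ((x : G) * z)⁻¹ * (z * x) := ⟨_, rfl⟩
    have h3 : b ∈ B := by rw [hb]; exact h3'
    have h4 : z * x = x * z * b := by rw [hb]; group
    have hbb : b * b = 1 := hVe b (hBV h3)
    have hxb := hcomm x x.2 b h3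
    have hzb := hcomm z hzY b h3
    -- x z x⁻¹ = z b
    have h5 : (x : G) * z * (x : G)⁻¹ = z * b := by
      rw [mul_inv_eq_iff_eq_mul]
      calc (x : G) * z = x * z * b * b := by rw [mul_assoc, hbb, mul_one]
        _ = z * x * b := by rw [← h4]
        _ = z * b * x := by rw [mul_assoc, hxb, ← mul_assoc]
    have hcz : ∀ j : G, j * z = z * j → j ∈ Y → ((x : G) * j * (x : G)⁻¹) * z = z * (x * j * (x : G)⁻¹) := by
      intro j hj hjY
      have h6 : ((x : G) * j * (x : G)⁻¹) * (z * b) = (z * b) * (x * j * (x : G)⁻¹) := by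
        rw [← h5]
        calc (x : G) * j * (x : G)⁻¹ * (x * z * (x : G)⁻¹) = x * (j * z) * (x : G)⁻¹ := by group
          _ = x * (z * j) * (x : G)⁻¹ := by rw [hj]
          _ = _ := by group
      have h7 := hcomm _ (hYmul x x.2 j hjY) b h3
      have h8 : ((x : G) * j * (x : G)⁻¹) * z * b = z * (x * j * (x : G)⁻¹) * b := by
        calc ((x : G) * j * (x : G)⁻¹) * z * b = ((x : G) * j * (x : G)⁻¹) * (z * b) := by group
          _ = (z * b) * (x * j * (x : G)⁻¹) := h6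
          _ = z * (b * (x * j * (x : G)⁻¹)) := by group
          _ = z * ((x * j * (x : G)⁻¹) * b) := by rw [h7]
          _ = _ := by group
      exact mul_right_cancel h8
    apply hJS x x.2
    · intro j hj
      exact hCzB _ (hcz j (hJz j hj) (hJB hj)) (hYmul x x.2 j (hJB hj))
    · apply hCzB _ _ (Y.mul_mem x.2 x.2)
      have h6 : (x : G) * x * z * ((x : G) * x)⁻¹ = z := by
        calc (x : G) * x * z * ((x : G) * x)⁻¹ = x * (x * z * (x : G)⁻¹) * (x : G)⁻¹ := by group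
          _ = x * (z * b) * (x : G)⁻¹ := by rw [h5]
          _ = (x * z * (x : G)⁻¹) * (x * b * (x : G)⁻¹) := by group
          _ = z * b * b := by rw [h5, hxb]; group
          _ = z := by rw [mul_assoc, hbb, mul_one]
      rw [mul_inv_eq_iff_eq_mul] at h6
      exact h6
  · intro w hw
    obtain ⟨g, rfl⟩ := QuotientGroup.mk'_surjective B' w
    apply hnrm V hBV
    apply hVw
    intro v hv
    have h1 := hw (q ⟨v, hVY hv⟩) ((himg V hBV ⟨v, hVY hv⟩).2 hv)
    have h2 : q (g * ⟨v, hVY hv⟩ * g⁻¹) ∈ (J.subgroupOf Y).map q := by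
      rw [map_mul, map_mul, map_inv]; exact h1
    exact (himg J hBJ _).1 h2
  · intro w hw
    obtain ⟨g, rfl⟩ := QuotientGroup.mk'_surjective B' w
    apply hnrm X hBX
    apply hXc
    intro v hv
    have h1 := hw (q ⟨v, hJB hv⟩) ((himg J hBJ ⟨v, hJB hv⟩).2 hv)
    have h2 : q (g * ⟨v, hJB hv⟩ * g⁻¹) ∈ (J.subgroupOf Y).map q := by
      rw [map_mul, map_mul, map_inv]; exact h1
    exact (himg J hBJ _).1 h2
  · rintro _ ⟨j, hj, rfl⟩
    exact hnrm V hBV j (hJV hj)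
  · exact (himg H hBH ⟨y, hyB⟩).2 hyH
  · exact hnrm V hBV ⟨y, hyB⟩ hyV
  · rintro _ ⟨j, hj, rfl⟩
    obtain ⟨a, ha, v, hv, hjv⟩ := hyJ j hj
    refine ⟨q ⟨a, hJB ha⟩, (himg J hBJ ⟨a, hJB ha⟩).2 ha, q ⟨v, hVY hv⟩,
      (himg V hBV ⟨v, hVY hv⟩).2 hv, ?_⟩
    rw [← map_mul, ← map_inv, ← map_mul, ← map_inv, ← map_mul, ← map_mul]
    congr 1
    exact Subtype.ext hjv

end Cfsg.Agent.Held.CentV
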