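import Cfsg.Agent.Held.Code

/-!
# The relations of the elements `y1`, `y2` (Held type)

`x i j` (0-based) are the root elements.  `Side x t y` are the relations of `y = y1`; the relations of
`y2` are `Side (mir x) t y2`.
-/

set_option autoImplicit false

namespace Cfsg.Agent.Held.Config

section
variable {G : Type*} [Group G]

/-- The relations of the element `y` of order three with the root elements `x i j`. -/
structure Side (x : ℕ → ℕ → G) (t : ℕ) (y : G) : Prop where
  cube : y ^ 3 = 1
  inv : x 3 4 * y * x 3 4 = y⁻¹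
  act3 : ∀ i < 3, x i 3 * y = y * x i 4
  act4 : ∀ i < 3, x i 4 * y = y * (x i 3 * x i 4)
  x01 : x 0 1 * y = y * (x 0 1 * (x 0 3 * x 2 3) ^ t)
  x02 : x 0 2 * y = y * (x 0 2 * (x 0 3 * x 1 3) ^ t)
  x12 : x 1 2 * x 0 4 ^ t * y = y * (x 1 2 * x 0 4 ^ t)
  x21 : x 2 1 * x 0 4 ^ t * y = y * (x 2 1 * x 0 4 ^ t)

/-- the mirror image under the graph automorphism -/
def mir (x : ℕ → ℕ → G) (i j : ℕ) : G := x (4 - j) (4 - i)

/-- the pairs of relations of `y1` and `y2`; `f` is the offset. -/
structure Config (x : ℕ → ℕ → G) (t1 t2 : ℕ) (f y1 y2 : G) : Prop where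
  side1 : Side x t1 y1
  side2 : Side (mir x) t2 y2
  comm : y2 * (f * y1 * f) = f * y1 * f * y2

end

end Cfsg.Agent.Held.Config
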