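import Cfsg.Agent.Held.Acts
import Cfsg.Agent.Held.Config

/-!
# Existence of a commuting configuration

From `Side x t1 y1` and `Side (mir x) t2 y2` we obtain `Config x t1 t2 f y1 y2'` with
`y2' = y2` or `y2' = z y2 z`.
-/

set_option autoImplicit false
set_option linter.unusedSectionVars false

namespace Cfsg.Agent.Held.ConfigThm

open Cfsg.Agent.Held.Code Cfsg.Agent.Held.WordCore Cfsg.Agent.Held.Acts
open Cfsg.Agent.Held.SideDef (tw)

variable {G : Type*} [Group G] {z : G} {ph : ℕ → G}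

/-- the root elements -/
abbrev xs (ph : ℕ → G) : ℕ → ℕ → G := fun i j => ph (X i j)

theorem toSide (h : Emb z ph) {t : ℕ} (ht : t = 0 ∨ t = 1) {y : G}
    (s : Config.Side (xs ph) t y) : SideDef.Side z ph (Nat.beq t 1) y := by
  obtain ⟨c, i, a3, a4, h01, h02, h12, h21⟩ := s
  have ez : ph (X 0 4) = z := ph_z h
  have h12' : ph (X 1 2) * ph (X 0 4) ^ t * y = y * (ph (X 1 2) * ph (X 0 4) ^ t) := h12
  have h21' : ph (X 2 1) * ph (X 0 4) ^ t * y = y * (ph (X 2 1) * ph (X 0 4) ^ t) := h21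
  rw [ez] at h12' h21'
  rcases ht with rfl | rfl
  · rw [pow_zero] at h01 h02 h12' h21'
    exact ⟨c, i, a3 0 (by norm_num), a3 1 (by norm_num), a3 2 (by norm_num), a4 0 (by norm_num),
      a4 1 (by norm_num), a4 2 (by norm_num), h01, h02, h12', h21'⟩
  · rw [pow_one] at h01 h02 h12' h21'
    exact ⟨c, i, a3 0 (by norm_num), a3 1 (by norm_num), a3 2 (by norm_num), a4 0 (by norm_num),
      a4 1 (by norm_num), a4 2 (by norm_num), h01, h02, h12', h21'⟩

theorem toSide2 (h : Emb z ph) {t : ℕ} (ht : t = 0 ∨ t = 1) {y : G}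
    (s : Config.Side (Config.mir (xs ph)) t y) : Side2 z ph (Nat.beq t 1) y := by
  obtain ⟨c, i, a3, a4, h01, h02, h12, h21⟩ := s
  have ez : ph (X 0 4) = z := ph_z h
  have h12' : ph (X 2 3) * ph (X 0 4) ^ t * y = y * (ph (X 2 3) * ph (X 0 4) ^ t) := h12
  have h21' : ph (X 3 2) * ph (X 0 4) ^ t * y = y * (ph (X 3 2) * ph (X 0 4) ^ t) := h21
  rw [ez] at h12' h21'
  rcases ht with rfl | rfl
  · rw [pow_zero] at h01 h02 h12' h21'
    exact ⟨c, i, a3 0 (by norm_num), a3 1 (by norm_num), a3 2 (by norm_num), a4 0 (by norm_num),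
      a4 1 (by norm_num), a4 2 (by norm_num), h01, h02, h12', h21'⟩
  · rw [pow_one] at h01 h02 h12' h21'
    exact ⟨c, i, a3 0 (by norm_num), a3 1 (by norm_num), a3 2 (by norm_num), a4 0 (by norm_num),
      a4 1 (by norm_num), a4 2 (by norm_num), h01, h02, h12', h21'⟩

/-- the offset -/
def f0 (ph : ℕ → G) (t1 t2 : ℕ) : G :=
  if t1 = 0 then (if t2 = 0 then 1 else ph (X 0 3)) else (if t2 = 0 then ph (X 1 4) else ph (X 1 3))

/-- vector of the offset in `V1` -/
def vf (t1 t2 : Bool) : ℕ := cond t1 (cond t2 16 32) (cond t2 2 0)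

theorem f0_eq (h : Emb z ph) {t1 t2 : ℕ} (h1 : t1 = 0 ∨ t1 = 1) (h2 : t2 = 0 ∨ t2 = 1) :
    f0 ph t1 t2 = P1 ph (vf (Nat.beq t1 1) (Nat.beq t2 1)) := by
  rcases h1 with rfl | rfl <;> rcases h2 with rfl | rfl
  · show (1 : G) = P1 ph 0
    exact (hom1 h).zero.symm
  · exact p1_2.symm
  · exact p1_32.symm
  · exact p1_16.symm

/-- conjugating `y` by `z` preserves `Side` -/
theorem side_conj {x : ℕ → ℕ → G} {t : ℕ} {y : G} (hzz : z * z = 1)
    (c34 : x 3 4 * z = z * x 3 4) (c3 : ∀ i < 3, x i 3 * z = z * x i 3)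
    (c4 : ∀ i < 3, x i 4 * z = z * x i 4) (c01 : x 0 1 * z = z * x 0 1)
    (c02 : x 0 2 * z = z * x 0 2) (c12 : x 1 2 * z = z * x 1 2) (c21 : x 2 1 * z = z * x 2 1)
    (s : Config.Side x t y) : Config.Side x t (z * y * z) := by
  have hzi : z⁻¹ = z := inv_eq_of_mul_eq_one_right hzz
  -- transport of `a y = y b` for `a`, `b` commuting with `z`
  have tr : ∀ a b : G, a * z = z * a → b * z = z * b → a * y = y * b →
      a * (z * y * z) = z * y * z * b := by
    intro a b ha hb hab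
    calc a * (z * y * z) = (a * z) * y * z := by simp only [mul_assoc]
      _ = z * (a * y) * z := by rw [ha]; simp only [mul_assoc]
      _ = z * y * (b * z) := by rw [hab]; simp only [mul_assoc]
      _ = z * y * z * b := by rw [hb]; simp only [mul_assoc]
  have cm : ∀ a b : G, a * z = z * a → b * z = z * b → (a * b) * z = z * (a * b) := by
    intro a b ha hb
    rw [mul_assoc, hb, ← mul_assoc, ha, mul_assoc]
  have cp : ∀ a : G, a * z = z * a → a ^ t * z = z * a ^ t := fun a ha =>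
    (Commute.pow_left (show Commute a z from ha) t)
  obtain ⟨c, i, a3, a4, h01, h02, h12, h21⟩ := s
  refine ⟨?_, ?_, ?_, ?_, ?_, ?_, ?_, ?_⟩
  · have : z * y * z = z * y * z⁻¹ := by rw [hzi]
    rw [this, conj_pow, c]; simp
  · have e : x 3 4 * (z * y * z) * x 3 4 = z * (x 3 4 * y * x 3 4) * z := by
      calc x 3 4 * (z * y * z) * x 3 4 = (x 3 4 * z) * y * (z * x 3 4) := by simp only [mul_assoc]
        _ = (z * x 3 4) * y * (x 3 4 * z) := by rw [c34]
        _ = _ := by simp only [mul_assoc]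
    rw [e, i, mul_inv_rev, mul_inv_rev, hzi, mul_assoc]
  · intro k hk
    exact tr _ _ (c3 k hk) (c4 k hk) (a3 k hk)
  · intro k hk
    exact tr _ _ (c4 k hk) (cm _ _ (c3 k hk) (c4 k hk)) (a4 k hk)
  · exact tr _ _ c01 (cm _ _ c01 (cp _ (cm _ _ (c3 0 (by norm_num)) (c3 2 (by norm_num))))) h01
  · exact tr _ _ c02 (cm _ _ c02 (cp _ (cm _ _ (c3 0 (by norm_num)) (c3 1 (by norm_num))))) h02
  · exact tr _ _ (cm _ _ c12 (cp _ (c4 0 (by norm_num)))) (cm _ _ c12 (cp _ (c4 0 (by norm_num)))) h12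
  · exact tr _ _ (cm _ _ c21 (cp _ (c4 0 (by norm_num)))) (cm _ _ c21 (cp _ (c4 0 (by norm_num)))) h21

/-- two elements with the same action differ by a centralising element -/
theorem cent_of_same {P : ℕ → G} {u w : G} {F : ℕ → ℕ} (hlt : ∀ v < 64, F v < 64)
    (hF : ∀ v < 64, F (F (F v)) = v)
    (hu : ∀ v < 64, P v * u = u * P (F v)) (hw : ∀ v < 64, P v * w = w * P (F v)) :
    ∀ v < 64, P v * (w⁻¹ * u) = (w⁻¹ * u) * P v := by
  intro v hv
  have h2 := hlt _ (hlt v hv)
  have e := hF v hv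
  have h3 := hu _ h2
  have h4 := hw _ h2
  rw [e] at h3 h4
  have h5 : P v * w⁻¹ = w⁻¹ * P (F (F v)) := by
    rw [eq_inv_mul_iff_mul_eq, ← mul_assoc, ← h4]; group
  calc P v * (w⁻¹ * u) = (P v * w⁻¹) * u := by rw [mul_assoc]
    _ = w⁻¹ * (P (F (F v)) * u) := by rw [h5, mul_assoc]
    _ = w⁻¹ * u * P v := by rw [h3, mul_assoc]

theorem comm_chk1 : ∀ t : Bool, ∀ v < 64, app A21 (app (A11 t) v) = app (A11 t) (app A21 v) := by
  decide +kernel

theorem comm_chk2 : ∀ t : Bool, ∀ v < 64, app (A22 t) (app A12 v) = app A12 (app (A22 t) v) := by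
  decide +kernel

theorem cube_chk1 : ∀ t : Bool, ∀ v < 64,
    app A21 (app (A11 t) (app A21 (app (A11 t) (app A21 (app (A11 t) v))))) = v := by
  decide +kernel

theorem cube_chk2 : ∀ t : Bool, ∀ v < 64,
    app (A22 t) (app A12 (app (A22 t) (app A12 (app (A22 t) (app A12 v))))) = v := by
  decide +kernel

/-- matrix of `x34` on `V1` -/
def S34 : ℕ := 35167158657
/-- matrix of `x01` on `V2` -/
def S01 : ℕ := 34630815873


/-! ### the abstract computation -/

theorem P_inj {P : ℕ → G} (hP : IsHom6 P) (hi : ∀ v < 64, P v = 1 → v = 0) {v w : ℕ}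
    (hv : v < 64) (hw : w < 64) (h : P v = P w) : v = w := by
  have h1 : P (v ^^^ w) = 1 := by rw [hP v w hv hw, h, hP.sq hw]
  have h2 := hi _ (Nat.xor_lt_two_pow (n := 6) hv hw) h1
  have : v ^^^ w ^^^ w = 0 ^^^ w := by rw [h2]
  simpa [Nat.xor_assoc] using this

/-- inverse action -/
theorem acts_inv {P : ℕ → G} {y : G} {M : ℕ} (h : Acts P y M)
    (h3 : ∀ v < 64, app M (app M (app M v)) = v) :
    ∀ v < 64, P v * y⁻¹ = y⁻¹ * P (app M (app M v)) := by
  intro v hv
  have h1 := h _ (app_lt M (app M v))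
  rw [h3 v hv] at h1
  rw [eq_inv_mul_iff_mul_eq, ← mul_assoc, ← h1, mul_assoc, mul_inv_cancel, mul_one]

/-- the equation obtained from conjugation by an involution inverting `u` -/
theorem eq_of_conj {P : ℕ → G} (hP : IsHom6 P) (hi : ∀ v < 64, P v = 1 → v = 0) {u w s : G}
    {M S a ve : ℕ} (hu : Acts P u M) (h3 : ∀ v < 64, app M (app M (app M v)) = v)
    (hs : Acts P s S) (ss : s * s = 1) (su : s * u * s = u⁻¹) (sw : s * w = w * (s * P ve))
    (hve : app S ve = ve)
    (ha : a < 64) (hv : ve < 64) (hc : u * w = w * u * P a) :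
    app M (app M a) ^^^ ve = app M (app M ve) ^^^ app S a := by
  have sP : ∀ v < 64, s * P v * s = P (app S v) := by
    intro v hv
    rw [mul_assoc, hs v hv, ← mul_assoc, ss, one_mul]
  have sw' : s * w * s = w * P ve := by
    rw [sw]
    have := sP ve hv
    rw [hve] at this
    calc w * (s * P ve) * s = w * (s * P ve * s) := by simp only [mul_assoc]
      _ = w * P ve := by rw [this]
  have lhs : s * (u * w) * s = u⁻¹ * (w * P ve) := by
    calc s * (u * w) * s = (s * u * (s * s)) * w * s := by rw [ss]; simp only [mul_assoc, one_mul]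
      _ = (s * u * s) * (s * w * s) := by simp only [mul_assoc]
      _ = _ := by rw [su, sw']
  have rhs : s * (w * u * P a) * s = w * P ve * u⁻¹ * P (app S a) := by
    calc s * (w * u * P a) * s = s * w * (s * s) * u * (s * s) * P a * s := by
          rw [ss]; simp only [mul_assoc, one_mul]
      _ = (s * w * s) * (s * u * s) * (s * P a * s) := by simp only [mul_assoc]
      _ = _ := by rw [su, sw', sP a ha]
  have E : u⁻¹ * (w * P ve) = w * P ve * u⁻¹ * P (app S a) := by rw [← lhs, ← rhs, hc]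
  have hui := acts_inv hu h3
  have h4 : u⁻¹ * w = w * P a * u⁻¹ := by
    rw [inv_mul_eq_iff_eq_mul]
    have h5 : P a * P a = 1 := hP.sq ha
    calc w = w * (P a * P a) := by rw [h5, mul_one]
      _ = w * P a * u⁻¹ * u * P a := by simp only [mul_assoc, inv_mul_cancel_left]
      _ = _ := by
        have h6 : u * (w * P a * u⁻¹) = (u * w) * P a * u⁻¹ := by simp only [mul_assoc]
        rw [h6, hc]
        have h7 : w * u * P a * P a * u⁻¹ = w := by
          rw [mul_assoc (w * u), h5, mul_one, mul_assoc, mul_inv_cancel, mul_one]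
        rw [h7]
        simp only [mul_assoc, inv_mul_cancel_left, h5, mul_one]
  have L : u⁻¹ * (w * P ve) = w * u⁻¹ * P (app M (app M a) ^^^ ve) := by
    rw [hP _ _ (app_lt _ _) hv, ← mul_assoc, h4, mul_assoc w, hui a ha]; simp only [mul_assoc]
  have R : w * P ve * u⁻¹ * P (app S a) = w * u⁻¹ * P (app M (app M ve) ^^^ app S a) := by
    rw [hP _ _ (app_lt _ _) (app_lt _ _), mul_assoc w, hui ve hv]; simp only [mul_assoc]
  rw [L, R] at E
  exact P_inj hP hi (Nat.xor_lt_two_pow (n := 6) (app_lt _ _) hv)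
    (Nat.xor_lt_two_pow (n := 6) (app_lt _ _) (app_lt _ _)) (mul_left_cancel E)

/-- commuting criterion, first form -/
theorem comm0 {P : ℕ → G} (hP : IsHom6 P) {y1 y2 : G} {M1 M2 a v : ℕ}
    (h1 : Acts P y1 M1) (h2 : Acts P y2 M2) (ha : a < 64) (hv : v < 64)
    (hc : y1 * y2 = y2 * y1 * P a)
    (e : app M1 (app M2 v) ^^^ (a ^^^ app M2 v) = app M1 v ^^^ v) :
    y2 * (P v * y1 * P v) = P v * y1 * P v * y2 := by
  have hx : a ^^^ app M2 v < 64 := Nat.xor_lt_two_pow (n := 6) ha (app_lt _ _)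
  have L : y2 * (P v * y1 * P v) = y2 * y1 * P (app M1 v ^^^ v) := by
    rw [hP _ _ (app_lt _ _) hv, h1 v hv]; simp only [mul_assoc]
  have R : P v * y1 * P v * y2 = y2 * y1 * P (app M1 (app M2 v) ^^^ (a ^^^ app M2 v)) := by
    rw [hP _ _ (app_lt _ _) hx, hP _ _ ha (app_lt _ _)]
    calc P v * y1 * P v * y2 = P v * y1 * (P v * y2) := by simp only [mul_assoc]
      _ = P v * (y1 * y2) * P (app M2 v) := by rw [h2 v hv]; simp only [mul_assoc]
      _ = (P v * y2) * y1 * P a * P (app M2 v) := by rw [hc]; simp only [mul_assoc]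
      _ = y2 * (P (app M2 v) * y1) * P a * P (app M2 v) := by rw [h2 v hv]; simp only [mul_assoc]
      _ = _ := by rw [h1 _ (app_lt _ _)]; simp only [mul_assoc]
  rw [L, R, e]

/-- commuting criterion, second form -/
theorem comm1 {P : ℕ → G} (hP : IsHom6 P) {y1 y2 : G} {M1 M2 a v k : ℕ}
    (h1 : Acts P y1 M1) (h2 : Acts P y2 M2) (ha : a < 64) (hv : v < 64) (hk : k < 64)
    (hc : y1 * y2 = y2 * y1 * P a)
    (e : app M1 (app M2 v) ^^^ (a ^^^ (app M2 (v ^^^ k) ^^^ k)) =
      app M1 (app M2 k ^^^ (k ^^^ v)) ^^^ v) :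
    P k * y2 * P k * (P v * y1 * P v) = P v * y1 * P v * (P k * y2 * P k) := by
  have hvk : v ^^^ k < 64 := Nat.xor_lt_two_pow (n := 6) hv hk
  have hkv : k ^^^ v < 64 := Nat.xor_lt_two_pow (n := 6) hk hv
  have hx : app M2 (v ^^^ k) ^^^ k < 64 := Nat.xor_lt_two_pow (n := 6) (app_lt _ _) hk
  have hy : a ^^^ (app M2 (v ^^^ k) ^^^ k) < 64 := Nat.xor_lt_two_pow (n := 6) ha hx
  have hw : app M2 k ^^^ (k ^^^ v) < 64 := Nat.xor_lt_two_pow (n := 6) (app_lt _ _) hkv
  have L : P k * y2 * P k * (P v * y1 * P v) =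
      y2 * y1 * P (app M1 (app M2 k ^^^ (k ^^^ v)) ^^^ v) := by
    rw [hP _ _ (app_lt _ _) hv]
    calc P k * y2 * P k * (P v * y1 * P v) = y2 * (P (app M2 k) * (P k * P v)) * y1 * P v := by
          rw [h2 k hk]; simp only [mul_assoc]
      _ = y2 * (P (app M2 k ^^^ (k ^^^ v)) * y1) * P v := by
          rw [← hP k v hk hv, ← hP _ _ (app_lt _ _) hkv]; simp only [mul_assoc]
      _ = _ := by rw [h1 _ hw]; simp only [mul_assoc]
  have R : P v * y1 * P v * (P k * y2 * P k) =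
      y2 * y1 * P (app M1 (app M2 v) ^^^ (a ^^^ (app M2 (v ^^^ k) ^^^ k))) := by
    rw [hP _ _ (app_lt _ _) hy, hP _ _ ha hx, hP _ _ (app_lt _ _) hk]
    calc P v * y1 * P v * (P k * y2 * P k) = P v * y1 * ((P v * P k) * y2) * P k := by
          simp only [mul_assoc]
      _ = P v * (y1 * y2) * P (app M2 (v ^^^ k)) * P k := by
          rw [← hP v k hv hk, h2 _ hvk]; simp only [mul_assoc]
      _ = (P v * y2) * y1 * P a * P (app M2 (v ^^^ k)) * P k := by rw [hc]; simp only [mul_assoc]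
      _ = y2 * (P (app M2 v) * y1) * P a * P (app M2 (v ^^^ k)) * P k := by
          rw [h2 v hv]; simp only [mul_assoc]
      _ = _ := by rw [h1 _ (app_lt _ _)]; simp only [mul_assoc]
  rw [L, R, e]


/-! ### the finite check -/

/-- `V2`-code of an element of `F` to its `V1`-code -/
def fphi (b : ℕ) : ℕ := Nat.xor (Nat.shiftLeft (Nat.land b 3) 1)
  (Nat.shiftLeft (Nat.shiftRight b 2) 4)

theorem inter_chk : allb 64 (fun a => allb 64 fun b => imp (Nat.beq (v1c a) (v2c b))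
    (Nat.blt b 16 && Nat.beq a (fphi b))) = true := by decide +kernel

theorem inter {a b : ℕ} (ha : a < 64) (hb : b < 64) (h : v1c a = v2c b) : b < 16 ∧ a = fphi b := by
  have := imp_mp (of_allb (of_allb inter_chk a ha) b hb) (by rw [h]; exact Nat.beq_refl _)
  rw [Bool.and_eq_true, Nat.blt_eq, Nat.beq_eq] at this
  exact this

/-- code of the commutator of `x34` and `y2` in `V1` -/
def ve1 (t : Bool) : ℕ := cond t 40 0
/-- code of the commutator of `x01` and `y1` in `V2` -/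
def ve2 (t : Bool) : ℕ := cond t 17 0

/-- the conclusion of the check -/
def final (t1 t2 : Bool) (a : ℕ) : Prop :=
  (app (A11 t1) (app A21 (vf t1 t2)) ^^^ (a ^^^ app A21 (vf t1 t2)) =
      app (A11 t1) (vf t1 t2) ^^^ vf t1 t2) ∨
  (app (A11 t1) (app A21 (vf t1 t2)) ^^^ (a ^^^ (app A21 (vf t1 t2 ^^^ 4) ^^^ 4)) =
      app (A11 t1) (app A21 4 ^^^ (4 ^^^ vf t1 t2)) ^^^ vf t1 t2)

instance (t1 t2 : Bool) (a : ℕ) : Decidable (final t1 t2 a) := by unfold final; infer_instance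

theorem final_chk : ∀ t1 t2 : Bool, ∀ b < 16,
    app (A11 t1) (app (A11 t1) (fphi b)) ^^^ ve1 t2 =
      app (A11 t1) (app (A11 t1) (ve1 t2)) ^^^ app S34 (fphi b) →
    app (A22 t2) (app (A22 t2) b) ^^^ ve2 t1 =
      app (A22 t2) (app (A22 t2) (ve2 t1)) ^^^ app S01 b → final t1 t2 (fphi b) := by
  decide +kernel


/-! ### the theorem -/

theorem cube1 : ∀ t : Bool, ∀ v < 64, app (A11 t) (app (A11 t) (app (A11 t) v)) = v := by
  decide +kernel

theorem cube2 : ∀ t : Bool, ∀ v < 64, app (A22 t) (app (A22 t) (app (A22 t) v)) = v := by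
  decide +kernel

theorem ph_sq (h : Emb z ph) {a : ℕ} (hc : isC a a = true) : ph a * ph a = 1 := by
  have ha : C a := C_of_isC hc
  have e : mu a a = e1 := by
    unfold isC at hc
    simp only [Bool.and_eq_true] at hc
    exact Nat.eq_of_beq_eq_true hc.1.2
  rw [← h.mul ha ha, e, ph_e1 h]

theorem p1_ve (h : Emb z ph) (t : Bool) :
    P1 ph (ve1 t) = tw t (ph (X 1 4) * ph (X 1 2)) := by
  cases t
  · exact (hom1 h).zero
  · show P1 ph (32 ^^^ 8) = _
    rw [hom1 h 32 8 (by norm_num) (by norm_num), p1_32, p1_8]; rfl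

theorem p2_ve (h : Emb z ph) (t : Bool) :
    P2 ph (ve2 t) = tw t (ph (X 0 3) * ph (X 2 3)) := by
  cases t
  · exact (hom2 h).zero
  · show P2 ph (1 ^^^ 16) = _
    rw [hom2 h 1 16 (by norm_num) (by norm_num), p2_1, p2_16]; rfl

theorem comm_elt (h : Emb z ph) {t1 t2 : Bool} {y1 y2 : G} (s1 : SideDef.Side z ph t1 y1)
    (s2 : Side2 z ph t2 y2) : ∃ b < 16, y1 * y2 = y2 * y1 * P1 ph (fphi b) ∧
      final t1 t2 (fphi b) := by
  have a11 := side_acts1 h s1
  have a12 := side_acts2 h s1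
  have a21 := side2_acts1 h s2
  have a22 := side2_acts2 h s2
  have q1 : ∀ v < 64, P1 ph v * ((y2 * y1)⁻¹ * (y1 * y2)) = (y2 * y1)⁻¹ * (y1 * y2) * P1 ph v := by
    apply cent_of_same (F := fun v => app A21 (app (A11 t1) v)) (fun v _ => app_lt _ _)
      (cube_chk1 t1)
    · intro v hv
      rw [← mul_assoc, a11 v hv, mul_assoc, a21 _ (app_lt _ _), ← mul_assoc]
    · intro v hv
      rw [comm_chk1 t1 v hv, ← mul_assoc, a21 v hv, mul_assoc, a11 _ (app_lt _ _), ← mul_assoc]
  have q2 : ∀ v < 64, P2 ph v * ((y2 * y1)⁻¹ * (y1 * y2)) = (y2 * y1)⁻¹ * (y1 * y2) * P2 ph v := by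
    apply cent_of_same (F := fun v => app (A22 t2) (app A12 v)) (fun v _ => app_lt _ _)
      (cube_chk2 t2)
    · intro v hv
      rw [← mul_assoc, a12 v hv, mul_assoc, a22 _ (app_lt _ _), ← mul_assoc]
    · intro v hv
      rw [comm_chk2 t2 v hv, ← mul_assoc, a22 v hv, mul_assoc, a12 _ (app_lt _ _), ← mul_assoc]
  obtain ⟨a, ha, ea⟩ := cent1 h _ q1
  obtain ⟨b, hb, eb⟩ := cent2 h _ q2
  have eab : v1c a = v2c b := by
    apply h.inj (v1_C ha) (v2_C hb)
    exact ea.symm.trans eb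
  obtain ⟨hb16, rfl⟩ := inter ha hb eab
  have hc1 : y1 * y2 = y2 * y1 * P1 ph (fphi b) := by
    rw [← ea, mul_inv_cancel_left]
  have hc2 : y2 * y1 = y1 * y2 * P2 ph b := by
    have h5 : P2 ph b * P2 ph b = 1 := (hom2 h).sq hb
    have h6 : y1 * y2 = y2 * y1 * P2 ph b := by rw [← eb, mul_inv_cancel_left]
    rw [h6, mul_assoc, h5, mul_one]
  refine ⟨b, hb16, hc1, ?_⟩
  apply final_chk t1 t2 b hb16
  · refine eq_of_conj (s := ph (X 3 4)) (hom1 h) (inj1 h) a11 (cube1 t1) (acts1_of_chk h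
      (CX (by decide +kernel)) (by decide +kernel)) (ph_sq h (by decide +kernel)) s1.inv34 ?_ ?_ ha ?_
      hc1
    · rw [p1_ve h]; exact s2.b34
    · cases t2 <;> decide +kernel
    · cases t2 <;> decide +kernel
  · refine eq_of_conj (s := ph (X 0 1)) (hom2 h) (inj2 h) a22 (cube2 t2) (acts2_of_chk h
      (CX (by decide +kernel)) (by decide +kernel)) (ph_sq h (by decide +kernel)) s2.inv01 ?_ ?_ hb ?_
      hc2
    · rw [p2_ve h]; exact s1.a01
    · cases t1 <;> decide +kernel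
    · cases t1 <;> decide +kernel

/-- **Existence of a commuting configuration.** -/
theorem config (h : Emb z ph) {t1 t2 : ℕ} (h1 : t1 = 0 ∨ t1 = 1) (h2 : t2 = 0 ∨ t2 = 1)
    {y1 y2 : G} (s1 : Config.Side (xs ph) t1 y1) (s2 : Config.Side (Config.mir (xs ph)) t2 y2) :
    ∃ y2', (y2' = y2 ∨ y2' = z * y2 * z) ∧
      Config.Config (xs ph) t1 t2 (f0 ph t1 t2) y1 y2' := by
  obtain ⟨b, hb, hc, hf⟩ := comm_elt h (toSide h h1 s1) (toSide2 h h2 s2)
  have a11 := side_acts1 h (toSide h h1 s1)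
  have a21 := side2_acts1 h (toSide2 h h2 s2)
  have hz : P1 ph 4 = z := by rw [p1_4, ph_z h]
  have hzz : z * z = 1 := by rw [← hz]; exact (hom1 h).sq (by norm_num)
  have hlt : ∀ t1 t2 : Bool, vf t1 t2 < 64 := by decide
  have hfb : ∀ b < 16, fphi b < 64 := by decide
  have ezf := f0_eq h h1 h2
  rcases hf with hf | hf
  · refine ⟨y2, Or.inl rfl, s1, s2, ?_⟩
    rw [ezf]
    exact comm0 (hom1 h) a11 a21 (hfb b hb) (hlt _ _) hc hf
  · refine ⟨z * y2 * z, Or.inr rfl, s1, ?_, ?_⟩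
    · have cz : ∀ i j, isC (X i j) (X i j) = true → xs ph i j * z = z * xs ph i j :=
        fun i j hij => h.comm (CX hij)
      refine side_conj hzz ?_ ?_ ?_ ?_ ?_ ?_ ?_ s2
      · exact cz 0 1 (by decide +kernel)
      · intro i hi
        interval_cases i
        · exact cz 1 4 (by decide +kernel)
        · exact cz 1 3 (by decide +kernel)
        · exact cz 1 2 (by decide +kernel)
      · intro i hi
        interval_cases i
        · exact cz 0 4 (by decide +kernel)
        · exact cz 0 3 (by decide +kernel)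
        · exact cz 0 2 (by decide +kernel)
      · exact cz 3 4 (by decide +kernel)
      · exact cz 2 4 (by decide +kernel)
      · exact cz 2 3 (by decide +kernel)
      · exact cz 3 2 (by decide +kernel)
    · rw [ezf, ← hz]
      exact comm1 (hom1 h) a11 a21 (hfb b hb) (hlt _ _) (by norm_num) hc hf

end Cfsg.Agent.Held.ConfigThm
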