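import Cfsg.Agent.Held.Ac
import Cfsg.Agent.Held.Acts

/-!
# Fusion of the involutions of `T` in a subgroup containing `C_G(z)`, `y1`, `y2`

`tc n`, `n < 1024`, are the codes of the unitriangular matrices; `kf n` is `0` if `tc n` is not an
involution and otherwise `1 +` the number of the `C`-class: `0 = z`, `1 = a1` (row `0`),
`2 = a2` (column `4`), `3 = b`, `4 = d`, `5 = z d`, `6 = e1` (meets `V1` only), `7 = e2` (meets
`V2` only).
-/

set_option autoImplicit false
set_option linter.unusedSectionVars false

namespace Cfsg.Agent.Held.Fus8

open Cfsg.Agent.Held.Code Cfsg.Agent.Held.SideDef Cfsg.Agent.Held.Acts Cfsg.Agent.Held.Mirror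
  Cfsg.Agent.Lib.F2Mat

/-- the code of the unitriangular matrix with index `n` -/
def tc (n : ℕ) : ℕ :=
  Nat.add (Nat.add (Nat.add (Nat.add 17043521 (Nat.mul 2 (Nat.mod n 16)))
    (Nat.mul 128 (Nat.mod (Nat.div n 16) 8))) (Nat.mul 8192 (Nat.mod (Nat.div n 128) 4)))
    (Nat.mul 524288 (Nat.div n 512))

/-- the classes, packed -/
def KF : ℕ := 0x8000008080000080000000000000000000000000000000004404003044040030800000808000008000000000000000000000000000000004400004344000043000000000000000000000000000000000000000000000000000000000000000000000000000000000000000000000000000000000000000000000000000000000000000000000000000000000000000000000808000008084040040340400403000000000000000000000000000000000000080800000808000044430000444300000000000000007005700670067005000000000000000000080008000800080000000000000000000800080008000800000000000000000075007600760075000000000000000000080008000800080000000000000000400440034004400300000000000000000008000800080008000000000000000000440043004400430000000000000000000800080008000800000000000000000008000800080008000000000000000070067006700570050000000000000000007600760075007505070706060707050705070607060705070705060707060504040403040404030607070605070705070607060705070507070606070705052222222122222220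

/-- the words, packed -/
def WD : ℕ := 0x1ca00000000000000000000000000000000025c00000000015c00000000000000000000000000000000005c00000000000000000000000000000000000000000000000000000000000000000000000000000000000000000000000000000000000000000000000000000000000000000000000000000000000000000000000000000000000000000000000000000000018c00018b000000001b5900000000000000018b00000000008c00008b000000000b5900000000000000008b00000000012c00000000000000000000000000000000002c00000000001c00000000000000000000000000000000000c0000000000000000000000000000000000000000000000000000000000000000000000000000000000000000000000000000000000000000000000000000000000000000000000000000000000000000000000000000000000000000000000000018b500185c0000000000000000000000000018b600185c0008b500085c0000000000000000000000000008b600085c0000000000000000000000000000000000000000000000000000000000000000000000000000000000000000000000000000000000000000000000000000000000000000000000000000000000000000000000000000000000000000000000000000000000000000000000000000000000000000000000000000000000000000000000000000000000000000000000000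00000000000000000000000000000000000000000000000000000000000000000000000000000000000000000000000000000000000000000000000000000000000000000000000000000000000000000000000000000000000000000000000000000000000000000000000000000000000000000000000000000000000000000000000000000000000000000000000000000000000000000000000000000000000000000000000000000000000000000000000000000000000000000000000000000000000000000000000000000000000000000000000000000000000000000000000000000000000000000000000000000000000000000000000000000000000000000000000000000000000000000000000000000000000000000000000000000000000000000000000000000000000000000000000000000000000000000000000000000000000000000000000000000000000000000000000000000001c9a0000000025c90000000000000000000000000000000015c90000000005c90001b500000000001b0000000000000018c900000000001b0000b500000000000b0000000000000008c900000000000b0000000000000000000000000000000000000000000000000000000000000000000000000000000000000000000000000000000000000000000000000000000000000000000000000000000000000000000000000000000000000000000000000000000000000000000000000000000012c9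0000000002c90000000000000000000000000000000001c90000000000c9000000000000000000000000001b560185c90001b60001b6000000000000000000000000000b560085c90000b60000b600000000000000000000000000000000000000000000000000000000000000000000000000000000000000000000000000018d000000000000019ac800087d000000000000009ac80008d6000000000000019ac800008d000000000000009ac800000000000000000000000000000000000000000000000000000000000000000000000000000000000000000000000000000000000000000000082500000000000000000000028500000000000000000000018500000000000000000000008500000000000000000000000000000000000000000000000000000000000000000000000000000000000000000000000000000000000000000000008200000000000000000000002800000000000000000000001800000000000000000000000800000000000000000000000000000000000000000000000000000000000000000000000000000000000000000000000000000000000000185d18567b00000000000000857d08567b0000000000000085d618567b00000000000000085d08567b00000000000000000000000000000000000000000000000000000000000000000000000000000000000000000000000000000000000000000000001d00000000000000000000002500000000000000000000001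50000000000000000000000050000000000000000000000000000000000000000000000000000000000000000000000000000000000000000000000000001c8000000000000000018001c860000000000000000180000c8000000000000000008000c8600000000000000000800000000000000000000000000000000000000000000000000000000000000000000000000000000000000000000000000000000000000000000001200000000000000000000000200000000000000000000000100000000000000000000000000000000000000000000000000000000000000000000000000000000000000000000000000000000000000000000000000000000000000185b0001850000000000000185b600018500000000000000085b0000850000000000000085b600008500000000000000000000000000000000000000000000000000000000000000000000000000000000000000000000000000000000000000000000018d00000000000000000000025800000000000000000000015800000000000000000000005800000000000000000000000000000000000000000000000000000000000000000000000000000000000000000000000000000000000000000000185d0000000000000000000025850000000000000000000015850000000000000000000005850000000000000000000000000000000000000000000000000000000000000000000000000000000000000000000000000001870000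000000000019c80000870000000000000009c80000180000000000000019c80000080000000000000009c800000000000000000000000000000000000000000000000000000000000000000000000000000000000000000000000000000000000000185701856b00000000000000085700856b00000000000000018501856b00000000000000008500856b00000000019a0000000001cd0000000000ca00000000009a00000000019a0000000001ca0000000000cd00000000009a00000000001d0000000019ac0000000000ad0000000009ac0000000000d90000000019ac00000000000d0000000009ac000000000c9a000000001cd900000000001a00000000000a000000000cd9000000001c9a00000000001a00000000000a00000000001c0000000000010000000001c900000000000100000000000c0000000000000000000000c90000000000000000000000190000000001ac0000000000ac00000000000900000000001900000000001c00000000000c00000000000900000000001a00000000019c00000000000a00000000009c00000000000100000000019c00000000000000000000009c000000000ac9000000001ac90000000000010000000000000000000000c90000000001c9000000000001000000000000000b570000ca0000b700000d00b567000c9a000b670000000000b500000c00000b000000000b560000c90000b6000000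

/-- `0` if `tc n` is not an involution, `1 +` class number otherwise -/
def kf (n : ℕ) : ℕ := Nat.land (Nat.shiftRight KF (Nat.mul 4 n)) 15

/-- the word conjugating `tc n` to the representative -/
def wd (n : ℕ) : ℕ := Nat.land (Nat.shiftRight WD (Nat.mul 24 n)) 16777215

/-- generators (transvections of `C`) -/
def gn (d : ℕ) : ℕ :=
  match d with
  | 1 => 17043523
  | 2 => 17043525
  | 3 => 17043529
  | 4 => 17043537
  | 5 => 17043649
  | 6 => 17043777
  | 7 => 17044033
  | 8 => 17045569
  | 9 => 17051713
  | 10 => 17059905
  | 11 => 17109057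
  | 12 => 17174593
  | 13 => 17567809
  | _ => 17043521

/-- conjugation by an involution -/
def cj (g a : ℕ) : ℕ := mu (mu g a) g

/-- conjugation by a packed word -/
def run : ℕ → ℕ → ℕ → ℕ
  | 0, _, a => a
  | k + 1, w, a => run k (Nat.shiftRight w 4) (cj (gn (Nat.land w 15)) a)

/-- representatives of the classes -/
def rp (r : ℕ) : ℕ :=
  match r with
  | 0 => 17043537
  | 1 => 17043529
  | 2 => 17044033
  | 3 => 17044041
  | 4 => 17043649
  | 5 => 17043665
  | 6 => 17043781
  | 7 => 17060161
  | _ => 17043521

theorem rp0 : rp 0 = zc := by decide +kernel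
theorem rp1 : rp 1 = X 0 3 := by decide +kernel
theorem rp2 : rp 2 = X 1 4 := by decide +kernel
theorem rp3 : rp 3 = mu (X 0 3) (X 1 4) := by decide +kernel
theorem rp4 : rp 4 = X 1 2 := by decide +kernel
theorem rp5 : rp 5 = mu (X 0 4) (X 1 2) := by decide +kernel
theorem rp6 : rp 6 = mu (X 0 2) (X 1 3) := by decide +kernel
theorem rp7 : rp 7 = mu (X 1 3) (X 2 4) := by decide +kernel

theorem gn_ck : allb 16 (fun d => isC (gn d) (gn d)) = true := by decide +kernel

theorem tc_ck : allb 1024 (fun n => cond (Nat.beq (kf n) 0)
    (not (Nat.beq (mu (tc n) (tc n)) e1) || Nat.beq n 0)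
    (Nat.ble (kf n) 8 && (isC (tc n) (tc n) &&
      Nat.beq (run 6 (wd n) (tc n)) (rp (Nat.pred (kf n)))))) = true := by
  decide +kernel

section

variable {G : Type*} [Group G] {z : G} {ph : ℕ → G} {H : Subgroup G}

/-- conjugacy under `H` -/
def HC (H : Subgroup G) (x y : G) : Prop := ∃ h ∈ H, h * x * h⁻¹ = y

theorem HC.refl (x : G) : HC H x x := ⟨1, H.one_mem, by group⟩

theorem HC.symm {x y : G} (h : HC H x y) : HC H y x := by
  obtain ⟨g, hg, rfl⟩ := h
  exact ⟨g⁻¹, H.inv_mem hg, by group⟩

theorem HC.trans {x y w : G} (h : HC H x y) (h' : HC H y w) : HC H x w := by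
  obtain ⟨g, hg, rfl⟩ := h
  obtain ⟨k, hk, rfl⟩ := h'
  exact ⟨k * g, H.mul_mem hk hg, by group⟩

theorem HC_of_eq {a b y : G} (hy : y ∈ H) (h : a * y = y * b) : HC H a b :=
  ⟨y⁻¹, H.inv_mem hy, by rw [inv_inv, mul_assoc, h, inv_mul_cancel_left]⟩

theorem isC_mu {g : ℕ} (hg : isC g g = true) : C g ∧ mu g g = e1 := by
  refine ⟨C_of_isC hg, ?_⟩
  unfold isC at hg
  simp only [Bool.and_eq_true] at hg
  exact Nat.eq_of_beq_eq_true hg.1.2

theorem HC_cj (E : Emb z ph) (hH : ∀ c, C c → ph c ∈ H) {g a : ℕ} (hg : isC g g = true)
    (ha : C a) : C (cj g a) ∧ HC H (ph a) (ph (cj g a)) := by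
  obtain ⟨hC, hgg⟩ := isC_mu hg
  have hga : C (mu g a) := hC.mul ha
  refine ⟨hga.mul hC, ph g, hH g hC, ?_⟩
  have h1 : (ph g)⁻¹ = ph g := E.inv_eq hC hC hgg
  rw [h1]
  show ph g * ph a * ph g = ph (mu (mu g a) g)
  rw [E.mul hga hC, E.mul hC ha]

theorem gn_isC (w : ℕ) : isC (gn (Nat.land w 15)) (gn (Nat.land w 15)) = true :=
  of_allb gn_ck _ (Nat.lt_of_le_of_lt Nat.and_le_right (by norm_num))

theorem HC_run (E : Emb z ph) (hH : ∀ c, C c → ph c ∈ H) (k : ℕ) : ∀ (w : ℕ) {a : ℕ}, C a →
    C (run k w a) ∧ HC H (ph a) (ph (run k w a)) := by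
  induction k with
  | zero => intro w a ha; exact ⟨ha, HC.refl _⟩
  | succ k ih =>
    intro w a ha
    obtain ⟨h1, h2⟩ := HC_cj E hH (gn_isC w) ha
    obtain ⟨h3, h4⟩ := ih (Nat.shiftRight w 4) h1
    exact ⟨h3, h2.trans h4⟩

theorem tc_spec {n : ℕ} (hn : n < 1024) (h0 : kf n ≠ 0) :
    kf n ≤ 8 ∧ isC (tc n) (tc n) = true ∧ run 6 (wd n) (tc n) = rp (Nat.pred (kf n)) := by
  have h := of_allb tc_ck n hn
  have hb : Nat.beq (kf n) 0 = false := by
    cases hk : Nat.beq (kf n) 0 with
    | false => rfl
    | true => exact absurd (Nat.eq_of_beq_eq_true hk) h0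
  rw [hb] at h
  simp only [cond_false, Bool.and_eq_true] at h
  exact ⟨Nat.le_of_ble_eq_true h.1, h.2.1, Nat.eq_of_beq_eq_true h.2.2⟩

/-- if `tc n` squares to the identity and `n ≠ 0` then `kf n ≠ 0`. -/
theorem kf_ne_zero {n : ℕ} (hn : n < 1024) (h0 : n ≠ 0) (h : mu (tc n) (tc n) = e1) :
    kf n ≠ 0 := by
  intro hk
  have h1 := of_allb tc_ck n hn
  rw [hk] at h1
  have h2 : Nat.beq (mu (tc n) (tc n)) e1 = true := by rw [h]; exact Nat.beq_refl _
  have h3 : Nat.beq n 0 = false := by
    cases h4 : Nat.beq n 0 with
    | false => rfl
    | true => exact absurd (Nat.eq_of_beq_eq_true h4) h0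
  rw [h2, h3] at h1
  exact absurd (show false = true from h1) (by decide)

theorem HC_rp (E : Emb z ph) (hH : ∀ c, C c → ph c ∈ H) {n : ℕ} (hn : n < 1024)
    (h0 : kf n ≠ 0) : HC H (ph (tc n)) (ph (rp (Nat.pred (kf n)))) := by
  obtain ⟨_, h1, h2⟩ := tc_spec hn h0
  have h3 := (HC_run E hH 6 (wd n) (isC_mu h1).1).2
  rwa [h2] at h3

theorem HC_rp' (E : Emb z ph) (hH : ∀ c, C c → ph c ∈ H) (n r : ℕ) {c : ℕ} (hn : n < 1024)
    (hc : tc n = c) (hk : kf n = r + 1) : HC H (ph c) (ph (rp r)) := by
  have h := HC_rp E hH hn (by rw [hk]; exact Nat.succ_ne_zero r)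
  rw [hk, hc] at h
  exact h

/-- Boolean function: is the class `k - 1` fused to `z`? -/
def zt (t1 t2 : Bool) (k : ℕ) : Bool :=
  match k with
  | 1 => true
  | 2 => true
  | 3 => true
  | 5 => true
  | 7 => t1
  | 8 => t2
  | _ => false

variable {t1 t2 : Bool} {y1 y2 : G}

theorem a1_z (E : Emb z ph) (s1 : Side z ph t1 y1) (hy1 : y1 ∈ H) :
    HC H (ph (X 0 3)) z := by
  rw [← ph_z E]
  exact HC_of_eq hy1 s1.a03

theorem a2_z (E : Emb z ph) (s2 : Side2 z ph t2 y2) (hy2 : y2 ∈ H) :
    HC H (ph (X 1 4)) z := by
  rw [← ph_z E]
  exact HC_of_eq hy2 s2.b14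

theorem d_a1 (E : Emb z ph) (hH : ∀ c, C c → ph c ∈ H) (s2 : Side2 z ph t2 y2)
    (hy2 : y2 ∈ H) : HC H (ph (X 1 2)) (ph (X 0 3)) := by
  rw [← rp1]
  exact (HC_of_eq hy2 s2.b12).trans
    (HC_rp' E hH 2 1 (by norm_num) (by decide +kernel) (by decide +kernel))

theorem CC (i j : ℕ) (h : isC (X i j) (X i j) = true) : C (X i j) := C_of_isC h

theorem zd_b (E : Emb z ph) (hH : ∀ c, C c → ph c ∈ H) (s2 : Side2 z ph t2 y2)
    (hy2 : y2 ∈ H) : HC H (ph (mu (X 0 4) (X 1 2))) (ph (rp 3)) := by
  have c04 : C (X 0 4) := CC 0 4 (by decide +kernel)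
  have c12 : C (X 1 2) := CC 1 2 (by decide +kernel)
  have c14 : C (X 1 4) := CC 1 4 (by decide +kernel)
  have c02 : C (X 0 2) := CC 0 2 (by decide +kernel)
  have h : ph (mu (X 0 4) (X 1 2)) * y2 = y2 * ph (mu (mu (X 1 4) (X 0 4)) (X 0 2)) := by
    rw [E.mul c04 c12, E.mul (c14.mul c04) c02, E.mul c14 c04, mul_assoc, s2.b12, ← mul_assoc,
      s2.b04, mul_assoc]
  exact (HC_of_eq hy2 h).trans
    (HC_rp' E hH 74 3 (by norm_num) (by decide +kernel) (by decide +kernel))

theorem e1_true (E : Emb z ph) (hH : ∀ c, C c → ph c ∈ H) (s1 : Side z ph true y1)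
    (hy1 : y1 ∈ H) : HC H (ph (X 1 2)) (ph (rp 6)) := by
  have c04 : C (X 0 4) := CC 0 4 (by decide +kernel)
  have c12 : C (X 1 2) := CC 1 2 (by decide +kernel)
  have c03 : C (X 0 3) := CC 0 3 (by decide +kernel)
  have hzz : z * z = 1 := by
    rw [← ph_z E, ← E.mul c04 c04, show mu (X 0 4) (X 0 4) = e1 by decide +kernel, E.one]
  have h1 : ph (X 1 2) * z * y1 = y1 * (ph (X 1 2) * z) := s1.a12
  have h2 : z * y1 = y1 * (ph (X 0 3) * z) := by
    have := s1.a04
    rwa [ph_z E] at this
  have h : ph (X 1 2) * y1 = y1 * ph (mu (X 1 2) (X 0 3)) := by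
    rw [E.mul c12 c03]
    have h03 : ph (X 0 3) * z = z * ph (X 0 3) := E.comm c03
    calc ph (X 1 2) * y1 = ph (X 1 2) * z * (z * y1) := by
          rw [mul_assoc, ← mul_assoc z z y1, hzz, one_mul]
      _ = ph (X 1 2) * z * y1 * (ph (X 0 3) * z) := by rw [h2]; simp only [mul_assoc]
      _ = y1 * (ph (X 1 2) * z) * (z * ph (X 0 3)) := by rw [h1, h03]
      _ = y1 * (ph (X 1 2) * (z * z) * ph (X 0 3)) := by simp only [mul_assoc]
      _ = y1 * (ph (X 1 2) * ph (X 0 3)) := by rw [hzz, mul_one]
  exact (HC_of_eq hy1 h).trans
    (HC_rp' E hH 20 6 (by norm_num) (by decide +kernel) (by decide +kernel))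

theorem e1_false (E : Emb z ph) (hH : ∀ c, C c → ph c ∈ H) (s1 : Side z ph false y1)
    (hy1 : y1 ∈ H) : HC H (ph (rp 3)) (ph (rp 6)) := by
  have c01 : C (X 0 1) := CC 0 1 (by decide +kernel)
  have c23 : C (X 2 3) := CC 2 3 (by decide +kernel)
  have c24 : C (X 2 4) := CC 2 4 (by decide +kernel)
  have h1 : ph (X 0 1) * y1 = y1 * ph (X 0 1) := by
    have := s1.a01
    rwa [show tw false (ph (X 0 3) * ph (X 2 3)) = 1 from rfl, mul_one] at this
  have h : ph (mu (X 0 1) (X 2 3)) * y1 = y1 * ph (mu (X 0 1) (X 2 4)) := by
    rw [E.mul c01 c23, E.mul c01 c24, mul_assoc, s1.a23, ← mul_assoc, h1, mul_assoc]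
  have h2 : HC H (ph (mu (X 0 1) (X 2 3))) (ph (rp 6)) :=
    HC_rp' E hH 129 6 (by norm_num) (by decide +kernel) (by decide +kernel)
  have h3 : HC H (ph (mu (X 0 1) (X 2 4))) (ph (rp 3)) :=
    HC_rp' E hH 257 3 (by norm_num) (by decide +kernel) (by decide +kernel)
  exact (h3.symm.trans (HC_of_eq hy1 h).symm).trans h2

theorem e2_true (E : Emb z ph) (hH : ∀ c, C c → ph c ∈ H) (s2 : Side2 z ph true y2)
    (hy2 : y2 ∈ H) : HC H (ph (rp 4)) (ph (rp 7)) := by
  have c04 : C (X 0 4) := CC 0 4 (by decide +kernel)
  have c23 : C (X 2 3) := CC 2 3 (by decide +kernel)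
  have c14 : C (X 1 4) := CC 1 4 (by decide +kernel)
  have hzz : z * z = 1 := by
    rw [← ph_z E, ← E.mul c04 c04, show mu (X 0 4) (X 0 4) = e1 by decide +kernel, E.one]
  have h1 : ph (X 2 3) * z * y2 = y2 * (ph (X 2 3) * z) := s2.b23
  have h2 : z * y2 = y2 * (ph (X 1 4) * z) := by
    have := s2.b04
    rwa [ph_z E] at this
  have h : ph (X 2 3) * y2 = y2 * ph (mu (X 2 3) (X 1 4)) := by
    rw [E.mul c23 c14]
    have h14 : ph (X 1 4) * z = z * ph (X 1 4) := E.comm c14
    calc ph (X 2 3) * y2 = ph (X 2 3) * z * (z * y2) := by
          rw [mul_assoc, ← mul_assoc z z y2, hzz, one_mul]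
      _ = ph (X 2 3) * z * y2 * (ph (X 1 4) * z) := by rw [h2]; simp only [mul_assoc]
      _ = y2 * (ph (X 2 3) * z) * (z * ph (X 1 4)) := by rw [h1, h14]
      _ = y2 * (ph (X 2 3) * (z * z) * ph (X 1 4)) := by simp only [mul_assoc]
      _ = y2 * (ph (X 2 3) * ph (X 1 4)) := by rw [hzz, mul_one]
  have h3 : HC H (ph (X 2 3)) (ph (rp 4)) :=
    HC_rp' E hH 128 4 (by norm_num) (by decide +kernel) (by decide +kernel)
  exact (h3.symm.trans (HC_of_eq hy2 h)).trans
    (HC_rp' E hH 192 7 (by norm_num) (by decide +kernel) (by decide +kernel))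

theorem e2_false (E : Emb z ph) (hH : ∀ c, C c → ph c ∈ H) (s2 : Side2 z ph false y2)
    (hy2 : y2 ∈ H) : HC H (ph (rp 3)) (ph (rp 7)) := by
  have c34 : C (X 3 4) := CC 3 4 (by decide +kernel)
  have c12 : C (X 1 2) := CC 1 2 (by decide +kernel)
  have c02 : C (X 0 2) := CC 0 2 (by decide +kernel)
  have h1 : ph (X 3 4) * y2 = y2 * ph (X 3 4) := by
    have := s2.b34
    rwa [show tw false (ph (X 1 4) * ph (X 1 2)) = 1 from rfl, mul_one] at this
  have h : ph (mu (X 1 2) (X 3 4)) * y2 = y2 * ph (mu (X 0 2) (X 3 4)) := by
    rw [E.mul c12 c34, E.mul c02 c34, mul_assoc, h1, ← mul_assoc, s2.b12, mul_assoc]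
  have h2 : HC H (ph (mu (X 1 2) (X 3 4))) (ph (rp 7)) :=
    HC_rp' E hH 528 7 (by norm_num) (by decide +kernel) (by decide +kernel)
  have h3 : HC H (ph (mu (X 0 2) (X 3 4))) (ph (rp 3)) :=
    HC_rp' E hH 514 3 (by norm_num) (by decide +kernel) (by decide +kernel)
  exact (h3.symm.trans (HC_of_eq hy2 h).symm).trans h2

/-- **Fusion of the involutions of `T`.** Every involution `ph (tc n)` of `T` is conjugate in `H`
to `z` (if `zt t1 t2 (kf n)`) or to `b = x03 x14` (otherwise). -/
theorem fus (E : Emb z ph) (hH : ∀ c, C c → ph c ∈ H) (s1 : Side z ph t1 y1)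
    (s2 : Side2 z ph t2 y2) (hy1 : y1 ∈ H) (hy2 : y2 ∈ H) {n : ℕ} (hn : n < 1024)
    (h0 : kf n ≠ 0) :
    (zt t1 t2 (kf n) = true → HC H z (ph (tc n))) ∧
    (zt t1 t2 (kf n) = false → HC H (ph (mu (X 0 3) (X 1 4))) (ph (tc n))) := by
  have h := HC_rp E hH hn h0
  have h8 := (tc_spec hn h0).1
  have hz1 : HC H (ph (rp 1)) z := by rw [rp1]; exact a1_z E s1 hy1
  have hz4 : HC H (ph (rp 4)) z := by
    rw [rp4]
    have := d_a1 E hH s2 hy2
    rw [← rp1] at this
    exact this.trans hz1
  rw [← rp3]
  generalize kf n = k at *
  have hk : k = 1 ∨ k = 2 ∨ k = 3 ∨ k = 4 ∨ k = 5 ∨ k = 6 ∨ k = 7 ∨ k = 8 := by omega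
  rcases hk with rfl | rfl | rfl | rfl | rfl | rfl | rfl | rfl
  · refine ⟨fun _ => ?_, fun e => absurd (show true = false from e) (by decide)⟩
    have h' : HC H (ph (tc n)) (ph (rp 0)) := h
    rw [rp0, E.z_eq] at h'
    exact h'.symm
  · refine ⟨fun _ => ?_, fun e => absurd (show true = false from e) (by decide)⟩
    have h' : HC H (ph (tc n)) (ph (rp 1)) := h
    exact (h'.trans hz1).symm
  · refine ⟨fun _ => ?_, fun e => absurd (show true = false from e) (by decide)⟩
    have h' : HC H (ph (tc n)) (ph (rp 2)) := h
    rw [rp2] at h'
    exact (h'.trans (a2_z E s2 hy2)).symm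
  · refine ⟨fun e => absurd (show false = true from e) (by decide), fun _ => ?_⟩
    have h' : HC H (ph (tc n)) (ph (rp 3)) := h
    exact h'.symm
  · refine ⟨fun _ => ?_, fun e => absurd (show true = false from e) (by decide)⟩
    have h' : HC H (ph (tc n)) (ph (rp 4)) := h
    exact (h'.trans hz4).symm
  · refine ⟨fun e => absurd (show false = true from e) (by decide), fun _ => ?_⟩
    have h' : HC H (ph (tc n)) (ph (rp 5)) := h
    have h5 := zd_b E hH s2 hy2
    rw [← rp5] at h5
    exact (h'.trans h5).symm
  · have h' : HC H (ph (tc n)) (ph (rp 6)) := h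
    cases t1 with
    | false =>
      refine ⟨fun e => absurd (show false = true from e) (by decide), fun _ => ?_⟩
      exact (e1_false E hH s1 hy1).trans h'.symm
    | true =>
      refine ⟨fun _ => ?_, fun e => absurd (show true = false from e) (by decide)⟩
      have h6 := e1_true E hH s1 hy1
      rw [← rp4] at h6
      exact (h'.trans (h6.symm.trans hz4)).symm
  · have h' : HC H (ph (tc n)) (ph (rp 7)) := h
    cases t2 with
    | false =>
      refine ⟨fun e => absurd (show false = true from e) (by decide), fun _ => ?_⟩
      exact (e2_false E hH s2 hy2).trans h'.symm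
    | true =>
      refine ⟨fun _ => ?_, fun e => absurd (show true = false from e) (by decide)⟩
      exact (h'.trans ((e2_true E hH s2 hy2).symm.trans hz4)).symm

theorem HC.isConj {x y : G} (h : HC H x y) : IsConj x y := by
  obtain ⟨g, _, e⟩ := h
  exact isConj_iff.2 ⟨g, e⟩

/-- the involutions of `T` of the other types are not conjugate to `z`. -/
theorem fus_not (E : Emb z ph) (hH : ∀ c, C c → ph c ∈ H) (s1 : Side z ph t1 y1)
    (s2 : Side2 z ph t2 y2) (hy1 : y1 ∈ H) (hy2 : y2 ∈ H)
    (hb : ¬ IsConj z (ph (mu (X 0 3) (X 1 4)))) {n : ℕ} (hn : n < 1024)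
    (h0 : kf n ≠ 0) (hz : zt t1 t2 (kf n) = false) : ¬ IsConj z (ph (tc n)) := fun h =>
  hb (h.trans ((fus E hH s1 s2 hy1 hy2 hn h0).2 hz).isConj.symm)

theorem tc_C_ck : allb 1024 (fun n => isC (tc n) (force (mu (tc n) (tc n)) fun a2 =>
    force (mu a2 (tc n)) fun a3 => mu (mu a3 a3) (tc n))) = true := by decide +kernel

/-- all `tc n` are codes of elements of the model. -/
theorem tc_C {n : ℕ} (hn : n < 1024) : C (tc n) := C_of_isC (of_allb tc_C_ck n hn)

end

end Cfsg.Agent.Held.Fus8
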