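import Mathlib

/-!
# The central involution is not fused to `x14 x25`

Abstract criterion used for groups whose involution centralizer is the centralizer of a
transvection of `SL(5, 2)`.
-/

set_option autoImplicit false

namespace Cfsg.Agent.Held.NoB

open Subgroup
open scoped commutatorElement

variable {G : Type*} [Group G]

/-- If `P = C(z) ∩ C(b)` has order `2 ^ n`, `2 ^ (n + 1)` divides `|C(z)|` and every element
normalizing `P` centralizes `z`, then `z` and `b` are not conjugate. -/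
theorem not_isConj_of_normalizer [Finite G] {z b : G} (P : Subgroup G)
    (hP : P = centralizer {z} ⊓ centralizer {b}) (n : ℕ) (hPc : Nat.card P = 2 ^ n)
    (hdvd : 2 ^ (n + 1) ∣ Nat.card (centralizer ({z} : Set G)))
    (hN : ∀ m : G, (∀ p ∈ P, m * p * m⁻¹ ∈ P) → m * z * m⁻¹ = z) : ¬ IsConj z b := by
  intro hc
  obtain ⟨g, hg⟩ := isConj_iff.1 hc
  have : Fact (Nat.Prime 2) := ⟨Nat.prime_two⟩
  -- `C(b)` has the same order as `C(z)`
  have hcard : Nat.card (centralizer ({z} : Set G)) = Nat.card (centralizer ({b} : Set G)) := by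
    refine Nat.card_congr ⟨fun x => ⟨g * x * g⁻¹, ?_⟩, fun x => ⟨g⁻¹ * x * g, ?_⟩, ?_, ?_⟩
    · rw [mem_centralizer_singleton_iff, ← hg]
      have h := mem_centralizer_singleton_iff.1 x.2
      calc g * x * g⁻¹ * (g * z * g⁻¹) = g * (x * z) * g⁻¹ := by group
        _ = g * (z * x) * g⁻¹ := by rw [h]
        _ = g * z * g⁻¹ * (g * x * g⁻¹) := by group
    · rw [mem_centralizer_singleton_iff]
      have h := mem_centralizer_singleton_iff.1 x.2
      calc g⁻¹ * x * g * z = g⁻¹ * (x * (g * z * g⁻¹)) * g := by group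
        _ = g⁻¹ * (x * b) * g := by rw [hg]
        _ = g⁻¹ * (b * x) * g := by rw [h]
        _ = g⁻¹ * (g * z * g⁻¹ * x) * g := by rw [hg]
        _ = z * (g⁻¹ * x * g) := by group
    · intro x; apply Subtype.ext; show g⁻¹ * (g * x * g⁻¹) * g = x; group
    · intro x; apply Subtype.ext; show g * (g⁻¹ * x * g) * g⁻¹ = x; group
  have hle : P ≤ centralizer ({b} : Set G) := hP ▸ inf_le_right
  have hPc' : Nat.card (P.subgroupOf (centralizer ({b} : Set G))) = 2 ^ n := by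
    rw [Nat.card_congr (Subgroup.subgroupOfEquivOfLe hle).toEquiv, hPc]
  rw [hcard] at hdvd
  obtain ⟨K, hK, hPK⟩ := Sylow.exists_subgroup_card_pow_succ hdvd hPc'
  -- index two
  have hidx : ((P.subgroupOf (centralizer ({b} : Set G))).subgroupOf K).index = 2 := by
    have h1 := Subgroup.card_mul_index ((P.subgroupOf (centralizer ({b} : Set G))).subgroupOf K)
    rw [Nat.card_congr (Subgroup.subgroupOfEquivOfLe hPK).toEquiv, hPc', hK, pow_succ] at h1
    exact Nat.eq_of_mul_eq_mul_left (by positivity) h1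
  have hnorm := Subgroup.normal_of_index_eq_two hidx
  -- an element of `K` outside `P`
  have hne : ¬ K ≤ P.subgroupOf (centralizer ({b} : Set G)) := by
    intro h
    have h1 := Subgroup.card_le_of_le h
    rw [hK, hPc', pow_succ] at h1
    have : 0 < 2 ^ n := by positivity
    omega
  obtain ⟨m, hmK, hmP⟩ := SetLike.not_le_iff_exists.1 hne
  apply hmP
  rw [mem_subgroupOf, hP, Subgroup.mem_inf]
  refine ⟨?_, m.2⟩
  rw [mem_centralizer_singleton_iff]
  have h2 : (m : G) * z * (m : G)⁻¹ = z := by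
    apply hN
    intro p hp
    have hpb : p ∈ centralizer ({b} : Set G) := hle hp
    have h3 := hnorm.conj_mem ⟨⟨p, hpb⟩, hPK (by rw [mem_subgroupOf]; exact hp)⟩
      (by rw [mem_subgroupOf, mem_subgroupOf]; exact hp) ⟨m, hmK⟩
    rw [mem_subgroupOf, mem_subgroupOf] at h3
    exact h3
  exact mul_inv_eq_iff_eq_mul.1 h2

/-- The commutator characterization of `z`: if `A, B ≤ P` are permuted by the elements
normalizing `P` and `z` is the only nontrivial double commutator `[[u,p],[v,q]]`, then the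
elements normalizing `P` centralize `z`. -/
theorem normalizer_fix {z : G} (P A B : Subgroup G) (hz : z⁻¹ = z) (hz1 : z ≠ 1)
    (hAB : ∀ m : G, (∀ p ∈ P, m * p * m⁻¹ ∈ P) →
      ((∀ a ∈ A, m * a * m⁻¹ ∈ A) ∧ (∀ b ∈ B, m * b * m⁻¹ ∈ B)) ∨
      ((∀ a ∈ A, m * a * m⁻¹ ∈ B) ∧ (∀ b ∈ B, m * b * m⁻¹ ∈ A)))
    (h1 : ∀ u ∈ A, ∀ v ∈ B, ∀ p ∈ P, ∀ q ∈ P, ⁅⁅u, p⁆, ⁅v, q⁆⁆ = 1 ∨ ⁅⁅u, p⁆, ⁅v, q⁆⁆ = z)
    (h2 : ∃ u ∈ A, ∃ v ∈ B, ∃ p ∈ P, ∃ q ∈ P, ⁅⁅u, p⁆, ⁅v, q⁆⁆ = z) :
    ∀ m : G, (∀ p ∈ P, m * p * m⁻¹ ∈ P) → m * z * m⁻¹ = z := by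
  intro m hm
  obtain ⟨u, hu, v, hv, p, hp, q, hq, he⟩ := h2
  have key : m * z * m⁻¹ =
      ⁅⁅m * u * m⁻¹, m * p * m⁻¹⁆, ⁅m * v * m⁻¹, m * q * m⁻¹⁆⁆ := by
    rw [← he]
    simp only [commutatorElement_def]
    group
  have hne : m * z * m⁻¹ ≠ 1 := by
    intro h
    apply hz1
    have : z = m⁻¹ * (m * z * m⁻¹) * m := by group
    rw [this, h]; group
  rcases hAB m hm with ⟨ha, hb⟩ | ⟨ha, hb⟩
  · rcases h1 _ (ha u hu) _ (hb v hv) _ (hm p hp) _ (hm q hq) with h | h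
    · exact absurd (key.trans h) hne
    · exact key.trans h
  · have key2 : (m * z * m⁻¹)⁻¹ =
        ⁅⁅m * v * m⁻¹, m * q * m⁻¹⁆, ⁅m * u * m⁻¹, m * p * m⁻¹⁆⁆ := by
      rw [key, commutatorElement_inv]
    rcases h1 _ (hb v hv) _ (ha u hu) _ (hm q hq) _ (hm p hp) with h | h
    · rw [h] at key2
      exact absurd (inv_eq_one.1 key2) hne
    · rw [h] at key2
      rw [← inv_inv (m * z * m⁻¹), key2, hz]

end Cfsg.Agent.Held.NoB
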