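import Mathlib
import Cfsg.Agent.SporadicRecognition.HeldHyp
import Cfsg.Agent.Held.NoB

/-!
# `z` is not fused to `x 0 3 * x 1 4`
-/

set_option autoImplicit false

namespace Cfsg.Agent.Held.NoBModel

open Matrix Cfsg.Agent.SporadicRecognition.HeldModel Cfsg.Agent.Lib.F2Mat Cfsg.Agent.Held.NoB
open scoped commutatorElement

/-- The representative of the class of 42 involutions of `O_2(CC)`. -/
def bb : L5 := x 0 3 * x 1 4

theorem bb_mem_T0 : bb ∈ T0 := by
  rw [T0, mem_pat, Pat_iff_inP, bb, cd_mul, cd_x, cd_x]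
  decide +kernel

/-- `bb` as an element of the model -/
def bC : CC := ⟨bb, T0_le_CC bb_mem_T0⟩

theorem coe_mul' (g h : L5) : ((g * h : L5) : Matrix (Fin 5) (Fin 5) (ZMod 2)) =
    (g : Matrix (Fin 5) (Fin 5) (ZMod 2)) * (h : Matrix (Fin 5) (Fin 5) (ZMod 2)) := rfl

/-- `bb - 1` -/
def EB : Matrix (Fin 5) (Fin 5) (ZMod 2) := Matrix.single 0 3 1 + Matrix.single 1 4 1

theorem coe_bb : (bb : Matrix (Fin 5) (Fin 5) (ZMod 2)) = 1 + EB := by
  rw [bb, coe_mul', coe_x, coe_x, transvection, transvection, EB]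
  rw [add_mul, one_mul, mul_add, mul_one, Matrix.single_mul_single_of_ne _ _ _ _ (by decide)]
  rw [add_zero]
  abel

/-- Elements of `CC` commuting with `bb` are unitriangular. -/
theorem mem_T0_of_comm {g : L5} (hg : g ∈ CC) (h : g * bb = bb * g) : g ∈ T0 := by
  rw [mem_CC_iff_pat] at hg
  have h1 : (g : Matrix (Fin 5) (Fin 5) (ZMod 2)) * EB =
      EB * (g : Matrix (Fin 5) (Fin 5) (ZMod 2)) := by
    have h2 := congrArg (fun u : L5 => (u : Matrix (Fin 5) (Fin 5) (ZMod 2))) h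
    simp only [coe_mul', coe_bb] at h2
    rw [mul_add, add_mul, mul_one, one_mul] at h2
    exact add_left_cancel h2
  have hl : ∀ i j, ((g : Matrix (Fin 5) (Fin 5) (ZMod 2)) * EB) i j =
      (if j = 3 then (g : Matrix (Fin 5) (Fin 5) (ZMod 2)) i 0 else 0) +
      (if j = 4 then (g : Matrix (Fin 5) (Fin 5) (ZMod 2)) i 1 else 0) := by
    intro i j
    rw [EB, mul_add, Matrix.add_apply]
    congr 1
    · by_cases hj : j = 3
      · rw [if_pos hj, hj]; simp
      · rw [if_neg hj, Matrix.mul_single_apply_of_ne]; exact hj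
    · by_cases hj : j = 4
      · rw [if_pos hj, hj]; simp
      · rw [if_neg hj, Matrix.mul_single_apply_of_ne]; exact hj
  have hr : ∀ i j, (EB * (g : Matrix (Fin 5) (Fin 5) (ZMod 2))) i j =
      (if i = 0 then (g : Matrix (Fin 5) (Fin 5) (ZMod 2)) 3 j else 0) +
      (if i = 1 then (g : Matrix (Fin 5) (Fin 5) (ZMod 2)) 4 j else 0) := by
    intro i j
    rw [EB, add_mul, Matrix.add_apply]
    congr 1
    · by_cases hi : i = 0
      · rw [if_pos hi, hi]; simp
      · rw [if_neg hi, Matrix.single_mul_apply_of_ne]; exact hi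
    · by_cases hi : i = 1
      · rw [if_pos hi, hi]; simp
      · rw [if_neg hi, Matrix.single_mul_apply_of_ne]; exact hi
  have hc : ∀ i j, (if j = 3 then (g : Matrix (Fin 5) (Fin 5) (ZMod 2)) i 0 else 0) +
      (if j = 4 then (g : Matrix (Fin 5) (Fin 5) (ZMod 2)) i 1 else 0) =
      (if i = 0 then (g : Matrix (Fin 5) (Fin 5) (ZMod 2)) 3 j else 0) +
      (if i = 1 then (g : Matrix (Fin 5) (Fin 5) (ZMod 2)) 4 j else 0) := by
    intro i j
    rw [← hl, ← hr, h1]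
  have hz : ∀ i j, PC i j = false → (g : Matrix (Fin 5) (Fin 5) (ZMod 2)) i j =
      (1 : Matrix (Fin 5) (Fin 5) (ZMod 2)) i j := by
    intro i j hij
    have := hg i j hij
    rwa [Matrix.sub_apply, sub_eq_zero] at this
  have c00 := hz 0 0 (by decide)
  have c10 := hz 1 0 (by decide)
  have c20 := hz 2 0 (by decide)
  have c30 := hz 3 0 (by decide)
  have c40 := hz 4 0 (by decide)
  have c41 := hz 4 1 (by decide)
  have c42 := hz 4 2 (by decide)
  have c43 := hz 4 3 (by decide)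
  have c44 := hz 4 4 (by decide)
  have e03 := hc 0 3
  have e01 := hc 0 1
  have e02 := hc 0 2
  have e14 := hc 1 4
  have e24 := hc 2 4
  have e34 := hc 3 4
  simp only [if_true, show ¬ ((3 : Fin 5) = 4) by decide,
    show ¬ ((0 : Fin 5) = 1) by decide, show ¬ ((1 : Fin 5) = 3) by decide,
    show ¬ ((1 : Fin 5) = 4) by decide, show ¬ ((2 : Fin 5) = 3) by decide,
    show ¬ ((2 : Fin 5) = 4) by decide, show ¬ ((4 : Fin 5) = 3) by decide,
    show ¬ ((1 : Fin 5) = 0) by decide, show ¬ ((2 : Fin 5) = 0) by decide,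
    show ¬ ((2 : Fin 5) = 1) by decide, show ¬ ((3 : Fin 5) = 0) by decide,
    show ¬ ((3 : Fin 5) = 1) by decide, if_false, add_zero, zero_add] at e03 e01 e02 e14 e24 e34
  rw [c00] at e03
  rw [c44] at e14
  have hup : (g : Matrix (Fin 5) (Fin 5) (ZMod 2)).BlockTriangular id := by
    intro i j hij
    simp only [id] at hij
    have key : ∀ i j : Fin 5, j < i → (i, j) = (1, 0) ∨ (i, j) = (2, 0) ∨ (i, j) = (3, 0) ∨
        (i, j) = (4, 0) ∨ (i, j) = (2, 1) ∨ (i, j) = (3, 1) ∨ (i, j) = (4, 1) ∨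
        (i, j) = (3, 2) ∨ (i, j) = (4, 2) ∨ (i, j) = (4, 3) := by decide
    rcases key i j hij with h | h | h | h | h | h | h | h | h | h <;>
      simp only [Prod.mk.injEq] at h <;> obtain ⟨rfl, rfl⟩ := h
    · rw [c10]; rfl
    · rw [c20]; rfl
    · rw [c30]; rfl
    · rw [c40]; rfl
    · exact e24
    · exact e01.symm
    · rw [c41]; rfl
    · exact e02.symm
    · rw [c42]; rfl
    · rw [c43]; rfl
  have hdet : (g : Matrix (Fin 5) (Fin 5) (ZMod 2)).det = 1 := g.2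
  rw [Matrix.det_of_isUpperTriangular hup, Fin.prod_univ_five, c00, c44, e14, ← e03] at hdet
  have c22 : (g : Matrix (Fin 5) (Fin 5) (ZMod 2)) 2 2 = 1 := by
    simpa using hdet
  rw [T0, mem_pat]
  intro i j hij
  rw [Matrix.sub_apply, sub_eq_zero]
  have hij' : j ≤ i := by
    simpa [PT] using hij
  rcases lt_or_eq_of_le hij' with h | h
  · rw [hup h, Matrix.one_apply_ne (ne_of_gt h)]
  · subst h
    rw [Matrix.one_apply_eq]
    fin_cases j
    · exact c00
    · exact e14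
    · exact c22
    · exact e03.symm
    · exact c44

/-! ### Supports -/

abbrev M5 := Matrix (Fin 5) (Fin 5) (ZMod 2)

/-- the matrix `M` is supported on `P`. -/
def Sup (P : Fin 5 → Fin 5 → Bool) (M : M5) : Prop := ∀ i j, P i j = false → M i j = 0

theorem pat_iff_sup {P : Fin 5 → Fin 5 → Bool} {g : L5} : Pat P g ↔ Sup P ((g : M5) - 1) := Iff.rfl

theorem Sup.add {P : Fin 5 → Fin 5 → Bool} {M N : M5} (hM : Sup P M) (hN : Sup P N) :
    Sup P (M + N) := by
  intro i j h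
  rw [Matrix.add_apply, hM i j h, hN i j h, add_zero]

theorem Sup.mul {P P' R : Fin 5 → Fin 5 → Bool}
    (h : ∀ i k j, P i k = true → P' k j = true → R i j = true) {M N : M5}
    (hM : Sup P M) (hN : Sup P' N) : Sup R (M * N) := by
  intro i j hij
  rw [Matrix.mul_apply]
  apply Finset.sum_eq_zero
  intro k _
  cases h1 : P i k with
  | false => rw [hM i k h1, zero_mul]
  | true =>
    cases h2 : P' k j with
    | false => rw [hN k j h2, mul_zero]
    | true => rw [h i k j h1 h2] at hij; exact absurd hij (by decide)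

theorem conj_pat {P P' : Fin 5 → Fin 5 → Bool} (hP' : Tr P')
    (h1 : ∀ i k j, P' i k = true → P k j = true → P i j = true)
    (h2 : ∀ i k j, P i k = true → P' k j = true → P i j = true) {p u : L5}
    (hp : p ∈ pat P' hP') (hu : Pat P u) : Pat P (p * u * p⁻¹) := by
  have hp' : p⁻¹ ∈ pat P' hP' := (pat P' hP').inv_mem hp
  rw [mem_pat, pat_iff_sup] at hp hp'
  rw [pat_iff_sup] at hu ⊢
  have hpp : (p : M5) * ((p⁻¹ : L5) : M5) = 1 := by
    rw [← coe_mul', mul_inv_cancel]; rfl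
  have e : ((p * u * p⁻¹ : L5) : M5) - 1 = ((u : M5) - 1) + ((p : M5) - 1) * ((u : M5) - 1) +
      (((u : M5) - 1) * (((p⁻¹ : L5) : M5) - 1) +
        ((p : M5) - 1) * (((u : M5) - 1) * (((p⁻¹ : L5) : M5) - 1))) := by
    rw [coe_mul', coe_mul']
    have : (p : M5) * u * ((p⁻¹ : L5) : M5) - 1 =
        (p : M5) * ((u : M5) - 1) * ((p⁻¹ : L5) : M5) := by
      rw [mul_sub, mul_one, sub_mul, hpp]
    rw [this]
    noncomm_ring
  rw [e]
  exact (hu.add (Sup.mul h1 hp hu)).add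
    ((Sup.mul h2 hu hp').add (Sup.mul h1 hp (Sup.mul h2 hu hp')))

theorem comm_of_pat {P P' : Fin 5 → Fin 5 → Bool}
    (h1 : ∀ i k j, P i k = true → P' k j = true → False)
    (h2 : ∀ i k j, P' i k = true → P k j = true → False) {g h : L5}
    (hg : Pat P g) (hh : Pat P' h) : g * h = h * g := by
  rw [pat_iff_sup] at hg hh
  have e1 : ((g : M5) - 1) * ((h : M5) - 1) = 0 := by
    ext i j
    exact Sup.mul (R := fun _ _ => false) (fun i k j a b => (h1 i k j a b).elim) hg hh i j rfl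
  have e2 : ((h : M5) - 1) * ((g : M5) - 1) = 0 := by
    ext i j
    exact Sup.mul (R := fun _ _ => false) (fun i k j a b => (h2 i k j a b).elim) hh hg i j rfl
  apply Subtype.ext
  rw [coe_mul', coe_mul']
  have e3 : (g : M5) * (h : M5) = ((g : M5) - 1) * ((h : M5) - 1) + g + h - 1 := by noncomm_ring
  have e4 : (h : M5) * (g : M5) = ((h : M5) - 1) * ((g : M5) - 1) + g + h - 1 := by noncomm_ring
  rw [e3, e4, e1, e2]

theorem T0_ent {g : L5} (hg : g ∈ T0) {i j : Fin 5} (h : j ≤ i) :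
    (g : M5) i j = (1 : M5) i j := by
  have := hg i j (by simpa [PT] using h)
  rwa [Matrix.sub_apply, sub_eq_zero] at this

theorem sup12 {g h : L5} (hg : g ∈ T0) (hh : h ∈ T0) :
    ((g * h : L5) : M5) 1 2 = (g : M5) 1 2 + (h : M5) 1 2 := by
  rw [coe_mul', Matrix.mul_apply, Fin.sum_univ_five, T0_ent hg (i := 1) (j := 0) (by decide),
    T0_ent hg (i := 1) (j := 1) (by decide), T0_ent hh (i := 2) (j := 2) (by decide),
    T0_ent hh (i := 3) (j := 2) (by decide), T0_ent hh (i := 4) (j := 2) (by decide)]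
  simp only [show (1 : M5) 1 0 = 0 from rfl, show (1 : M5) 1 1 = 1 from rfl,
    show (1 : M5) 2 2 = 1 from rfl, show (1 : M5) 3 2 = 0 from rfl,
    show (1 : M5) 4 2 = 0 from rfl]
  ring

theorem sup23 {g h : L5} (hg : g ∈ T0) (hh : h ∈ T0) :
    ((g * h : L5) : M5) 2 3 = (g : M5) 2 3 + (h : M5) 2 3 := by
  rw [coe_mul', Matrix.mul_apply, Fin.sum_univ_five, T0_ent hg (i := 2) (j := 0) (by decide),
    T0_ent hg (i := 2) (j := 1) (by decide), T0_ent hg (i := 2) (j := 2) (by decide),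
    T0_ent hh (i := 3) (j := 3) (by decide), T0_ent hh (i := 4) (j := 3) (by decide)]
  simp only [show (1 : M5) 2 0 = 0 from rfl, show (1 : M5) 2 1 = 0 from rfl,
    show (1 : M5) 2 2 = 1 from rfl, show (1 : M5) 3 3 = 1 from rfl,
    show (1 : M5) 4 3 = 0 from rfl]
  ring

theorem comm12 {g h : L5} (hg : g ∈ T0) (hh : h ∈ T0) : ((⁅g, h⁆ : L5) : M5) 1 2 = 0 := by
  have hg' := T0.inv_mem hg
  have hh' := T0.inv_mem hh
  have e1 : (g : M5) 1 2 + ((g⁻¹ : L5) : M5) 1 2 = 0 := by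
    rw [← sup12 hg hg', mul_inv_cancel]; rfl
  have e2 : (h : M5) 1 2 + ((h⁻¹ : L5) : M5) 1 2 = 0 := by
    rw [← sup12 hh hh', mul_inv_cancel]; rfl
  rw [commutatorElement_def, sup12 (T0.mul_mem (T0.mul_mem hg hh) hg') hh',
    sup12 (T0.mul_mem hg hh) hg', sup12 hg hh]
  calc (g : M5) 1 2 + (h : M5) 1 2 + ((g⁻¹ : L5) : M5) 1 2 + ((h⁻¹ : L5) : M5) 1 2
      = ((g : M5) 1 2 + ((g⁻¹ : L5) : M5) 1 2) + ((h : M5) 1 2 + ((h⁻¹ : L5) : M5) 1 2) := by ring
    _ = 0 := by rw [e1, e2, add_zero]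

theorem comm23 {g h : L5} (hg : g ∈ T0) (hh : h ∈ T0) : ((⁅g, h⁆ : L5) : M5) 2 3 = 0 := by
  have hg' := T0.inv_mem hg
  have hh' := T0.inv_mem hh
  have e1 : (g : M5) 2 3 + ((g⁻¹ : L5) : M5) 2 3 = 0 := by
    rw [← sup23 hg hg', mul_inv_cancel]; rfl
  have e2 : (h : M5) 2 3 + ((h⁻¹ : L5) : M5) 2 3 = 0 := by
    rw [← sup23 hh hh', mul_inv_cancel]; rfl
  rw [commutatorElement_def, sup23 (T0.mul_mem (T0.mul_mem hg hh) hg') hh',
    sup23 (T0.mul_mem hg hh) hg', sup23 hg hh]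
  calc (g : M5) 2 3 + (h : M5) 2 3 + ((g⁻¹ : L5) : M5) 2 3 + ((h⁻¹ : L5) : M5) 2 3
      = ((g : M5) 2 3 + ((g⁻¹ : L5) : M5) 2 3) + ((h : M5) 2 3 + ((h⁻¹ : L5) : M5) 2 3) := by ring
    _ = 0 := by rw [e1, e2, add_zero]

theorem V1_conj {p u : L5} (hp : p ∈ T0) (hu : u ∈ V1) : p * u * p⁻¹ ∈ V1 := by
  rw [V1, mem_pat] at hu ⊢
  exact conj_pat (P' := PT) (by decide) (by decide) (by decide) hp hu

theorem V2_conj {p u : L5} (hp : p ∈ T0) (hu : u ∈ V2) : p * u * p⁻¹ ∈ V2 := by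
  rw [V2, mem_pat] at hu ⊢
  exact conj_pat (P' := PT) (by decide) (by decide) (by decide) hp hu

theorem V1_comm {p u : L5} (hp : p ∈ T0) (hu : u ∈ V1) : ⁅u, p⁆ ∈ V1 := by
  rw [commutatorElement_def]
  have : u * p * u⁻¹ * p⁻¹ = u * (p * u⁻¹ * p⁻¹) := by group
  rw [this]
  exact V1.mul_mem hu (V1_conj hp (V1.inv_mem hu))

theorem V2_comm {p u : L5} (hp : p ∈ T0) (hu : u ∈ V2) : ⁅u, p⁆ ∈ V2 := by
  rw [commutatorElement_def]
  have : u * p * u⁻¹ * p⁻¹ = u * (p * u⁻¹ * p⁻¹) := by group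
  rw [this]
  exact V2.mul_mem hu (V2_conj hp (V2.inv_mem hu))

/-- the pattern of `V1` without the entry `(1, 2)` -/
def PA (i j : Fin 5) : Bool := PV1 i j && !(decide (i = 1) && decide (j = 2))
/-- the pattern of `V2` without the entry `(2, 3)` -/
def PB (i j : Fin 5) : Bool := PV2 i j && !(decide (i = 2) && decide (j = 3))

theorem comm_pat_A {p u : L5} (hp : p ∈ T0) (hu : u ∈ V1) : Pat PA ⁅u, p⁆ := by
  intro i j hij
  cases h : PV1 i j with
  | false => exact V1_comm hp hu i j h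
  | true =>
    have : i = 1 ∧ j = 2 := by
      revert hij h; revert i j; decide
    obtain ⟨rfl, rfl⟩ := this
    rw [Matrix.sub_apply, comm12 (V1_le_T0 hu) hp]; rfl

theorem comm_pat_B {p u : L5} (hp : p ∈ T0) (hu : u ∈ V2) : Pat PB ⁅u, p⁆ := by
  intro i j hij
  cases h : PV2 i j with
  | false => exact V2_comm hp hu i j h
  | true =>
    have : i = 2 ∧ j = 3 := by
      revert hij h; revert i j; decide
    obtain ⟨rfl, rfl⟩ := this
    rw [Matrix.sub_apply, comm23 (V2_le_T0 hu) hp]; rfl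

/-- the double commutators are `1` or `zz`. -/
theorem comm_AB {a b : L5} (ha : Pat PA a) (hb : Pat PB b) : ⁅a, b⁆ = 1 ∨ ⁅a, b⁆ = zz := by
  rw [pat_iff_sup] at ha hb
  have e2 : ((b : M5) - 1) * ((a : M5) - 1) = 0 := by
    ext i j
    exact Sup.mul (R := fun _ _ => false) (by decide) hb ha i j rfl
  have e1 : Sup (fun i j => decide (i = 0) && decide (j = 4))
      (((a : M5) - 1) * ((b : M5) - 1)) := Sup.mul (by decide) ha hb
  have e3 : (a : M5) * (b : M5) = ((a : M5) - 1) * ((b : M5) - 1) + a + b - 1 := by noncomm_ring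
  have e4 : (b : M5) * (a : M5) = ((b : M5) - 1) * ((a : M5) - 1) + a + b - 1 := by noncomm_ring
  have e5 : (((a : M5) - 1) * ((b : M5) - 1)) =
      Matrix.single 0 4 ((((a : M5) - 1) * ((b : M5) - 1)) 0 4) := by
    ext i j
    by_cases h : i = 0 ∧ j = 4
    · obtain ⟨rfl, rfl⟩ := h
      rw [Matrix.single_apply_same]
    · rw [e1 i j (by simpa using h), Matrix.single_apply_of_ne]
      rintro ⟨rfl, rfl⟩; exact h ⟨rfl, rfl⟩
  have key : a * b = b * a ∨ a * b = zz * (b * a) := by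
    rcases zmod2_cases ((((a : M5) - 1) * ((b : M5) - 1)) 0 4) with h | h
    · left
      apply Subtype.ext
      rw [coe_mul', coe_mul', e3, e4, e2, e5, h, Matrix.single_zero]
    · right
      rw [h] at e5
      apply Subtype.ext
      rw [coe_mul', coe_mul', coe_mul', coe_zz, transvection, add_mul, one_mul, e3, e4, e2, e5]
      have hz4 : Matrix.single 0 4 (1 : ZMod 2) * (0 + (a : M5) + (b : M5) - 1) =
          Matrix.single 0 4 1 := by
        ext i j
        by_cases hi : i = 0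
        · subst hi
          rw [Matrix.single_mul_apply_same, one_mul]
          rw [Matrix.sub_apply, Matrix.add_apply, Matrix.add_apply, Matrix.zero_apply]
          have hA : ∀ j : Fin 5, PA 4 j = false := by decide
          have hB : ∀ j : Fin 5, PB 4 j = false := by decide
          have ha4 := ha 4 j (hA j)
          have hb4 := hb 4 j (hB j)
          rw [Matrix.sub_apply, sub_eq_zero] at ha4 hb4
          rw [ha4, hb4]
          have hj : ∀ j : Fin 5, (0 : ZMod 2) + (1 : M5) 4 j + (1 : M5) 4 j - (1 : M5) 4 j =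
            (Matrix.single 0 4 1 : M5) 0 j := by decide
          exact hj j
        · rw [Matrix.single_mul_apply_of_ne, Matrix.single_apply_of_ne]
          · rintro ⟨h, -⟩; exact hi h.symm
          · exact hi
      rw [hz4]
      abel
  rcases key with h | h
  · left
    rw [commutatorElement_def, h]; group
  · right
    rw [commutatorElement_def, h]; group

/-! ### The centraliser of `bb` -/

/-- the centralizer of `bb` in `CC`. -/
def P0 : Subgroup L5 := T0 ⊓ Subgroup.centralizer {bb}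

theorem mem_P0 {g : L5} : g ∈ P0 ↔ g ∈ CC ∧ g * bb = bb * g := by
  rw [P0, Subgroup.mem_inf, Subgroup.mem_centralizer_singleton_iff]
  constructor
  · rintro ⟨h1, h2⟩; exact ⟨T0_le_CC h1, h2⟩
  · rintro ⟨h1, h2⟩; exact ⟨mem_T0_of_comm h1 h2, h2⟩

theorem P0_le_T0 : P0 ≤ T0 := inf_le_left

theorem bb_FF : bb ∈ FF := by
  rw [FF, mem_pat, Pat_iff_inP, bb, cd_mul, cd_x, cd_x]
  decide +kernel

theorem V1_le_P0 : V1 ≤ P0 := by
  intro g hg
  rw [mem_P0]
  exact ⟨V1_le_CC hg, comm_of_pat (P := PV1) (P' := PF) (by decide) (by decide) hg bb_FF⟩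

theorem V2_le_P0 : V2 ≤ P0 := by
  intro g hg
  rw [mem_P0]
  exact ⟨V2_le_CC hg, comm_of_pat (P := PV2) (P' := PF) (by decide) (by decide) hg bb_FF⟩

theorem double_comm {u v p q : L5} (hu : u ∈ V1) (hv : v ∈ V2) (hp : p ∈ P0) (hq : q ∈ P0) :
    ⁅⁅u, p⁆, ⁅v, q⁆⁆ = 1 ∨ ⁅⁅u, p⁆, ⁅v, q⁆⁆ = zz :=
  comm_AB (comm_pat_A (P0_le_T0 hp) hu) (comm_pat_B (P0_le_T0 hq) hv)

/-- an element of `P0` outside `JJ` -/
def pp : L5 := x 0 1 * x 3 4

theorem pp_mem : pp ∈ P0 := by
  rw [mem_P0]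
  constructor
  · rw [mem_CC_iff, pp, cd_mul, cd_x, cd_x]; decide +kernel
  · apply cd_inj
    rw [cd_mul, cd_mul, pp, bb, cd_mul, cd_mul, cd_x, cd_x, cd_x, cd_x]
    decide +kernel

theorem x_inv (i j : Fin 5) (h : i ≠ j) : (x i j h)⁻¹ = x i j h := by
  rw [inv_eq_iff_mul_eq_one]
  apply cd_inj
  rw [cd_mul, cd_one, cd_x]
  revert i j; decide +kernel

theorem pp_inv : pp⁻¹ = pp := by
  rw [inv_eq_iff_mul_eq_one]
  apply cd_inj
  rw [cd_mul, pp, cd_mul, cd_one, cd_x, cd_x]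
  decide +kernel

theorem x12_mem : x 1 2 ∈ V1 := by
  rw [V1, mem_pat, Pat_iff_inP, cd_x]; decide +kernel

theorem x23_mem : x 2 3 ∈ V2 := by
  rw [V2, mem_pat, Pat_iff_inP, cd_x]; decide +kernel

theorem double_comm_ex : ⁅⁅x 1 2, pp⁆, ⁅x 2 3, pp⁆⁆ = zz := by
  have h1 : ⁅x 1 2, pp⁆ = x 1 2 * pp * x 1 2 * pp := by
    rw [commutatorElement_def, x_inv, pp_inv]
  have h2 : ⁅x 2 3, pp⁆ = x 2 3 * pp * x 2 3 * pp := by
    rw [commutatorElement_def, x_inv, pp_inv]
  rw [commutatorElement_def, mul_inv_eq_iff_eq_mul, mul_inv_eq_iff_eq_mul, h1, h2]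
  apply cd_inj
  simp only [cd_mul, cd_x, cd_zz, pp]
  decide +kernel

theorem not_mem_P0 : x 0 1 ∉ P0 := by
  rw [mem_P0]
  rintro ⟨-, h⟩
  have := congrArg cd h
  rw [bb, cd_mul, cd_mul, cd_mul, cd_x, cd_x, cd_x] at this
  revert this
  decide +kernel

theorem x01_mem : x 0 1 ∈ T0 := by
  rw [T0, mem_pat, Pat_iff_inP, cd_x]; decide +kernel

/-! ### The theorem -/

section Main

variable {G : Type*} [Group G] [Finite G] {z : G} {ι : CC →* G}

/-- the image in `G` of a subgroup of the model -/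
def im (ι : CC →* G) (A : Subgroup L5) : Subgroup G := (A.subgroupOf CC).map ι

omit [Finite G] in
theorem mem_im {A : Subgroup L5} {g : G} : g ∈ im ι A ↔ ∃ u : CC, (u : L5) ∈ A ∧ ι u = g := by
  simp only [im, Subgroup.mem_map, Subgroup.mem_subgroupOf]

omit [Finite G] in
theorem card_im (h : Hyp z ι) {A : Subgroup L5} (hA : A ≤ CC) :
    Nat.card (im ι A) = Nat.card A := by
  rw [im, Subgroup.card_map_of_injective h.inj]
  exact Nat.card_congr (Subgroup.subgroupOfEquivOfLe hA).toEquiv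

omit [Finite G] in
theorem im_P0 (h : Hyp z ι) :
    im ι P0 = Subgroup.centralizer {z} ⊓ Subgroup.centralizer {ι bC} := by
  ext g
  rw [mem_im, Subgroup.mem_inf, ← h.range, Subgroup.mem_centralizer_singleton_iff]
  constructor
  · rintro ⟨u, hu, rfl⟩
    refine ⟨⟨u, rfl⟩, ?_⟩
    rw [← map_mul, ← map_mul]
    congr 1
    exact Subtype.ext (mem_P0.1 hu).2
  · rintro ⟨⟨u, rfl⟩, h2⟩
    refine ⟨u, ?_, rfl⟩
    rw [mem_P0]
    rw [← map_mul, ← map_mul] at h2
    exact ⟨u.2, congrArg Subtype.val (h.inj h2)⟩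

omit [Finite G] in
theorem im_le {A B : Subgroup L5} (hAB : A ≤ B) : im ι A ≤ im ι B := by
  intro g hg
  rw [mem_im] at hg ⊢
  obtain ⟨u, hu, rfl⟩ := hg
  exact ⟨u, hAB hu, rfl⟩

omit [Finite G] in
/-- an elementary abelian subgroup of order `64` in the image of `T0` is one of the two. -/
theorem elab_im (h : Hyp z ι)
    (hel : ∀ A : Subgroup L5, A ≤ T0 → (∀ a ∈ A, a * a = 1) → Nat.card A = 64 → A = V1 ∨ A = V2)
    (B : Subgroup G) (hB : B ≤ im ι T0) (hB1 : ∀ b ∈ B, b * b = 1) (hB2 : Nat.card B = 64) :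
    B = im ι V1 ∨ B = im ι V2 := by
  let A : Subgroup L5 := (B.comap ι).map CC.subtype
  have hA : ∀ g, g ∈ A ↔ ∃ u : CC, ι u ∈ B ∧ (u : L5) = g := by
    intro g
    simp only [A, Subgroup.mem_map, Subgroup.mem_comap, Subgroup.coe_subtype]
  have hBA : B = im ι A := by
    ext g
    rw [mem_im]
    constructor
    · intro hg
      obtain ⟨u, hu, rfl⟩ := mem_im.1 (hB hg)
      exact ⟨u, (hA _).2 ⟨u, hg, rfl⟩, rfl⟩
    · rintro ⟨u, hu, rfl⟩
      obtain ⟨u', hu', e⟩ := (hA _).1 hu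
      rw [← Subtype.ext e]; exact hu'
  have hAT : A ≤ T0 := by
    intro g hg
    obtain ⟨u, hu, rfl⟩ := (hA _).1 hg
    obtain ⟨v, hv, e⟩ := mem_im.1 (hB hu)
    rw [← h.inj e]; exact hv
  have hA2 : ∀ a ∈ A, a * a = 1 := by
    intro g hg
    obtain ⟨u, hu, rfl⟩ := (hA _).1 hg
    have h1 := hB1 _ hu
    rw [← map_mul, ← map_one ι] at h1
    exact congrArg Subtype.val (h.inj h1)
  have hA3 : Nat.card A = 64 := by
    rw [← hB2, hBA, card_im h (hAT.trans T0_le_CC)]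
  rcases hel A hAT hA2 hA3 with h1 | h1
  · left; rw [hBA, h1]
  · right; rw [hBA, h1]

theorem V1_ne_V2 : V1 ≠ V2 := by
  intro h
  have h1 : x 1 2 ∈ V2 := h ▸ x12_mem
  rw [V2, mem_pat, Pat_iff_inP, cd_x] at h1
  revert h1; decide +kernel

theorem sq_V1 {g : L5} (hg : g ∈ V1) : g * g = 1 := by
  rw [V1, mem_pat, pat_iff_sup] at hg
  have e1 : ((g : M5) - 1) * ((g : M5) - 1) = 0 := by
    ext i j
    exact Sup.mul (R := fun _ _ => false) (by decide) hg hg i j rfl
  apply Subtype.ext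
  rw [coe_mul']
  have e3 : (g : M5) * (g : M5) = ((g : M5) - 1) * ((g : M5) - 1) + (g + g) - 1 := by
    noncomm_ring
  have e4 : (g : M5) + g = 0 := by
    ext i j
    rw [Matrix.add_apply]
    exact CharTwo.add_self_eq_zero _
  rw [e3, e1, e4]
  ext i j
  rw [zero_add, Matrix.sub_apply, Matrix.zero_apply, zero_sub]
  show - ((1 : M5) i j) = (1 : M5) i j
  exact ZMod.neg_eq_self_mod_two _

theorem sq_V2 {g : L5} (hg : g ∈ V2) : g * g = 1 := by
  rw [V2, mem_pat, pat_iff_sup] at hg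
  have e1 : ((g : M5) - 1) * ((g : M5) - 1) = 0 := by
    ext i j
    exact Sup.mul (R := fun _ _ => false) (by decide) hg hg i j rfl
  apply Subtype.ext
  rw [coe_mul']
  have e3 : (g : M5) * (g : M5) = ((g : M5) - 1) * ((g : M5) - 1) + (g + g) - 1 := by
    noncomm_ring
  have e4 : (g : M5) + g = 0 := by
    ext i j
    rw [Matrix.add_apply]
    exact CharTwo.add_self_eq_zero _
  rw [e3, e1, e4]
  ext i j
  rw [zero_add, Matrix.sub_apply, Matrix.zero_apply, zero_sub]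
  show - ((1 : M5) i j) = (1 : M5) i j
  exact ZMod.neg_eq_self_mod_two _

omit [Finite G] in
theorem sq_im {A : Subgroup L5} (hA : ∀ a ∈ A, a * a = 1) :
    ∀ g ∈ im ι A, g * g = 1 := by
  intro g hg
  obtain ⟨u, hu, rfl⟩ := mem_im.1 hg
  rw [← map_mul, ← map_one ι]
  congr 1
  exact Subtype.ext (hA _ hu)

omit [Finite G] in
theorem im_inj (h : Hyp z ι) {A B : Subgroup L5} (hA : A ≤ CC) (hB : B ≤ CC)
    (e : im ι A = im ι B) : A = B := by
  have key : ∀ {A B : Subgroup L5}, A ≤ CC → im ι A = im ι B → A ≤ B := by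
    intro A B hA e g hg
    have h1 : ι ⟨g, hA hg⟩ ∈ im ι B := by
      rw [← e]; exact mem_im.2 ⟨⟨g, hA hg⟩, hg, rfl⟩
    obtain ⟨u, hu, e1⟩ := mem_im.1 h1
    have := h.inj e1
    rw [this] at hu
    exact hu
  exact le_antisymm (key hA e) (key hB e.symm)

theorem zz_ne_one : (zz : L5) ≠ 1 := by
  intro h
  have := congrArg cd h
  rw [cd_zz, cd_one] at this
  revert this; decide +kernel

theorem zz_inv : (zz : L5)⁻¹ = zz := x_inv _ _ _

/-- Elements normalizing `C(z) ∩ C(ι bb)` centralize `z`. -/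
theorem fix_of_normalizes (h : Hyp z ι) (hV1 : Nat.card V1 = 64) (hV2 : Nat.card V2 = 64)
    (hel : ∀ A : Subgroup L5, A ≤ T0 → (∀ a ∈ A, a * a = 1) → Nat.card A = 64 →
      A = V1 ∨ A = V2) :
    ∀ m : G, (∀ p ∈ im ι P0, m * p * m⁻¹ ∈ im ι P0) → m * z * m⁻¹ = z := by
  have hz : z⁻¹ = z := by
    have e : zC⁻¹ = zC := Subtype.ext zz_inv
    rw [← h.map_zz, ← map_inv, e]
  have hz1 : z ≠ 1 := by
    rw [← h.map_zz, ← map_one ι]
    intro e
    exact zz_ne_one (congrArg Subtype.val (h.inj e))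
  apply normalizer_fix (im ι P0) (im ι V1) (im ι V2) hz hz1
  · intro m hm
    -- conjugates of the two groups
    have conj : ∀ A : Subgroup L5, A ≤ P0 → (∀ a ∈ A, a * a = 1) → Nat.card A = 64 →
        (im ι A).map (MulAut.conj m).toMonoidHom = im ι V1 ∨
        (im ι A).map (MulAut.conj m).toMonoidHom = im ι V2 := by
      intro A hA hA1 hA2
      apply elab_im h hel
      · rintro _ ⟨a, ha, rfl⟩
        exact im_le P0_le_T0 (hm a (im_le hA ha))
      · rintro _ ⟨a, ha, rfl⟩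
        rw [← map_mul, sq_im hA1 a ha, map_one]
      · rw [Subgroup.card_map_of_injective (MulEquiv.injective _),
          card_im h (hA.trans (P0_le_T0.trans T0_le_CC)), hA2]
    have e1 := conj V1 V1_le_P0 (fun a ha => sq_V1 ha) hV1
    have e2 := conj V2 V2_le_P0 (fun a ha => sq_V2 ha) hV2
    have hne : (im ι V1).map (MulAut.conj m).toMonoidHom ≠
        (im ι V2).map (MulAut.conj m).toMonoidHom := by
      intro e
      have := Subgroup.map_injective (f := (MulAut.conj m).toMonoidHom) (MulEquiv.injective _) e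
      exact V1_ne_V2 (im_inj h V1_le_CC V2_le_CC this)
    have mem : ∀ {A B : Subgroup G}, A.map (MulAut.conj m).toMonoidHom = B →
        ∀ a ∈ A, m * a * m⁻¹ ∈ B := by
      rintro A B rfl a ha
      exact ⟨a, ha, rfl⟩
    rcases e1 with e1 | e1 <;> rcases e2 with e2 | e2
    · exact absurd (e1.trans e2.symm) hne
    · exact Or.inl ⟨mem e1, mem e2⟩
    · exact Or.inr ⟨mem e1, mem e2⟩
    · exact absurd (e1.trans e2.symm) hne
  · intro u hu v hv p hp q hq
    obtain ⟨u, hu', rfl⟩ := mem_im.1 hu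
    obtain ⟨v, hv', rfl⟩ := mem_im.1 hv
    obtain ⟨p, hp', rfl⟩ := mem_im.1 hp
    obtain ⟨q, hq', rfl⟩ := mem_im.1 hq
    rw [← map_commutatorElement, ← map_commutatorElement, ← map_commutatorElement, ← h.map_zz]
    rcases double_comm hu' hv' hp' hq' with e | e
    · left
      have e' : ⁅⁅u, p⁆, ⁅v, q⁆⁆ = 1 := Subtype.ext e
      rw [e', map_one]
    · right
      have e' : ⁅⁅u, p⁆, ⁅v, q⁆⁆ = zC := Subtype.ext e
      rw [e']
  · refine ⟨ι ⟨x 1 2, V1_le_CC x12_mem⟩, mem_im.2 ⟨_, x12_mem, rfl⟩,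
      ι ⟨x 2 3, V2_le_CC x23_mem⟩, mem_im.2 ⟨_, x23_mem, rfl⟩,
      ι ⟨pp, (mem_P0.1 pp_mem).1⟩, mem_im.2 ⟨_, pp_mem, rfl⟩,
      ι ⟨pp, (mem_P0.1 pp_mem).1⟩, mem_im.2 ⟨_, pp_mem, rfl⟩, ?_⟩
    rw [← map_commutatorElement, ← map_commutatorElement, ← map_commutatorElement, ← h.map_zz]
    have e' : ⁅⁅(⟨x 1 2, V1_le_CC x12_mem⟩ : CC), (⟨pp, (mem_P0.1 pp_mem).1⟩ : CC)⁆,
        ⁅(⟨x 2 3, V2_le_CC x23_mem⟩ : CC), (⟨pp, (mem_P0.1 pp_mem).1⟩ : CC)⁆⁆ = zC :=
      Subtype.ext double_comm_ex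
    rw [e']

/-- `z` is not conjugate to `ι (x 0 3 * x 1 4)`. -/
theorem not_isConj_bC' (h : Hyp z ι) (hT : Nat.card T0 = 2 ^ 10) (hV1 : Nat.card V1 = 64)
    (hV2 : Nat.card V2 = 64)
    (hel : ∀ A : Subgroup L5, A ≤ T0 → (∀ a ∈ A, a * a = 1) → Nat.card A = 64 →
      A = V1 ∨ A = V2) : ¬ IsConj z (ι bC) := by
  have hdvd : Nat.card P0 ∣ 2 ^ 10 := hT ▸ Subgroup.card_dvd_of_le P0_le_T0
  obtain ⟨n, hn, hc⟩ := (Nat.dvd_prime_pow Nat.prime_two).1 hdvd
  have hn10 : n ≠ 10 := by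
    rintro rfl
    have := Subgroup.eq_of_le_of_card_ge P0_le_T0 (by rw [hc, hT])
    exact not_mem_P0 (this ▸ x01_mem)
  apply not_isConj_of_normalizer (im ι P0) (im_P0 h) n
  · rw [card_im h (P0_le_T0.trans T0_le_CC), hc]
  · rw [← h.range, Nat.card_congr (MonoidHom.ofInjective h.inj).toEquiv.symm]
    refine (pow_dvd_pow 2 (show n + 1 ≤ 10 by omega)).trans ?_
    rw [← hT]
    exact Subgroup.card_dvd_of_le T0_le_CC
  · exact fix_of_normalizes h hV1 hV2 hel

end Main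

end Cfsg.Agent.Held.NoBModel
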