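import Mathlib
import Cfsg.Agent.Held.NoBModel

/-!
# The fusion pattern of `z` in `V1`

The subgroup `V1` has `64` elements `ve a`, `a : Fin 64`, falling into the trivial class and seven
further classes under `N_CC(V1)`.  If the fusion of `z` in `V1` is controlled by `N_G(V1)` then the
number of pairs of conjugates of `z` in `V1` with a given product `v` is the same for all conjugates
`v` of `z` in `V1`; this leaves few possibilities.
-/

set_option autoImplicit false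

namespace Cfsg.Agent.Held.Pattern

open Matrix Cfsg.Agent.SporadicRecognition.HeldModel Cfsg.Agent.Lib.F2Mat Cfsg.Agent.Held.NoBModel

/-- code of the element of `V1` with index `a`: bits `0,1,2` of `a` are the entries `(0,2)`,
`(0,3)`, `(0,4)`, bits `3,4,5` the entries `(1,2)`, `(1,3)`, `(1,4)` -/
def vc (a : ℕ) : ℕ :=
  Nat.add (Nat.add 17043521 (Nat.mul 4 (Nat.mod a 8))) (Nat.mul 128 (Nat.div a 8))

theorem vc_sq : ∀ a : Fin 64, Nat.beq (mul 5 (vc a) (vc a)) (one 5) = true := by decide +kernel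

theorem vc_lt : ∀ a : Fin 64, Nat.blt (vc a) 33554432 = true := by decide +kernel

/-- the element of `V1` with index `a` -/
def ve (a : Fin 64) : L5 := mk (vc a) (vc a) (vc_sq a)

theorem cd_ve (a : Fin 64) : cd (ve a) = vc a := cd_mk _ (vc_lt a)

theorem inP_vc : ∀ a : Fin 64, inP (msk' PV1) (vc a) = true := by decide +kernel

theorem ve_mem (a : Fin 64) : ve a ∈ V1 := by
  rw [V1, mem_pat, Pat_iff_inP, cd_ve]
  exact inP_vc a

theorem vc_inj : ∀ a b : Fin 64, Nat.beq (vc a) (vc b) = true → a = b := by decide +kernel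

theorem ve_inj {a b : Fin 64} (h : ve a = ve b) : a = b := by
  apply vc_inj
  rw [← cd_ve, ← cd_ve, h]
  exact Nat.beq_refl _

/-- index from entries -/
def ix (b0 b1 b2 b3 b4 b5 : Bool) : Fin 64 :=
  ⟨b0.toNat + 2 * b1.toNat + 4 * b2.toNat + 8 * b3.toNat + 16 * b4.toNat + 32 * b5.toNat, by
    revert b0 b1 b2 b3 b4 b5; decide⟩

/-- entries from bits -/
def tab (b0 b1 b2 b3 b4 b5 : Bool) (i j : Fin 5) : Bool :=
  if i = 0 ∧ j = 2 then b0 else if i = 0 ∧ j = 3 then b1 else if i = 0 ∧ j = 4 then b2 else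
  if i = 1 ∧ j = 2 then b3 else if i = 1 ∧ j = 3 then b4 else if i = 1 ∧ j = 4 then b5 else
  decide (i = j)

theorem testBit_tab : ∀ (b0 b1 b2 b3 b4 b5 : Bool) (i j : Fin 5),
    (vc (ix b0 b1 b2 b3 b4 b5)).testBit (5 * i + j) = tab b0 b1 b2 b3 b4 b5 i j := by
  decide +kernel

theorem ve_surj {w : L5} (hw : w ∈ V1) : ∃ a, ve a = w := by
  refine ⟨ix (ent w 0 2) (ent w 0 3) (ent w 0 4) (ent w 1 2) (ent w 1 3) (ent w 1 4), ?_⟩
  apply cd_inj
  rw [cd_ve]
  apply toMat_inj (n := 5)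
  · have := vc_lt (ix (ent w 0 2) (ent w 0 3) (ent w 0 4) (ent w 1 2) (ent w 1 3) (ent w 1 4))
    simpa [Nat.blt_eq] using this
  · exact cd_lt w
  rw [toMat_cd]
  ext i j
  rw [toMat_apply, testBit_tab, ← bz_ent]
  congr 1
  cases h : PV1 i j with
  | false =>
    have h1 := hw i j h
    rw [Matrix.sub_apply, sub_eq_zero] at h1
    have h0 : ∀ i j : Fin 5, decide ((1 : M5) i j = 1) = decide (i = j) := by decide
    have h2 : ent w i j = decide (i = j) := by
      unfold ent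
      rw [h1, h0]
    rw [h2]
    have h3 : ∀ (b0 b1 b2 b3 b4 b5 : Bool) (i j : Fin 5), PV1 i j = false →
      tab b0 b1 b2 b3 b4 b5 i j = decide (i = j) := by decide +kernel
    exact h3 _ _ _ _ _ _ i j h
  | true =>
    have h3 : ∀ i j : Fin 5, PV1 i j = true → (i = 0 ∧ j = 2) ∨ (i = 0 ∧ j = 3) ∨
      (i = 0 ∧ j = 4) ∨ (i = 1 ∧ j = 2) ∨ (i = 1 ∧ j = 3) ∨ (i = 1 ∧ j = 4) := by decide
    rcases h3 i j h with ⟨rfl, rfl⟩ | ⟨rfl, rfl⟩ | ⟨rfl, rfl⟩ | ⟨rfl, rfl⟩ | ⟨rfl, rfl⟩ |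
      ⟨rfl, rfl⟩ <;> rfl

theorem xor_lt (a b : Fin 64) : Nat.xor a b < 64 := Nat.xor_lt_two_pow (n := 6) a.2 b.2

/-- product of indices -/
def xr (a b : Fin 64) : Fin 64 := ⟨Nat.xor a b, xor_lt a b⟩

theorem mul_vc : ∀ a b : Fin 64, Nat.beq (mul 5 (vc a) (vc b)) (vc (xr a b)) = true := by
  decide +kernel

theorem ve_mul (a b : Fin 64) : ve a * ve b = ve (xr a b) := by
  apply cd_inj
  rw [cd_mul, cd_ve, cd_ve, cd_ve]
  exact Nat.eq_of_beq_eq_true (mul_vc a b)

/-! ### Orbits -/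

/-- generators of a subgroup of `N_CC(V1)` -/
def gen (k : Fin 5) : L5 :=
  match k with
  | 0 => x 0 1
  | 1 => x 2 3
  | 2 => x 3 2
  | 3 => x 2 4
  | 4 => x 3 4

/-- their codes -/
def gc (k : Fin 5) : ℕ :=
  match k with
  | 0 => 17043523
  | 1 => 17051713
  | 2 => 17174593
  | 3 => 17059905
  | 4 => 17567809

theorem cd_gen (k : Fin 5) : cd (gen k) = gc k := by
  fin_cases k
  · show cd (x 0 1) = _; rw [cd_x]; decide +kernel
  · show cd (x 2 3) = _; rw [cd_x]; decide +kernel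
  · show cd (x 3 2) = _; rw [cd_x]; decide +kernel
  · show cd (x 2 4) = _; rw [cd_x]; decide +kernel
  · show cd (x 3 4) = _; rw [cd_x]; decide +kernel

theorem gen_mem_CC (k : Fin 5) : gen k ∈ CC := by
  rw [mem_CC_iff, cd_gen]
  revert k; decide +kernel

theorem gen_sq (k : Fin 5) : gen k * gen k = 1 := by
  apply cd_inj
  rw [cd_mul, cd_gen, cd_one]
  revert k; decide +kernel

theorem act_lt (k : Fin 5) (a : Fin 64) :
    Nat.add (Nat.mod (Nat.div (mul 5 (mul 5 (gc k) (vc a)) (gc k)) 4) 8)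
      (Nat.mul 8 (Nat.mod (Nat.div (mul 5 (mul 5 (gc k) (vc a)) (gc k)) 128) 8)) < 64 := by
  have h1 := Nat.mod_lt (Nat.div (mul 5 (mul 5 (gc k) (vc a)) (gc k)) 4) (y := 8) (by norm_num)
  have h2 := Nat.mod_lt (Nat.div (mul 5 (mul 5 (gc k) (vc a)) (gc k)) 128) (y := 8) (by norm_num)
  have h1' : Nat.mod (Nat.div (mul 5 (mul 5 (gc k) (vc a)) (gc k)) 4) 8 < 8 := h1
  have h2' : Nat.mod (Nat.div (mul 5 (mul 5 (gc k) (vc a)) (gc k)) 128) 8 < 8 := h2
  show Nat.mod (Nat.div (mul 5 (mul 5 (gc k) (vc a)) (gc k)) 4) 8 +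
    8 * Nat.mod (Nat.div (mul 5 (mul 5 (gc k) (vc a)) (gc k)) 128) 8 < 64
  omega

/-- action of a generator on the indices -/
def act (k : Fin 5) (a : Fin 64) : Fin 64 := ⟨_, act_lt k a⟩

theorem act_code : ∀ (k : Fin 5) (a : Fin 64),
    Nat.beq (mul 5 (mul 5 (gc k) (vc a)) (gc k)) (vc (act k a)) = true := by decide +kernel

theorem gen_act (k : Fin 5) (a : Fin 64) : gen k * ve a * gen k = ve (act k a) := by
  apply cd_inj
  rw [cd_mul, cd_mul, cd_ve, cd_ve, cd_gen]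
  exact Nat.eq_of_beq_eq_true (act_code k a)

/-- class of an index: `0 = {z}`, `1 = a1`, `2 = a2`, `3 = b`, `4 = d`, `5 = d'`, `6 = e1`,
`7 = {1}` -/
def cl (a : ℕ) : ℕ := Nat.land (Nat.shiftRight 3809372664641914846921036728085723624243487903415930225231 (Nat.mul 3 a)) 7

theorem rp_lt (i : ℕ) : Nat.land (Nat.shiftRight 1181259268228 (Nat.mul 6 i)) 63 < 64 :=
  Nat.lt_of_le_of_lt Nat.and_le_right (by norm_num)

/-- representatives of the classes -/
def rp (i : ℕ) : Fin 64 := ⟨Nat.land (Nat.shiftRight 1181259268228 (Nat.mul 6 i)) 63, rp_lt i⟩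

/-- words conjugating an element to the representative -/
def wds : List (List (Fin 5)) := [[], [1, 2], [], [2], [], [3, 1, 2], [4], [3, 2], [], [0], [1, 2, 0], [1, 2], [], [0], [4, 1, 2, 0], [4, 1, 2], [2, 1], [], [2, 1, 0], [0], [2, 1], [3], [2, 1, 0], [3, 0], [1], [2], [2, 0], [1, 0], [1], [2, 3], [2, 3, 0], [1, 0], [], [1, 2], [], [2], [0], [1, 2, 0], [0], [2, 0], [3], [3, 0], [3, 1, 2, 0], [1, 4, 2], [3], [3, 0], [1, 4, 2, 0], [3, 1, 2], [4, 2, 1], [4], [4, 2, 1, 0], [1, 4], [4, 2, 1], [4, 3], [4, 2, 1, 0], [4, 0], [3, 1], [4, 2], [3, 2, 0], [3, 1, 0], [3, 1], [3, 2], [4, 2, 0], [3, 1, 0]]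

theorem wds_check : ∀ a : Fin 64,
    (wds.getD a []).foldl (fun b k => act k b) a = rp (cl a) := by decide +kernel

/-! ### Fusion -/

section Main

variable {G : Type*} [Group G] {z : G} {ι : CC →* G}

/-- the element of `V1` with index `a` as an element of the model -/
def vC (a : Fin 64) : CC := ⟨ve a, V1_le_CC (ve_mem a)⟩

/-- `z` is conjugate to the element of `V1` with index `a`. -/
def F (z : G) (ι : CC →* G) (a : Fin 64) : Prop := IsConj z (ι (vC a))

theorem F_act (k : Fin 5) (a : Fin 64) : F z ι (act k a) ↔ F z ι a := by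
  let g : CC := ⟨gen k, gen_mem_CC k⟩
  have hg : g⁻¹ = g := by
    rw [inv_eq_iff_mul_eq_one]
    exact Subtype.ext (gen_sq k)
  have h1 : vC (act k a) = g * vC a * g⁻¹ := by
    rw [hg]
    exact Subtype.ext (gen_act k a).symm
  have h2 : IsConj (ι (vC a)) (ι (vC (act k a))) := by
    rw [isConj_iff]
    refine ⟨ι g, ?_⟩
    rw [h1, map_mul, map_mul, map_inv]
  exact ⟨fun h => IsConj.trans h h2.symm, fun h => IsConj.trans h h2⟩

theorem F_foldl (w : List (Fin 5)) (a : Fin 64) :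
    F z ι (w.foldl (fun b k => act k b) a) ↔ F z ι a := by
  induction w generalizing a with
  | nil => exact Iff.rfl
  | cons k w ih => rw [List.foldl_cons, ih, F_act]

theorem F_cl (a : Fin 64) : F z ι a ↔ F z ι (rp (cl a)) := by
  rw [← wds_check a, F_foldl]

/-- number of pairs of conjugates with product of index `b`, for the set of classes given by the
bits of `m` -/
def cnt (m : ℕ) (b : Fin 64) : ℕ :=
  (Finset.univ.filter fun a : Fin 64 =>
    (m.testBit (cl a) && m.testBit (cl (xr a b))) = true).card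

theorem pattern_check : ∀ m : Fin 128, (m : ℕ).testBit 0 = true → (m : ℕ).testBit 3 = false →
    (∀ i : Fin 7, (m : ℕ).testBit i = true → cnt m (rp i) = cnt m (rp 0)) →
    m = 1 ∨ m = 3 ∨ m = 5 ∨ m = 33 ∨ m = 23 ∨ m = 87 := by
  decide +kernel

/-- the number of conjugates `w` of `z` in `V` such that `w * v` is also a conjugate of `z`. -/
noncomputable def num (z : G) (V : Subgroup G) (v : G) : ℕ :=
  Nat.card {w : G // w ∈ V ∧ IsConj z w ∧ IsConj z (w * v)}

theorem isConj_conj {z w : G} (n : G) (h : IsConj z w) : IsConj z (n * w * n⁻¹) :=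
  h.trans (isConj_iff.2 ⟨n, rfl⟩)

theorem num_conj (V : Subgroup G) (n v : G) (hn : ∀ w ∈ V, n * w * n⁻¹ ∈ V)
    (hn' : ∀ w ∈ V, n⁻¹ * w * n ∈ V) (hv : n * z * n⁻¹ = v) : num z V z = num z V v := by
  subst hv
  refine Nat.card_congr ⟨fun w => ⟨n * w * n⁻¹, hn _ w.2.1, isConj_conj n w.2.2.1, ?_⟩,
    fun w => ⟨n⁻¹ * w * n, hn' _ w.2.1, ?_, ?_⟩, ?_, ?_⟩
  · have := isConj_conj n w.2.2.2
    convert this using 1
    group
  · have := isConj_conj n⁻¹ w.2.2.1
    rwa [inv_inv] at this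
  · have := isConj_conj n⁻¹ w.2.2.2
    rw [inv_inv] at this
    convert this using 1
    group
  · intro w; apply Subtype.ext; show n⁻¹ * (n * w * n⁻¹) * n = w; group
  · intro w; apply Subtype.ext; show n * (n⁻¹ * w * n) * n⁻¹ = w; group

theorem vC_mul (a b : Fin 64) : vC a * vC b = vC (xr a b) := Subtype.ext (ve_mul a b)

theorem num_eq (h : Hyp z ι) (m : ℕ) (hm : ∀ a, F z ι a ↔ m.testBit (cl a) = true) (b : Fin 64) :
    num z (im ι V1) (ι (vC b)) = cnt m b := by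
  have h1 : ∀ a : Fin 64, (m.testBit (cl a) && m.testBit (cl (xr a b))) = true ↔
      (F z ι a ∧ F z ι (xr a b)) := by
    intro a
    rw [Bool.and_eq_true, hm, hm]
  rw [cnt, ← Fintype.card_subtype, ← Nat.card_eq_fintype_card, num]
  symm
  refine Nat.card_congr (Equiv.ofBijective (fun a => ⟨ι (vC a), mem_im.2 ⟨_, ve_mem _, rfl⟩,
    ((h1 a).1 a.2).1, ?_⟩) ⟨?_, ?_⟩)
  · have := ((h1 a).1 a.2).2
    rw [F, ← vC_mul, map_mul] at this
    exact this
  · intro a a' e
    have e1 := h.inj (congrArg Subtype.val e)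
    exact Subtype.ext (ve_inj (congrArg Subtype.val e1))
  · rintro ⟨w, hw, hw1, hw2⟩
    obtain ⟨u, hu, rfl⟩ := mem_im.1 hw
    obtain ⟨a, ha⟩ := ve_surj hu
    have e : vC a = u := Subtype.ext ha
    refine ⟨⟨a, (h1 a).2 ⟨?_, ?_⟩⟩, ?_⟩
    · rw [F, e]; exact hw1
    · rw [F, ← vC_mul, map_mul, e]; exact hw2
    · apply Subtype.ext
      show ι (vC a) = ι u
      rw [e]

theorem pack : ∀ c0 c1 c2 c3 c4 c5 c6 : Bool, ∃ m : Fin 128,
    (m : ℕ).testBit 0 = c0 ∧ (m : ℕ).testBit 1 = c1 ∧ (m : ℕ).testBit 2 = c2 ∧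
    (m : ℕ).testBit 3 = c3 ∧ (m : ℕ).testBit 4 = c4 ∧ (m : ℕ).testBit 5 = c5 ∧
    (m : ℕ).testBit 6 = c6 := by
  intro c0 c1 c2 c3 c4 c5 c6
  refine ⟨⟨c0.toNat + 2 * c1.toNat + 4 * c2.toNat + 8 * c3.toNat + 16 * c4.toNat +
    32 * c5.toNat + 64 * c6.toNat, ?_⟩, ?_⟩
  · revert c0 c1 c2 c3 c4 c5 c6; decide
  · revert c0 c1 c2 c3 c4 c5 c6; decide +kernel

theorem cl_lt : ∀ a : Fin 64, cl a < 8 ∧ (cl a = 7 → a = 0) := by decide +kernel

theorem cl_rp : ∀ i : Fin 7, cl (rp i) = i := by decide +kernel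

theorem vC_four : vC 4 = zC := by
  apply Subtype.ext
  apply cd_inj
  show cd (ve 4) = cd zz
  rw [cd_ve, cd_zz]; decide +kernel

theorem vC_zero : vC 0 = 1 := by
  apply Subtype.ext
  apply cd_inj
  show cd (ve 0) = cd 1
  rw [cd_ve, cd_one]; decide +kernel

theorem z_ne_one (h : Hyp z ι) : z ≠ 1 := by
  rw [← h.map_zz, ← map_one ι]
  intro e
  exact zz_ne_one (congrArg Subtype.val (h.inj e))

theorem exists_m (h : Hyp z ι) :
    ∃ m : Fin 128, ∀ a : Fin 64, F z ι a ↔ (m : ℕ).testBit (cl a) = true := by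
  classical
  obtain ⟨m, h0, h1, h2, h3, h4, h5, h6⟩ := pack (decide (F z ι (rp 0))) (decide (F z ι (rp 1)))
    (decide (F z ι (rp 2))) (decide (F z ι (rp 3))) (decide (F z ι (rp 4)))
    (decide (F z ι (rp 5))) (decide (F z ι (rp 6)))
  refine ⟨m, fun a => ?_⟩
  have hc := cl_lt a
  rw [F_cl]
  have key : ∀ c : ℕ, c < 8 → c ≠ 7 → (F z ι (rp c) ↔ (m : ℕ).testBit c = true) := by
    intro c hc hc7
    interval_cases c
    · rw [h0]; exact decide_eq_true_iff.symm
    · rw [h1]; exact decide_eq_true_iff.symm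
    · rw [h2]; exact decide_eq_true_iff.symm
    · rw [h3]; exact decide_eq_true_iff.symm
    · rw [h4]; exact decide_eq_true_iff.symm
    · rw [h5]; exact decide_eq_true_iff.symm
    · rw [h6]; exact decide_eq_true_iff.symm
    · exact absurd rfl hc7
  by_cases h7 : cl a = 7
  · rw [h7]
    have e1 : rp 7 = 0 := by decide +kernel
    have e2 : (m : ℕ).testBit 7 = false := Nat.testBit_lt_two_pow (lt_of_lt_of_le m.2 (by norm_num))
    rw [e1, e2]
    constructor
    · intro hF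
      rw [F, vC_zero, map_one] at hF
      exact absurd (isConj_one_left.1 hF) (z_ne_one h)
    · intro hF; exact absurd hF (by decide)
  · exact key _ hc.1 h7

/-- **Fusion pattern.** If fusion of `z` in `V1` is controlled by `N_G(V1)` and `z` is not
conjugate to the element `b` (index `34`) then the set of classes of `V1` consisting of conjugates
of `z` is one of six. -/
theorem pattern [Finite G] (h : Hyp z ι)
    (hctl : ∀ b : Fin 64, F z ι b → ∃ n : G, n * z * n⁻¹ = ι (vC b) ∧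
      ∀ w ∈ im ι V1, n * w * n⁻¹ ∈ im ι V1) (hb : ¬ F z ι 34) :
    ∃ m : Fin 128, (∀ a : Fin 64, F z ι a ↔ (m : ℕ).testBit (cl a) = true) ∧
      (m = 1 ∨ m = 3 ∨ m = 5 ∨ m = 33 ∨ m = 23 ∨ m = 87) := by
  obtain ⟨m, hm⟩ := exists_m h
  refine ⟨m, hm, pattern_check m ?_ ?_ ?_⟩
  · have h1 := (hm 4).1 (by rw [F, vC_four, h.map_zz])
    have h2 : cl (4 : Fin 64) = 0 := by decide +kernel
    rwa [h2] at h1
  · have h1 : ¬ (m : ℕ).testBit (cl (34 : Fin 64)) = true := fun e => hb ((hm 34).2 e)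
    have h2 : cl (34 : Fin 64) = 3 := by decide +kernel
    rw [h2] at h1
    simpa using h1
  · intro i hi
    have hF : F z ι (rp i) := by
      rw [hm, cl_rp]; exact hi
    obtain ⟨n, hn, hn1⟩ := hctl _ hF
    have hn2 : ∀ w ∈ im ι V1, n⁻¹ * w * n ∈ im ι V1 := by
      intro w hw
      have hle : (im ι V1).map (MulAut.conj n).toMonoidHom ≤ im ι V1 := by
        rintro _ ⟨a, ha, rfl⟩
        exact hn1 a ha
      have heq := Subgroup.eq_of_le_of_card_ge hle (by
        rw [Subgroup.card_map_of_injective (MulEquiv.injective _)])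
      rw [← heq] at hw
      obtain ⟨a, ha, rfl⟩ := hw
      have : n⁻¹ * (MulAut.conj n).toMonoidHom a * n = a := by
        show n⁻¹ * (n * a * n⁻¹) * n = a
        group
      rw [this]; exact ha
    rw [← num_eq h m hm, ← num_eq h m hm, ← num_conj (im ι V1) n _ hn1 hn2 hn]
    have e0 : rp 0 = 4 := by decide +kernel
    rw [e0, vC_four, h.map_zz]

end Main

end Cfsg.Agent.Held.Pattern
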