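import Mathlib
import Cfsg.Agent.Held.Pattern

/-!
# The case that `z` is fused into only one of `R1`, `R2`
-/

set_option autoImplicit false

namespace Cfsg.Agent.Held.PFus

open Matrix Cfsg.Agent.SporadicRecognition.HeldModel Cfsg.Agent.Lib.F2Mat Cfsg.Agent.Held.NoBModel
  Cfsg.Agent.Held.Pattern

theorem R1_conj {p u : L5} (hp : p ∈ CC) (hu : u ∈ R1) : p * u * p⁻¹ ∈ R1 := by
  rw [R1, mem_pat] at hu ⊢
  rw [CC_eq] at hp
  exact conj_pat (P' := PC) (by decide) (by decide) (by decide) hp hu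

theorem R2_conj {p u : L5} (hp : p ∈ CC) (hu : u ∈ R2) : p * u * p⁻¹ ∈ R2 := by
  rw [R2, mem_pat] at hu ⊢
  rw [CC_eq] at hp
  exact conj_pat (P' := PC) (by decide) (by decide) (by decide) hp hu

theorem ve_R1 : ∀ a : Fin 64, cl a = 0 ∨ cl a = 1 → inP (msk' PR1) (vc a) = true := by
  decide +kernel

theorem ve_R2 : ∀ a : Fin 64, cl a = 0 ∨ cl a = 2 → inP (msk' PR2) (vc a) = true := by
  decide +kernel

theorem cd_xx (i j k l : Fin 5) (h : i ≠ j) (h' : k ≠ l) : cd (x i j h * x k l h') =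
    mul 5 (one 5 + 2 ^ (5 * (i : ℕ) + j)) (one 5 + 2 ^ (5 * (k : ℕ) + l)) := by
  rw [cd_mul, cd_x, cd_x]

theorem ve_2 : ve 2 = x 0 3 := by apply cd_inj; rw [cd_ve, cd_x]; decide +kernel
theorem ve_32 : ve 32 = x 1 4 := by apply cd_inj; rw [cd_ve, cd_x]; decide +kernel
theorem ve_34 : ve 34 = bb := by apply cd_inj; rw [cd_ve, bb, cd_xx]; decide +kernel
theorem ve_8 : ve 8 = x 1 2 := by apply cd_inj; rw [cd_ve, cd_x]; decide +kernel
theorem ve_12 : ve 12 = x 1 2 * zz := by
  apply cd_inj; rw [cd_ve, zz, cd_xx]; decide +kernel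
theorem ve_17 : ve 17 = x 0 2 * x 1 3 := by apply cd_inj; rw [cd_ve, cd_xx]; decide +kernel

theorem vC_34 : vC 34 = bC := Subtype.ext ve_34

theorem tau_bb : tau bb = bb := by
  rw [bb, map_mul, tau_x, tau_x]
  show x 1 4 * x 0 3 = x 0 3 * x 1 4
  apply cd_inj
  rw [cd_xx, cd_xx]; decide +kernel

theorem tauC_bC : tauC bC = bC := Subtype.ext tau_bb

section Main

variable {G : Type*} [Group G] {z : G} {ι : CC →* G}

theorem mem_CC_of_x (i j : Fin 5) (h : i ≠ j) (hij : inCC (one 5 + 2 ^ (5 * (i : ℕ) + j)) = true) :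
    x i j h ∈ CC := by
  rw [mem_CC_iff, cd_x]; exact hij

/-- `x 0 3` as an element of the model -/
def x03C : CC := ⟨x 0 3, mem_CC_of_x 0 3 (by decide) (by decide +kernel)⟩
/-- `x 1 4` as an element of the model -/
def x14C : CC := ⟨x 1 4, mem_CC_of_x 1 4 (by decide) (by decide +kernel)⟩

theorem vC_2 : vC 2 = x03C := Subtype.ext ve_2
theorem vC_32 : vC 32 = x14C := Subtype.ext ve_32

theorem tau_x03 : tauC x03C = x14C := Subtype.ext (tau_x 0 3 (by decide))
theorem tau_x14 : tauC x14C = x03C := Subtype.ext (tau_x 1 4 (by decide))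

/-- If `z` is fused to `x 0 3` but not to `x 1 4`, then all conjugates of `z` in the image of the
model lie in the image of `R1`. -/
theorem pcase' [Finite G] (h : Hyp z ι)
    (hctl1 : ∀ b : Fin 64, F z ι b → ∃ n : G, n * z * n⁻¹ = ι (vC b) ∧
      ∀ w ∈ im ι V1, n * w * n⁻¹ ∈ im ι V1)
    (hctl2 : ∀ b : Fin 64, F z (ι.comp tauC) b → ∃ n : G, n * z * n⁻¹ = (ι.comp tauC) (vC b) ∧
      ∀ w ∈ im (ι.comp tauC) V1, n * w * n⁻¹ ∈ im (ι.comp tauC) V1)
    (hb : ¬ IsConj z (ι bC))
    (hrep : ∀ u : CC, u * u = 1 → ∃ g : CC, ((g * u * g⁻¹ : CC) : L5) ∈ V1 ∨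
      ((g * u * g⁻¹ : CC) : L5) ∈ V2)
    (h1 : IsConj z (ι x03C)) (h2 : ¬ IsConj z (ι x14C)) :
    ∀ u : CC, IsConj z (ι u) → (u : L5) ∈ R1 := by
  obtain ⟨m, hm, hm'⟩ := pattern h hctl1 (by rw [F, vC_34]; exact hb)
  obtain ⟨k, hk, hk'⟩ := pattern h.tau hctl2 (by
    rw [F, vC_34]
    show ¬ IsConj z (ι (tauC bC))
    rw [tauC_bC]; exact hb)
  -- the patterns
  have hm3 : m = 3 := by
    have e1 : (m : ℕ).testBit 1 = true := by
      have := (hm 2).1 (by rw [F, vC_2]; exact h1)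
      rwa [show cl (2 : Fin 64) = 1 by decide +kernel] at this
    have e2 : (m : ℕ).testBit 2 ≠ true := by
      intro e
      apply h2
      have := (hm 32).2 (by rw [show cl (32 : Fin 64) = 2 by decide +kernel]; exact e)
      rwa [F, vC_32] at this
    rcases hm' with rfl | rfl | rfl | rfl | rfl | rfl
    · exact absurd e1 (by decide)
    · rfl
    · exact absurd e1 (by decide)
    · exact absurd e1 (by decide)
    · exact absurd (by decide) e2
    · exact absurd (by decide) e2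
  have hk5 : k = 5 := by
    have e1 : (k : ℕ).testBit 2 = true := by
      have := (hk 32).1 (by
        rw [F, vC_32]
        show IsConj z (ι (tauC x14C))
        rw [tau_x14]; exact h1)
      rwa [show cl (32 : Fin 64) = 2 by decide +kernel] at this
    have e2 : (k : ℕ).testBit 1 ≠ true := by
      intro e
      apply h2
      have := (hk 2).2 (by rw [show cl (2 : Fin 64) = 1 by decide +kernel]; exact e)
      rw [F, vC_2] at this
      have h3 : (ι.comp tauC) x03C = ι (tauC x03C) := rfl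
      rwa [h3, tau_x03] at this
    rcases hk' with rfl | rfl | rfl | rfl | rfl | rfl
    · exact absurd e1 (by decide)
    · exact absurd e1 (by decide)
    · rfl
    · exact absurd e1 (by decide)
    · exact absurd (by decide) e2
    · exact absurd (by decide) e2
  subst hm3 hk5
  -- the conclusion for elements of `V1` and `V2`
  have hV1 : ∀ u : CC, (u : L5) ∈ V1 → IsConj z (ι u) → (u : L5) ∈ R1 := by
    intro u hu hz
    obtain ⟨a, ha⟩ := ve_surj hu
    have e : vC a = u := Subtype.ext ha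
    have h3 := (hm a).1 (by rw [F, e]; exact hz)
    have h4 : ∀ a : Fin 64, (((3 : Fin 128) : ℕ).testBit (cl a) = true) →
        cl a = 0 ∨ cl a = 1 := by decide +kernel
    have h5 := ve_R1 a (h4 a h3)
    rw [← ha, R1, mem_pat, Pat_iff_inP, cd_ve]
    exact h5
  have hV2 : ∀ u : CC, (u : L5) ∈ V2 → IsConj z (ι u) → (u : L5) ∈ R1 := by
    intro u hu hz
    obtain ⟨a, ha⟩ := ve_surj (tau_mem_V1 hu)
    have e : vC a = tauC u := Subtype.ext ha
    have h3 := (hk a).1 (by
      rw [F, e]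
      show IsConj z (ι (tauC (tauC u)))
      rw [tauC_tauC]; exact hz)
    have h4 : ∀ a : Fin 64, (((5 : Fin 128) : ℕ).testBit (cl a) = true) →
        cl a = 0 ∨ cl a = 2 := by decide +kernel
    have h5 := ve_R2 a (h4 a h3)
    have h6 : tau (u : L5) ∈ R2 := by
      rw [← ha, R2, mem_pat, Pat_iff_inP, cd_ve]
      exact h5
    have h7 := tau_mem_R1 h6
    rwa [tau_tau] at h7
  -- every conjugate is conjugate into `V1 ∪ V2`
  intro u hu
  have hu2 : u * u = 1 := by
    obtain ⟨g, hg⟩ := isConj_iff.1 hu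
    have hz2 : z * z = 1 := by
      have : zC * zC = 1 := Subtype.ext (sq_V1 (by
        rw [V1, mem_pat, Pat_iff_inP]
        show inP _ (cd zz) = true
        rw [cd_zz]; decide +kernel))
      rw [← h.map_zz, ← map_mul, this, map_one]
    apply h.inj
    rw [map_mul, ← hg, map_one]
    calc g * z * g⁻¹ * (g * z * g⁻¹) = g * (z * z) * g⁻¹ := by group
      _ = 1 := by rw [hz2]; group
  obtain ⟨g, hg⟩ := hrep u hu2
  have hz' : IsConj z (ι (g * u * g⁻¹)) := by
    rw [map_mul, map_mul, map_inv]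
    exact isConj_conj _ hu
  have h8 : ((g * u * g⁻¹ : CC) : L5) ∈ R1 := by
    rcases hg with hg | hg
    · exact hV1 _ hg hz'
    · exact hV2 _ hg hz'
  have h9 := R1_conj (g⁻¹).2 h8
  have h10 : ((g⁻¹ : CC) : L5) * ((g * u * g⁻¹ : CC) : L5) * ((g⁻¹ : CC) : L5)⁻¹ = u := by
    push_cast
    group
  rwa [h10] at h9

end Main

end Cfsg.Agent.Held.PFus
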