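import Mathlib
import Cfsg.Agent.Held.Pattern
import Cfsg.Agent.Held.PFus
import Cfsg.Agent.Held.CentV
import Cfsg.Agent.Held.MaxStab
import Cfsg.Agent.Held.ConfigThm
import Cfsg.Agent.Held.Fus8
import Cfsg.Agent.Held.CodeEnum

/-!
# The four-group `BB = C_FF(y1 y2)` and the closing argument for the Held group
-/

set_option autoImplicit false

namespace Cfsg.Agent.Held.CentB

open Matrix Cfsg.Agent.SporadicRecognition.HeldModel Cfsg.Agent.Lib.F2Mat
  Cfsg.Agent.Held.NoBModel Cfsg.Agent.Held.Pattern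

/-! ### Model computations -/

theorem beq_of_eq {a b : ℕ} (h : a = b) : Nat.beq a b = true := by
  subst h; exact Nat.beq_refl a

theorem ve_inv (a : Fin 64) : (ve a)⁻¹ = ve a :=
  inv_eq_of_mul_eq_one_right (sq_V1 (ve_mem a))

theorem ve_zero : ve 0 = 1 := by
  apply cd_inj
  rw [cd_ve, cd_one]; decide +kernel

theorem ve_four : ve 4 = zz := by
  apply cd_inj
  rw [cd_ve, cd_zz]; decide +kernel

/-- indices of the elements of `BB` -/
def bi (a : Fin 64) : Bool := Nat.beq a 0 || Nat.beq a 34 || Nat.beq a 52 || Nat.beq a 22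

theorem bi_xr : ∀ a b : Fin 64, bi a = true → bi b = true → bi (xr a b) = true := by
  decide +kernel

/-- the four-group `{1, x03 x14, x04 x13 x14, x03 x04 x13}` -/
def BB : Subgroup L5 where
  carrier := {g | ∃ a : Fin 64, bi a = true ∧ ve a = g}
  one_mem' := ⟨0, rfl, ve_zero⟩
  mul_mem' := by
    rintro _ _ ⟨a, ha, rfl⟩ ⟨b, hb, rfl⟩
    exact ⟨xr a b, bi_xr a b ha hb, (ve_mul a b).symm⟩
  inv_mem' := by
    rintro _ ⟨a, ha, rfl⟩
    exact ⟨a, ha, (ve_inv a).symm⟩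

theorem mem_BB {g : L5} : g ∈ BB ↔ ∃ a : Fin 64, bi a = true ∧ ve a = g := Iff.rfl

theorem ve_mem_BB {a : Fin 64} : ve a ∈ BB ↔ bi a = true :=
  ⟨fun ⟨_, hb, e⟩ => ve_inj e ▸ hb, fun h => ⟨a, h, rfl⟩⟩

theorem ff_check : ∀ a : Fin 64, inP (msk' PF) (vc a) = Nat.beq (Nat.land a 54) a := by
  decide +kernel

theorem ve_mem_FF {a : Fin 64} : ve a ∈ FF ↔ Nat.beq (Nat.land a 54) a = true := by
  rw [FF, mem_pat, Pat_iff_inP, cd_ve, ff_check]

theorem bi_ff : ∀ a : Fin 64, bi a = true → Nat.beq (Nat.land a 54) a = true := by decide +kernel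

theorem BB_le_FF : BB ≤ FF := by
  rintro _ ⟨a, ha, rfl⟩
  exact ve_mem_FF.2 (bi_ff a ha)

theorem card_of_index (A : Subgroup L5) (P : Fin 64 → Bool) (hA : A ≤ V1)
    (h : ∀ a, ve a ∈ A ↔ P a = true) : Nat.card A = Nat.card {a : Fin 64 // P a = true} := by
  symm
  refine Nat.card_congr (Equiv.ofBijective (fun a => (⟨ve a.1, (h a.1).2 a.2⟩ : A)) ⟨?_, ?_⟩)
  · intro a b e
    exact Subtype.ext (ve_inj (congrArg Subtype.val e))
  · rintro ⟨g, hg⟩
    obtain ⟨a, rfl⟩ := ve_surj (hA hg)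
    exact ⟨⟨a, (h a).1 hg⟩, rfl⟩

theorem card_BB : Nat.card BB = 4 := by
  rw [card_of_index BB bi (BB_le_FF.trans FF_le_V1) (fun a => ve_mem_BB), Nat.card_eq_fintype_card]
  decide +kernel

theorem card_FF : Nat.card FF = 16 := by
  rw [card_of_index FF (fun a => Nat.beq (Nat.land a 54) a) FF_le_V1 (fun a => ve_mem_FF),
    Nat.card_eq_fintype_card]
  decide +kernel

theorem card_V1 : Nat.card V1 = 64 := by
  rw [card_of_index V1 (fun _ => true) le_rfl (fun a => ⟨fun _ => rfl, fun _ => ve_mem a⟩),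
    Nat.card_eq_fintype_card]
  decide +kernel

/-- code of the elements `1, x23, x24, x23 x24` -/
def wc (k : ℕ) : ℕ := Nat.add 17043521 (Nat.mul 8192 k)

theorem wc_sq : ∀ k : Fin 4, Nat.beq (mul 5 (wc k) (wc k)) (one 5) = true := by decide +kernel

theorem wc_lt : ∀ k : Fin 4, Nat.blt (wc k) 33554432 = true := by decide +kernel

/-- the elements `1, x23, x24, x23 x24` -/
def we (k : Fin 4) : L5 := mk (wc k) (wc k) (wc_sq k)

theorem cd_we (k : Fin 4) : cd (we k) = wc k := cd_mk _ (wc_lt k)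

theorem we_sq (k : Fin 4) : we k * we k = 1 := by
  apply cd_inj
  rw [cd_mul, cd_we, cd_one]
  exact Nat.eq_of_beq_eq_true (wc_sq k)

theorem we_mem_JJ (k : Fin 4) : we k ∈ JJ := by
  rw [JJ, mem_pat, Pat_iff_inP, cd_we]
  revert k; decide +kernel

theorem we_zero : we 0 = 1 := by
  apply cd_inj; rw [cd_we, cd_one]; decide +kernel

theorem wc_ent : ∀ (k : Fin 4) (i j : Fin 5), (wc k).testBit (5 * i + j) =
    (decide (i = j) || (decide (i = 2 ∧ j = 3) && (k : ℕ).testBit 0) ||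
      (decide (i = 2 ∧ j = 4) && (k : ℕ).testBit 1)) := by decide +kernel

theorem exists_bit (p q : ZMod 2) : ∃ k : Fin 4, bz ((k : ℕ).testBit 0) = p ∧
    bz ((k : ℕ).testBit 1) = q := by
  revert p q; decide

theorem we_ent (k : Fin 4) (i j : Fin 5) : (we k : M5) i j =
    bz (decide (i = j) || (decide (i = 2 ∧ j = 3) && (k : ℕ).testBit 0) ||
      (decide (i = 2 ∧ j = 4) && (k : ℕ).testBit 1)) := by
  rw [← toMat_cd, toMat_apply, cd_we, wc_ent]

theorem jj_ent {u : L5} (hu : u ∈ JJ) (i j : Fin 5) (h : PJ i j = false) :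
    (u : M5) i j = if i = j then 1 else 0 := by
  have := hu i j h
  rw [Matrix.sub_apply, sub_eq_zero, Matrix.one_apply] at this
  exact this

/-- decomposition of `JJ` -/
theorem exists_ve_we {u : L5} (hu : u ∈ JJ) : ∃ (a : Fin 64) (k : Fin 4), u = ve a * we k := by
  obtain ⟨k, hk0, hk1⟩ := exists_bit ((u : M5) 2 3) ((u : M5) 2 4)
  have hw : u * we k ∈ V1 := by
    have h1 : u * we k ∈ JJ := JJ.mul_mem hu (we_mem_JJ k)
    intro i j hij
    by_cases hJ : PJ i j = false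
    · exact h1 i j hJ
    · have h2 : ∀ i j : Fin 5, PV1 i j = false → ¬ PJ i j = false →
          (i = 2 ∧ j = 3) ∨ (i = 2 ∧ j = 4) := by decide
      rcases h2 i j hij hJ with ⟨rfl, rfl⟩ | ⟨rfl, rfl⟩
      · rw [Matrix.sub_apply, coe_mul', Matrix.mul_apply, Fin.sum_univ_five, we_ent, we_ent, we_ent,
          we_ent, we_ent, jj_ent hu 2 0 (by decide), jj_ent hu 2 1 (by decide),
          jj_ent hu 2 2 (by decide), ← hk0, ← hk1]
        clear h1 hk0 hk1
        revert k; decide +kernel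
      · rw [Matrix.sub_apply, coe_mul', Matrix.mul_apply, Fin.sum_univ_five, we_ent, we_ent, we_ent,
          we_ent, we_ent, jj_ent hu 2 0 (by decide), jj_ent hu 2 1 (by decide),
          jj_ent hu 2 2 (by decide), ← hk0, ← hk1]
        clear h1 hk0 hk1
        revert k; decide +kernel
  obtain ⟨a, ha⟩ := ve_surj hw
  exact ⟨a, k, by rw [ha, mul_assoc, we_sq, mul_one]⟩

theorem vewe_inj {a b : Fin 64} {k l : Fin 4} (h : ve a * we k = ve b * we l) : a = b ∧ k = l := by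
  have h1 : (ve b)⁻¹ * ve a = we l * (we k)⁻¹ := by
    have := congrArg (fun g => (ve b)⁻¹ * g * (we k)⁻¹) h
    simpa [mul_assoc] using this
  have h2 : (we k)⁻¹ = we k := inv_eq_of_mul_eq_one_right (we_sq k)
  have h3 : we l * we k ∈ V1 := by
    rw [← h2, ← h1]; exact V1.mul_mem (V1.inv_mem (ve_mem b)) (ve_mem a)
  have h4 : ∀ k l : Fin 4, inP (msk' PV1) (mul 5 (wc l) (wc k)) = true → k = l := by
    decide +kernel
  rw [V1, mem_pat, Pat_iff_inP, cd_mul, cd_we, cd_we] at h3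
  have h5 := h4 k l h3
  subst h5
  exact ⟨ve_inj (mul_right_cancel h), rfl⟩

theorem card_JJ : Nat.card JJ = 256 := by
  have h : Nat.card (Fin 64 × Fin 4) = Nat.card JJ := by
    refine Nat.card_congr (Equiv.ofBijective (fun p => (⟨ve p.1 * we p.2,
      JJ.mul_mem (V1_le_JJ (ve_mem p.1)) (we_mem_JJ p.2)⟩ : JJ)) ⟨?_, ?_⟩)
    · rintro ⟨a, k⟩ ⟨b, l⟩ e
      obtain ⟨h1, h2⟩ := vewe_inj (congrArg Subtype.val e)
      exact Prod.ext h1 h2
    · rintro ⟨u, hu⟩
      obtain ⟨a, k, h⟩ := exists_ve_we hu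
      exact ⟨⟨a, k⟩, Subtype.ext h.symm⟩
  rw [← h]; simp

/-- code of the elements `1, x01, x34, x01 x34` -/
def sc (k : ℕ) : ℕ := Nat.add (Nat.add 17043521 (Nat.mul 2 (Nat.mod k 2))) (Nat.mul 524288 (Nat.div k 2))

theorem sc_sq : ∀ k : Fin 4, Nat.beq (mul 5 (sc k) (sc k)) (one 5) = true := by decide +kernel

theorem sc_lt : ∀ k : Fin 4, Nat.blt (sc k) 33554432 = true := by decide +kernel

/-- the elements `1, x01, x34, x01 x34` -/
def se (k : Fin 4) : L5 := mk (sc k) (sc k) (sc_sq k)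

theorem cd_se (k : Fin 4) : cd (se k) = sc k := cd_mk _ (sc_lt k)

theorem se_sq (k : Fin 4) : se k * se k = 1 := by
  apply cd_inj
  rw [cd_mul, cd_se, cd_one]
  exact Nat.eq_of_beq_eq_true (sc_sq k)

theorem se_zero : se 0 = 1 := by
  apply cd_inj; rw [cd_se, cd_one]; decide +kernel

theorem se_mem_T0 (k : Fin 4) : se k ∈ T0 := by
  rw [T0, mem_pat, Pat_iff_inP, cd_se]
  revert k; decide +kernel

theorem sc_ent : ∀ (k : Fin 4) (i j : Fin 5), (sc k).testBit (5 * i + j) =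
    (decide (i = j) || (decide (i = 0 ∧ j = 1) && (k : ℕ).testBit 0) ||
      (decide (i = 3 ∧ j = 4) && (k : ℕ).testBit 1)) := by decide +kernel

theorem se_ent (k : Fin 4) (i j : Fin 5) : (se k : M5) i j =
    bz (decide (i = j) || (decide (i = 0 ∧ j = 1) && (k : ℕ).testBit 0) ||
      (decide (i = 3 ∧ j = 4) && (k : ℕ).testBit 1)) := by
  rw [← toMat_cd, toMat_apply, cd_se, sc_ent]

/-- decomposition of `T0` -/
theorem exists_jj_se {u : L5} (hu : u ∈ T0) : ∃ j ∈ JJ, ∃ k : Fin 4, u = j * se k := by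
  obtain ⟨k, hk0, hk1⟩ := exists_bit ((u : M5) 0 1) ((u : M5) 3 4)
  refine ⟨u * se k, ?_, k, by rw [mul_assoc, se_sq, mul_one]⟩
  have h1 : u * se k ∈ T0 := T0.mul_mem hu (se_mem_T0 k)
  have hue : ∀ i j : Fin 5, PT i j = false → (u : M5) i j = if i = j then 1 else 0 := by
    intro i j h
    have := hu i j h
    rw [Matrix.sub_apply, sub_eq_zero, Matrix.one_apply] at this
    exact this
  intro i j hij
  by_cases hJ : PT i j = false
  · exact h1 i j hJ
  · have h2 : ∀ i j : Fin 5, PJ i j = false → ¬ PT i j = false →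
        (i = 0 ∧ j = 1) ∨ (i = 3 ∧ j = 4) := by decide
    rcases h2 i j hij hJ with ⟨rfl, rfl⟩ | ⟨rfl, rfl⟩
    · rw [Matrix.sub_apply, coe_mul', Matrix.mul_apply, Fin.sum_univ_five, se_ent, se_ent, se_ent,
        se_ent, se_ent, hue 0 0 (by decide), ← hk0]
      generalize (u : M5) 0 2 = p2
      generalize (u : M5) 0 3 = p3
      generalize (u : M5) 0 4 = p4
      clear h1 hk0 hk1
      revert k p2 p3 p4; decide +kernel
    · rw [Matrix.sub_apply, coe_mul', Matrix.mul_apply, Fin.sum_univ_five, se_ent, se_ent, se_ent,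
        se_ent, se_ent, hue 3 0 (by decide), hue 3 1 (by decide), hue 3 2 (by decide),
        hue 3 3 (by decide), ← hk1]
      clear h1 hk0 hk1
      revert k; decide +kernel

theorem jj_ff_comm {j m : L5} (hj : j ∈ JJ) (hm : m ∈ FF) : j * m = m * j :=
  comm_of_pat (P := PJ) (P' := PF) (by decide) (by decide) hj hm

/-- `C_FF(JJ)` -/
theorem mem_FF_of_comm {u : L5} (hu : u ∈ JJ) (h : ∀ j ∈ JJ, u * j = j * u) : u ∈ FF := by
  obtain ⟨a, k, rfl⟩ := exists_ve_we hu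
  have key : ∀ (a : Fin 64) (k : Fin 4),
      Nat.beq (mul 5 (mul 5 (vc a) (wc k)) (vc 1)) (mul 5 (vc 1) (mul 5 (vc a) (wc k))) = true →
      Nat.beq (mul 5 (mul 5 (vc a) (wc k)) (wc 1)) (mul 5 (wc 1) (mul 5 (vc a) (wc k))) = true →
      (Nat.beq (Nat.land a 54) a = true ∧ k = 0) := by decide +kernel
  have h1 := h (ve 1) (V1_le_JJ (ve_mem 1))
  have h2 := h (we 1) (we_mem_JJ 1)
  have h1' := congrArg cd h1
  have h2' := congrArg cd h2
  rw [cd_mul, cd_mul (ve 1), cd_mul, cd_ve, cd_we, cd_ve] at h1'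
  rw [cd_mul, cd_mul (we 1), cd_mul, cd_ve, cd_we, cd_we] at h2'
  obtain ⟨h3, h4⟩ := key a k (beq_of_eq h1') (beq_of_eq h2')
  rw [h4, we_zero, mul_one]
  exact ve_mem_FF.2 h3

/-- two elements of `FF` outside the classes of `zz`, with product outside these classes. -/
theorem comm_check : ∀ (k : Fin 4) (a b : Fin 64),
    Code.imp (Nat.beq (Nat.land a 54) a) (Code.imp (Nat.beq (Nat.land b 54) b)
      (Code.imp (Nat.beq (cl a) 3 || Nat.beq (cl a) 5) (Code.imp (Nat.beq (cl b) 3 || Nat.beq (cl b) 5)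
        (Code.imp (Nat.beq (cl (xr a b)) 3 || Nat.beq (cl (xr a b)) 5)
          (Code.imp (Nat.beq (mul 5 (sc k) (vc a)) (mul 5 (vc a) (sc k)))
            (Code.imp (Nat.beq (mul 5 (sc k) (vc b)) (mul 5 (vc b) (sc k)))
              (Nat.beq k 0))))))) = true := by
  decide +kernel

theorem ve_FF_comm_se {j : L5} (hj : j ∈ JJ) (k : Fin 4) (a : Fin 64)
    (ha : Nat.beq (Nat.land a 54) a = true) (h : j * se k * ve a = ve a * (j * se k)) :
    Nat.beq (mul 5 (sc k) (vc a)) (mul 5 (vc a) (sc k)) = true := by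
  apply beq_of_eq
  rw [← cd_se, ← cd_ve, ← cd_mul, ← cd_mul]
  congr 1
  have h1 := jj_ff_comm hj (ve_mem_FF.2 ha)
  have h2 : j * (se k * ve a) = j * (ve a * se k) := by
    rw [← mul_assoc, h, ← mul_assoc, ← mul_assoc, h1]
  exact mul_left_cancel h2

/-- the centraliser in `T0` of a four-subgroup of `FF` outside the classes of `zz` -/
theorem mem_JJ_of_comm {u : L5} (hu : u ∈ T0) (a b : Fin 64)
    (ha : Nat.beq (Nat.land a 54) a = true) (hb : Nat.beq (Nat.land b 54) b = true)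
    (ha' : cl a = 3 ∨ cl a = 5) (hb' : cl b = 3 ∨ cl b = 5)
    (hab : cl (xr a b) = 3 ∨ cl (xr a b) = 5) (h1 : u * ve a = ve a * u)
    (h2 : u * ve b = ve b * u) : u ∈ JJ := by
  obtain ⟨j, hj, k, rfl⟩ := exists_jj_se hu
  have h3 := comm_check k a b
  have key : ∀ c : ℕ, (c = 3 ∨ c = 5) → (Nat.beq c 3 || Nat.beq c 5) = true := by
    rintro c (rfl | rfl) <;> rfl
  have h4 := Code.imp_mp h3 ha
  have h5 := Code.imp_mp h4 hb
  have h6 := Code.imp_mp h5 (key _ ha')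
  have h7 := Code.imp_mp h6 (key _ hb')
  have h8 := Code.imp_mp h7 (key _ hab)
  have h9 := Code.imp_mp h8 (ve_FF_comm_se hj k a ha h1)
  have h10 := Code.imp_mp h9 (ve_FF_comm_se hj k b hb h2)
  have h11 : k = 0 := Fin.ext (Nat.eq_of_beq_eq_true h10)
  rw [h11, se_zero, mul_one]
  exact hj

/-- `C_CC(BB) ≤ JJ` -/
theorem mem_JJ_of_BB {u : L5} (hu : u ∈ CC) (h : ∀ b ∈ BB, u * b = b * u) : u ∈ JJ := by
  have h34 := h (ve 34) (ve_mem_BB.2 (by decide +kernel))
  have h52 := h (ve 52) (ve_mem_BB.2 (by decide +kernel))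
  have hT : u ∈ T0 := by
    apply mem_T0_of_comm hu
    rw [← PFus.ve_34]
    exact h34
  exact mem_JJ_of_comm hT 34 52 (by decide +kernel) (by decide +kernel) (by decide +kernel)
    (by decide +kernel) (by decide +kernel) h34 h52

theorem we_V2 (k : Fin 4) : we k ∈ V2 := by
  rw [V2, mem_pat, Pat_iff_inP, cd_we]
  revert k; decide +kernel

/-- every coset of `BB` in `V1` other than `BB` meets the classes `0, 1, 2, 4, 6`. -/
theorem coset_check : ∀ a : Fin 64, bi a = true ∨ ∃ b : Fin 64, bi b = true ∧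
    Nat.testBit 87 (cl (xr a b)) = true := by
  decide +kernel

/-- elements of `JJ` outside `V1` with square in `BB` lie in `V2` -/
theorem sq_check : ∀ (a : Fin 64) (k : Fin 4),
    Code.imp (Nat.beq (mul 5 (mul 5 (vc a) (wc k)) (mul 5 (vc a) (wc k))) (vc 0) ||
      Nat.beq (mul 5 (mul 5 (vc a) (wc k)) (mul 5 (vc a) (wc k))) (vc 34) ||
      Nat.beq (mul 5 (mul 5 (vc a) (wc k)) (mul 5 (vc a) (wc k))) (vc 52) ||
      Nat.beq (mul 5 (mul 5 (vc a) (wc k)) (mul 5 (vc a) (wc k))) (vc 22))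
      (Nat.beq k 0 || inP (msk' PV2) (mul 5 (vc a) (wc k))) = true := by
  decide +kernel

theorem mem_V_of_sq {u : L5} (hu : u ∈ JJ) (h : u * u ∈ BB) : u ∈ V1 ∨ u ∈ V2 := by
  obtain ⟨a, k, rfl⟩ := exists_ve_we hu
  obtain ⟨b, hb, hbe⟩ := h
  have h1 := congrArg cd hbe
  rw [cd_mul, cd_mul, cd_ve, cd_ve, cd_we] at h1
  have h3 := sq_check a k
  have h2 : (Nat.beq (mul 5 (mul 5 (vc a) (wc k)) (mul 5 (vc a) (wc k))) (vc 0) ||
      Nat.beq (mul 5 (mul 5 (vc a) (wc k)) (mul 5 (vc a) (wc k))) (vc 34) ||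
      Nat.beq (mul 5 (mul 5 (vc a) (wc k)) (mul 5 (vc a) (wc k))) (vc 52) ||
      Nat.beq (mul 5 (mul 5 (vc a) (wc k)) (mul 5 (vc a) (wc k))) (vc 22)) = true := by
    rw [← h1]
    have key : ∀ b : Fin 64, bi b = true → (Nat.beq (vc b) (vc 0) || Nat.beq (vc b) (vc 34) ||
      Nat.beq (vc b) (vc 52) || Nat.beq (vc b) (vc 22)) = true := by decide +kernel
    exact key b hb
  have h4 := Code.imp_mp h3 h2
  rw [Bool.or_eq_true] at h4
  rcases h4 with h4 | h4
  · left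
    have h5 : k = 0 := Fin.ext (Nat.eq_of_beq_eq_true h4)
    rw [h5, we_zero, mul_one]
    exact ve_mem a
  · right
    rw [V2, mem_pat, Pat_iff_inP, cd_mul, cd_ve, cd_we]
    exact h4

theorem tau_ve_BB : ∀ a : Fin 64, bi a = true → tau (ve a) ∈ BB := by
  have e34 : ve 34 = x 0 3 * x 1 4 := PFus.ve_34
  have e52 : ve 52 = x 0 4 * (x 1 3 * x 1 4) := by
    apply cd_inj; rw [cd_ve, cd_mul, cd_mul, cd_x, cd_x, cd_x]; decide +kernel
  have e22 : ve 22 = x 0 3 * (x 0 4 * x 1 3) := by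
    apply cd_inj; rw [cd_ve, cd_mul, cd_mul, cd_x, cd_x, cd_x]; decide +kernel
  have key : ∀ a : Fin 64, bi a = true → a = 0 ∨ a = 34 ∨ a = 52 ∨ a = 22 := by decide +kernel
  intro a ha
  rcases key a ha with rfl | rfl | rfl | rfl
  · rw [ve_zero, map_one]; exact BB.one_mem
  · refine ⟨34, by decide +kernel, ?_⟩
    rw [e34, map_mul, tau_x, tau_x]
    apply cd_inj
    rw [cd_mul, cd_mul, cd_x, cd_x, cd_x, cd_x]
    decide +kernel
  · refine ⟨22, by decide +kernel, ?_⟩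
    rw [e52, e22, map_mul, map_mul, tau_x, tau_x, tau_x]
    apply cd_inj
    rw [cd_mul, cd_mul, cd_mul, cd_mul, cd_x, cd_x, cd_x, cd_x, cd_x, cd_x]
    decide +kernel
  · refine ⟨52, by decide +kernel, ?_⟩
    rw [e52, e22, map_mul, map_mul, tau_x, tau_x, tau_x]
    apply cd_inj
    rw [cd_mul, cd_mul, cd_mul, cd_mul, cd_x, cd_x, cd_x, cd_x, cd_x, cd_x]
    decide +kernel

/-- the coset condition for `BB` -/
theorem exists_coset {u : L5} (hu : u ∈ JJ) (h1 : u ∉ BB) (h2 : u * u ∈ BB) :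
    ∃ b ∈ BB, ∃ c : Fin 64, Nat.testBit 87 (cl c) = true ∧ (u * b = ve c ∨ u * b = tau (ve c)) := by
  rcases mem_V_of_sq hu h2 with h | h
  · obtain ⟨a, rfl⟩ := ve_surj h
    rcases coset_check a with h3 | ⟨b, hb, h3⟩
    · exact absurd (ve_mem_BB.2 h3) h1
    · exact ⟨ve b, ve_mem_BB.2 hb, xr a b, h3, Or.inl (ve_mul a b)⟩
  · obtain ⟨a, ha⟩ := ve_surj (tau_mem_V1 h)
    have hu' : u = tau (ve a) := by rw [ha, tau_tau]
    rcases coset_check a with h3 | ⟨b, hb, h3⟩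
    · exact absurd (hu' ▸ tau_ve_BB a h3) h1
    · refine ⟨tau (ve b), tau_ve_BB b hb, xr a b, h3, Or.inr ?_⟩
      rw [hu', ← map_mul, ve_mul]

/-- index of a unitriangular code -/
def nidx (c : ℕ) : ℕ :=
  Nat.add (Nat.add (Nat.add (Nat.land (Nat.shiftRight c 1) 15)
    (Nat.mul 16 (Nat.land (Nat.shiftRight c 7) 7))) (Nat.mul 128 (Nat.land (Nat.shiftRight c 13) 3)))
    (Nat.mul 512 (Nat.land (Nat.shiftRight c 19) 1))

/-- `c` is the code of a conjugate of `z` in `T` (both twists `true`). -/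
def isF (c : ℕ) : Bool :=
  Nat.blt (nidx c) 1024 && Nat.beq (Fus8.tc (nidx c)) c && !(Nat.beq (Fus8.kf (nidx c)) 0) &&
    Fus8.zt true true (Fus8.kf (nidx c))

/-- `c` is the code of an involution of `T` not conjugate to `z` (both twists `true`). -/
def isN (c : ℕ) : Bool :=
  Nat.blt (nidx c) 1024 && Nat.beq (Fus8.tc (nidx c)) c && !(Nat.beq (Fus8.kf (nidx c)) 0) &&
    !(Fus8.zt true true (Fus8.kf (nidx c)))

/-- the code is one of the four codes of `BB` -/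
def inB (c : ℕ) : Bool :=
  Nat.beq c (vc 0) || Nat.beq c (vc 34) || Nat.beq c (vc 52) || Nat.beq c (vc 22)

theorem coset_check2 : ∀ (a : Fin 64) (k : Fin 4),
    Code.imp (inB (mul 5 (mul 5 (vc a) (wc k)) (mul 5 (vc a) (wc k))))
      (inB (mul 5 (vc a) (wc k)) ||
        (isF (mul 5 (mul 5 (vc a) (wc k)) (vc 0)) || isF (mul 5 (mul 5 (vc a) (wc k)) (vc 34)) ||
        isF (mul 5 (mul 5 (vc a) (wc k)) (vc 52)) || isF (mul 5 (mul 5 (vc a) (wc k)) (vc 22))))
          = true := by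
  decide +kernel

theorem inB_iff {g : L5} : g ∈ BB ↔ inB (cd g) = true := by
  have key : ∀ b : Fin 64, bi b = true → inB (vc b) = true := by decide +kernel
  constructor
  · rintro ⟨b, hb, rfl⟩
    rw [cd_ve]
    exact key b hb
  · intro h
    unfold inB at h
    simp only [Bool.or_eq_true] at h
    rcases h with ((h | h) | h) | h
    · exact ⟨0, by decide +kernel, cd_inj ((cd_ve 0).trans (Nat.eq_of_beq_eq_true h).symm)⟩
    · exact ⟨34, by decide +kernel, cd_inj ((cd_ve 34).trans (Nat.eq_of_beq_eq_true h).symm)⟩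
    · exact ⟨52, by decide +kernel, cd_inj ((cd_ve 52).trans (Nat.eq_of_beq_eq_true h).symm)⟩
    · exact ⟨22, by decide +kernel, cd_inj ((cd_ve 22).trans (Nat.eq_of_beq_eq_true h).symm)⟩

/-- the coset condition for `BB` in terms of codes -/
theorem exists_isF {u : L5} (hu : u ∈ JJ) (h1 : u ∉ BB) (h2 : u * u ∈ BB) :
    ∃ b ∈ BB, isF (cd (u * b)) = true := by
  obtain ⟨a, k, rfl⟩ := exists_ve_we hu
  rw [inB_iff] at h1 h2
  rw [cd_mul, cd_mul, cd_ve, cd_we] at h2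
  rw [cd_mul, cd_ve, cd_we] at h1
  have h3 := Code.imp_mp (coset_check2 a k) h2
  rw [Bool.or_eq_true] at h3
  rcases h3 with h3 | h3
  · exact absurd h3 h1
  · have e : ∀ b : Fin 64, cd (ve a * we k * ve b) = mul 5 (mul 5 (vc a) (wc k)) (vc b) := by
      intro b
      rw [cd_mul, cd_mul, cd_ve, cd_we, cd_ve]
    simp only [Bool.or_eq_true] at h3
    rcases h3 with ((h | h) | h) | h
    · exact ⟨ve 0, ve_mem_BB.2 (by decide +kernel), by rw [e]; exact h⟩
    · exact ⟨ve 34, ve_mem_BB.2 (by decide +kernel), by rw [e]; exact h⟩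
    · exact ⟨ve 52, ve_mem_BB.2 (by decide +kernel), by rw [e]; exact h⟩
    · exact ⟨ve 22, ve_mem_BB.2 (by decide +kernel), by rw [e]; exact h⟩

/-! ### The group `G` -/

section Main

variable {G : Type*} [Group G] {z : G} {ph : ℕ → G}

theorem C_cd {u : L5} (hu : u ∈ CC) : Code.C (cd u) := by
  refine ⟨cd_lt u, ?_, cd u⁻¹, cd_lt _, ?_, ?_⟩
  · have := mem_CC_iff.1 hu
    exact Nat.eq_of_beq_eq_true this
  · show mul 5 (cd u) (cd u⁻¹) = Code.e1
    rw [← cd_mul, mul_inv_cancel, cd_one]; exact Code.one_eq_e1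
  · show mul 5 (cd u⁻¹) (cd u) = Code.e1
    rw [← cd_mul, inv_mul_cancel, cd_one]; exact Code.one_eq_e1

theorem exists_cd {a : ℕ} (ha : Code.C a) : ∃ u : CC, cd (u : L5) = a := by
  have h1 : cd (Code.toS a ha) = a := cd_eq_of_toMat ha.1 rfl
  refine ⟨⟨Code.toS a ha, ?_⟩, h1⟩
  rw [mem_CC_iff, h1, inCC]
  have := ha.2.1
  apply beq_of_eq
  exact this

/-- the embedding of the model given by `Emb` -/
def iota (E : Code.Emb z ph) : CC →* G :=
  MonoidHom.mk' (fun u => ph (cd (u : L5))) (fun u v => by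
    show ph (cd ((u * v : CC) : L5)) = _
    rw [Subgroup.coe_mul, cd_mul]
    exact E.mul (C_cd u.2) (C_cd v.2))

theorem iota_apply (E : Code.Emb z ph) (u : CC) : iota E u = ph (cd (u : L5)) := rfl

theorem hyp (E : Code.Emb z ph) : Hyp z (iota E) where
  inj := fun u v h => Subtype.ext (cd_inj (E.inj (C_cd u.2) (C_cd v.2) h))
  range := by
    apply le_antisymm
    · rintro _ ⟨u, rfl⟩
      rw [Subgroup.mem_centralizer_singleton_iff]
      exact E.comm (C_cd u.2)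
    · intro g hg
      rw [Subgroup.mem_centralizer_singleton_iff] at hg
      obtain ⟨a, ha, rfl⟩ := E.surj g hg
      obtain ⟨u, hu⟩ := exists_cd ha
      exact ⟨u, by rw [iota_apply, hu]⟩
  map_zz := by
    rw [iota_apply]
    show ph (cd zz) = z
    rw [cd_zz]
    exact E.z_eq

open Cfsg.Agent.Held.Acts Cfsg.Agent.Held.WordCore Cfsg.Agent.Held.ConfigThm

theorem vc_v1c : ∀ a : Fin 64, vc a = v1c a := by decide +kernel

theorem wc_v2c : ∀ k : Fin 4, wc k = v2c (16 * k) := by decide +kernel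

/-- the element of index `a` of `V1` as element of the model -/
theorem iota_ve (E : Code.Emb z ph) (a : Fin 64) (h : ve a ∈ CC) :
    iota E ⟨ve a, h⟩ = P1 ph a := by
  rw [iota_apply]
  show ph (cd (ve a)) = ph (v1c a)
  rw [cd_ve, vc_v1c]

theorem iota_we (E : Code.Emb z ph) (k : Fin 4) (h : we k ∈ CC) :
    iota E ⟨we k, h⟩ = P2 ph (16 * k) := by
  rw [iota_apply]
  show ph (cd (we k)) = ph (v2c (16 * k))
  rw [cd_we, wc_v2c]

theorem JJ_le_CC : JJ ≤ CC := JJ_le_T0.trans T0_le_CC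
theorem FF_le_CC : FF ≤ CC := FF_le_V1.trans V1_le_CC
theorem BB_le_CC : BB ≤ CC := BB_le_FF.trans FF_le_CC

theorem mem_imV (E : Code.Emb z ph) {g : G} : g ∈ im (iota E) V1 ↔ ∃ v < 64, g = P1 ph v := by
  rw [mem_im]
  constructor
  · rintro ⟨⟨u, hu'⟩, hu, rfl⟩
    obtain ⟨a, rfl⟩ := ve_surj hu
    exact ⟨a, a.2, iota_ve E a hu'⟩
  · rintro ⟨v, hv, rfl⟩
    exact ⟨⟨ve ⟨v, hv⟩, V1_le_CC (ve_mem _)⟩, ve_mem _, iota_ve E ⟨v, hv⟩ _⟩

theorem mem_imJ (E : Code.Emb z ph) {g : G} : g ∈ im (iota E) JJ ↔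
    ∃ v < 64, ∃ k < 4, g = P1 ph v * P2 ph (16 * k) := by
  rw [mem_im]
  constructor
  · rintro ⟨⟨u, hu'⟩, hu, rfl⟩
    obtain ⟨a, k, rfl⟩ := exists_ve_we hu
    refine ⟨a, a.2, k, k.2, ?_⟩
    rw [← iota_ve E a (V1_le_CC (ve_mem _)), ← iota_we E k (JJ_le_CC (we_mem_JJ _)), ← map_mul]
    rfl
  · rintro ⟨v, hv, k, hk, rfl⟩
    refine ⟨⟨ve ⟨v, hv⟩, V1_le_CC (ve_mem _)⟩ * ⟨we ⟨k, hk⟩, JJ_le_CC (we_mem_JJ _)⟩, ?_, ?_⟩
    · exact JJ.mul_mem (V1_le_JJ (ve_mem _)) (we_mem_JJ _)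
    · rw [map_mul, iota_ve, iota_we]

/-- product of actions -/
theorem acts_comp {P : ℕ → G} {g h : G} {M N : ℕ} (hg : Acts P g M) (hh : Acts P h N) {v : ℕ}
    (hv : v < 64) : P v * (g * h) = (g * h) * P (app N (app M v)) := by
  rw [← mul_assoc, hg v hv, mul_assoc, hh _ (app_lt _ _), mul_assoc]

/-- conjugating by an element of `P` does not change the action -/
theorem acts_conj_self {P : ℕ → G} (hP : IsHom6 P) {g f : G} {M w : ℕ} (hg : Acts P g M)
    (hw : w < 64) (hf : P w = f) : Acts P (f * g * f) M := by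
  intro v hv
  have hc : ∀ a b, a < 64 → b < 64 → P a * P b = P b * P a := by
    intro a b ha hb
    rw [← hP a b ha hb, ← hP b a hb ha, Nat.xor_comm]
  rw [← hf]
  calc P v * (P w * g * P w) = (P v * P w) * g * P w := by group
    _ = P w * (P v * g) * P w := by rw [hc v w hv hw]; group
    _ = P w * g * (P (app M v) * P w) := by rw [hg v hv]; group
    _ = P w * g * (P w * P (app M v)) := by rw [hc _ w (app_lt _ _) hw]
    _ = _ := by group

/-- the words of the action of `y1 y2` on `V1 V2 / V1` -/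
theorem comm_chk3 : ∀ k : Fin 4, ∃ k' : Fin 4, ∃ u : Fin 64, app (A22 true) (app A12 u) = 16 * k' ∧
    (16 * k ^^^ (16 * k' ^^^ u) : ℕ) < 16 := by decide +kernel

theorem low_chk : ∀ l < 16, v2c l = v1c (fphi l) ∧ fphi l < 64 := by decide +kernel

theorem isF_vc : ∀ a : Fin 64, Nat.testBit 87 (cl a) = true → isF (vc a) = true := by
  decide +kernel

theorem isN_chk : isN (vc 34) = true ∧ isN (vc 52) = true ∧ isN (vc 22) = true := by
  decide +kernel

theorem cl_cases (a : Fin 64) (h0 : a ≠ 0) (h : ¬ Nat.testBit 87 (cl a) = true) :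
    cl a = 3 ∨ cl a = 5 := by
  have := cl_lt a
  revert h0 h; revert a; decide +kernel

theorem nrm_of {V : Subgroup G} [Finite G] {g : G} (h : ∀ v ∈ V, g * v * g⁻¹ ∈ V) :
    g ∈ Subgroup.normalizer (V : Set G) :=
  Subgroup.mem_normalizer_fintype h

theorem nrm_of' {V : Subgroup G} [Finite G] {g : G} (h : ∀ v ∈ V, ∃ w ∈ V, v * g = g * w) :
    g ∈ Subgroup.normalizer (V : Set G) := by
  have h1 : g⁻¹ ∈ Subgroup.normalizer (V : Set G) := by
    apply nrm_of
    intro v hv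
    obtain ⟨w, hw, e⟩ := h v hv
    have : g⁻¹ * v * g⁻¹⁻¹ = w := by
      rw [inv_inv, mul_assoc, e]; group
    rw [this]; exact hw
  have h2 := (Subgroup.normalizer (V : Set G)).inv_mem h1
  rwa [inv_inv] at h2

set_option maxHeartbeats 800000 in
/-- **The centraliser of the four-group `BB`**, Held configuration. -/
theorem centralizer_BB_le [Finite G] (E : Code.Emb z ph) (H : Subgroup G)
    (hA : ∀ g, g * z * g⁻¹ ∈ H → g ∈ H) (hCH : ∀ c, Code.C c → ph c ∈ H)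
    (S : Sylow 2 G) (hS : (S : Subgroup G) = im (iota E) T0)
    (hF : ∀ n < 1024, Fus8.kf n ≠ 0 → Fus8.zt true true (Fus8.kf n) = true →
      IsConj z (ph (Fus8.tc n)))
    (hN : ∀ n < 1024, Fus8.kf n ≠ 0 → Fus8.zt true true (Fus8.kf n) = false →
      ¬ IsConj z (ph (Fus8.tc n)))
    (hw : ∀ g : G, (∀ v ∈ im (iota E) V1, g * v * g⁻¹ ∈ im (iota E) T0) →
      g ∈ Subgroup.normalizer (im (iota E) V1 : Set G))
    {y1 y2 : G} (hy1 : y1 ∈ H) (hy2 : y2 ∈ H)
    (c : Config.Config (xs ph) 1 1 (ph (Code.X 1 3)) y1 y2) :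
    Subgroup.centralizer (im (iota E) BB : Set G) ≤ H := by
  have h := hyp E
  set ι := iota E with hι
  have hFc : ∀ u : CC, isF (cd (u : L5)) = true → IsConj z (ι u) := by
    intro u hu
    unfold isF at hu
    simp only [Bool.and_eq_true, Bool.not_eq_true'] at hu
    obtain ⟨⟨⟨h1, h2⟩, h3⟩, h4⟩ := hu
    have h5 := hF (nidx (cd (u : L5))) (by rwa [Nat.blt_eq] at h1) (fun e => by
      rw [e] at h3; exact absurd h3 (by decide)) h4
    rw [Nat.eq_of_beq_eq_true h2] at h5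
    exact h5
  have hNc : ∀ u : CC, isN (cd (u : L5)) = true → ¬ IsConj z (ι u) := by
    intro u hu
    unfold isN at hu
    simp only [Bool.and_eq_true, Bool.not_eq_true'] at hu
    obtain ⟨⟨⟨h1, h2⟩, h3⟩, h4⟩ := hu
    have h5 := hN (nidx (cd (u : L5))) (by rwa [Nat.blt_eq] at h1) (fun e => by
      rw [e] at h3; exact absurd h3 (by decide)) h4
    rw [Nat.eq_of_beq_eq_true h2] at h5
    exact h5
  have s1 := toSide E (Or.inr rfl) c.side1
  have s2 := toSide2 E (Or.inr rfl) c.side2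
  have a11 : Acts (P1 ph) y1 (A11 true) := side_acts1 E s1
  have a12 : Acts (P2 ph) y1 A12 := side_acts2 E s1
  have a21 : Acts (P1 ph) y2 A21 := side2_acts1 E s2
  have a22 : Acts (P2 ph) y2 (A22 true) := side2_acts2 E s2
  set f : G := ph (Code.X 1 3) with hf
  have b11 : Acts (P1 ph) (f * y1 * f) (A11 true) :=
    acts_conj_self (hom1 E) a11 (w := 16) (by norm_num) p1_16
  have b12 : Acts (P2 ph) (f * y1 * f) A12 :=
    acts_conj_self (hom2 E) a12 (w := 4) (by norm_num) p2_4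
  set y0 : G := f * y1 * f * y2 with hy0
  have hfH : f ∈ H := hCH _ (Code.C_of_isC (b := Code.X 1 3) (by decide +kernel))
  have hy0H : y0 ∈ H := H.mul_mem (H.mul_mem (H.mul_mem hfH hy1) hfH) hy2
  have c1 : ∀ v < 64, P1 ph v * y0 = y0 * P1 ph (app A21 (app (A11 true) v)) :=
    fun v hv => acts_comp b11 a21 hv
  have c2 : ∀ v < 64, P2 ph v * y0 = y0 * P2 ph (app (A22 true) (app A12 v)) :=
    fun v hv => acts_comp b12 a22 hv
  have hVJ : ∀ v ∈ im ι V1, ∀ j ∈ im ι JJ, j⁻¹ * v * j ∈ im ι V1 := by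
    intro v hv j hj
    obtain ⟨u, hu, rfl⟩ := mem_im.1 hv
    obtain ⟨w, hw, rfl⟩ := mem_im.1 hj
    refine mem_im.2 ⟨w⁻¹ * u * w, ?_, by rw [map_mul, map_mul, map_inv]⟩
    have := V1_conj (T0.inv_mem (JJ_le_T0 hw)) hu
    rwa [inv_inv] at this
  have hTJ : im ι T0 ≤ Subgroup.normalizer (im ι JJ : Set G) := by
    intro t ht
    obtain ⟨u, hu, rfl⟩ := mem_im.1 ht
    apply nrm_of
    intro j hj
    obtain ⟨w, hw, rfl⟩ := mem_im.1 hj
    refine mem_im.2 ⟨u * w * u⁻¹, ?_, by rw [map_mul, map_mul, map_inv]⟩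
    exact conj_pat (P := PJ) (P' := PT) (by decide) (by decide) (by decide) hu hw
  -- the centre of J
  have hcen : ∀ x ∈ im ι FF, ∀ j ∈ im ι JJ, j * x = x * j := by
    intro x hx j hj
    obtain ⟨u, hu, rfl⟩ := mem_im.1 hx
    obtain ⟨w, hw, rfl⟩ := mem_im.1 hj
    rw [← map_mul, ← map_mul]
    congr 1
    exact Subtype.ext (jj_ff_comm hw hu)
  have hcen' : ∀ x ∈ im ι JJ, (∀ j ∈ im ι JJ, x * j = j * x) → x ∈ im ι FF := by
    intro x hx hxj
    obtain ⟨u, hu, rfl⟩ := mem_im.1 hx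
    refine mem_im.2 ⟨u, mem_FF_of_comm hu ?_, rfl⟩
    intro j hj
    have h1 := hxj (ι ⟨j, JJ_le_CC hj⟩) (mem_im.2 ⟨_, hj, rfl⟩)
    rw [← map_mul, ← map_mul] at h1
    exact congrArg Subtype.val (h.inj h1)
  have hXc : ∀ g : G, (∀ j ∈ im ι JJ, g * j * g⁻¹ ∈ im ι JJ) →
      g ∈ Subgroup.normalizer (im ι FF : Set G) := by
    intro g hg
    have hgN : g ∈ Subgroup.normalizer (im ι JJ : Set G) := nrm_of hg
    apply nrm_of
    intro x hx
    apply hcen' _ (hg x (im_le FF_le_V1 |>.trans (im_le V1_le_JJ) |> fun hle => hle hx))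
    intro j hj
    have h1 : g⁻¹ * j * g ∈ im ι JJ := by
      have := (Subgroup.mem_normalizer_iff.1 ((Subgroup.normalizer _).inv_mem hgN) j).1 hj
      simpa using this
    have h2 := hcen x hx _ h1
    calc g * x * g⁻¹ * j = g * (x * (g⁻¹ * j * g)) * g⁻¹ := by group
      _ = g * ((g⁻¹ * j * g) * x) * g⁻¹ := by rw [h2]
      _ = j * (g * x * g⁻¹) := by group
  have hBJ : im ι BB ≤ im ι JJ := im_le (BB_le_FF.trans (FF_le_V1.trans V1_le_JJ))
  refine CentV.centralizer_le z H (im ι BB) (im ι FF) (im ι V1) (im ι JJ) hA (im_le BB_le_FF)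
    (im_le FF_le_V1) (im_le V1_le_JJ) ?_ ?_ ?_ ?_ ?_ (sq_im (fun a ha => sq_V1 ha)) ?_ ?_ ?_ ?_ ?_ ?_ ?_
    ?_ hXc ?_ y0 hy0H ?_ ?_ ?_
  · rintro _ hj
    obtain ⟨u, hu, rfl⟩ := mem_im.1 hj
    exact hCH _ (C_cd u.2)
  · rw [card_im h BB_le_CC, card_BB]
  · rw [card_im h FF_le_CC, card_FF]
  · rw [card_im h V1_le_CC, card_V1]
  · rw [card_im h JJ_le_CC, card_JJ]
  · rw [← h.map_zz]
    refine mem_im.2 ⟨zC, ?_, rfl⟩
    show zz ∈ FF
    rw [← ve_four]
    exact ve_mem_FF.2 (by decide +kernel)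
  · intro hz
    obtain ⟨u, hu, e⟩ := mem_im.1 hz
    rw [← h.map_zz] at e
    have h1 := h.inj e
    rw [h1] at hu
    have h2 : zz ∈ BB := hu
    rw [← ve_four, ve_mem_BB] at h2
    revert h2; decide +kernel
  · intro j hj
    rw [Subgroup.mem_centralizer_iff]
    intro b hb
    exact (hcen b (im_le BB_le_FF hb) j hj).symm
  · intro x hxz hxB
    obtain ⟨u, rfl⟩ : ∃ u, ι u = x := by
      have : x ∈ Subgroup.centralizer ({z} : Set G) := by
        rw [Subgroup.mem_centralizer_singleton_iff]; exact hxz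
      rw [← h.range] at this
      exact this
    refine mem_im.2 ⟨u, mem_JJ_of_BB u.2 ?_, rfl⟩
    intro b hb
    have h1 := Subgroup.mem_centralizer_iff.1 hxB (ι ⟨b, BB_le_CC hb⟩) (mem_im.2 ⟨_, hb, rfl⟩)
    rw [← map_mul, ← map_mul] at h1
    exact (congrArg Subtype.val (h.inj h1)).symm
  · intro x hx
    obtain ⟨u, hu, rfl⟩ := mem_im.1 hx
    exact E.comm (C_cd u.2)
  · -- J is a Sylow subgroup of the centraliser
    intro x hxB hxJ hxx
    have hxN : x ∈ Subgroup.normalizer (im ι JJ : Set G) := nrm_of hxJ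
    have hJ2 : IsPGroup 2 (im ι JJ) :=
      IsPGroup.of_card (n := 8) (by rw [card_im h JJ_le_CC, card_JJ]; norm_num)
    have hP := MaxStab.isPGroup_adjoin (im ι JJ) hJ2 x hxN hxx
    set NJ : Subgroup G := Subgroup.normalizer (im ι JJ : Set G) with hNJ
    have hSN : (S : Subgroup G) ≤ NJ := by rw [hS]; exact hTJ
    let S' : Sylow 2 NJ := S.subtype hSN
    obtain ⟨Q, hQ⟩ := (hP.comap_of_injective NJ.subtype NJ.subtype_injective).exists_le_sylow
    obtain ⟨n, hn⟩ := MulAction.exists_smul_eq NJ Q S'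
    have key : ∀ w ∈ im ι JJ ⊔ Subgroup.zpowers x, ∀ hw : w ∈ NJ, (n : G) * w * (n : G)⁻¹ ∈ im ι T0 := by
      intro w hwP hwN
      have h1 : (⟨w, hwN⟩ : NJ) ∈ (Q : Subgroup NJ) := hQ hwP
      have h2 : n * ⟨w, hwN⟩ * n⁻¹ ∈ (S' : Subgroup NJ) := by
        rw [← hn, Sylow.coe_subgroup_smul]
        have := Subgroup.smul_mem_pointwise_smul (⟨w, hwN⟩ : NJ) (MulAut.conj n) (Q : Subgroup NJ) h1
        simpa using this
      have h3 : (n : G) * w * (n : G)⁻¹ ∈ (S : Subgroup G) := h2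
      rwa [hS] at h3
    have hx' : (n : G) * x * (n : G)⁻¹ ∈ im ι T0 :=
      key x ((le_sup_right : Subgroup.zpowers x ≤ _) (Subgroup.mem_zpowers x)) hxN
    have hnJ : ∀ j ∈ im ι JJ, (n : G) * j * (n : G)⁻¹ ∈ im ι JJ := fun j hj =>
      (Subgroup.mem_normalizer_iff.1 n.2 j).1 hj
    have hnX := hXc n hnJ
    obtain ⟨u, hu, hue⟩ := mem_im.1 hx'
    -- images of elements of B
    have hb : ∀ b : Fin 64, bi b = true → b ≠ 0 → ¬ IsConj z (P1 ph b) →
        ∃ a : Fin 64, (n : G) * P1 ph b * (n : G)⁻¹ = P1 ph a ∧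
          Nat.beq (Nat.land a 54) a = true ∧ (cl a = 3 ∨ cl a = 5) := by
      intro b hb hb0 hbz
      have h1 : P1 ph b ∈ im ι FF :=
        mem_im.2 ⟨⟨ve b, V1_le_CC (ve_mem b)⟩, BB_le_FF (ve_mem_BB.2 hb), iota_ve E b _⟩
      have h2 := (Subgroup.mem_normalizer_iff.1 hnX _).1 h1
      obtain ⟨⟨w, hw'⟩, hwF, hwe⟩ := mem_im.1 h2
      obtain ⟨a, rfl⟩ := ve_surj (FF_le_V1 hwF)
      rw [hι, iota_ve E a hw'] at hwe
      refine ⟨a, hwe.symm, ve_mem_FF.1 hwF, cl_cases a ?_ ?_⟩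
      · rintro rfl
        have h3 : P1 ph ((0 : Fin 64) : ℕ) = 1 := (hom1 E).zero
        rw [h3] at hwe
        have h4 : P1 ph b = 1 := by
          have : P1 ph b = (n : G)⁻¹ * ((n : G) * P1 ph b * (n : G)⁻¹) * n := by group
          rw [this, ← hwe]; group
        exact hb0 (Fin.ext (inj1 E b b.2 h4))
      · intro h3
        have h4 := hFc ⟨ve a, V1_le_CC (ve_mem a)⟩ (by
          show isF (cd (ve a)) = true
          rw [cd_ve]; exact isF_vc a h3)
        rw [hι, iota_ve E a] at h4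
        apply hbz
        rw [hwe] at h4
        exact h4.trans (isConj_iff.2 ⟨(n : G)⁻¹, by group⟩)
    have hNb : ∀ b : Fin 64, isN (vc b) = true → ¬ IsConj z (P1 ph b) := by
      intro b hb
      have := hNc ⟨ve b, V1_le_CC (ve_mem b)⟩ (by
        show isN (cd (ve b)) = true
        rw [cd_ve]; exact hb)
      rw [hι, iota_ve E b] at this
      exact this
    obtain ⟨a, ha, ha1, ha2⟩ := hb 34 (by decide +kernel) (by decide) (hNb 34 isN_chk.1)
    obtain ⟨b, hb', hb1, hb2⟩ := hb 52 (by decide +kernel) (by decide) (hNb 52 isN_chk.2.1)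
    obtain ⟨d, hd, hd1, hd2⟩ := hb 22 (by decide +kernel) (by decide) (hNb 22 isN_chk.2.2)
    have hab : d = xr a b := by
      have h1 : P1 ph d = P1 ph (xr a b) := by
        rw [← hd]
        show _ = P1 ph (a ^^^ b : ℕ)
        rw [(hom1 E) a b a.2 b.2, ← ha, ← hb']
        have h2 : P1 ph ((22 : Fin 64) : ℕ) = P1 ph ((34 : Fin 64) : ℕ) * P1 ph ((52 : Fin 64) : ℕ) := by
          rw [← (hom1 E) _ _ (34 : Fin 64).2 (52 : Fin 64).2]
          rfl
        rw [h2]; group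
      have h3 : P1 ph ((d : ℕ) ^^^ ((xr a b : Fin 64) : ℕ)) = 1 := by
        rw [(hom1 E) _ _ d.2 (xr a b).2, h1, (hom1 E).sq (xr a b).2]
      have h4 := inj1 E _ (Nat.xor_lt_two_pow (n := 6) d.2 (xr a b).2) h3
      exact Fin.ext (Nat.xor_eq_zero_iff.1 h4)
    rw [hab] at hd2
    have hcm : ∀ b : Fin 64, bi b = true → ∀ a : Fin 64, (n : G) * P1 ph b * (n : G)⁻¹ = P1 ph a →
        (u : L5) * ve a = ve a * (u : L5) := by
      intro b hb a ha
      have h1 : P1 ph b ∈ im ι BB :=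
        mem_im.2 ⟨⟨ve b, V1_le_CC (ve_mem b)⟩, ve_mem_BB.2 hb, iota_ve E b _⟩
      have h2 := Subgroup.mem_centralizer_iff.1 hxB _ h1
      have h3 : ι u * P1 ph a = P1 ph a * ι u := by
        rw [hue, ← ha]
        calc (n : G) * x * (n : G)⁻¹ * ((n : G) * P1 ph b * (n : G)⁻¹)
            = n * (x * P1 ph b) * (n : G)⁻¹ := by group
          _ = n * (P1 ph b * x) * (n : G)⁻¹ := by rw [h2]
          _ = _ := by group
      rw [← iota_ve E a (V1_le_CC (ve_mem a)), ← hι, ← map_mul, ← map_mul] at h3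
      exact congrArg Subtype.val (h.inj h3)
    have huJ : (u : L5) ∈ JJ := mem_JJ_of_comm hu a b ha1 hb1 ha2 hb2 hd2
      (hcm 34 (by decide +kernel) a ha) (hcm 52 (by decide +kernel) b hb')
    have h5 : (n : G) * x * (n : G)⁻¹ ∈ im ι JJ := mem_im.2 ⟨u, huJ, hue⟩
    exact (Subgroup.mem_normalizer_iff.1 n.2 x).2 h5
  · -- coset condition
    intro x hx hxB hxx
    obtain ⟨u, hu, rfl⟩ := mem_im.1 hx
    have h1 : (u : L5) ∉ BB := fun e => hxB (mem_im.2 ⟨u, e, rfl⟩)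
    have h2 : (u : L5) * u ∈ BB := by
      rw [← map_mul] at hxx
      obtain ⟨w, hw, e⟩ := mem_im.1 hxx
      have := h.inj e
      rw [this] at hw
      exact hw
    obtain ⟨b, hb, hbF⟩ := exists_isF hu h1 h2
    refine ⟨ι ⟨b, BB_le_CC hb⟩, mem_im.2 ⟨_, hb, rfl⟩, ?_⟩
    have e3 : ((u * ⟨b, BB_le_CC hb⟩ : CC) : L5) = (u : L5) * b := rfl
    have h3 := hFc (u * ⟨b, BB_le_CC hb⟩) (by rw [e3]; exact hbF)
    rw [map_mul, isConj_iff] at h3
    exact h3
  · intro g hg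
    apply hw
    intro v hv
    exact im_le JJ_le_T0 (hg v hv)
  · intro j hj
    apply nrm_of
    intro v hv
    have := hVJ v hv j⁻¹ ((im ι JJ).inv_mem hj)
    rwa [inv_inv] at this
  · -- y0 centralises B
    rw [Subgroup.mem_centralizer_iff]
    intro b hb
    obtain ⟨⟨w, hw'⟩, ⟨a, ha, hae⟩, rfl⟩ := mem_im.1 hb
    have hae' : ve a = w := hae
    subst hae'
    rw [hι, iota_ve E a hw', c1 a a.2]
    have key : ∀ a : Fin 64, bi a = true → app A21 (app (A11 true) a) = a := by decide +kernel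
    rw [key a ha]
  · apply nrm_of'
    intro v hv
    obtain ⟨a, ha, rfl⟩ := (mem_imV E).1 hv
    exact ⟨P1 ph _, (mem_imV E).2 ⟨_, app_lt _ _, rfl⟩, c1 a ha⟩
  · intro j hj
    obtain ⟨v, hv, k, hk, rfl⟩ := (mem_imJ E).1 hj
    obtain ⟨k', u, hu1, hu2⟩ := comm_chk3 ⟨k, hk⟩
    have hk16 : ∀ k : Fin 4, 16 * (k : ℕ) < 64 := by decide
    have hw1 : P2 ph (16 * (k' : ℕ)) ∈ im ι JJ := (mem_imJ E).2 ⟨0, by norm_num, k', k'.2, by
      rw [(hom1 E).zero, one_mul]⟩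
    have hwk : P2 ph (16 * k) ∈ im ι JJ := (mem_imJ E).2 ⟨0, by norm_num, k, hk, by
      rw [(hom1 E).zero, one_mul]⟩
    refine ⟨P2 ph (16 * (k' : ℕ)), hw1, P2 ph (16 * k ^^^ (16 * (k' : ℕ) ^^^ u)) *
      ((P2 ph (16 * k))⁻¹ * P1 ph v * P2 ph (16 * k)), ?_, ?_⟩
    · apply (im ι V1).mul_mem
      · obtain ⟨h1, h2⟩ := low_chk _ hu2
        refine (mem_imV E).2 ⟨_, h2, ?_⟩
        show ph (v2c _) = ph (v1c _)
        rw [h1]
      · exact hVJ _ ((mem_imV E).2 ⟨v, hv, rfl⟩) _ hwk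
    · have e1 : y0 * (P2 ph (16 * (k' : ℕ)))⁻¹ * y0⁻¹ = P2 ph u := by
        have h1 := c2 u u.2
        rw [hu1] at h1
        have h2 : (P2 ph (16 * (k' : ℕ)))⁻¹ = P2 ph (16 * (k' : ℕ)) :=
          inv_eq_of_mul_eq_one_right ((hom2 E).sq (hk16 k'))
        rw [h2, ← h1]; group
      have e2 : P2 ph (16 * (k' : ℕ)) * y0 * (P2 ph (16 * (k' : ℕ)))⁻¹ * y0⁻¹ =
          P2 ph (16 * (k' : ℕ) ^^^ u) := by
        rw [(hom2 E) _ _ (hk16 k') u.2, ← e1]; group
      have hlt : (16 * (k' : ℕ) ^^^ u : ℕ) < 64 := Nat.xor_lt_two_pow (n := 6) (hk16 k') u.2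
      rw [e2, (hom2 E) _ _ (hk16 ⟨k, hk⟩) hlt]
      have e3 := (hom2 E).sq hlt
      calc P1 ph v * P2 ph (16 * k)
          = P2 ph (16 * k) * ((P2 ph (16 * k))⁻¹ * P1 ph v * P2 ph (16 * k)) := by group
        _ = (P2 ph (16 * (k' : ℕ) ^^^ u) * P2 ph (16 * (k' : ℕ) ^^^ u)) * (P2 ph (16 * k) *
            ((P2 ph (16 * k))⁻¹ * P1 ph v * P2 ph (16 * k))) := by rw [e3, one_mul]
        _ = P2 ph (16 * (k' : ℕ) ^^^ u) * ((P2 ph (16 * (k' : ℕ) ^^^ u) * P2 ph (16 * k)) *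
            ((P2 ph (16 * k))⁻¹ * P1 ph v * P2 ph (16 * k))) := by group
        _ = P2 ph (16 * (k' : ℕ) ^^^ u) * ((P2 ph (16 * k) * P2 ph (16 * (k' : ℕ) ^^^ u)) *
            ((P2 ph (16 * k))⁻¹ * P1 ph v * P2 ph (16 * k))) := by
              rw [← (hom2 E) _ _ hlt (hk16 ⟨k, hk⟩), ← (hom2 E) _ _ (hk16 ⟨k, hk⟩) hlt,
                Nat.xor_comm (16 * (k' : ℕ) ^^^ u)]

end Main

end Cfsg.Agent.Held.CentB
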