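import Cfsg.Agent.Held.ClosingCode

/-!
# The kernel search, evaluated
-/

set_option autoImplicit false

namespace Cfsg.Agent.Held.ClosingCheck

open Cfsg.Agent.Held.ClosingCode

/-- mask of the `z`-type elements of `T`, case `m00` -/
def m00 : ℕ := 7360198307048065029934624620675715688448774695782720856767472279892934478438496306637611739022585347226933979317349336793710860752893844060806273230741889549207826821387945192178358632534358168227656813769589448426691679698148656052110925592126896340990

/-- mask of the `z`-type elements of `T`, case `m10` -/
def m10 : ℕ := 134661257059040655870852741206215270089915763971697258946441478881501653470267815091867094845316605814458700208235763549003428293564757303188826594816716626981886369243346670997964389336859354745620618982693349507263589256890607255511933244001908649008869000764897755134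

/-- mask of the `z`-type elements of `T`, case `m01` -/
def m01 : ℕ := 7360198307048065029934624620675715688448774695782720856767472279892934478438496306637611739022585347227043090672679981354182110339269919104254942327983672515125051130338199971955332407561787639329698335344812292912702430840947197561561134976655240331262

/-- mask of the `z`-type elements of `T`, case `m11` -/
def m11 : ℕ := 134661257059040655870852741206215270089915763971697258946441478881501653470267815091867094845316605814458700208235763549112539648895401863660076181192791670430555466485129636915188698287114134522594394010122820609305110832113451741522684386800450158459078385293241745406

/-- the element `1 + E_{04} + E_{13} + E_{14}` of order 2 -/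
abbrev vv : ℕ := 17044305

theorem main_m00 : main m00 0 [17044289, 17060177, 17060185] = true := by decide +kernel

theorem main_m10 : main m10 0 [17044289, 17043781, 17043805] = true := by decide +kernel

theorem main_m01 : main m01 0 [17044289, 17060169, 17059913] = true := by decide +kernel

theorem main_m11 : main m11 vv [17044305, 17584211] = true := by decide +kernel

end Cfsg.Agent.Held.ClosingCheck
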