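import Cfsg.Agent.Held.Closing
import Cfsg.Agent.Held.ClosingCheck
import Cfsg.Agent.Held.Fus8

/-!
# The closing theorem for the three main cases of the Held type problem
-/

set_option autoImplicit false

namespace Cfsg.Agent.Held.ClosingMain

open Cfsg.Agent.Lib.F2Mat Cfsg.Agent.Held.Code Cfsg.Agent.Held.ClosingCode Cfsg.Agent.Held.ClosingT
open Cfsg.Agent.Held.ClosingSound Cfsg.Agent.Held.Closing Cfsg.Agent.Held.ClosingCheck
open Cfsg.Agent.Held.Fus8 Cfsg.Agent.Held.SideDef Cfsg.Agent.Held.Acts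

theorem tc_eq_dec {n : ℕ} (hn : n < 1024) : tc n = dec n := by
  have h1 : n / 512 % 2 = n / 512 := Nat.mod_eq_of_lt (by omega)
  show 17043521 + 2 * (n % 16) + 128 * (n / 16 % 8) + 8192 * (n / 128 % 4) + 524288 * (n / 512) =
    17043521 + 2 * (n % 16) + 128 * (n / 16 % 8) + 8192 * (n / 128 % 4) + 524288 * (n / 512 % 2)
  rw [h1]

/-- the mask of a case -/
def msk (t1 t2 : Bool) : ℕ := cond t1 (cond t2 m11 m01) (cond t2 m10 m00)

/-- the mask describes the `z`-type elements -/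
def ckm (t1 t2 : Bool) : Bool := allb 1024 fun n =>
  eqb (ClosingCode.zt (msk t1 t2) (dec n)) (ab (nb (Nat.beq (kf n) 0)) (Fus8.zt t1 t2 (kf n)))

theorem ckm_all : ∀ t1 t2, ckm t1 t2 = true := by
  intro t1 t2
  cases t1 <;> cases t2 <;> decide +kernel

theorem mask_iff (t1 t2 : Bool) {n : ℕ} (hn : n < 1024) :
    ClosingCode.zt (msk t1 t2) (dec n) = true ↔ kf n ≠ 0 ∧ Fus8.zt t1 t2 (kf n) = true := by
  have h := of_allb (ckm_all t1 t2) n hn
  rw [eqb_iff] at h
  rw [h, ab_iff, nb_iff]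
  constructor
  · rintro ⟨h1, h2⟩
    refine ⟨?_, h2⟩
    intro h3
    rw [h3] at h1
    exact absurd h1 (by decide)
  · rintro ⟨h1, h2⟩
    refine ⟨?_, h2⟩
    rcases h3 : Nat.beq (kf n) 0 with _ | _
    · rfl
    · exact absurd (Nat.eq_of_beq_eq_true h3) h1

theorem C_of_TC {a : ℕ} (ha : TC a) : C a := by
  obtain ⟨n, hn, rfl⟩ := ha
  rw [← tc_eq_dec hn]
  exact tc_C hn

theorem tt_eq : mu (X 0 3) (X 1 4) = tt := by decide +kernel
theorem vv_eq : mu (X 0 4) (mu (X 1 3) (X 1 4)) = ClosingCheck.vv := by decide +kernel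

variable {G : Type*} [Group G] {z : G} {ph : ℕ → G} {H : Subgroup G} {t1 t2 : Bool} {y1 y2 : G}

/-- **Closing theorem.** `H ≥ C_G(z)` contains `y1`, `y2`; in the case `t1 = t2 = true` (Held) the
centraliser of the four-group `⟨ph tt, ph vv⟩` has to lie in `H`. Then `H = G`. -/
theorem closing_main [Finite G] (E : Emb z ph) (S : Sylow 2 G)
    (hS : ∀ g : G, g ∈ (S : Subgroup G) ↔ ∃ n < 1024, ph (tc n) = g)
    (hH : ∀ c, C c → ph c ∈ H) (s1 : Side z ph t1 y1) (s2 : Side2 z ph t2 y2)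
    (hy1 : y1 ∈ H) (hy2 : y2 ∈ H) (hb : ¬ IsConj z (ph (mu (X 0 3) (X 1 4))))
    (hV : t1 = true → t2 = true →
      ∀ g : G, g * ph tt = ph tt * g → g * ph ClosingCheck.vv = ph ClosingCheck.vv * g → g ∈ H) : H = ⊤ := by
  have td : TD z ph (S : Subgroup G) := by
    refine ⟨fun ha hb => E.mul (C_of_TC ha) (C_of_TC hb),
      fun ha hb => E.inj (C_of_TC ha) (C_of_TC hb), ?_, E.z_eq⟩
    intro g
    rw [hS]
    constructor
    · rintro ⟨n, hn, h⟩
      exact ⟨dec n, ⟨n, hn, rfl⟩, by rw [← tc_eq_dec hn]; exact h⟩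
    · rintro ⟨a, ⟨n, hn, rfl⟩, h⟩
      exact ⟨n, hn, by rw [tc_eq_dec hn]; exact h⟩
  have hyp : Closing.Hyp z ph S H (msk t1 t2) := by
    refine ⟨td, ?_, ?_, ?_, ?_, ?_⟩
    · intro g hg
      obtain ⟨a, ha, rfl⟩ := E.surj g hg
      exact hH a ha
    · rintro a ⟨n, hn, rfl⟩ hz
      obtain ⟨h0, h1⟩ := (mask_iff t1 t2 hn).1 hz
      have := (fus E hH s1 s2 hy1 hy2 hn h0).1 h1
      rw [tc_eq_dec hn] at this
      exact this
    · rintro a ⟨n, hn, rfl⟩ hz
      obtain ⟨h0, h1⟩ := (mask_iff t1 t2 hn).1 hz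
      have h2 := (isC_mu (tc_spec hn h0).2.1).2
      rw [tc_eq_dec hn] at h2
      refine ⟨h2, ?_⟩
      intro h3
      have h4 : n = 0 := dec_inj hn (by norm_num) (h3.trans (by decide +kernel : e1 = dec 0))
      rw [h4] at h0
      exact h0 (by decide +kernel)
    · rintro a ⟨n, hn, rfl⟩ haa ha1 hz
      have h0 : kf n ≠ 0 := by
        apply kf_ne_zero hn
        · rintro rfl
          exact ha1 (by decide +kernel)
        · rw [tc_eq_dec hn]; exact haa
      have h1 : Fus8.zt t1 t2 (kf n) = false := by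
        rcases h2 : Fus8.zt t1 t2 (kf n) with _ | _
        · rfl
        · rw [(mask_iff t1 t2 hn).2 ⟨h0, h2⟩] at hz
          exact absurd hz (by decide)
      have := (fus E hH s1 s2 hy1 hy2 hn h0).2 h1
      rw [tc_eq_dec hn, tt_eq] at this
      exact this
    · rw [← tt_eq]; exact hb
  have h0 : ¬ TC 0 := by
    rintro ⟨n, hn, h⟩
    rw [dec_eq] at h
    omega
  cases t1 <;> cases t2
  · exact closing hyp main_m00 (by decide +kernel) (fun h => absurd h h0)
  · exact closing hyp main_m10 (by decide +kernel) (fun h => absurd h h0)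
  · exact closing hyp main_m01 (by decide +kernel) (fun h => absurd h h0)
  · exact closing hyp main_m11 (by decide +kernel) (fun _ => hV rfl rfl)

end Cfsg.Agent.Held.ClosingMain
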