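import Cfsg.Agent.Held.ModelL5
import Cfsg.Agent.S0242
import Cfsg.Agent.S0249

/-!
# The configuration `(0, 0)` generates `SL(5, 2)`
-/

set_option autoImplicit false

namespace Cfsg.Agent.Held.L5Case

open Cfsg.Agent.Held.Code Cfsg.Agent.Held.Config Cfsg.Agent.Held.Letters Cfsg.Agent.Held.ModelL5
  Cfsg.Agent.Held.LetterVals

theorem card_SL : Nat.card SL = 9999360 := by
  have h := Cfsg.Agent.S0242.result (F := ZMod 2) (q := 2) (ZMod.card 2) 5 (by norm_num)
  rw [Fin.prod_univ_five] at h
  have h1 : (2 - 1) * Nat.card SL = 9999360 := by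
    rw [h]; decide
  omega

instance finite_SL : Finite SL := Subtype.finite

theorem center_SL : Subgroup.center SL = ⊥ := by
  rw [eq_bot_iff]
  intro A hA
  rw [Matrix.SpecialLinearGroup.mem_center_iff] at hA
  obtain ⟨r, hr, hA⟩ := hA
  rw [Subgroup.mem_bot]
  have h1 : r = 1 := by
    have key : ∀ r : ZMod 2, r = 0 ∨ r = 1 := by decide
    rcases key r with h0 | h0
    · rw [h0] at hr
      exact absurd hr (by decide)
    · exact h0
  apply Subtype.ext
  rw [← hA, h1]
  simp

theorem simple_SL : IsSimpleGroup SL := by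
  have h : IsSimpleGroup (Matrix.ProjectiveSpecialLinearGroup (Fin 5) (ZMod 2)) :=
    Cfsg.Agent.S0249.result 5 (by norm_num)
  have e : Matrix.ProjectiveSpecialLinearGroup (Fin 5) (ZMod 2) ≃* SL :=
    (QuotientGroup.quotientMulEquivOfEq center_SL).trans QuotientGroup.quotientBot
  exact e.symm.isSimpleGroup

/-- **The configuration `(0, 0)`**: the group generated by the root elements, `y1` and `y2` is a copy
of `SL(5, 2)`. -/
theorem exists_embedding {G : Type*} [Group G] {x : ℕ → ℕ → G} {y1 y2 : G}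
    (h : PresL5.Rels x y1 y2) (hz : x 0 4 ≠ 1) :
    ∃ f : SL →* G, Function.Injective f ∧
      (∀ n < 16, f (gy xM y1M y2M n) = gy x y1 y2 n) ∧
      f.range = Subgroup.closure (gy x y1 y2 '' {n | n < 16}) := by
  have hb := PresL5.card_le (PresL5.Rels.prod ModelL5.rels h)
  rw [gy_prod] at hb
  obtain ⟨f, hf, hr⟩ := exists_hom (gy xM y1M y2M) (gy x y1 y2) 16 closure_eq hb.1
    (by rw [card_SL]; exact hb.2)
  refine ⟨f, ?_, hf, hr⟩
  have := simple_SL
  rw [← MonoidHom.ker_eq_bot_iff]
  rcases (inferInstance : f.ker.Normal).eq_bot_or_eq_top with h1 | h1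
  · exact h1
  · exfalso
    have h2 := hf 3 (by norm_num)
    have h3 : gy xM y1M y2M 3 ∈ f.ker := by rw [h1]; trivial
    rw [MonoidHom.mem_ker] at h3
    rw [h3, g3] at h2
    exact hz h2.symm

end Cfsg.Agent.Held.L5Case
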