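import Cfsg.Agent.Held.ModelM24
import Cfsg.Agent.S0365

/-!
# The configurations `(1, 0)` and `(0, 1)` generate `M24`
-/

set_option autoImplicit false

namespace Cfsg.Agent.Held.M24Case

open Cfsg Cfsg.Agent.Held.Config Cfsg.Agent.Held.Letters Cfsg.Agent.Held.ModelM24
  Cfsg.Agent.Held.LetterVals

instance finite_M24 : Finite M24 := inferInstance

/-- **The configuration `(1, 0)`**: the group generated by the root elements, `y1` and `y2` is a copy
of `M24`. -/
theorem exists_embedding {G : Type*} [Group G] {x : ℕ → ℕ → G} {y1 y2 : G}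
    (h : PresM24.Rels x y1 y2) (hz : x 0 4 ≠ 1) :
    ∃ f : M24 →* G, Function.Injective f ∧
      (∀ n < 16, f (gy xM y1M y2M n) = gy x y1 y2 n) ∧
      f.range = Subgroup.closure (gy x y1 y2 '' {n | n < 16}) := by
  have hb := PresM24.card_le (PresM24.Rels.prod ModelM24.rels h)
  rw [gy_prod] at hb
  obtain ⟨f, hf, hr⟩ := exists_hom (gy xM y1M y2M) (gy x y1 y2) 16 closure_eq hb.1
    (by rw [Cfsg.Agent.SporadicA.M24Trans.card_M24]; exact hb.2)
  refine ⟨f, ?_, hf, hr⟩
  have : IsSimpleGroup M24 := Cfsg.Agent.S0365.result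
  rw [← MonoidHom.ker_eq_bot_iff]
  rcases (inferInstance : f.ker.Normal).eq_bot_or_eq_top with h1 | h1
  · exact h1
  · exfalso
    have h2 := hf 3 (by norm_num)
    have h3 : gy xM y1M y2M 3 ∈ f.ker := by rw [h1]; trivial
    rw [MonoidHom.mem_ker] at h3
    rw [h3, g3] at h2
    exact hz h2.symm

end Cfsg.Agent.Held.M24Case
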