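import Cfsg.Agent.Held.GenC
import Cfsg.Agent.Held.L5Case
import Cfsg.Agent.Held.M24Case

/-!
# The configurations `(0,0)`, `(1,0)`, `(0,1)` for an embedding of the centraliser

`Emb z ph` : `ph` identifies the codes with the centraliser of `z`.
-/

set_option autoImplicit false

namespace Cfsg.Agent.Held.EmbCases

open Cfsg Cfsg.Agent.SporadicRecognition.CosetCert Cfsg.Agent.Held.Config
  Cfsg.Agent.Held.Letters Cfsg.Agent.Held.Code Cfsg.Agent.Held.EmbSt Cfsg.Agent.Held.GenC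
  Cfsg.Agent.Held.LetterVals

/-! ### The mirror image of an embedding -/

/-- codes of the mirrored letters -/
def cm (n : ℕ) : ℕ :=
  [X 3 4, X 2 4, X 1 4, X 0 4, X 2 3, X 1 3, X 0 3, X 1 2, X 0 2, X 0 1, X 3 2, X 2 1].getD n e1

/-- code of a mirrored word -/
def evM (r : List ℕ) : ℕ := r.foldr (fun l a => mu (cm l) a) e1

theorem cm_of_ge {n : ℕ} (h : 12 ≤ n) : cm n = e1 := by
  unfold cm
  rw [List.getD_eq_getElem?_getD, List.getElem?_eq_none (by simpa using h)]
  rfl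

theorem C_cm (n : ℕ) : C (cm n) := by
  rcases Nat.lt_or_ge n 12 with h | h
  · have key : ∀ n < 12, isC (cm n) (cm n) = true := by decide +kernel
    exact C_of_isC (key n h)
  · rw [cm_of_ge h]; exact C_e1

theorem C_evM (r : List ℕ) : C (evM r) := by
  induction r with
  | nil => exact C_e1
  | cons l r ih => exact (C_cm l).mul ih

theorem relsP_mir : ∀ r ∈ relsP, evM r = e1 := by decide +kernel

theorem cm_sq (n : ℕ) : mu (cm n) (cm n) = e1 := by
  rcases Nat.lt_or_ge n 12 with h | h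
  · have key : ∀ n < 12, mu (cm n) (cm n) = e1 := by decide +kernel
    exact key n h
  · rw [cm_of_ge h]; decide +kernel

section
variable {G : Type*} [Group G] {z : G} {ph : ℕ → G}

theorem gx_mir (h : Emb z ph) (n : ℕ) : gx (mir fun i j => ph (X i j)) n = ph (cm n) := by
  rcases Nat.lt_or_ge n 12 with hn | hn
  · interval_cases n <;> rfl
  · rw [cm_of_ge hn, gx_of_ge _ hn, ph_e1 h]

theorem ev_mir (h : Emb z ph) (r : List ℕ) :
    ev (gx (mir fun i j => ph (X i j))) r = ph (evM r) := by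
  induction r with
  | nil => exact (ph_e1 h).symm
  | cons l r ih =>
    rw [ev_cons, ih, gx_mir h, ← h.mul (C_cm l) (C_evM r)]
    rfl

/-- the mirrored root elements of an embedding satisfy the Steinberg relations -/
theorem st_mir (h : Emb z ph) : St (mir fun i j => ph (X i j)) where
  sq := by
    intro n
    rw [gx_mir h, ← h.mul (C_cm n) (C_cm n), cm_sq, ph_e1 h]
  rel := by
    intro r hr
    rw [ev_mir h, relsP_mir r hr, ph_e1 h]

end

/-! ### Mirroring a configuration -/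

section
variable {G : Type*} [Group G] {x : ℕ → ℕ → G}

theorem side_mir_mir {t : ℕ} {y : G} (s : Side x t y) : Side (mir (mir x)) t y where
  cube := s.cube
  inv := s.inv
  act3 := by
    intro i hi
    interval_cases i
    · exact s.act3 0 (by norm_num)
    · exact s.act3 1 (by norm_num)
    · exact s.act3 2 (by norm_num)
  act4 := by
    intro i hi
    interval_cases i
    · exact s.act4 0 (by norm_num)
    · exact s.act4 1 (by norm_num)
    · exact s.act4 2 (by norm_num)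
  x01 := s.x01
  x02 := s.x02
  x12 := s.x12
  x21 := s.x21

theorem config_mir {y1 y2 : G} (hf : x 0 3 * x 0 3 = 1) (c : Config x 0 1 (x 0 3) y1 y2) :
    Config (mir x) 1 0 (mir x 1 4) y2 y1 where
  side1 := c.side2
  side2 := side_mir_mir c.side1
  comm := by
    show y1 * (x 0 3 * y2 * x 0 3) = x 0 3 * y2 * x 0 3 * y1
    have h := c.comm
    have h1 : x 0 3 * (y2 * (x 0 3 * y1 * x 0 3)) * x 0 3 =
        x 0 3 * (x 0 3 * y1 * x 0 3 * y2) * x 0 3 := by rw [h]
    have h2 : x 0 3 * (y2 * (x 0 3 * y1 * x 0 3)) * x 0 3 = x 0 3 * y2 * x 0 3 * y1 := by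
      simp only [mul_assoc, hf, mul_one]
    have h3 : x 0 3 * (x 0 3 * y1 * x 0 3 * y2) * x 0 3 = y1 * (x 0 3 * y2 * x 0 3) := by
      calc x 0 3 * (x 0 3 * y1 * x 0 3 * y2) * x 0 3
          = (x 0 3 * x 0 3) * (y1 * (x 0 3 * y2 * x 0 3)) := by simp only [mul_assoc]
        _ = _ := by rw [hf, one_mul]
    rw [← h2, ← h3, h1]

/-- the letters of the mirrored configuration are the same elements -/
theorem closure_mir (y1 y2 : G) :
    Subgroup.closure (gy (mir x) y2 y1 '' {n | n < 16}) =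
      Subgroup.closure (gy x y1 y2 '' {n | n < 16}) := by
  have key : ∀ n < 16, ∃ m < 16, gy (mir x) y2 y1 n = gy x y1 y2 m := by
    intro n hn
    interval_cases n
    · exact ⟨9, by norm_num, rfl⟩
    · exact ⟨8, by norm_num, rfl⟩
    · exact ⟨6, by norm_num, rfl⟩
    · exact ⟨3, by norm_num, rfl⟩
    · exact ⟨7, by norm_num, rfl⟩
    · exact ⟨5, by norm_num, rfl⟩
    · exact ⟨2, by norm_num, rfl⟩
    · exact ⟨4, by norm_num, rfl⟩
    · exact ⟨1, by norm_num, rfl⟩
    · exact ⟨0, by norm_num, rfl⟩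
    · exact ⟨11, by norm_num, rfl⟩
    · exact ⟨10, by norm_num, rfl⟩
    · exact ⟨14, by norm_num, rfl⟩
    · exact ⟨15, by norm_num, rfl⟩
    · exact ⟨12, by norm_num, rfl⟩
    · exact ⟨13, by norm_num, rfl⟩
  have key' : ∀ n < 16, ∃ m < 16, gy x y1 y2 n = gy (mir x) y2 y1 m := by
    intro n hn
    interval_cases n
    · exact ⟨9, by norm_num, rfl⟩
    · exact ⟨8, by norm_num, rfl⟩
    · exact ⟨6, by norm_num, rfl⟩
    · exact ⟨3, by norm_num, rfl⟩
    · exact ⟨7, by norm_num, rfl⟩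
    · exact ⟨5, by norm_num, rfl⟩
    · exact ⟨2, by norm_num, rfl⟩
    · exact ⟨4, by norm_num, rfl⟩
    · exact ⟨1, by norm_num, rfl⟩
    · exact ⟨0, by norm_num, rfl⟩
    · exact ⟨11, by norm_num, rfl⟩
    · exact ⟨10, by norm_num, rfl⟩
    · exact ⟨14, by norm_num, rfl⟩
    · exact ⟨15, by norm_num, rfl⟩
    · exact ⟨12, by norm_num, rfl⟩
    · exact ⟨13, by norm_num, rfl⟩
  congr 1
  ext g
  constructor
  · rintro ⟨n, hn, rfl⟩
    obtain ⟨m, hm, e⟩ := key n hn
    exact ⟨m, hm, e.symm⟩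
  · rintro ⟨n, hn, rfl⟩
    obtain ⟨m, hm, e⟩ := key' n hn
    exact ⟨m, hm, e.symm⟩

end

/-! ### The three cases -/

section
variable {G : Type*} [Group G] {z : G} {ph : ℕ → G} {y1 y2 : G}

/-- **Configuration `(0, 0)`**: `⟨C(z), y1, y2⟩` is a copy of `SL(5, 2)`. -/
theorem sl5 (h : Emb z ph) (hz : z ≠ 1) (c : Config (fun i j => ph (X i j)) 0 0 1 y1 y2)
    (e1' : (y1⁻¹ * ph (X 3 2)) ^ 3 = 1) (e2' : (y2⁻¹ * ph (X 2 1)) ^ 3 = 1) :
    ∃ f : SL →* G, Function.Injective f ∧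
      f.range = Subgroup.centralizer ({z} : Set G) ⊔ Subgroup.closure {y1, y2} ∧
      (∀ a, C a → f (ModelL5.tS a) = ph a) ∧ f ModelL5.y1M = y1 ∧ f ModelL5.y2M = y2 := by
  obtain ⟨f, h1, h2, h3⟩ := L5Case.exists_embedding (x := fun i j => ph (X i j)) (y1 := y1) (y2 := y2)
    ⟨st_of_emb h, c, e1', e2'⟩ (by
      show ph (X 0 4) ≠ 1
      rw [zc_eq, h.z_eq]
      exact hz)
  have hy1 := h2 12 (by norm_num)
  have hy2 := h2 14 (by norm_num)
  rw [g12, g12] at hy1
  rw [g14, g14] at hy2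
  refine ⟨f, h1, ?_, ?_, hy1, hy2⟩
  · rw [h3, closure_gy h]
  · have key : ∀ w : List ℕ, f (ModelL5.tS (evC w)) = ph (evC w) := by
      intro w
      induction w with
      | nil =>
        show f (ModelL5.tS e1) = ph e1
        rw [ModelL5.tS_e1, map_one, ph_e1 h]
      | cons l w ih =>
        have e : evC (l :: w) = mu (cx l) (evC w) := rfl
        have kl : f (ModelL5.tS (cx l)) = ph (cx l) := by
          rcases Nat.lt_or_ge l 12 with hl | hl
          · have h4 := h2 l (by omega)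
            rw [gy_of_lt _ _ _ hl, gy_of_lt _ _ _ hl, gx_ph h] at h4
            have kc : ∀ l < 12, ModelL5.c16 l = cx l := by decide +kernel
            rw [← h4, ← gy_of_lt ModelL5.xM ModelL5.y1M ModelL5.y2M hl, ModelL5.gy_eq, kc l hl]
          · rw [cx_of_ge hl, ModelL5.tS_e1, map_one, ph_e1 h]
        rw [e, ModelL5.tS_mul (ModelL5.U_of_C (C_cx l)) (ModelL5.U_of_C (C_evC w)), map_mul, ih,
          h.mul (C_cx l) (C_evC w), kl]
    intro a ha
    obtain ⟨w1, w2, w3, rfl⟩ := exists_word ha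
    rw [h.mul ((C_evC w1).mul (C_evC w2)) (C_evC w3), h.mul (C_evC w1) (C_evC w2),
      ModelL5.tS_mul (ModelL5.U_of_C ((C_evC w1).mul (C_evC w2))) (ModelL5.U_of_C (C_evC w3)),
      ModelL5.tS_mul (ModelL5.U_of_C (C_evC w1)) (ModelL5.U_of_C (C_evC w2)), map_mul, map_mul,
      key, key, key]

/-- **Configuration `(1, 0)`**: `⟨C(z), y1, y2⟩` is a copy of `M24`. -/
theorem m24 (h : Emb z ph) (hz : z ≠ 1)
    (c : Config (fun i j => ph (X i j)) 1 0 (ph (X 1 4)) y1 y2)
    (e1' : ((ph (X 1 4) * y1 * ph (X 1 4))⁻¹ * ph (X 2 3) * ph (X 3 2) * y2) ^ 4 = 1)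
    (e2' : ((ph (X 1 4) * y2 * ph (X 1 4))⁻¹ * ph (X 2 1) * ph (X 0 4)) ^ 3 = 1) :
    ∃ f : M24 →* G, Function.Injective f ∧
      f.range = Subgroup.centralizer ({z} : Set G) ⊔ Subgroup.closure {y1, y2} ∧
      (∀ n < 16, f (gy ModelM24.xM ModelM24.y1M ModelM24.y2M n) =
        gy (fun i j => ph (X i j)) y1 y2 n) := by
  obtain ⟨f, h1, h2, h3⟩ := M24Case.exists_embedding (x := fun i j => ph (X i j)) (y1 := y1)
    (y2 := y2) ⟨st_of_emb h, c, e1', e2'⟩ (by
      show ph (X 0 4) ≠ 1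
      rw [zc_eq, h.z_eq]
      exact hz)
  exact ⟨f, h1, by rw [h3, closure_gy h], h2⟩

/-- **Configuration `(0, 1)`**: `⟨C(z), y1, y2⟩` is a copy of `M24`. -/
theorem m24' (h : Emb z ph) (hz : z ≠ 1)
    (c : Config (fun i j => ph (X i j)) 0 1 (ph (X 0 3)) y1 y2)
    (e1' : ((ph (X 0 3) * y2 * ph (X 0 3))⁻¹ * ph (X 1 2) * ph (X 2 1) * y1) ^ 4 = 1)
    (e2' : ((ph (X 0 3) * y1 * ph (X 0 3))⁻¹ * ph (X 3 2) * ph (X 0 4)) ^ 3 = 1) :
    ∃ f : M24 →* G, Function.Injective f ∧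
      f.range = Subgroup.centralizer ({z} : Set G) ⊔ Subgroup.closure {y1, y2} ∧
      (∀ n < 16, f (gy ModelM24.xM ModelM24.y1M ModelM24.y2M n) =
        gy (mir fun i j => ph (X i j)) y2 y1 n) := by
  have hf : ph (X 0 3) * ph (X 0 3) = 1 := (st_of_emb h).sq 2
  obtain ⟨f, h1, h2, h3⟩ := M24Case.exists_embedding (x := mir fun i j => ph (X i j)) (y1 := y2)
    (y2 := y1) ⟨st_mir h, config_mir hf c, e1', e2'⟩ (by
      show ph (X 0 4) ≠ 1
      rw [zc_eq, h.z_eq]
      exact hz)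
  exact ⟨f, h1, by rw [h3, closure_mir, closure_gy h], h2⟩

end

end Cfsg.Agent.Held.EmbCases
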