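import Mathlib
import Cfsg.Agent.SporadicRecognition.HeldHyp

/-!
# `|CC| ≤ 21504` for the centralizer of a transvection in `SL(5,2)`
-/

set_option autoImplicit false

namespace Cfsg.Agent.Held.HeldCardLe

open Matrix Cfsg.Agent.SporadicRecognition.HeldModel

/-- middle block -/
def mid (g : L5) : Matrix (Fin 3) (Fin 3) (ZMod 2) :=
  fun i j => (g : Matrix (Fin 5) (Fin 5) (ZMod 2)) (i.castLE (by norm_num : 3 ≤ 4)).succ
    (j.castLE (by norm_num : 3 ≤ 4)).succ

theorem col0 {g : L5} (hg : g ∈ CC) (i : Fin 5) :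
    (g : Matrix (Fin 5) (Fin 5) (ZMod 2)) i 0 = (1 : Matrix (Fin 5) (Fin 5) (ZMod 2)) i 0 := by
  have h := (mem_CC_iff_pat.1 hg) i 0 (by simp [PC])
  rw [Matrix.sub_apply, sub_eq_zero] at h
  exact h

theorem row4 {g : L5} (hg : g ∈ CC) (j : Fin 5) :
    (g : Matrix (Fin 5) (Fin 5) (ZMod 2)) 4 j = (1 : Matrix (Fin 5) (Fin 5) (ZMod 2)) 4 j := by
  have h := (mem_CC_iff_pat.1 hg) 4 j (by simp [PC])
  rw [Matrix.sub_apply, sub_eq_zero] at h
  exact h

theorem mid_mul {g h : L5} (hg : g ∈ CC) (hh : h ∈ CC) : mid (g * h) = mid g * mid h := by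
  ext i j
  have e : ((g * h : L5) : Matrix (Fin 5) (Fin 5) (ZMod 2)) =
      (g : Matrix (Fin 5) (Fin 5) (ZMod 2)) * (h : Matrix (Fin 5) (Fin 5) (ZMod 2)) := rfl
  have c0 := fun i => col0 hg i
  have r4 := fun j => row4 hh j
  simp only [mid, Matrix.mul_apply, e, Fin.sum_univ_five, Fin.sum_univ_three]
  rw [c0, r4]
  fin_cases i <;> fin_cases j <;> simp

theorem mid_one : mid 1 = 1 := by
  ext i j
  fin_cases i <;> fin_cases j <;> simp [mid]

/-- coordinates of an element of the model -/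
noncomputable def crd (g : CC) : GL (Fin 3) (ZMod 2) × (Fin 4 → ZMod 2) × (Fin 3 → ZMod 2) :=
  (⟨mid g, mid (g⁻¹ : CC), by rw [← mid_mul g.2 (g⁻¹).2, ← mid_one]; simp,
    by rw [← mid_mul (g⁻¹).2 g.2, ← mid_one]; simp⟩,
    fun j => (g : Matrix (Fin 5) (Fin 5) (ZMod 2)) 0 j.succ,
    fun i => (g : Matrix (Fin 5) (Fin 5) (ZMod 2)) (i.castLE (by norm_num : 3 ≤ 4)).succ 4)

theorem crd_inj : Function.Injective crd := by
  intro g h e
  have e1 : mid g = mid h := congrArg (fun p : GL (Fin 3) (ZMod 2) × (Fin 4 → ZMod 2) ×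
    (Fin 3 → ZMod 2) => (p.1 : Matrix (Fin 3) (Fin 3) (ZMod 2))) e
  have e2 := fun j => congrFun (congrArg (fun p => p.2.1) e) j
  have e3 := fun i => congrFun (congrArg (fun p => p.2.2) e) i
  have e1' := fun i j => congrFun (congrFun e1 i) j
  apply Subtype.ext
  apply Subtype.ext
  ext i j
  have c1 := col0 g.2 i
  have c2 := col0 h.2 i
  have r1 := row4 g.2 j
  have r2 := row4 h.2 j
  have a0 := e2 0
  have a1 := e2 1
  have a2 := e2 2
  have a3 := e2 3
  have b0 := e3 0
  have b1 := e3 1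
  have b2 := e3 2
  have m00 := e1' 0 0
  have m01 := e1' 0 1
  have m02 := e1' 0 2
  have m10 := e1' 1 0
  have m11 := e1' 1 1
  have m12 := e1' 1 2
  have m20 := e1' 2 0
  have m21 := e1' 2 1
  have m22 := e1' 2 2
  fin_cases i <;> fin_cases j <;>
  first
    | exact a0 | exact a1 | exact a2 | exact a3 | exact b0 | exact b1 | exact b2
    | exact m00 | exact m01 | exact m02 | exact m10 | exact m11 | exact m12
    | exact m20 | exact m21 | exact m22
    | exact c1.trans c2.symm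
    | exact r1.trans r2.symm

theorem card_GL3 : Nat.card (GL (Fin 3) (ZMod 2)) = 168 := by
  rw [Matrix.card_GL_field]
  simp [Fin.prod_univ_three]

theorem card_CC_le : Nat.card CC ≤ 21504 := by
  have h := Nat.card_le_card_of_injective crd crd_inj
  rw [Nat.card_prod, Nat.card_prod, card_GL3] at h
  simpa using h

end Cfsg.Agent.Held.HeldCardLe
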