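import Mathlib
import Cfsg.Agent.Held.HeldCardLe
import Cfsg.Agent.SporadicRecognition.HeldSylow

/-!
# `|CC| = 21504`
-/

set_option autoImplicit false

namespace Cfsg.Agent.Held.HeldCardEq

open Cfsg.Agent.SporadicRecognition.HeldModel Cfsg.Agent.Lib.F2Mat

/-- an element of order seven -/
def cy : L5 := mk 16918785 16851137 (by decide +kernel)
/-- an element of order three -/
def cw : L5 := mk 17178689 16920641 (by decide +kernel)

theorem cd_cy : cd cy = 16918785 := cd_mk _ (by decide +kernel)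
theorem cd_cw : cd cw = 17178689 := cd_mk _ (by decide +kernel)

theorem cy_mem : cy ∈ CC := by rw [mem_CC_iff, cd_cy]; decide +kernel
theorem cw_mem : cw ∈ CC := by rw [mem_CC_iff, cd_cw]; decide +kernel

theorem cy_seven : cy ^ 7 = 1 := cd_inj (by
  simp only [pow_succ, pow_zero, one_mul, cd_mul, cd_cy, cd_one]; decide +kernel)

theorem cw_three : cw ^ 3 = 1 := cd_inj (by
  simp only [pow_succ, pow_zero, one_mul, cd_mul, cd_cw, cd_one]; decide +kernel)

theorem cy_ne : cy ≠ 1 := fun h => by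
  have := congrArg cd h
  rw [cd_cy, cd_one] at this
  revert this; decide +kernel

theorem cw_ne : cw ≠ 1 := fun h => by
  have := congrArg cd h
  rw [cd_cw, cd_one] at this
  revert this; decide +kernel

theorem dvd_of_pow {g : L5} (hg : g ∈ CC) {p : ℕ} (hp : p.Prime) (h1 : g ^ p = 1) (h2 : g ≠ 1) :
    p ∣ Nat.card CC := by
  have : Fact p.Prime := ⟨hp⟩
  have h3 : orderOf g = p := orderOf_eq_prime h1 h2
  rw [← h3, ← Subgroup.orderOf_mk g hg]
  exact orderOf_dvd_natCard _

theorem card_CC : Nat.card CC = 21504 := by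
  have h1 : 1024 ∣ Nat.card CC := by
    rw [← card_T0]; exact Subgroup.card_dvd_of_le T0_le_CC
  have h2 : 7 ∣ Nat.card CC := dvd_of_pow cy_mem (by norm_num) cy_seven cy_ne
  have h3 : 3 ∣ Nat.card CC := dvd_of_pow cw_mem (by norm_num) cw_three cw_ne
  have h6 : Nat.card CC ≤ 21504 := HeldCardLe.card_CC_le
  have h7 : 0 < Nat.card CC := Nat.card_pos
  have h4 : 7 * 3 ∣ Nat.card CC := Nat.Coprime.mul_dvd_of_dvd_of_dvd (by norm_num) h2 h3
  have h5 : 1024 * (7 * 3) ∣ Nat.card CC :=
    Nat.Coprime.mul_dvd_of_dvd_of_dvd (by norm_num) h1 h4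
  exact le_antisymm h6 (Nat.le_of_dvd h7 h5)

end Cfsg.Agent.Held.HeldCardEq
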