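import Mathlib
import Cfsg.Agent.Held.NoBModel
import Cfsg.Agent.SporadicRecognition.HeldSylow

/-!
# `z` is not conjugate to `x 0 3 * x 1 4`
-/

set_option autoImplicit false

namespace Cfsg.Agent.Held.NoBFin

open Cfsg.Agent.SporadicRecognition.HeldModel Cfsg.Agent.Held.NoBModel

variable {G : Type*} [Group G] [Finite G] {z : G} {ι : CC →* G}

/-- `z` is not conjugate to `ι (x 0 3 * x 1 4)`. -/
theorem not_isConj_bC (h : Hyp z ι) : ¬ IsConj z (ι bC) :=
  not_isConj_bC' h (by rw [card_T0]; norm_num) card_V1 card_V2 elab64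

end Cfsg.Agent.Held.NoBFin
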