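import Mathlib
import Cfsg.Agent.Held.PFus
import Cfsg.Agent.Held.AffineCaseZ

/-!
# The affine case from the model
-/

set_option autoImplicit false

universe u

namespace Cfsg.Agent.Held.PCase

open Matrix Cfsg.Agent.SporadicRecognition.HeldModel Cfsg.Agent.Lib.F2Mat Cfsg.Agent.Held.NoBModel
  Cfsg.Agent.Held.Pattern Cfsg.Agent.Held.PFus

/-! ### The elements of `R1` -/

/-- code of the element of `R1` with index `a` -/
def rc (a : ℕ) : ℕ := Nat.add 17043521 (Nat.mul 2 a)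

theorem rc_sq : ∀ a : Fin 16, Nat.beq (mul 5 (rc a) (rc a)) (one 5) = true := by decide +kernel

theorem rc_lt : ∀ a : Fin 16, Nat.blt (rc a) 33554432 = true := by decide +kernel

/-- the element of `R1` with index `a` -/
def re (a : Fin 16) : L5 := mk (rc a) (rc a) (rc_sq a)

theorem cd_re (a : Fin 16) : cd (re a) = rc a := cd_mk _ (rc_lt a)

theorem inP_rc : ∀ a : Fin 16, inP (msk' PR1) (rc a) = true := by decide +kernel

theorem re_mem (a : Fin 16) : re a ∈ R1 := by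
  rw [R1, mem_pat, Pat_iff_inP, cd_re]
  exact inP_rc a

theorem rc_inj : ∀ a b : Fin 16, Nat.beq (rc a) (rc b) = true → a = b := by decide +kernel

theorem re_inj {a b : Fin 16} (h : re a = re b) : a = b := by
  apply rc_inj
  rw [← cd_re, ← cd_re, h]
  exact Nat.beq_refl _

/-- index from entries -/
def ix4 (b0 b1 b2 b3 : Bool) : Fin 16 :=
  ⟨b0.toNat + 2 * b1.toNat + 4 * b2.toNat + 8 * b3.toNat, by
    revert b0 b1 b2 b3; decide⟩

/-- entries from bits -/
def tab4 (b0 b1 b2 b3 : Bool) (i j : Fin 5) : Bool :=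
  if i = 0 ∧ j = 1 then b0 else if i = 0 ∧ j = 2 then b1 else if i = 0 ∧ j = 3 then b2 else
  if i = 0 ∧ j = 4 then b3 else decide (i = j)

theorem testBit_tab4 : ∀ (b0 b1 b2 b3 : Bool) (i j : Fin 5),
    (rc (ix4 b0 b1 b2 b3)).testBit (5 * i + j) = tab4 b0 b1 b2 b3 i j := by
  decide +kernel

theorem coe_re (b0 b1 b2 b3 : Bool) (i j : Fin 5) :
    (re (ix4 b0 b1 b2 b3) : M5) i j = bz (tab4 b0 b1 b2 b3 i j) := by
  rw [← testBit_tab4, ← cd_re, ← toMat_apply, toMat_cd]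

theorem re_surj {w : L5} (hw : w ∈ R1) : ∃ a, re a = w := by
  refine ⟨ix4 (ent w 0 1) (ent w 0 2) (ent w 0 3) (ent w 0 4), ?_⟩
  apply Subtype.ext
  ext i j
  rw [coe_re, ← bz_ent w]
  congr 1
  cases h : PR1 i j with
  | false =>
    have h1 := hw i j h
    rw [Matrix.sub_apply, sub_eq_zero] at h1
    have h0 : ∀ i j : Fin 5, decide ((1 : M5) i j = 1) = decide (i = j) := by decide
    have h2 : ent w i j = decide (i = j) := by
      unfold ent
      rw [h1, h0]
    rw [h2]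
    have h3 : ∀ (b0 b1 b2 b3 : Bool) (i j : Fin 5), PR1 i j = false →
      tab4 b0 b1 b2 b3 i j = decide (i = j) := by decide +kernel
    exact h3 _ _ _ _ i j h
  | true =>
    have h3 : ∀ i j : Fin 5, PR1 i j = true → (i = 0 ∧ j = 1) ∨ (i = 0 ∧ j = 2) ∨
      (i = 0 ∧ j = 3) ∨ (i = 0 ∧ j = 4) := by decide
    rcases h3 i j h with ⟨rfl, rfl⟩ | ⟨rfl, rfl⟩ | ⟨rfl, rfl⟩ | ⟨rfl, rfl⟩ <;> rfl

theorem card_R1 : Nat.card R1 = 16 := by
  rw [← Nat.card_congr (Equiv.ofBijective (fun a : Fin 16 => (⟨re a, re_mem a⟩ : R1)) ⟨?_, ?_⟩)]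
  · simp
  · intro a b h; exact re_inj (congrArg Subtype.val h)
  · rintro ⟨w, hw⟩
    obtain ⟨a, rfl⟩ := re_surj hw
    exact ⟨a, rfl⟩

theorem R1_le_T0 : R1 ≤ T0 := R1_le_QQ.trans QQ_le_T0
theorem R1_le_CC : R1 ≤ CC := R1_le_T0.trans T0_le_CC

theorem sq_R1 {g : L5} (hg : g ∈ R1) : g * g = 1 := by
  obtain ⟨a, rfl⟩ := re_surj hg
  apply cd_inj
  rw [cd_mul, cd_re, cd_one]
  exact Nat.eq_of_beq_eq_true (rc_sq a)

/-! ### All nontrivial elements of `R1` are conjugate to `x 0 3` or equal `zz` -/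

/-- generators used -/
def gen' (k : Fin 5) : L5 :=
  match k with
  | 0 => x 1 2
  | 1 => x 2 1
  | 2 => x 2 3
  | 3 => x 3 2
  | 4 => x 3 4

/-- their codes -/
def gc' (k : Fin 5) : ℕ :=
  match k with
  | 0 => 17043649
  | 1 => 17045569
  | 2 => 17051713
  | 3 => 17174593
  | 4 => 17567809

theorem cd_gen' (k : Fin 5) : cd (gen' k) = gc' k := by
  fin_cases k
  · show cd (x 1 2) = _; rw [cd_x]; decide +kernel
  · show cd (x 2 1) = _; rw [cd_x]; decide +kernel
  · show cd (x 2 3) = _; rw [cd_x]; decide +kernel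
  · show cd (x 3 2) = _; rw [cd_x]; decide +kernel
  · show cd (x 3 4) = _; rw [cd_x]; decide +kernel

theorem gen'_mem_CC (k : Fin 5) : gen' k ∈ CC := by
  rw [mem_CC_iff, cd_gen']
  revert k; decide +kernel

theorem gen'_sq (k : Fin 5) : gen' k * gen' k = 1 := by
  apply cd_inj
  rw [cd_mul, cd_gen', cd_one]
  revert k; decide +kernel

/-- action of a generator on the indices -/
def act' (k : Fin 5) (a : Fin 16) : Fin 16 :=
  ⟨Nat.mod (Nat.div (mul 5 (mul 5 (gc' k) (rc a)) (gc' k)) 2) 16, Nat.mod_lt _ (by norm_num)⟩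

theorem act'_code : ∀ (k : Fin 5) (a : Fin 16),
    Nat.beq (mul 5 (mul 5 (gc' k) (rc a)) (gc' k)) (rc (act' k a)) = true := by decide +kernel

theorem gen'_act (k : Fin 5) (a : Fin 16) : gen' k * re a * gen' k = re (act' k a) := by
  apply cd_inj
  rw [cd_mul, cd_mul, cd_re, cd_re, cd_gen']
  exact Nat.eq_of_beq_eq_true (act'_code k a)

/-- words conjugating an element to the representative -/
def wds' : List (List (Fin 5)) := [[], [0, 2, 1, 3], [2, 3], [2, 1, 3], [], [0, 1, 3], [3], [1, 3], [], [0, 2, 4, 1, 3], [2, 4, 3], [2, 4, 1, 3], [4], [4, 0, 1, 3], [4, 3], [4, 1, 3]]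

theorem wds'_check : ∀ a : Fin 16, a ≠ 0 → a ≠ 8 →
    (wds'.getD a []).foldl (fun b k => act' k b) a = 4 := by decide +kernel

theorem re_four : re 4 = x 0 3 := by apply cd_inj; rw [cd_re, cd_x]; decide +kernel
theorem re_eight : re 8 = zz := by apply cd_inj; rw [cd_re, cd_zz]; decide +kernel
theorem re_zero : re 0 = 1 := by apply cd_inj; rw [cd_re, cd_one]; decide +kernel

/-! ### The complement -/

def PU (i j : Fin 5) : Bool := decide (1 ≤ i) && decide (i < j)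

/-- unitriangular matrices with trivial row `0` -/
def U4 : Subgroup L5 := pat PU (by decide)

theorem U4_le_T0 : U4 ≤ T0 := pat_mono _ _ (by decide)

theorem eq_one_of_R1_U4 {g : L5} (h1 : g ∈ R1) (h2 : g ∈ U4) : g = 1 := by
  apply Subtype.ext
  ext i j
  have key : ∀ i j : Fin 5, PR1 i j = false ∨ PU i j = false := by decide
  show (g : M5) i j = (1 : M5) i j
  rcases key i j with h | h
  · have := h1 i j h
    rwa [Matrix.sub_apply, sub_eq_zero] at this
  · have := h2 i j h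
    rwa [Matrix.sub_apply, sub_eq_zero] at this

theorem exists_R1_U4 {g : L5} (hg : g ∈ T0) : ∃ a ∈ R1, ∃ u ∈ U4, g = a * u := by
  have hg' := T0.inv_mem hg
  let a : L5 := re (ix4 (ent g⁻¹ 0 1) (ent g⁻¹ 0 2) (ent g⁻¹ 0 3) (ent g⁻¹ 0 4))
  have ha : a ∈ R1 := re_mem _
  have hrow : ∀ j, (a : M5) 0 j = ((g⁻¹ : L5) : M5) 0 j := by
    intro j
    show (re _ : M5) 0 j = _
    rw [coe_re]
    have t0 : ∀ b0 b1 b2 b3, tab4 b0 b1 b2 b3 0 0 = true := by decide
    have t1 : ∀ b0 b1 b2 b3, tab4 b0 b1 b2 b3 0 1 = b0 := by decide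
    have t2 : ∀ b0 b1 b2 b3, tab4 b0 b1 b2 b3 0 2 = b1 := by decide
    have t3 : ∀ b0 b1 b2 b3, tab4 b0 b1 b2 b3 0 3 = b2 := by decide
    have t4 : ∀ b0 b1 b2 b3, tab4 b0 b1 b2 b3 0 4 = b3 := by decide
    have hj : j = 0 ∨ j = 1 ∨ j = 2 ∨ j = 3 ∨ j = 4 := by revert j; decide
    rcases hj with rfl | rfl | rfl | rfl | rfl
    · rw [t0, T0_ent hg' (le_refl 0)]; rfl
    · rw [t1, bz_ent]
    · rw [t2, bz_ent]
    · rw [t3, bz_ent]
    · rw [t4, bz_ent]
  have haT : a ∈ T0 := R1_le_T0 ha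
  refine ⟨a⁻¹, R1.inv_mem ha, a * g, ?_, by group⟩
  rw [U4, mem_pat]
  intro i j hij
  rw [Matrix.sub_apply, sub_eq_zero]
  have hT : a * g ∈ T0 := T0.mul_mem haT hg
  by_cases hi : i = 0
  · subst hi
    have e1 : ((a * g : L5) : M5) 0 j = (((g⁻¹ : L5) : M5) * (g : M5)) 0 j := by
      rw [coe_mul', Matrix.mul_apply, Matrix.mul_apply]
      apply Finset.sum_congr rfl
      intro k _
      rw [hrow]
    rw [e1, ← coe_mul', inv_mul_cancel]
    rfl
  · have h1 : j ≤ i := by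
      have key : ∀ i j : Fin 5, i ≠ 0 → PU i j = false → j ≤ i := by decide
      exact key i j hi hij
    exact T0_ent hT h1

/-- an element of `CC` commuting with `R1` lies in `R1`. -/
theorem mem_R1_of_comm {u : L5} (hu : u ∈ CC) (h : ∀ a ∈ R1, u * a = a * u) : u ∈ R1 := by
  rw [mem_CC_iff_pat] at hu
  rw [R1, mem_pat]
  have hz : ∀ i j, PC i j = false → (u : M5) i j = (1 : M5) i j := by
    intro i j hij
    have := hu i j hij
    rwa [Matrix.sub_apply, sub_eq_zero] at this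
  intro i j hij
  rw [Matrix.sub_apply, sub_eq_zero]
  by_cases hi : i = 0
  · subst hi
    have hj : ∀ j : Fin 5, PR1 0 j = false → j = 0 := by decide
    rw [hj j hij]
    exact hz 0 0 (by decide)
  · -- compare the entries `(0, j)` of `u * x 0 i = x 0 i * u`
    have h0i : x 0 i (Ne.symm hi) ∈ R1 := by
      rw [R1, mem_pat, Pat_iff_inP, cd_x]
      have key : ∀ i : Fin 5, i ≠ 0 → inP (msk' PR1) (one 5 + 2 ^ (5 * ((0 : Fin 5) : ℕ) + i)) = true := by
        decide +kernel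
      exact key i hi
    have h1 := congrArg (fun w : L5 => (w : M5) 0 j) (h _ h0i)
    simp only [coe_mul', coe_x, transvection, mul_add, add_mul, mul_one, one_mul,
      Matrix.add_apply] at h1
    have h2 := add_left_cancel h1
    rw [Matrix.single_mul_apply_same, one_mul] at h2
    rw [← h2]
    by_cases hj : j = i
    · subst hj
      rw [Matrix.mul_single_apply_same, mul_one, hz 0 0 (by decide), Matrix.one_apply_eq,
        Matrix.one_apply_eq]
    · rw [Matrix.mul_single_apply_of_ne _ _ _ _ _ hj, Matrix.one_apply_ne (Ne.symm hj)]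

section Main

variable {G : Type u} [Group G] {z : G} {ι : CC →* G}

/-- the element of `R1` with index `a` as an element of the model -/
def rC (a : Fin 16) : CC := ⟨re a, R1_le_CC (re_mem a)⟩

theorem rC_act (k : Fin 5) (a : Fin 16) : IsConj (ι (rC a)) (ι (rC (act' k a))) := by
  let g : CC := ⟨gen' k, gen'_mem_CC k⟩
  have hg : g⁻¹ = g := by
    rw [inv_eq_iff_mul_eq_one]
    exact Subtype.ext (gen'_sq k)
  have h1 : rC (act' k a) = g * rC a * g⁻¹ := by
    rw [hg]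
    exact Subtype.ext (gen'_act k a).symm
  rw [isConj_iff]
  refine ⟨ι g, ?_⟩
  rw [h1, map_mul, map_mul, map_inv]

theorem rC_foldl (w : List (Fin 5)) (a : Fin 16) :
    IsConj (ι (rC a)) (ι (rC (w.foldl (fun b k => act' k b) a))) := by
  induction w generalizing a with
  | nil => exact IsConj.refl _
  | cons k w ih => rw [List.foldl_cons]; exact (rC_act k a).trans (ih _)

theorem isConj_R1 (h : Hyp z ι) (h1 : IsConj z (ι x03C)) {w : G} (hw : w ∈ im ι R1)
    (hw1 : w ≠ 1) : IsConj z w := by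
  obtain ⟨u, hu, rfl⟩ := mem_im.1 hw
  obtain ⟨a, ha⟩ := re_surj hu
  have e : rC a = u := Subtype.ext ha
  rw [← e]
  by_cases h0 : a = 0
  · exfalso
    apply hw1
    have e1 : u = 1 := Subtype.ext (by rw [← ha, h0, re_zero]; rfl)
    rw [e1, map_one]
  by_cases h8 : a = 8
  · have e1 : rC a = zC := Subtype.ext (by rw [h8]; exact re_eight)
    rw [e1, h.map_zz]
  · have h2 := rC_foldl (ι := ι) (wds'.getD a []) a
    rw [wds'_check a h0 h8] at h2
    have e4 : rC 4 = x03C := Subtype.ext re_four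
    rw [e4] at h2
    exact h1.trans h2.symm

theorem zC_mem_R1 : ((zC : CC) : L5) ∈ R1 := by
  show zz ∈ R1
  rw [← re_eight]; exact re_mem _

theorem orderOf_z (h : Hyp z ι) : orderOf z = 2 := by
  apply orderOf_eq_prime _ (z_ne_one h)
  have : zC * zC = 1 := Subtype.ext (sq_R1 zC_mem_R1)
  rw [pow_two, ← h.map_zz, ← map_mul, this, map_one]

theorem hypAffine [Finite G] (h : Hyp z ι) (T : Sylow 2 G) (hT : (T : Subgroup G) = im ι T0)
    (hcard : Nat.card CC = 21504) (h1 : IsConj z (ι x03C))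
    (hfus : ∀ u : CC, IsConj z (ι u) → (u : L5) ∈ R1) :
    AffineBasic.Hyp z T (im ι R1) (im ι U4) where
  order := orderOf_z h
  zA := mem_im.2 ⟨zC, zC_mem_R1, h.map_zz⟩
  AT := by rw [hT]; exact im_le R1_le_T0
  Tz := by
    rw [hT, ← h.range]
    intro g hg
    obtain ⟨u, _, rfl⟩ := mem_im.1 hg
    exact ⟨u, rfl⟩
  card := by rw [card_im h R1_le_CC, card_R1]
  sq := sq_im fun a ha => sq_R1 ha
  cent := by
    intro w hw
    have hz : z ∈ im ι R1 := mem_im.2 ⟨zC, zC_mem_R1, h.map_zz⟩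
    have h2 : w ∈ ι.range := by
      rw [h.range, Subgroup.mem_centralizer_singleton_iff]
      exact hw z hz
    obtain ⟨u, rfl⟩ := h2
    refine mem_im.2 ⟨u, mem_R1_of_comm u.2 ?_, rfl⟩
    intro a ha
    have h3 := hw (ι ⟨a, R1_le_CC ha⟩) (mem_im.2 ⟨_, ha, rfl⟩)
    rw [← map_mul, ← map_mul] at h3
    exact congrArg Subtype.val (h.inj h3)
  CN := by
    rw [← h.range]
    rintro _ ⟨u, rfl⟩
    apply AffineBasic.mem_normalizer_of_conj
    intro a ha
    obtain ⟨v, hv, rfl⟩ := mem_im.1 ha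
    have h3 : ((u * v * u⁻¹ : CC) : L5) ∈ R1 := R1_conj u.2 hv
    have h4 : ι (u * v * u⁻¹) = ι u * ι v * (ι u)⁻¹ := by rw [map_mul, map_mul, map_inv]
    exact mem_im.2 ⟨u * v * u⁻¹, h3, h4⟩
  cardC := by
    rw [← h.range, Nat.card_congr (MonoidHom.ofInjective h.inj).toEquiv.symm, hcard]
  conj := fun w hw hw1 => isConj_R1 h h1 hw hw1
  fus := by
    intro w hw hzw
    rw [hT] at hw
    obtain ⟨u, _, rfl⟩ := mem_im.1 hw
    exact mem_im.2 ⟨u, hfus u hzw, rfl⟩
  disj := by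
    rw [eq_bot_iff]
    intro w hw
    obtain ⟨u, hu, rfl⟩ := mem_im.1 hw.1
    obtain ⟨v, hv, e⟩ := mem_im.1 hw.2
    have e1 := h.inj e
    subst e1
    rw [Subgroup.mem_bot]
    have : v = 1 := Subtype.ext (eq_one_of_R1_U4 hu hv)
    rw [this, map_one]
  sup := by
    rw [hT]
    apply le_antisymm
    · exact sup_le (im_le R1_le_T0) (im_le U4_le_T0)
    · intro w hw
      obtain ⟨g, hg, rfl⟩ := mem_im.1 hw
      obtain ⟨a, ha, u, hu, e⟩ := exists_R1_U4 hg
      have e1 : g = (⟨a, R1_le_CC ha⟩ : CC) * ⟨u, T0_le_CC (U4_le_T0 hu)⟩ := Subtype.ext e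
      rw [e1, map_mul]
      exact Subgroup.mul_mem_sup (mem_im.2 ⟨_, ha, rfl⟩) (mem_im.2 ⟨_, hu, rfl⟩)

/-- The case that `z` is fused to `x 0 3` but not to `x 1 4`, in terms of the facts about the
model. -/
theorem pcase' [Finite G] (h : Hyp z ι) (T : Sylow 2 G) (hT : (T : Subgroup G) = im ι T0)
    (hcard : Nat.card CC = 21504)
    (hctl1 : ∀ b : Fin 64, F z ι b → ∃ n : G, n * z * n⁻¹ = ι (vC b) ∧
      ∀ w ∈ im ι V1, n * w * n⁻¹ ∈ im ι V1)
    (hctl2 : ∀ b : Fin 64, F z (ι.comp tauC) b → ∃ n : G, n * z * n⁻¹ = (ι.comp tauC) (vC b) ∧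
      ∀ w ∈ im (ι.comp tauC) V1, n * w * n⁻¹ ∈ im (ι.comp tauC) V1)
    (hb : ¬ IsConj z (ι bC))
    (hrep : ∀ u : CC, u * u = 1 → ∃ g : CC, ((g * u * g⁻¹ : CC) : L5) ∈ V1 ∨
      ((g * u * g⁻¹ : CC) : L5) ∈ V2)
    (h1 : IsConj z (ι x03C)) (h2 : ¬ IsConj z (ι x14C)) :
    ∃ v : Fin 5 → ZMod 2, v ≠ 0 ∧
      Nonempty (G ≃* MulAction.stabilizer (Matrix.SpecialLinearGroup (Fin 5) (ZMod 2)) v) :=
  AffineCaseZ.affineCase (hypAffine h T hT hcard h1
    (PFus.pcase' h hctl1 hctl2 hb hrep h1 h2))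

end Main

end Cfsg.Agent.Held.PCase
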