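import Cfsg.Agent.Held.Flip
import Cfsg.Agent.Held.PFus
import Cfsg.Agent.Held.ConfigThm

/-!
# From `Hyp z ι` to the elements `y1`, `y2`
-/

set_option autoImplicit false

namespace Cfsg.Agent.Held.SideHyp

open Matrix Cfsg.Agent.SporadicRecognition.HeldModel Cfsg.Agent.Lib.F2Mat
open Cfsg.Agent.Held.Code (Emb C X NV V2s vv Ac mu e1 C_of_isC isC Side)
open Cfsg.Agent.Held.ConfigThm (xs)
open Cfsg.Agent.Held.NoBModel Cfsg.Agent.Held.Pattern Cfsg.Agent.Held.PFus

variable {G : Type*} [Group G] {z : G} {ι : CC →* G} {ph : ℕ → G}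

/-- `ph` is the coded version of `ι`. -/
def Link (ι : CC →* G) (ph : ℕ → G) : Prop := ∀ u : CC, ph (cd u) = ι u

theorem C_cd (u : CC) : C (cd u) := by
  have h1 : (u : L5) * zz = zz * (u : L5) := mem_CC.1 u.2
  refine ⟨cd_lt _, ?_, cd (u : L5)⁻¹, cd_lt _, ?_, ?_⟩
  · show Lib.F2Mat.mul 5 (cd u) Code.zc = Lib.F2Mat.mul 5 Code.zc (cd u)
    have e : (Code.zc : ℕ) = cd zz := cd_zz.symm
    rw [e, ← cd_mul, ← cd_mul, h1]
  · show Lib.F2Mat.mul 5 (cd u) _ = e1
    rw [← cd_mul, mul_inv_cancel, cd_one, Code.one_eq_e1]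
  · show Lib.F2Mat.mul 5 _ (cd u) = e1
    rw [← cd_mul, inv_mul_cancel, cd_one, Code.one_eq_e1]

theorem exists_ph (h : Hyp z ι) : ∃ ph : ℕ → G, Emb z ph ∧ Link ι ph := by
  obtain ⟨ph, E, hl⟩ := Code.exists_emb z ι h.inj h.range (fun _ => h.map_zz)
  refine ⟨ph, E, ?_⟩
  intro u
  exact hl u.1 u.2 (cd u) (C_cd u) (toMat_cd _)

/-! ### the elements of `V2` -/

theorem row_low {a : ℕ} (i : Fin 5)
    (h : ∀ j : Fin 5, (j : ℕ) < 3 → toMat 5 a i j = if i = j then 1 else 0) :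
    Code.row a i % 8 = if (i : ℕ) < 3 then 2 ^ (i : ℕ) else 0 := by
  have hl := Code.row_lt a i
  have hb : ∀ j : Fin 5, (j : ℕ) < 3 → (Code.row a i).testBit j = decide (i = j) := by
    intro j hj
    have h1 := Code.bz_row a i j
    rw [h j hj] at h1
    by_cases hij : i = j
    · rw [if_pos hij] at h1
      rw [Code.bz_eq_one h1, decide_eq_true hij]
    · rw [if_neg hij] at h1
      rw [Code.bz_eq_zero h1, decide_eq_false hij]
  have b0 := hb 0 (by decide)
  have b1 := hb 1 (by decide)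
  have b2 := hb 2 (by decide)
  generalize Code.row a i = r at *
  revert b0 b1 b2
  fin_cases i <;> interval_cases r <;> decide

theorem exists_vv {a : ℕ} (ha : a < 2 ^ 25)
    (h : ∀ i j : Fin 5, PV2 i j = false → toMat 5 a i j = if i = j then 1 else 0) :
    ∃ n < 64, a = vv n := by
  have hlow : ∀ i : Fin 5, Code.row a i % 8 = if (i : ℕ) < 3 then 2 ^ (i : ℕ) else 0 := by
    intro i
    apply row_low
    intro j hj
    apply h i j
    have : ¬ (3 ≤ j) := by
      intro h3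
      have : (3 : ℕ) ≤ (j : ℕ) := h3
      omega
    simp [PV2, this]
  have h3 : Code.row a 3 = 2 ^ 3 := Code.row_eq_two_pow 3 3 (fun j => by
    rw [h 3 j (by revert j; decide)]
    by_cases hj : j = 3
    · subst hj; rfl
    · rw [if_neg hj, if_neg (fun e => hj e.symm)])
  have h4 : Code.row a 4 = 2 ^ 4 := Code.row_eq_two_pow 4 4 (fun j => by
    rw [h 4 j (by revert j; decide)]
    by_cases hj : j = 4
    · subst hj; rfl
    · rw [if_neg hj, if_neg (fun e => hj e.symm)])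
  have l0 := hlow 0
  have l1 := hlow 1
  have l2 := hlow 2
  have c0 : ((0 : Fin 5) : ℕ) = 0 := rfl
  have c1 : ((1 : Fin 5) : ℕ) = 1 := rfl
  have c2 : ((2 : Fin 5) : ℕ) = 2 := rfl
  rw [c0] at l0
  rw [c1] at l1
  rw [c2] at l2
  norm_num at l0 l1 l2
  have r0 := Code.row_lt a 0
  have r1 := Code.row_lt a 1
  have r2 := Code.row_lt a 2
  have he := Code.eq_rows ha
  rw [h3, h4] at he
  obtain ⟨A, hA⟩ : ∃ A, A = Code.row a 0 / 8 := ⟨_, rfl⟩
  obtain ⟨B, hB⟩ : ∃ B, B = Code.row a 1 / 8 := ⟨_, rfl⟩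
  obtain ⟨D, hD⟩ : ∃ D, D = Code.row a 2 / 8 := ⟨_, rfl⟩
  have hA4 : A < 4 := by omega
  have hB4 : B < 4 := by omega
  have hD4 : D < 4 := by omega
  refine ⟨A + 4 * B + 16 * D, by omega, ?_⟩
  have e : vv (A + 4 * B + 16 * D) = 17043521 + ((A + 4 * B + 16 * D) % 4) * 8 +
      ((A + 4 * B + 16 * D) / 4 % 4) * 256 + ((A + 4 * B + 16 * D) / 16) * 8192 := rfl
  have e1 : (A + 4 * B + 16 * D) % 4 = A := by omega
  have e2 : (A + 4 * B + 16 * D) / 4 % 4 = B := by omega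
  have e3 : (A + 4 * B + 16 * D) / 16 = D := by omega
  rw [e, e1, e2, e3]
  omega

theorem mem_V2_iff (u : CC) : (u : L5) ∈ V2 ↔ ∃ n < 64, cd (u : L5) = vv n := by
  constructor
  · intro hu
    apply exists_vv (cd_lt _)
    intro i j hij
    rw [toMat_cd]
    have h1 : (((u : L5) : Matrix (Fin 5) (Fin 5) (ZMod 2)) - 1) i j = 0 := hu i j hij
    rw [Matrix.sub_apply, sub_eq_zero, Matrix.one_apply] at h1
    exact h1
  · rintro ⟨n, hn, h⟩
    rw [V2, mem_pat, Pat_iff_inP, h]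
    have hck : Code.allb 64 (fun n => inP (msk' PV2) (vv n)) = true := by decide +kernel
    exact Code.of_allb hck n hn

theorem V2s_eq (E : Emb z ph) (hl : Link ι ph) : V2s E = im ι V2 := by
  ext g
  rw [Code.mem_V2s, mem_im]
  constructor
  · rintro ⟨n, hn, rfl⟩
    -- the element of `CC` with code `vv n`
    have hck : Code.allb 64 (fun n => Nat.beq (mul 5 (vv n) (vv n)) (one 5) &&
        (Nat.blt (vv n) 33554432 && inCC (vv n))) = true := by decide +kernel
    have h1 := Code.of_allb hck n hn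
    simp only [Bool.and_eq_true] at h1
    obtain ⟨h2, h3, h4⟩ := h1
    let u : L5 := mk (vv n) (vv n) h2
    have hcd : cd u = vv n := cd_mk h2 h3
    have huC : u ∈ CC := by rw [mem_CC_iff, hcd]; exact h4
    refine ⟨⟨u, huC⟩, ?_, ?_⟩
    · exact (mem_V2_iff ⟨u, huC⟩).2 ⟨n, hn, hcd⟩
    · rw [← hl ⟨u, huC⟩]
      show ph (cd u) = ph (vv n)
      rw [hcd]
  · rintro ⟨u, hu, rfl⟩
    obtain ⟨n, hn, h1⟩ := (mem_V2_iff u).1 hu
    exact ⟨n, hn, by rw [← hl u, h1]⟩

theorem ph_x (hl : Link ι ph) (i j : Fin 5) (hij : i ≠ j) (h : x i j hij ∈ CC) :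
    ph (X i j) = ι ⟨x i j hij, h⟩ := by
  rw [← hl]
  congr 1
  show X i j = cd (x i j hij)
  rw [cd_x]
  rfl

/-- the conversion of `Side` -/
theorem toConfig {E : Emb z ph} {t : Bool} {y : G} (s : Side z ph t y) :
    Config.Side (xs ph) t.toNat y := by
  have hzz : (xs ph) 0 4 = z := E.z_eq
  have m2 : ∀ a b : ℕ, C a → C b → ph (mu a b) = ph a * ph b := fun a b ha hb => E.mul ha hb
  have C04 : C (X 0 4) := Code.C_zc
  refine ⟨s.cube, s.inv, ?_, ?_, ?_, ?_, ?_, ?_⟩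
  · intro i hi
    interval_cases i
    · exact s.a03.e
    · exact s.a13.e
    · exact s.a23.e
  · intro i hi
    interval_cases i
    · have := s.a04.e
      rw [m2 _ _ Code.C_03 C04] at this; exact this
    · have := s.a14.e
      rw [m2 _ _ Code.C_13 Code.C_14] at this; exact this
    · have := s.a24.e
      rw [m2 _ _ Code.C_23 Code.C_24] at this; exact this
  · have := s.a01.e
    cases t
    · simpa using this
    · simp only [cond_true] at this
      rw [m2 _ _ Code.C_01 (Code.C_03.mul Code.C_23), m2 _ _ Code.C_03 Code.C_23] at this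
      simpa using this
  · have := s.a02.e
    cases t
    · simpa using this
    · simp only [cond_true] at this
      rw [m2 _ _ Code.C_02 (Code.C_03.mul Code.C_13), m2 _ _ Code.C_03 Code.C_13] at this
      simpa using this
  · have := s.a12.e
    cases t
    · simpa using this
    · simp only [cond_true] at this
      rw [m2 _ _ Code.C_12 Code.C_zc, E.z_eq] at this
      rw [hzz]
      simpa using this
  · have := s.a21.e
    cases t
    · simpa using this
    · simp only [cond_true] at this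
      rw [m2 _ _ Code.C_21 Code.C_zc, E.z_eq] at this
      rw [hzz]
      simpa using this

theorem side_of_fus [Finite G] (E : Emb z ph) (hl : Link ι ph) {n : G}
    (hn : n * z * n⁻¹ = ι x03C) (hV : ∀ w ∈ im ι V2, n * w * n⁻¹ ∈ im ι V2) :
    ∃ (t : Bool) (y : G), Config.Side (xs ph) t.toNat y := by
  have hmem : n⁻¹ ∈ NV E := by
    apply Code.NV.of_act
    intro k hk
    have h1 : ph (vv k) ∈ im ι V2 := by rw [← V2s_eq E hl]; exact ⟨k, hk, rfl⟩
    have h2 := hV _ h1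
    rw [← V2s_eq E hl] at h2
    obtain ⟨m, hm, h3⟩ := h2
    exact ⟨m, hm, Code.vv_C hk, Code.vv_C hm, by rw [← h3]; group⟩
  obtain ⟨t, y, s⟩ := Code.side hmem (⟨Code.C_zc, Code.C_03, by
    have : ph (X 0 3) = ι x03C := ph_x hl 0 3 (by decide) _
    rw [this, E.z_eq, ← hn]; group⟩ : Ac ph n⁻¹ Code.zc (X 0 3))
  exact ⟨t, y, toConfig (E := E) s⟩

theorem tau_link (hl : Link ι ph) {ph' : ℕ → G} (hl' : Link (ι.comp tauC) ph') (i j : Fin 5)
    (hij : i ≠ j) (h : x i j hij ∈ CC) :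
    ph' (X i j) = ph (X (4 - j) (4 - i)) := by
  have hr : Fin.rev j ≠ Fin.rev i := fun e => hij (Fin.rev_injective e).symm
  have h1 := ph_x hl' i j hij h
  have h2 : tau (x i j hij) = x (Fin.rev j) (Fin.rev i) hr := tau_x i j hij
  have h3 : x (Fin.rev j) (Fin.rev i) hr ∈ CC := by rw [← h2]; exact tau_mem_CC h
  have h4 := ph_x hl (Fin.rev j) (Fin.rev i) hr h3
  have e1 : ((Fin.rev j : Fin 5) : ℕ) = 4 - (j : ℕ) := by rw [Fin.val_rev]; omega
  have e2 : ((Fin.rev i : Fin 5) : ℕ) = 4 - (i : ℕ) := by rw [Fin.val_rev]; omega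
  rw [e1, e2] at h4
  rw [h1, h4]
  show ι (tauC ⟨x i j hij, h⟩) = _
  congr 1
  exact Subtype.ext h2

/-- the relations of `y2` from those of `y1` for `ι ∘ τ` -/
theorem toMir (hl : Link ι ph) {ph' : ℕ → G} (hl' : Link (ι.comp tauC) ph') {t : ℕ} {y : G}
    (s : Config.Side (xs ph') t y) : Config.Side (Config.mir (xs ph)) t y := by
  have key : ∀ (i j : Fin 5) (hij : i ≠ j) (_ : inCC (one 5 + 2 ^ (5 * (i : ℕ) + j)) = true),
      xs ph' i j = Config.mir (xs ph) i j := by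
    intro i j hij h
    exact tau_link hl hl' i j hij (mem_CC_of_x i j hij h)
  have k34 := key 3 4 (by decide) (by decide +kernel)
  have k03 := key 0 3 (by decide) (by decide +kernel)
  have k04 := key 0 4 (by decide) (by decide +kernel)
  have k13 := key 1 3 (by decide) (by decide +kernel)
  have k14 := key 1 4 (by decide) (by decide +kernel)
  have k23 := key 2 3 (by decide) (by decide +kernel)
  have k24 := key 2 4 (by decide) (by decide +kernel)
  have k01 := key 0 1 (by decide) (by decide +kernel)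
  have k02 := key 0 2 (by decide) (by decide +kernel)
  have k12 := key 1 2 (by decide) (by decide +kernel)
  have k21 := key 2 1 (by decide) (by decide +kernel)
  have s3 := s.act3
  have s4 := s.act4
  have a30 := s3 0 (by norm_num)
  have a31 := s3 1 (by norm_num)
  have a32 := s3 2 (by norm_num)
  have a40 := s4 0 (by norm_num)
  have a41 := s4 1 (by norm_num)
  have a42 := s4 2 (by norm_num)
  have b1 := s.inv
  have b2 := s.x01
  have b3 := s.x02
  have b4 := s.x12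
  have b5 := s.x21
  have c3 : ((3 : Fin 5) : ℕ) = 3 := rfl
  have c4 : ((4 : Fin 5) : ℕ) = 4 := rfl
  have c0 : ((0 : Fin 5) : ℕ) = 0 := rfl
  have c1 : ((1 : Fin 5) : ℕ) = 1 := rfl
  have c2 : ((2 : Fin 5) : ℕ) = 2 := rfl
  rw [c3, c4] at k34
  rw [c0, c3] at k03
  rw [c0, c4] at k04
  rw [c1, c3] at k13
  rw [c1, c4] at k14
  rw [c2, c3] at k23
  rw [c2, c4] at k24
  rw [c0, c1] at k01
  rw [c0, c2] at k02
  rw [c1, c2] at k12
  rw [c2, c1] at k21
  rw [k03, k04] at a30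
  rw [k13, k14] at a31
  rw [k23, k24] at a32
  rw [k03, k04] at a40
  rw [k13, k14] at a41
  rw [k23, k24] at a42
  rw [k34] at b1
  rw [k01, k03, k23] at b2
  rw [k02, k03, k13] at b3
  rw [k12, k04] at b4
  rw [k21, k04] at b5
  refine ⟨s.cube, b1, ?_, ?_, b2, b3, b4, b5⟩
  · intro i hi
    interval_cases i
    · exact a30
    · exact a31
    · exact a32
  · intro i hi
    interval_cases i
    · exact a40
    · exact a41
    · exact a42

theorem im_tau : im (ι.comp tauC) V1 = im ι V2 := by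
  ext g
  rw [mem_im, mem_im]
  constructor
  · rintro ⟨u, hu, rfl⟩
    exact ⟨tauC u, tau_mem_V2 hu, rfl⟩
  · rintro ⟨u, hu, rfl⟩
    exact ⟨tauC u, tau_mem_V1 hu, by
      show ι (tauC (tauC u)) = ι u
      rw [tauC_tauC]⟩

theorem im_tau' : im (ι.comp tauC) V2 = im ι V1 := by
  ext g
  rw [mem_im, mem_im]
  constructor
  · rintro ⟨u, hu, rfl⟩
    exact ⟨tauC u, tau_mem_V1 hu, rfl⟩
  · rintro ⟨u, hu, rfl⟩
    exact ⟨tauC u, tau_mem_V2 hu, by
      show ι (tauC (tauC u)) = ι u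
      rw [tauC_tauC]⟩

/-- **The elements `y1`, `y2`.** -/
theorem sides [Finite G] (h : Hyp z ι) (E : Emb z ph) (hl : Link ι ph)
    (hctl1 : ∀ b : Fin 64, F z ι b → ∃ n : G, n * z * n⁻¹ = ι (vC b) ∧
      ∀ w ∈ im ι V1, n * w * n⁻¹ ∈ im ι V1)
    (hctl2 : ∀ b : Fin 64, F z (ι.comp tauC) b → ∃ n : G, n * z * n⁻¹ = (ι.comp tauC) (vC b) ∧
      ∀ w ∈ im (ι.comp tauC) V1, n * w * n⁻¹ ∈ im (ι.comp tauC) V1)
    (h1 : IsConj z (ι x03C)) (h2 : IsConj z (ι x14C)) :
    ∃ (t1 t2 : Bool) (y1 y2 : G), Config.Side (xs ph) t1.toNat y1 ∧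
      Config.Side (Config.mir (xs ph)) t2.toNat y2 := by
  obtain ⟨n, hn, hV⟩ := hctl2 32 (by
    show IsConj z (ι (tauC (vC 32)))
    rw [vC_32, tau_x14]; exact h1)
  have hn' : n * z * n⁻¹ = ι x03C := by
    rw [hn]
    show ι (tauC (vC 32)) = _
    rw [vC_32, tau_x14]
  rw [im_tau] at hV
  obtain ⟨t1, y1, s1⟩ := side_of_fus E hl hn' hV
  obtain ⟨n2, hn2, hV2⟩ := hctl1 32 (by
    show IsConj z (ι (vC 32))
    rw [vC_32]; exact h2)
  rw [vC_32] at hn2
  obtain ⟨ph', E', hl'⟩ := exists_ph h.tau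
  have hn3 : n2 * z * n2⁻¹ = (ι.comp tauC) x03C := by
    rw [hn2]
    show _ = ι (tauC x03C)
    rw [tau_x03]
  rw [← im_tau'] at hV2
  obtain ⟨t2, y2, s2⟩ := side_of_fus E' hl' hn3 hV2
  exact ⟨t1, t2, y1, y2, s1, toMir hl hl' s2⟩

/-- **Configuration** -/
theorem config [Finite G] (h : Hyp z ι) (E : Emb z ph) (hl : Link ι ph)
    (hctl1 : ∀ b : Fin 64, F z ι b → ∃ n : G, n * z * n⁻¹ = ι (vC b) ∧
      ∀ w ∈ im ι V1, n * w * n⁻¹ ∈ im ι V1)
    (hctl2 : ∀ b : Fin 64, F z (ι.comp tauC) b → ∃ n : G, n * z * n⁻¹ = (ι.comp tauC) (vC b) ∧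
      ∀ w ∈ im (ι.comp tauC) V1, n * w * n⁻¹ ∈ im (ι.comp tauC) V1)
    (h1 : IsConj z (ι x03C)) (h2 : IsConj z (ι x14C)) :
    ∃ (t1 t2 : Bool) (y1 y2 : G), Config.Config (xs ph) t1.toNat t2.toNat
      (ConfigThm.f0 ph t1.toNat t2.toNat) y1 y2 := by
  obtain ⟨t1, t2, y1, y2, s1, s2⟩ := sides h E hl hctl1 hctl2 h1 h2
  have hb : ∀ t : Bool, t.toNat = 0 ∨ t.toNat = 1 := by decide
  obtain ⟨y2', _, hc⟩ := ConfigThm.config E (hb t1) (hb t2) s1 s2
  exact ⟨t1, t2, y1, y2', hc⟩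

end Cfsg.Agent.Held.SideHyp
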