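import Cfsg.Agent.Held.Acts
import Cfsg.Agent.Held.Config

/-!
# The word theorems E1 and E2 (Held type)

A word in the eight letters of side 1 (2) whose action on `V1` (`V2`) is trivial is trivial.
-/

set_option autoImplicit false

namespace Cfsg.Agent.Held.Words

open Cfsg.Agent.Held.Code Cfsg.Agent.Held.WordCore Cfsg.Agent.Held.Acts

variable {G : Type*} [Group G] {z : G} {ph : ℕ → G}

/-- the root elements -/
def rt (ph : ℕ → G) (i j : ℕ) : G := ph (X i j)

/-! ### generic lemmas -/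

theorem comm_P {P : ℕ → G} (hP : IsHom6 P) {v w : ℕ} (hv : v < 64) (hw : w < 64) :
    P v * P w = P w * P v := by
  rw [← hP _ _ hv hw, ← hP _ _ hw hv, Nat.xor_comm]

theorem acts_mul_P {P : ℕ → G} (hP : IsHom6 P) {g : G} {M w : ℕ} (hw : w < 64)
    (hg : Acts P g M) : Acts P (g * P w) M := by
  intro v hv
  rw [← mul_assoc, hg v hv, mul_assoc, comm_P hP (app_lt _ _) hw, mul_assoc]

theorem acts_conj_P {P : ℕ → G} (hP : IsHom6 P) {g : G} {M w : ℕ} (hw : w < 64)
    (hg : Acts P g M) : Acts P (P w * g * P w) M := by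
  apply acts_mul_P hP hw
  intro v hv
  rw [← mul_assoc, comm_P hP hv hw, mul_assoc, hg v hv, mul_assoc]

theorem acts_inv {P : ℕ → G} {g : G} {M N : ℕ} (hg : Acts P g M)
    (hMN : allb 64 (fun v => Nat.beq (app M (app N v)) v) = true) : Acts P g⁻¹ N := by
  intro v hv
  have h := hg _ (app_lt N v)
  have h2 : app M (app N v) = v := Nat.eq_of_beq_eq_true (of_allb hMN v hv)
  rw [h2] at h
  rw [eq_inv_mul_iff_mul_eq, ← mul_assoc, ← h]
  group

theorem nrm_inv_of {y g : G} (hg : g * g = 1) (h : g * y * g = y⁻¹) : Nrm y g := by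
  right
  rw [← h]
  calc y * g = (g * g) * y * g := by rw [hg, one_mul]
    _ = g * (g * y * g) := by group

/-! ### translation of the interfaces -/

theorem toSide1 (h : Emb z ph) {b : Bool} {y : G} (s : Config.Side (rt ph) b.toNat y) :
    SideDef.Side z ph b y := by
  have hz := ph_z h
  obtain ⟨cube, inv, act3, act4, x01, x02, x12, x21⟩ := s
  unfold rt at *
  rw [hz] at x12 x21
  refine ⟨cube, inv, act3 0 (by norm_num), act3 1 (by norm_num), act3 2 (by norm_num),
    act4 0 (by norm_num), act4 1 (by norm_num), act4 2 (by norm_num), ?_, ?_, ?_, ?_⟩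
  · cases b
    · simpa [SideDef.tw] using x01
    · simpa [SideDef.tw] using x01
  · cases b
    · simpa [SideDef.tw] using x02
    · simpa [SideDef.tw] using x02
  · cases b
    · simpa [SideDef.tw] using x12
    · simpa [SideDef.tw] using x12
  · cases b
    · simpa [SideDef.tw] using x21
    · simpa [SideDef.tw] using x21

theorem toSide2 (h : Emb z ph) {b : Bool} {y : G}
    (s : Config.Side (Config.mir (rt ph)) b.toNat y) : Side2 z ph b y := by
  have hz := ph_z h
  obtain ⟨cube, inv, act3, act4, x01, x02, x12, x21⟩ := s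
  have a0 := act3 0 (by norm_num)
  have a1 := act3 1 (by norm_num)
  have a2 := act3 2 (by norm_num)
  have c0 := act4 0 (by norm_num)
  have c1 := act4 1 (by norm_num)
  have c2 := act4 2 (by norm_num)
  unfold Config.mir rt at *
  norm_num at inv a0 a1 a2 c0 c1 c2 x01 x02 x12 x21
  rw [hz] at x12 x21
  refine ⟨cube, inv, a0, a1, a2, c0, c1, c2, ?_, ?_, ?_, ?_⟩
  · cases b
    · simpa [SideDef.tw] using x01
    · simpa [SideDef.tw] using x01
  · cases b
    · simpa [SideDef.tw] using x02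
    · simpa [SideDef.tw] using x02
  · cases b
    · simpa [SideDef.tw] using x12
    · simpa [SideDef.tw] using x12
  · cases b
    · simpa [SideDef.tw] using x21
    · simpa [SideDef.tw] using x21

/-! ### the letters -/

/-- letters of E1: `y2, x01, x23 z^t2, x32 z^t2, x34 (x02 z)^t2, f y1 f, y2⁻¹, (f y1 f)⁻¹` -/
def gs1 (x : ℕ → ℕ → G) (t2 : ℕ) (f y1 y2 : G) : ℕ → G
  | 0 => y2
  | 1 => x 0 1
  | 2 => x 2 3 * x 0 4 ^ t2
  | 3 => x 3 2 * x 0 4 ^ t2
  | 4 => x 3 4 * (x 0 2 * x 0 4) ^ t2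
  | 5 => f * y1 * f
  | 6 => y2⁻¹
  | 7 => (f * y1 * f)⁻¹
  | _ => 1

/-- letters of E2: `y1, x34, x12 z^t1, x21 z^t1, x01 (x24 z)^t1, f y2 f, y1⁻¹, (f y2 f)⁻¹` -/
def gs2 (x : ℕ → ℕ → G) (t1 : ℕ) (f y1 y2 : G) : ℕ → G
  | 0 => y1
  | 1 => x 3 4
  | 2 => x 1 2 * x 0 4 ^ t1
  | 3 => x 2 1 * x 0 4 ^ t1
  | 4 => x 0 1 * (x 2 4 * x 0 4) ^ t1
  | 5 => f * y2 * f
  | 6 => y1⁻¹
  | 7 => (f * y2 * f)⁻¹
  | _ => 1

/-- action codes of the letters of E1 on `V1` -/
def Ms1 (t1 : Bool) : ℕ → ℕ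
  | 0 => 4328932489
  | 1 => 38959071361
  | 2 => 34634481795
  | 3 => 34764505281
  | 4 => 35167158657
  | 5 => cond t1 52079124755 52078600449
  | 6 => 38959186952
  | 7 => cond t1 17988854199 17987281281
  | _ => 34630287489

/-- action codes of the letters of E2 on `V2` -/
def Ms2 (t2 : Bool) : ℕ → ℕ
  | 0 => 52079657154
  | 1 => 35167191171
  | 2 => 43287330945
  | 3 => 34638741633
  | 4 => 34630815873
  | 5 => cond t2 47647822469 34628702853
  | 6 => 17986273347
  | 7 => cond t2 50904715780 34630816260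
  | _ => 34630287489

theorem sq_X (h : Emb z ph) {a : ℕ} (ha : C a) (h2 : mu a a = e1) : ph a * ph a = 1 := by
  rw [← h.mul ha ha, h2, ph_e1 h]

/-- Core for `V1`, `y2`. -/
theorem core1 (h : Emb z ph) {b : Bool} {y : G} (s : Side2 z ph b y) : Core (P1 ph) y A21 where
  hom := hom1 h
  inj := inj1 h
  cent := cent1 h
  acts := side2_acts1 h s
  fpf := by decide +kernel

/-- Core for `V2`, `y1`. -/
theorem core2 (h : Emb z ph) {b : Bool} {y : G} (s : SideDef.Side z ph b y) :
    Core (P2 ph) y A12 where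
  hom := hom2 h
  inj := inj2 h
  cent := cent2 h
  acts := side_acts2 h s
  fpf := by decide +kernel

theorem z_eq_P1 (h : Emb z ph) : z = P1 ph 4 := by rw [p1_4, ph_z h]

theorem z_eq_P2 (h : Emb z ph) : z = P2 ph 2 := by rw [p2_2, ph_z h]

theorem acts_gs1 (h : Emb z ph) {b1 b2 : Bool} {f y1 y2 : G} {w : ℕ} (hw : w < 64)
    (hf : f = P1 ph w) (s1 : SideDef.Side z ph b1 y1) (s2 : Side2 z ph b2 y2) :
    ∀ i < 8, Acts (P1 ph) (gs1 (rt ph) b2.toNat f y1 y2 i) (Ms1 b1 i) := by
  have hP := hom1 h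
  have k2 : Acts (P1 ph) (ph (X 2 3)) 34634481795 :=
    acts1_of_chk h (CX (by decide +kernel)) (by decide +kernel)
  have k3 : Acts (P1 ph) (ph (X 3 2)) 34764505281 :=
    acts1_of_chk h (CX (by decide +kernel)) (by decide +kernel)
  have k4 : Acts (P1 ph) (ph (X 3 4)) 35167158657 :=
    acts1_of_chk h (CX (by decide +kernel)) (by decide +kernel)
  have k0 : Acts (P1 ph) y2 4328932489 := side2_acts1 h s2
  have k5 : Acts (P1 ph) (f * y1 * f) (cond b1 52079124755 52078600449) := by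
    rw [hf]
    exact acts_conj_P hP hw (side_acts1 h s1)
  intro i hi
  interval_cases i
  · exact k0
  · show Acts (P1 ph) (ph (X 0 1)) 38959071361
    exact acts1_of_chk h (CX (by decide +kernel)) (by decide +kernel)
  · show Acts (P1 ph) (ph (X 2 3) * ph (X 0 4) ^ b2.toNat) 34634481795
    cases b2
    · simpa using k2
    · rw [← p1_4 (ph := ph)]
      simpa using acts_mul_P hP (by norm_num) k2
  · show Acts (P1 ph) (ph (X 3 2) * ph (X 0 4) ^ b2.toNat) 34764505281
    cases b2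
    · simpa using k3
    · rw [← p1_4 (ph := ph)]
      simpa using acts_mul_P hP (by norm_num) k3
  · show Acts (P1 ph) (ph (X 3 4) * (ph (X 0 2) * ph (X 0 4)) ^ b2.toNat) 35167158657
    cases b2
    · simpa using k4
    · rw [← p1_4 (ph := ph), ← p1_1 (ph := ph), ← hP 1 4 (by norm_num) (by norm_num)]
      have := acts_mul_P hP (w := 1 ^^^ 4) (by decide) k4
      simpa using this
  · exact k5
  · exact acts_inv (N := 38959186952) k0 (by decide +kernel)
  · apply acts_inv k5
    cases b1 <;> decide +kernel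

theorem acts_gs2 (h : Emb z ph) {b1 b2 : Bool} {f y1 y2 : G} {w : ℕ} (hw : w < 64)
    (hf : f = P2 ph w) (s1 : SideDef.Side z ph b1 y1) (s2 : Side2 z ph b2 y2) :
    ∀ i < 8, Acts (P2 ph) (gs2 (rt ph) b1.toNat f y1 y2 i) (Ms2 b2 i) := by
  have hP := hom2 h
  have k2 : Acts (P2 ph) (ph (X 1 2)) 43287330945 :=
    acts2_of_chk h (CX (by decide +kernel)) (by decide +kernel)
  have k3 : Acts (P2 ph) (ph (X 2 1)) 34638741633 :=
    acts2_of_chk h (CX (by decide +kernel)) (by decide +kernel)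
  have k4 : Acts (P2 ph) (ph (X 0 1)) 34630815873 :=
    acts2_of_chk h (CX (by decide +kernel)) (by decide +kernel)
  have k0 : Acts (P2 ph) y1 52079657154 := side_acts2 h s1
  have k5 : Acts (P2 ph) (f * y2 * f) (cond b2 47647822469 34628702853) := by
    rw [hf]
    exact acts_conj_P hP hw (side2_acts2 h s2)
  intro i hi
  interval_cases i
  · exact k0
  · show Acts (P2 ph) (ph (X 3 4)) 35167191171
    exact acts2_of_chk h (CX (by decide +kernel)) (by decide +kernel)
  · show Acts (P2 ph) (ph (X 1 2) * ph (X 0 4) ^ b1.toNat) 43287330945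
    cases b1
    · simpa using k2
    · rw [← p2_2 (ph := ph)]
      simpa using acts_mul_P hP (by norm_num) k2
  · show Acts (P2 ph) (ph (X 2 1) * ph (X 0 4) ^ b1.toNat) 34638741633
    cases b1
    · simpa using k3
    · rw [← p2_2 (ph := ph)]
      simpa using acts_mul_P hP (by norm_num) k3
  · show Acts (P2 ph) (ph (X 0 1) * (ph (X 2 4) * ph (X 0 4)) ^ b1.toNat) 34630815873
    cases b1
    · simpa using k4
    · rw [← p2_2 (ph := ph), ← p2_32 (ph := ph), ← hP 32 2 (by norm_num) (by norm_num)]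
      have := acts_mul_P hP (w := 32 ^^^ 2) (by decide) k4
      simpa using this
  · exact k5
  · exact acts_inv (N := 17986273347) k0 (by decide +kernel)
  · apply acts_inv k5
    cases b2 <;> decide +kernel

theorem nrm_gs1 (h : Emb z ph) {b2 : Bool} {f y1 y2 : G}
    (s2 : Side2 z ph b2 y2) (hc : y2 * (f * y1 * f) = f * y1 * f * y2) :
    ∀ i < 8, Nrm y2 (gs1 (rt ph) b2.toNat f y1 y2 i) := by
  have hP := hom1 h
  have hz := ph_z h
  have k0 : Nrm y2 y2 := Or.inl rfl
  have k5 : Nrm y2 (f * y1 * f) := Or.inl hc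
  intro i hi
  interval_cases i
  · exact k0
  · exact nrm_inv_of (sq_X h (CX (by decide +kernel)) (by decide +kernel)) s2.inv01
  · left
    show y2 * (ph (X 2 3) * ph (X 0 4) ^ b2.toNat) = ph (X 2 3) * ph (X 0 4) ^ b2.toNat * y2
    rw [hz]
    have := s2.b23
    cases b2
    · simpa [SideDef.tw] using this.symm
    · simpa [SideDef.tw] using this.symm
  · left
    show y2 * (ph (X 3 2) * ph (X 0 4) ^ b2.toNat) = ph (X 3 2) * ph (X 0 4) ^ b2.toNat * y2
    rw [hz]
    have := s2.b32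
    cases b2
    · simpa [SideDef.tw] using this.symm
    · simpa [SideDef.tw] using this.symm
  · left
    show y2 * (ph (X 3 4) * (ph (X 0 2) * ph (X 0 4)) ^ b2.toNat) =
      ph (X 3 4) * (ph (X 0 2) * ph (X 0 4)) ^ b2.toNat * y2
    have h34 := s2.b34
    cases b2
    · simpa [SideDef.tw] using h34.symm
    · have h02 := s2.b02
      have h04 := s2.b04
      simp only [SideDef.tw, cond_true] at h34
      simp only [Bool.toNat_true, pow_one]
      have e : ph (X 1 4) * ph (X 1 2) * (ph (X 1 2) * ph (X 0 2)) * (ph (X 1 4) * ph (X 0 4)) =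
          ph (X 0 2) * ph (X 0 4) := by
        rw [← p1_32 (ph := ph), ← p1_8 (ph := ph), ← p1_1 (ph := ph), ← p1_4 (ph := ph)]
        rw [← hP 32 8 (by norm_num) (by norm_num), ← hP 8 1 (by norm_num) (by norm_num),
          ← hP 32 4 (by norm_num) (by norm_num), ← hP _ _ (by decide) (by decide),
          ← hP _ _ (by decide) (by decide), ← hP 1 4 (by norm_num) (by norm_num)]
        congr 1
      symm
      calc ph (X 3 4) * (ph (X 0 2) * ph (X 0 4)) * y2
          = ph (X 3 4) * ph (X 0 2) * (ph (X 0 4) * y2) := by simp only [mul_assoc]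
        _ = ph (X 3 4) * (ph (X 0 2) * y2) * (ph (X 1 4) * ph (X 0 4)) := by
            rw [h04]; simp only [mul_assoc]
        _ = (ph (X 3 4) * y2) * (ph (X 1 2) * ph (X 0 2)) * (ph (X 1 4) * ph (X 0 4)) := by
            rw [h02]; simp only [mul_assoc]
        _ = y2 * (ph (X 3 4) * (ph (X 1 4) * ph (X 1 2) * (ph (X 1 2) * ph (X 0 2)) *
              (ph (X 1 4) * ph (X 0 4)))) := by rw [h34]; simp only [mul_assoc]
        _ = _ := by rw [e]
  · exact k5
  · exact k0.inv
  · exact k5.inv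

theorem nrm_gs2 (h : Emb z ph) {b1 : Bool} {f y1 y2 : G} (hff : f * f = 1)
    (s1 : SideDef.Side z ph b1 y1) (hc : y2 * (f * y1 * f) = f * y1 * f * y2) :
    ∀ i < 8, Nrm y1 (gs2 (rt ph) b1.toNat f y1 y2 i) := by
  have hP := hom2 h
  have hz := ph_z h
  have k0 : Nrm y1 y1 := Or.inl rfl
  have k5 : Nrm y1 (f * y2 * f) := by
    left
    calc y1 * (f * y2 * f) = (f * f) * y1 * (f * y2 * f) := by rw [hff, one_mul]
      _ = f * (f * y1 * f * y2) * f := by simp only [mul_assoc]
      _ = f * (y2 * (f * y1 * f)) * f := by rw [hc]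
      _ = f * y2 * f * y1 * (f * f) := by simp only [mul_assoc]
      _ = _ := by rw [hff, mul_one]
  intro i hi
  interval_cases i
  · exact k0
  · exact nrm_inv_of (sq_X h (CX (by decide +kernel)) (by decide +kernel)) s1.inv34
  · left
    show y1 * (ph (X 1 2) * ph (X 0 4) ^ b1.toNat) = ph (X 1 2) * ph (X 0 4) ^ b1.toNat * y1
    rw [hz]
    have := s1.a12
    cases b1
    · simpa [SideDef.tw] using this.symm
    · simpa [SideDef.tw] using this.symm
  · left
    show y1 * (ph (X 2 1) * ph (X 0 4) ^ b1.toNat) = ph (X 2 1) * ph (X 0 4) ^ b1.toNat * y1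
    rw [hz]
    have := s1.a21
    cases b1
    · simpa [SideDef.tw] using this.symm
    · simpa [SideDef.tw] using this.symm
  · left
    show y1 * (ph (X 0 1) * (ph (X 2 4) * ph (X 0 4)) ^ b1.toNat) =
      ph (X 0 1) * (ph (X 2 4) * ph (X 0 4)) ^ b1.toNat * y1
    have h01 := s1.a01
    cases b1
    · simpa [SideDef.tw] using h01.symm
    · have h24 := s1.a24
      have h04 := s1.a04
      simp only [SideDef.tw, cond_true] at h01
      simp only [Bool.toNat_true, pow_one]
      have e : ph (X 0 3) * ph (X 2 3) * (ph (X 2 3) * ph (X 2 4)) * (ph (X 0 3) * ph (X 0 4)) =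
          ph (X 2 4) * ph (X 0 4) := by
        rw [← p2_1 (ph := ph), ← p2_16 (ph := ph), ← p2_32 (ph := ph), ← p2_2 (ph := ph)]
        rw [← hP 1 16 (by norm_num) (by norm_num), ← hP 16 32 (by norm_num) (by norm_num),
          ← hP 1 2 (by norm_num) (by norm_num), ← hP _ _ (by decide) (by decide),
          ← hP _ _ (by decide) (by decide), ← hP 32 2 (by norm_num) (by norm_num)]
        congr 1
      symm
      calc ph (X 0 1) * (ph (X 2 4) * ph (X 0 4)) * y1
          = ph (X 0 1) * ph (X 2 4) * (ph (X 0 4) * y1) := by simp only [mul_assoc]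
        _ = ph (X 0 1) * (ph (X 2 4) * y1) * (ph (X 0 3) * ph (X 0 4)) := by
            rw [h04]; simp only [mul_assoc]
        _ = (ph (X 0 1) * y1) * (ph (X 2 3) * ph (X 2 4)) * (ph (X 0 3) * ph (X 0 4)) := by
            rw [h24]; simp only [mul_assoc]
        _ = y1 * (ph (X 0 1) * (ph (X 0 3) * ph (X 2 3) * (ph (X 2 3) * ph (X 2 4)) *
              (ph (X 0 3) * ph (X 0 4)))) := by rw [h01]; simp only [mul_assoc]
        _ = _ := by rw [e]
  · exact k5
  · exact k0.inv
  · exact k5.inv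

/-- **E1** -/
theorem E1 (h : Emb z ph) {b1 b2 : Bool} {f y1 y2 : G} {w : ℕ} (hw : w < 64) (hf : f = P1 ph w)
    (c : Config.Config (rt ph) b1.toNat b2.toNat f y1 y2) {l : List ℕ}
    (hl : (l.all fun a => Nat.blt a 8) = true) (ht : triv (Ms1 b1) l = true) :
    evalW (gs1 (rt ph) b2.toNat f y1 y2) l = 1 :=
  word_one (core1 h (toSide2 h c.side2)) (acts_gs1 h hw hf (toSide1 h c.side1) (toSide2 h c.side2))
    (nrm_gs1 h (toSide2 h c.side2) c.comm) hl ht

/-- **E2** -/
theorem E2 (h : Emb z ph) {b1 b2 : Bool} {f y1 y2 : G} {w : ℕ} (hw : w < 64) (hf : f = P2 ph w)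
    (c : Config.Config (rt ph) b1.toNat b2.toNat f y1 y2) {l : List ℕ}
    (hl : (l.all fun a => Nat.blt a 8) = true) (ht : triv (Ms2 b2) l = true) :
    evalW (gs2 (rt ph) b1.toNat f y1 y2) l = 1 :=
  word_one (core2 h (toSide1 h c.side1)) (acts_gs2 h hw hf (toSide1 h c.side1) (toSide2 h c.side2))
    (nrm_gs2 h (by rw [hf]; exact (hom2 h).sq hw) (toSide1 h c.side1) c.comm) hl ht

/-! ### the relators of the small configurations -/

theorem f00 (h : Emb z ph) : (1 : G) = P1 ph 0 ∧ (1 : G) = P2 ph 0 :=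
  ⟨(hom1 h).zero.symm, (hom2 h).zero.symm⟩

theorem rel00 (h : Emb z ph) {y1 y2 : G} (c : Config.Config (rt ph) 0 0 1 y1 y2) :
    (y1⁻¹ * ph (X 3 2)) ^ 3 = 1 ∧ (y2⁻¹ * ph (X 2 1)) ^ 3 = 1 := by
  have e1 := E1 h (b1 := false) (b2 := false) (w := 0) (by norm_num) (f00 h).1 c
    (l := [7, 3, 7, 3, 7, 3]) (by decide) (by decide +kernel)
  have e2 := E2 h (b1 := false) (b2 := false) (w := 0) (by norm_num) (f00 h).2 c
    (l := [7, 3, 7, 3, 7, 3]) (by decide) (by decide +kernel)
  simp only [evalW, gs1, gs2, rt, Bool.toNat_false, pow_zero, mul_one, one_mul] at e1 e2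
  constructor
  · rw [← e1]; simp only [pow_succ, pow_zero, one_mul, mul_assoc]
  · rw [← e2]; simp only [pow_succ, pow_zero, one_mul, mul_assoc]

theorem rel10 (h : Emb z ph) {y1 y2 : G} (c : Config.Config (rt ph) 1 0 (ph (X 1 4)) y1 y2) :
    ((ph (X 1 4) * y1 * ph (X 1 4))⁻¹ * ph (X 2 3) * ph (X 3 2) * y2) ^ 4 = 1 ∧
      ((ph (X 1 4) * y2 * ph (X 1 4))⁻¹ * ph (X 2 1) * z) ^ 3 = 1 := by
  have hz := ph_z h
  have e1 := E1 h (b1 := true) (b2 := false) (w := 32) (by norm_num) (p1_32 (ph := ph)).symm c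
    (l := [7, 2, 3, 0, 7, 2, 3, 0, 7, 2, 3, 0, 7, 2, 3, 0]) (by decide) (by decide +kernel)
  have e2 := E2 h (b1 := true) (b2 := false) (w := 8) (by norm_num) (p2_8 (ph := ph)).symm c
    (l := [7, 3, 7, 3, 7, 3]) (by decide) (by decide +kernel)
  simp only [evalW, gs1, gs2, rt, Bool.toNat_false, Bool.toNat_true, pow_zero, pow_one, mul_one,
    hz] at e1 e2
  constructor
  · rw [← e1]; simp only [pow_succ, pow_zero, one_mul, mul_assoc]
  · rw [← e2]; simp only [pow_succ, pow_zero, one_mul, mul_assoc]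

theorem rel01 (h : Emb z ph) {y1 y2 : G} (c : Config.Config (rt ph) 0 1 (ph (X 0 3)) y1 y2) :
    ((ph (X 0 3) * y2 * ph (X 0 3))⁻¹ * ph (X 1 2) * ph (X 2 1) * y1) ^ 4 = 1 ∧
      ((ph (X 0 3) * y1 * ph (X 0 3))⁻¹ * ph (X 3 2) * z) ^ 3 = 1 := by
  have hz := ph_z h
  have e1 := E1 h (b1 := false) (b2 := true) (w := 2) (by norm_num) (p1_2 (ph := ph)).symm c
    (l := [7, 3, 7, 3, 7, 3]) (by decide) (by decide +kernel)
  have e2 := E2 h (b1 := false) (b2 := true) (w := 1) (by norm_num) (p2_1 (ph := ph)).symm c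
    (l := [7, 2, 3, 0, 7, 2, 3, 0, 7, 2, 3, 0, 7, 2, 3, 0]) (by decide) (by decide +kernel)
  simp only [evalW, gs1, gs2, rt, Bool.toNat_false, Bool.toNat_true, pow_zero, pow_one, mul_one,
    hz] at e1 e2
  constructor
  · rw [← e2]; simp only [pow_succ, pow_zero, one_mul, mul_assoc]
  · rw [← e1]; simp only [pow_succ, pow_zero, one_mul, mul_assoc]

/-- E1 in the case (11) -/
theorem E1_11 (h : Emb z ph) {y1 y2 : G} (c : Config.Config (rt ph) 1 1 (ph (X 1 3)) y1 y2)
    {l : List ℕ} (hl : (l.all fun a => Nat.blt a 8) = true) (ht : triv (Ms1 true) l = true) :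
    evalW (gs1 (rt ph) 1 (ph (X 1 3)) y1 y2) l = 1 :=
  E1 h (b1 := true) (b2 := true) (w := 16) (by norm_num) (p1_16 (ph := ph)).symm c hl ht

/-- E2 in the case (11) -/
theorem E2_11 (h : Emb z ph) {y1 y2 : G} (c : Config.Config (rt ph) 1 1 (ph (X 1 3)) y1 y2)
    {l : List ℕ} (hl : (l.all fun a => Nat.blt a 8) = true) (ht : triv (Ms2 true) l = true) :
    evalW (gs2 (rt ph) 1 (ph (X 1 3)) y1 y2) l = 1 :=
  E2 h (b1 := true) (b2 := true) (w := 4) (by norm_num) (p2_4 (ph := ph)).symm c hl ht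

end Cfsg.Agent.Held.Words
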