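import Mathlib
import Cfsg.Prelude.Def_Spor_He
import Cfsg.Agent.Held.SideHyp
import Cfsg.Agent.Held.PCase
import Cfsg.Agent.Held.ClosingMain
import Cfsg.Agent.Held.CentB
import Cfsg.Agent.Held.EmbCases
import Cfsg.Agent.Held.Words
import Cfsg.Agent.Held.NoBFin
import Cfsg.Agent.Held.HeldCardEq
import Cfsg.Agent.SporadicRecognition.HeldInv

/-!
# Assembly of the recognition theorem for the centraliser of a transvection of `SL(5, 2)`
-/

set_option autoImplicit false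

namespace Cfsg.Agent.Held.Assembly

open Cfsg.Agent.SporadicRecognition.HeldModel Cfsg.Agent.Lib.F2Mat
  Cfsg.Agent.Held.NoBModel Cfsg.Agent.Held.Pattern Cfsg.Agent.Held.Code Cfsg.Agent.Held.PFus

variable {G : Type*} [Group G] {z : G} {ι : CC →* G}

/-- The fusion facts. -/
structure Fusion (z : G) (ι : CC →* G) : Prop where
  sylow : ∃ S : Sylow 2 G, (S : Subgroup G) = im ι T0
  ctl1 : ∀ b : Fin 64, F z ι b → ∃ n : G, n * z * n⁻¹ = ι (vC b) ∧
      ∀ w ∈ im ι V1, n * w * n⁻¹ ∈ im ι V1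
  ctl2 : ∀ b : Fin 64, F z (ι.comp tauC) b → ∃ n : G, n * z * n⁻¹ = (ι.comp tauC) (vC b) ∧
      ∀ w ∈ im (ι.comp tauC) V1, n * w * n⁻¹ ∈ im (ι.comp tauC) V1
  rep : ∀ u : CC, u * u = 1 → ∃ g : CC, ((g * u * g⁻¹ : CC) : L5) ∈ V1 ∨
      ((g * u * g⁻¹ : CC) : L5) ∈ V2
  weak : ∀ g : G, (∀ v ∈ im ι V1, g * v * g⁻¹ ∈ im ι T0) →
      g ∈ Subgroup.normalizer (im ι V1 : Set G)

theorem fusion [Finite G] (h : Hyp z ι) : Fusion z ι where
  sylow := exists_sylow h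
  ctl1 := by
    intro b hb
    obtain ⟨g, hg⟩ := isConj_iff.1 hb
    have hz : z ∈ img ι V1 := mem_img.2 ⟨vC 4, ve_mem 4, by rw [vC_four, h.map_zz]⟩
    have hb' : ι (vC b) ∈ img ι V1 := mem_img.2 ⟨vC b, ve_mem b, rfl⟩
    obtain ⟨n, hn, hn2⟩ := control_V1 h hz hb' hg
    exact ⟨n, hn, fun w hw => (hn2 w).1 hw⟩
  ctl2 := by
    intro b hb
    obtain ⟨g, hg⟩ := isConj_iff.1 hb
    have hz : z ∈ img (ι.comp tauC) V1 := mem_img.2 ⟨vC 4, ve_mem 4, by
      rw [vC_four, h.tau.map_zz]⟩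
    have hb' : (ι.comp tauC) (vC b) ∈ img (ι.comp tauC) V1 := mem_img.2 ⟨vC b, ve_mem b, rfl⟩
    obtain ⟨n, hn, hn2⟩ := control_V1 h.tau hz hb' hg
    exact ⟨n, hn, fun w hw => (hn2 w).1 hw⟩
  rep := fun u hu => exists_conj_V u hu
  weak := fun g hg => CentB.nrm_of (weak_V1 h g hg)

/-- the image of a pattern subgroup in terms of codes -/
theorem mem_T0_codes {ph : ℕ → G} (hl : SideHyp.Link ι ph) (g : G) :
    g ∈ im ι T0 ↔ ∃ n < 1024, ph (Fus8.tc n) = g := by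
  have key : ∀ n < 1024, inP (msk' PT) (Fus8.tc n) = true ∧ Fus8.tc n < 2 ^ 25 := by
    have h : allb 1024 (fun n => inP (msk' PT) (Fus8.tc n) && Nat.blt (Fus8.tc n) 33554432) = true := by
      decide +kernel
    intro n hn
    have := of_allb h n hn
    rw [Bool.and_eq_true, Nat.blt_eq] at this
    exact this
  constructor
  · intro hg
    obtain ⟨u, hu, rfl⟩ := mem_im.1 hg
    have h2 : ∃ n < 1024, cd (u : L5) = Fus8.tc n := by
      obtain ⟨a, ha, e⟩ := exists_tc hu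
      have h3 : allb 1024 (fun a => Nat.blt (CentB.nidx (tc a)) 1024 &&
          Nat.beq (Fus8.tc (CentB.nidx (tc a))) (tc a)) = true := by decide +kernel
      have h4 := of_allb h3 a ha
      rw [Bool.and_eq_true, Nat.blt_eq] at h4
      exact ⟨_, h4.1, by rw [e]; exact (Nat.eq_of_beq_eq_true h4.2).symm⟩
    obtain ⟨n, hn, e⟩ := h2
    exact ⟨n, hn, by rw [← e]; exact hl u⟩
  · rintro ⟨n, hn, rfl⟩
    obtain ⟨h1, h2⟩ := key n hn
    obtain ⟨u, hu⟩ := CentB.exists_cd (Fus8.tc_C hn)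
    refine mem_im.2 ⟨u, ?_, by rw [← hu]; exact (hl u).symm⟩
    rw [T0, mem_pat, Pat_iff_inP, hu]
    exact h1

theorem iota_eq {ph : ℕ → G} (E : Emb z ph) (hl : SideHyp.Link ι ph) : CentB.iota E = ι := by
  ext u
  rw [CentB.iota_apply, hl u]

theorem im_tau_T0 : im (ι.comp tauC) T0 = im ι T0 := by
  ext g
  rw [mem_im, mem_im]
  constructor
  · rintro ⟨u, hu, rfl⟩
    exact ⟨tauC u, tau_mem_T0 hu, rfl⟩
  · rintro ⟨u, hu, rfl⟩
    refine ⟨tauC u, tau_mem_T0 hu, ?_⟩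
    show ι (tauC (tauC u)) = ι u
    rw [tauC_tauC]

theorem comp_tau_tau : (ι.comp tauC).comp tauC = ι := by
  ext u
  show ι (tauC (tauC u)) = ι u
  rw [tauC_tauC]

/-- An element conjugating `z` into `H` lies in `H`. -/
theorem mem_of_conj [Finite G] {ph : ℕ → G} {H : Subgroup G} {t1 t2 : Bool} {y1 y2 : G}
    (E : Emb z ph) (S : Sylow 2 G)
    (hS : ∀ g : G, g ∈ (S : Subgroup G) ↔ ∃ n < 1024, ph (Fus8.tc n) = g)
    (hH : ∀ c, C c → ph c ∈ H) (s1 : SideDef.Side z ph t1 y1) (s2 : Acts.Side2 z ph t2 y2)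
    (hy1 : y1 ∈ H) (hy2 : y2 ∈ H) (hb : ¬ IsConj z (ph (mu (X 0 3) (X 1 4))))
    (hz1 : z ≠ 1) (hzz : z * z = 1) (g : G) (hg : g * z * g⁻¹ ∈ H) : g ∈ H := by
  have f2 : Fact (Nat.Prime 2) := ⟨Nat.prime_two⟩
  have hSH : (S : Subgroup G) ≤ H := by
    intro x hx
    obtain ⟨n, hn, rfl⟩ := (hS x).1 hx
    exact hH _ (Fus8.tc_C hn)
  let S' : Sylow 2 H := S.subtype hSH
  let c : H := ⟨g * z * g⁻¹, hg⟩
  have hcc : c * c = 1 := by
    apply Subtype.ext
    show g * z * g⁻¹ * (g * z * g⁻¹) = 1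
    calc g * z * g⁻¹ * (g * z * g⁻¹) = g * (z * z) * g⁻¹ := by group
      _ = 1 := by rw [hzz]; group
  have hcp : IsPGroup 2 (Subgroup.zpowers c) := by
    intro y
    obtain ⟨k, hk⟩ := Subgroup.mem_zpowers_iff.1 y.2
    refine ⟨1, Subtype.ext ?_⟩
    show (y : H) ^ 2 ^ 1 = 1
    rw [← hk, ← zpow_natCast, ← zpow_mul, mul_comm, zpow_mul, zpow_natCast, pow_one, pow_two, hcc,
      one_zpow]
  obtain ⟨Q, hQ⟩ := hcp.exists_le_sylow
  obtain ⟨n, hn⟩ := MulAction.exists_smul_eq H Q S'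
  have h1 : n * c * n⁻¹ ∈ (S' : Subgroup H) := by
    rw [← hn, Sylow.coe_subgroup_smul]
    have := Subgroup.smul_mem_pointwise_smul c (MulAut.conj n) (Q : Subgroup H)
      (hQ (Subgroup.mem_zpowers c))
    simpa using this
  have h2 : (n : G) * (g * z * g⁻¹) * (n : G)⁻¹ ∈ (S : Subgroup G) := h1
  obtain ⟨m, hm, hme⟩ := (hS _).1 h2
  have h3 : ((n : G) * g) * z * ((n : G) * g)⁻¹ = ph (Fus8.tc m) := by rw [hme]; group
  have h4 : IsConj z (ph (Fus8.tc m)) := isConj_iff.2 ⟨_, h3⟩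
  have h5 : ph (Fus8.tc m) * ph (Fus8.tc m) = 1 := by
    rw [← h3]
    calc (n : G) * g * z * ((n : G) * g)⁻¹ * ((n : G) * g * z * ((n : G) * g)⁻¹)
        = (n : G) * g * (z * z) * ((n : G) * g)⁻¹ := by group
      _ = 1 := by rw [hzz]; group
  have hph1 : ph e1 = 1 := Acts.ph_e1 E
  have h6 : mu (Fus8.tc m) (Fus8.tc m) = e1 := by
    apply E.inj ((Fus8.tc_C hm).mul (Fus8.tc_C hm)) C_e1
    rw [E.mul (Fus8.tc_C hm) (Fus8.tc_C hm), h5, hph1]
  have h7 : m ≠ 0 := by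
    rintro rfl
    have e0 : Fus8.tc 0 = e1 := by decide +kernel
    rw [e0, hph1] at h3
    apply hz1
    calc z = ((n : G) * g)⁻¹ * ((n : G) * g * z * ((n : G) * g)⁻¹) * ((n : G) * g) := by group
      _ = 1 := by rw [h3]; group
  have h8 := Fus8.kf_ne_zero hm h7 h6
  have h9 : Fus8.zt t1 t2 (Fus8.kf m) = true := by
    by_contra hcon
    rw [Bool.not_eq_true] at hcon
    exact Fus8.fus_not E hH s1 s2 hy1 hy2 hb hm h8 hcon h4
  obtain ⟨k, hk, hke⟩ := (Fus8.fus E hH s1 s2 hy1 hy2 hm h8).1 h9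
  have h10 : (k⁻¹ * ((n : G) * g)) * z = z * (k⁻¹ * ((n : G) * g)) := by
    have : (k⁻¹ * ((n : G) * g)) * z * (k⁻¹ * ((n : G) * g))⁻¹ = z := by
      calc (k⁻¹ * ((n : G) * g)) * z * (k⁻¹ * ((n : G) * g))⁻¹
          = k⁻¹ * ((n : G) * g * z * ((n : G) * g)⁻¹) * k := by group
        _ = k⁻¹ * (k * z * k⁻¹) * k := by rw [h3, hke]
        _ = z := by group
    rw [mul_inv_eq_iff_eq_mul] at this
    exact this
  obtain ⟨a, ha, hae⟩ := E.surj _ h10
  have h11 : g = (n : G)⁻¹ * (k * (k⁻¹ * ((n : G) * g))) := by group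
  rw [h11, ← hae]
  exact H.mul_mem (H.inv_mem n.2) (H.mul_mem hk (hH a ha))

/-- **The three main cases and the affine case.** -/
theorem main [Finite G] (h : Hyp z ι) (Fu : Fusion z ι)
    (hz : IsConj z (ι x03C) ∨ IsConj z (ι x14C))
    (hHe : ∀ (ph : ℕ → G) (y1 y2 : G), Emb z ph →
      Config.Config (ConfigThm.xs ph) 1 1 (ph (X 1 3)) y1 y2 →
      Subgroup.centralizer ({z} : Set G) ⊔ Subgroup.closure {y1, y2} = ⊤ →
      Nonempty (G ≃* Cfsg.Spor.He)) :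
    (∃ v : Fin 5 → ZMod 2, v ≠ 0 ∧
      Nonempty (G ≃* MulAction.stabilizer (Matrix.SpecialLinearGroup (Fin 5) (ZMod 2)) v)) ∨
    Nonempty (G ≃* Matrix.SpecialLinearGroup (Fin 5) (ZMod 2)) ∨ Nonempty (G ≃* Cfsg.M24) ∨
    Nonempty (G ≃* Cfsg.Spor.He) := by
  obtain ⟨S, hS⟩ := Fu.sylow
  have hb := NoBFin.not_isConj_bC h
  by_cases h1 : IsConj z (ι x03C)
  swap
  · have h2 : IsConj z (ι x14C) := hz.resolve_left h1
    left
    refine PCase.pcase' h.tau S (by rw [hS, im_tau_T0]) HeldCardEq.card_CC Fu.ctl2 ?_ ?_ Fu.rep ?_ ?_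
    · rw [comp_tau_tau]; exact Fu.ctl1
    · show ¬ IsConj z (ι (tauC bC))
      rw [tauC_bC]; exact hb
    · show IsConj z (ι (tauC x03C))
      rw [tau_x03]; exact h2
    · show ¬ IsConj z (ι (tauC x14C))
      rw [tau_x14]; exact h1
  by_cases h2 : IsConj z (ι x14C)
  swap
  · left
    exact PCase.pcase' h S hS HeldCardEq.card_CC Fu.ctl1 Fu.ctl2 hb Fu.rep h1 h2
  right
  obtain ⟨ph, E, hl⟩ := SideHyp.exists_ph h
  obtain ⟨t1, t2, y1, y2, c⟩ := SideHyp.config h E hl Fu.ctl1 Fu.ctl2 h1 h2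
  have hz1 : z ≠ 1 := z_ne_one h
  let H : Subgroup G := Subgroup.centralizer ({z} : Set G) ⊔ Subgroup.closure {y1, y2}
  have hH : ∀ a, C a → ph a ∈ H := by
    intro a ha
    apply (le_sup_left : Subgroup.centralizer ({z} : Set G) ≤ H)
    rw [Subgroup.mem_centralizer_singleton_iff]
    exact E.comm ha
  have hy1 : y1 ∈ H := (le_sup_right : Subgroup.closure {y1, y2} ≤ H) (Subgroup.subset_closure (by simp))
  have hy2 : y2 ∈ H := (le_sup_right : Subgroup.closure {y1, y2} ≤ H) (Subgroup.subset_closure (by simp))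
  have hbt : ∀ t : Bool, t.toNat = 0 ∨ t.toNat = 1 := by decide
  have hbt' : ∀ t : Bool, Nat.beq t.toNat 1 = t := by decide
  have s1 := ConfigThm.toSide E (hbt t1) c.side1
  have s2 := ConfigThm.toSide2 E (hbt t2) c.side2
  rw [hbt'] at s1 s2
  have hb' : ¬ IsConj z (ph (mu (X 0 3) (X 1 4))) := by
    have e : ι bC = ph (mu (X 0 3) (X 1 4)) := by
      rw [← hl bC]
      show ph (cd (x 0 3 * x 1 4)) = _
      rw [cd_mul, cd_x, cd_x]
      rfl
    rw [← e]; exact hb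
  have htop : H = ⊤ := by
    have hS' : ∀ g : G, g ∈ (S : Subgroup G) ↔ ∃ n < 1024, ph (Fus8.tc n) = g := fun g => by
      rw [hS]; exact mem_T0_codes hl g
    refine ClosingMain.closing_main E S hS' hH s1 s2 hy1 hy2 hb' ?_
    rintro rfl rfl g hg1 hg2
    have hzz : z * z = 1 := by
      rw [← Acts.ph_z E]
      exact Acts.p1_4 (ph := ph) ▸ (Acts.hom1 E).sq (by norm_num)
    have hi := iota_eq E hl
    have hle := CentB.centralizer_BB_le E H
      (mem_of_conj E S hS' hH s1 s2 hy1 hy2 hb' hz1 hzz) hH S (by rw [hS, hi])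
      (fun n hn h0 ht => ((Fus8.fus E hH s1 s2 hy1 hy2 hn h0).1 ht).isConj)
      (fun n hn h0 ht => Fus8.fus_not E hH s1 s2 hy1 hy2 hb' hn h0 ht)
      (by rw [hi]; exact Fu.weak) hy1 hy2 c
    apply hle
    rw [Subgroup.mem_centralizer_iff]
    intro b hb
    obtain ⟨⟨w, hw'⟩, ⟨a, ha, hae⟩, rfl⟩ := mem_im.1 hb
    have hae' : ve a = w := hae
    subst hae'
    rw [CentB.iota_ve E a hw']
    have k34 : Acts.P1 ph 34 * g = g * Acts.P1 ph 34 := by
      have e : Acts.P1 ph 34 = ph ClosingCode.tt := congrArg ph (by decide +kernel)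
      rw [e]; exact hg1.symm
    have k52 : Acts.P1 ph 52 * g = g * Acts.P1 ph 52 := by
      have e : Acts.P1 ph 52 = ph ClosingCheck.vv := congrArg ph (by decide +kernel)
      rw [e]; exact hg2.symm
    have key : ∀ a : Fin 64, CentB.bi a = true → (a : ℕ) = 0 ∨ (a : ℕ) = 34 ∨ (a : ℕ) = 52 ∨
        (a : ℕ) = 22 := by decide +kernel
    rcases key a ha with e | e | e | e
    · rw [e, (Acts.hom1 E).zero]; simp
    · rw [e]; exact k34
    · rw [e]; exact k52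
    · have e2 : Acts.P1 ph 22 = Acts.P1 ph 34 * Acts.P1 ph 52 := by
        rw [← (Acts.hom1 E) 34 52 (by norm_num) (by norm_num)]
        rfl
      rw [e, e2, mul_assoc, k52, ← mul_assoc, k34, mul_assoc]
  cases t1 <;> cases t2
  · left
    obtain ⟨e1', e2'⟩ := Words.rel00 E c
    obtain ⟨f, hf, hr, -⟩ := EmbCases.sl5 E hz1 c e1' e2'
    have hr' : f.range = ⊤ := hr.trans htop
    exact ⟨(MulEquiv.ofBijective f ⟨hf, MonoidHom.range_eq_top.1 hr'⟩).symm⟩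
  · right; left
    obtain ⟨e1', e2'⟩ := Words.rel01 E c
    rw [← Acts.ph_z E] at e2'
    obtain ⟨f, hf, hr, -⟩ := EmbCases.m24' E hz1 c e1' e2'
    have hr' : f.range = ⊤ := hr.trans htop
    exact ⟨(MulEquiv.ofBijective f ⟨hf, MonoidHom.range_eq_top.1 hr'⟩).symm⟩
  · right; left
    obtain ⟨e1', e2'⟩ := Words.rel10 E c
    rw [← Acts.ph_z E] at e2'
    obtain ⟨f, hf, hr, -⟩ := EmbCases.m24 E hz1 c e1' e2'
    have hr' : f.range = ⊤ := hr.trans htop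
    exact ⟨(MulEquiv.ofBijective f ⟨hf, MonoidHom.range_eq_top.1 hr'⟩).symm⟩
  · right; right
    exact hHe ph y1 y2 E c htop

theorem q_check : allb 1024 (fun n => imp (inP (msk' PQ) (Fus8.tc n))
    (Nat.ble (Fus8.kf n) 4 && imp (Nat.beq (Fus8.kf n) 1) (Nat.beq (Fus8.tc n) Code.zc))) = true := by
  decide +kernel

/-- a conjugate of `z` in `O_2(C_G(z))` gives one of the two fusions. -/
theorem exists_fusion [Finite G] (h : Hyp z ι) (g : G) (hq : g * z * g⁻¹ ∈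
    Subgroup.centralizer ({z} : Set G)) (hq2 : (⟨g * z * g⁻¹, hq⟩ :
      Subgroup.centralizer ({z} : Set G)) ∈ Cfsg.pCore 2 (Subgroup.centralizer ({z} : Set G)))
    (hne : g * z * g⁻¹ ≠ z) : IsConj z (ι x03C) ∨ IsConj z (ι x14C) := by
  obtain ⟨u, hu, hug⟩ := (h.mem_pCore_iff _).1 hq2
  have hug' : ι u = g * z * g⁻¹ := hug
  obtain ⟨ph, E, hl⟩ := SideHyp.exists_ph h
  have hzz : z * z = 1 := by
    rw [← Acts.ph_z E]
    exact Acts.p1_4 (ph := ph) ▸ (Acts.hom1 E).sq (by norm_num)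
  have huT : ι u ∈ im ι T0 := mem_im.2 ⟨u, QQ_le_T0 hu, rfl⟩
  obtain ⟨n, hn, hne'⟩ := (mem_T0_codes hl _).1 huT
  have hcd : cd (u : L5) = Fus8.tc n := by
    apply E.inj (CentB.C_cd u.2) (Fus8.tc_C hn)
    rw [hl u, hne']
  have huu : ι u * ι u = 1 := by
    rw [hug']
    calc g * z * g⁻¹ * (g * z * g⁻¹) = g * (z * z) * g⁻¹ := by group
      _ = 1 := by rw [hzz]; group
  have hph1 : ph e1 = 1 := Acts.ph_e1 E
  have h6 : mu (Fus8.tc n) (Fus8.tc n) = e1 := by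
    apply E.inj ((Fus8.tc_C hn).mul (Fus8.tc_C hn)) C_e1
    rw [E.mul (Fus8.tc_C hn) (Fus8.tc_C hn), hne', huu, hph1]
  have h7 : n ≠ 0 := by
    rintro rfl
    have e0 : Fus8.tc 0 = e1 := by decide +kernel
    rw [e0, hph1, hug'] at hne'
    apply z_ne_one h
    calc z = g⁻¹ * (g * z * g⁻¹) * g := by group
      _ = 1 := by rw [← hne']; group
  have h8 := Fus8.kf_ne_zero hn h7 h6
  have hck := imp_mp (of_allb q_check n hn) (by
    have := hu
    rw [QQ, mem_pat, Pat_iff_inP, hcd] at this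
    exact this)
  rw [Bool.and_eq_true] at hck
  obtain ⟨hk4, hk1⟩ := hck
  have hk4' : Fus8.kf n ≤ 4 := Nat.le_of_ble_eq_true hk4
  have hcj : IsConj z (ι u) := isConj_iff.2 ⟨g, hug'.symm⟩
  have hHC := (Fus8.HC_rp E (H := ⊤) (fun _ _ => Subgroup.mem_top _) hn h8).isConj
  rw [hne'] at hHC
  have hcj2 := hcj.trans hHC
  have e03 : ι x03C = ph (X 0 3) := by
    rw [← hl x03C]
    show ph (cd (x 0 3)) = _
    rw [cd_x]; rfl
  have e14 : ι x14C = ph (X 1 4) := by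
    rw [← hl x14C]
    show ph (cd (x 1 4)) = _
    rw [cd_x]; rfl
  have hcases : Fus8.kf n = 1 ∨ Fus8.kf n = 2 ∨ Fus8.kf n = 3 ∨ Fus8.kf n = 4 := by omega
  rcases hcases with hk | hk | hk | hk
  · exfalso
    apply hne
    have h9 := Nat.eq_of_beq_eq_true (imp_mp hk1 (by rw [hk]; rfl))
    rw [← hug', ← hne', h9, E.z_eq]
  · left
    rw [hk] at hcj2
    rw [e03, ← Fus8.rp1]; exact hcj2
  · right
    rw [hk] at hcj2
    rw [e14, ← Fus8.rp2]; exact hcj2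
  · exfalso
    apply NoBFin.not_isConj_bC h
    have e : ι bC = ph (mu (X 0 3) (X 1 4)) := by
      rw [← hl bC]
      show ph (cd (x 0 3 * x 1 4)) = _
      rw [cd_mul, cd_x, cd_x]
      rfl
    rw [hk] at hcj2
    rw [e, ← Fus8.rp3]; exact hcj2

end Cfsg.Agent.Held.Assembly
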