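import Cfsg.Agent.Held.ClosingSound

/-!
# The closing theorem, at the level of the Sylow 2-subgroup

`G` finite, `S` a Sylow 2-subgroup isomorphic to `UT(5, 2)` via `ph`, `z` the central involution of
`S`, `H` a subgroup containing `C_G(z)` such that the involutions of `S` fall in two `H`-classes:
those `H`-conjugate to `z` and those `H`-conjugate to `t = ph tt`, and `z`, `t` are not conjugate in
`G`. If the kernel search `main m v W` succeeds, then `H = G`, provided (case `He`)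
`C_G(⟨t, ph v⟩) ≤ H`.
-/

set_option autoImplicit false

namespace Cfsg.Agent.Held.Closing

open Cfsg.Agent.Lib.F2Mat Cfsg.Agent.Held.Code Cfsg.Agent.Held.ClosingCode Cfsg.Agent.Held.ClosingT
open Cfsg.Agent.Held.ClosingSound Cfsg.Agent.Held.MaxStab Cfsg.Agent.Held.MaxStabC
open Subgroup

variable {G : Type*} [Group G]

/-- Sylow's theorem inside a subgroup `D`. -/
theorem conj_into [Finite G] (D P R : Subgroup G) (hP : IsPGroup 2 P) (hPD : P ≤ D)
    (hmax : ∀ Q : Subgroup G, Q ≤ D → IsPGroup 2 Q → Nat.card Q ≤ Nat.card P)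
    (hR : IsPGroup 2 R) (hRD : R ≤ D) : ∃ d ∈ D, ∀ x ∈ R, d * x * d⁻¹ ∈ P := by
  have f2 : Fact (Nat.Prime 2) := ⟨Nat.prime_two⟩
  have hP' : IsPGroup 2 (P.subgroupOf D) :=
    hP.of_equiv (Subgroup.subgroupOfEquivOfLe hPD).symm
  have hR' : IsPGroup 2 (R.subgroupOf D) :=
    hR.of_equiv (Subgroup.subgroupOfEquivOfLe hRD).symm
  obtain ⟨Q, hQ⟩ := hP'.exists_le_sylow
  obtain ⟨Q2, hQ2⟩ := hR'.exists_le_sylow
  have hcard : Nat.card Q ≤ Nat.card (P.subgroupOf D) := by
    have h1 := hmax ((Q : Subgroup D).map D.subtype) (Subgroup.map_subtype_le _) (Q.2.map _)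
    have h2 : Nat.card ((Q : Subgroup D).map D.subtype) = Nat.card Q :=
      Subgroup.card_map_of_injective D.subtype_injective
    rw [h2] at h1
    rw [Nat.card_congr (Subgroup.subgroupOfEquivOfLe hPD).toEquiv]
    exact h1
  have hPQ : P.subgroupOf D = Q := Subgroup.eq_of_le_of_card_ge hQ hcard
  obtain ⟨d, hd⟩ := MulAction.exists_smul_eq D Q2 Q
  refine ⟨d, d.2, ?_⟩
  intro x hx
  have h1 : (⟨x, hRD hx⟩ : D) ∈ Q2 := hQ2 hx
  have h2 : d * ⟨x, hRD hx⟩ * d⁻¹ ∈ (d • Q2 : Sylow 2 D) :=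
    Subgroup.smul_mem_pointwise_smul _ (MulAut.conj d) _ h1
  rw [hd] at h2
  have h3 : d * ⟨x, hRD hx⟩ * d⁻¹ ∈ P.subgroupOf D := by rw [hPQ]; exact h2
  exact h3

/-- Conjugating a maximal stabiliser by an element of `H`. -/
theorem IsMaxStab_conj {H R : Subgroup G} {g : G} (h : IsMaxStab H R g) {w : G} (hw : w ∈ H) :
    IsMaxStab H (R.map (MulAut.conj w).toMonoidHom) (w * g) := by
  refine ⟨h.two.map _, ?_, ?_, ?_, ?_⟩
  · intro hg
    apply h.notMem
    have : g = w⁻¹ * (w * g) := by group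
    rw [this]; exact H.mul_mem (H.inv_mem hw) hg
  · rintro _ ⟨x, hx, rfl⟩
    exact H.mul_mem (H.mul_mem hw (h.le hx)) (H.inv_mem hw)
  · rintro _ ⟨x, hx, rfl⟩
    show (w * g)⁻¹ * (w * x * w⁻¹) * (w * g) ∈ H
    have : (w * g)⁻¹ * (w * x * w⁻¹) * (w * g) = g⁻¹ * x * g := by group
    rw [this]; exact h.le' x hx
  · intro R' g' h1 h2 h3 h4 h5
    have h6 := h.max (R'.map (MulAut.conj w⁻¹).toMonoidHom) (w⁻¹ * g') (h1.map _) (by
      intro hg
      apply h2
      have : g' = w * (w⁻¹ * g') := by group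
      rw [this]; exact H.mul_mem hw hg) (by
      rintro _ ⟨x, hx, rfl⟩
      exact H.mul_mem (H.mul_mem (H.inv_mem hw) (h3 hx)) (H.inv_mem (H.inv_mem hw))) (by
      rintro _ ⟨x, hx, rfl⟩
      show (w⁻¹ * g')⁻¹ * (w⁻¹ * x * w⁻¹⁻¹) * (w⁻¹ * g') ∈ H
      have : (w⁻¹ * g')⁻¹ * (w⁻¹ * x * w⁻¹⁻¹) * (w⁻¹ * g') = g'⁻¹ * x * g' := by group
      rw [this]; exact h4 x hx) (by
      intro x hx
      refine ⟨w * x * w⁻¹, h5 ⟨x, hx, rfl⟩, ?_⟩
      show w⁻¹ * (w * x * w⁻¹) * w⁻¹⁻¹ = x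
      group)
    apply le_antisymm _ h5
    intro x hx
    have h7 : w⁻¹ * x * w⁻¹⁻¹ ∈ R := by rw [← h6]; exact ⟨x, hx, rfl⟩
    exact ⟨w⁻¹ * x * w⁻¹⁻¹, h7, by
      show w * (w⁻¹ * x * w⁻¹⁻¹) * w⁻¹ = x
      group⟩

/-- a nontrivial 2-group has a central involution -/
theorem exists_central_involution [Finite G] {R : Subgroup G} (hR : IsPGroup 2 R) (hne : R ≠ ⊥) :
    ∃ t ∈ R, t ≠ 1 ∧ t * t = 1 ∧ ∀ y ∈ R, y * t = t * y := by
  have f2 : Fact (Nat.Prime 2) := ⟨Nat.prime_two⟩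
  have hnt : Nontrivial R := (Subgroup.nontrivial_iff_ne_bot R).2 hne
  have hc : Nontrivial (Subgroup.center R) := hR.center_nontrivial
  have hcp : IsPGroup 2 (Subgroup.center R) := hR.to_subgroup _
  obtain ⟨n, hn⟩ := (IsPGroup.iff_card (p := 2)).1 hcp
  have hn0 : n ≠ 0 := by
    rintro rfl
    rw [pow_zero] at hn
    have := (Nat.card_eq_one_iff_unique.1 hn).1
    exact not_subsingleton _ this
  have hdvd : 2 ∣ Nat.card (Subgroup.center R) := by
    rw [hn]; exact dvd_pow_self 2 hn0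
  obtain ⟨t, ht⟩ := exists_prime_orderOf_dvd_card' 2 hdvd
  refine ⟨((t : R) : G), (t : R).2, ?_, ?_, ?_⟩
  · intro h1
    have h2 : t = 1 := Subtype.ext (Subtype.ext h1)
    rw [h2, orderOf_one] at ht
    exact absurd ht (by norm_num)
  · have h1 : t ^ 2 = 1 := by rw [← ht]; exact pow_orderOf_eq_one t
    have h2 : ((t : R) : G) ^ 2 = 1 := by
      have := congrArg (fun x : Subgroup.center R => ((x : R) : G)) h1
      exact this
    rwa [pow_two] at h2
  · intro y hy
    have h1 := Subgroup.mem_center_iff.1 t.2 ⟨y, hy⟩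
    exact congrArg Subtype.val h1

/-- counting -/
def countb (p : ℕ → Bool) (N : ℕ) : ℕ := Nat.rec 0 (fun i ih => cond (p i) (Nat.succ ih) ih) N

theorem countb_eq (p : ℕ → Bool) (N : ℕ) :
    countb p N = ((Finset.range N).filter (fun i => p i = true)).card := by
  induction N with
  | zero => rfl
  | succ N ih =>
    have h : countb p (N + 1) = cond (p N) (Nat.succ (countb p N)) (countb p N) := rfl
    rw [h, Finset.range_add_one, Finset.filter_insert]
    rcases hp : p N with _ | _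
    · simp [ih]
    · rw [cond_true, if_pos rfl, Finset.card_insert_of_notMem (by simp), ih]

/-- number of codes commuting with `tt` -/
theorem comm_tt_count : countb (fun i => force (dec i) fun c => Nat.beq (mt c tt) (mt tt c)) 1024 =
    512 := by decide +kernel

/-- centre of `T` -/
theorem centre_all : allb 1024 (fun i => force (dec i) fun c =>
    cond (ab (Nat.beq (mt c (X 0 1)) (mt (X 0 1) c)) (ab (Nat.beq (mt c (X 1 2)) (mt (X 1 2) c))
      (ab (Nat.beq (mt c (X 2 3)) (mt (X 2 3) c)) (Nat.beq (mt c (X 3 4)) (mt (X 3 4) c)))))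
      (memb c [e1, zc]) true) = true := by decide +kernel

theorem eq_of_beq {a b : ℕ} (h : Nat.beq a b = true) : a = b := Nat.eq_of_beq_eq_true h

theorem centre_code {c : ℕ} (hc : TC c) (h : ∀ d, TC d → mu c d = mu d c) : c = e1 ∨ c = zc := by
  obtain ⟨i, hi, rfl⟩ := hc
  have h1 := of_allb centre_all i hi
  rw [force_eq] at h1
  have hX : ∀ a b : ℕ, TC (X a b) → Nat.beq (mt (dec i) (X a b)) (mt (X a b) (dec i)) = true := by
    intro a b hab
    rw [mt_eq, mt_eq, h _ hab]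
    exact Nat.beq_refl _
  rw [hX 0 1 (TC_of_isT (by decide +kernel)), hX 1 2 (TC_of_isT (by decide +kernel)),
    hX 2 3 (TC_of_isT (by decide +kernel)), hX 3 4 (TC_of_isT (by decide +kernel))] at h1
  have h2 : memb (dec i) [e1, zc] = true := h1
  rw [memb_iff] at h2
  rcases List.mem_pair.1 h2 with h3 | h3
  · exact Or.inl h3
  · exact Or.inr h3

theorem dec_inj {i j : ℕ} (hi : i < 1024) (hj : j < 1024) (h : dec i = dec j) : i = j := by
  rw [dec_eq, dec_eq] at h
  omega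

/-- cardinality of a subgroup given by a finite set of indices -/
theorem card_of_indices {z : G} {ph : ℕ → G} {S : Subgroup G} (td : TD z ph S) (K : Subgroup G)
    (F : Finset ℕ) (hF : ∀ i ∈ F, i < 1024) (hK : ∀ g : G, g ∈ K ↔ ∃ i ∈ F, ph (dec i) = g) :
    Nat.card K = F.card := by
  classical
  have h1 : (K : Set G) = ((F.image fun i => ph (dec i) : Finset G) : Set G) := by
    ext g
    simp only [SetLike.mem_coe, Finset.coe_image, Set.mem_image, Finset.mem_coe]
    exact hK g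
  have h2 : Nat.card K = (K : Set G).ncard := rfl
  rw [h2, h1, Set.ncard_coe_finset, Finset.card_image_of_injOn]
  intro i hi j hj hij
  have hi' := hF i hi
  have hj' := hF j hj
  exact dec_inj hi' hj' (td.inj ⟨i, hi', rfl⟩ ⟨j, hj', rfl⟩ hij)

theorem card_S {z : G} {ph : ℕ → G} {S : Subgroup G} (td : TD z ph S) : Nat.card S = 1024 := by
  rw [card_of_indices td S (Finset.range 1024) (fun i hi => Finset.mem_range.1 hi) ?_,
    Finset.card_range]
  intro g
  rw [td.surj]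
  constructor
  · rintro ⟨a, ⟨i, hi, rfl⟩, h⟩; exact ⟨i, Finset.mem_range.2 hi, h⟩
  · rintro ⟨i, hi, h⟩; exact ⟨dec i, ⟨i, Finset.mem_range.1 hi, rfl⟩, h⟩

theorem comm_iff {z : G} {ph : ℕ → G} {S : Subgroup G} (td : TD z ph S) {a b : ℕ} (ha : TC a)
    (hb : TC b) : ph a * ph b = ph b * ph a ↔ mu a b = mu b a := by
  rw [← td.mul ha hb, ← td.mul hb ha]
  constructor
  · exact td.inj (ha.mul hb) (hb.mul ha)
  · intro h; rw [h]

theorem card_St {z : G} {ph : ℕ → G} {S : Subgroup G} (td : TD z ph S) :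
    Nat.card (S ⊓ centralizer {ph tt} : Subgroup G) = 512 := by
  rw [card_of_indices td _ ((Finset.range 1024).filter fun i =>
    (force (dec i) fun c => Nat.beq (mt c tt) (mt tt c)) = true)
    (fun i hi => Finset.mem_range.1 (Finset.mem_filter.1 hi).1) ?_, ← countb_eq, comm_tt_count]
  intro g
  rw [Subgroup.mem_inf, td.surj, Subgroup.mem_centralizer_singleton_iff]
  constructor
  · rintro ⟨⟨a, ⟨i, hi, rfl⟩, rfl⟩, h⟩
    refine ⟨i, Finset.mem_filter.2 ⟨Finset.mem_range.2 hi, ?_⟩, rfl⟩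
    rw [force_eq, mt_eq, mt_eq]
    have h1 : mu (dec i) tt = mu tt (dec i) := by
      first
        | exact (comm_iff td ⟨i, hi, rfl⟩ TC_tt).1 h
        | exact (comm_iff td ⟨i, hi, rfl⟩ TC_tt).1 h.symm
    rw [h1]; exact Nat.beq_refl _
  · rintro ⟨i, hi, rfl⟩
    obtain ⟨hi1, hi2⟩ := Finset.mem_filter.1 hi
    rw [force_eq, mt_eq, mt_eq] at hi2
    have hi3 := Finset.mem_range.1 hi1
    have h1 := (comm_iff td ⟨i, hi3, rfl⟩ TC_tt).2 (eq_of_beq hi2)
    refine ⟨⟨dec i, ⟨i, hi3, rfl⟩, rfl⟩, ?_⟩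
    first
      | exact h1
      | exact h1.symm

/-- Hypotheses of the closing theorem. `m` is the mask of the `z`-type elements of `T`. -/
structure Hyp (z : G) (ph : ℕ → G) (S : Sylow 2 G) (H : Subgroup G) (m : ℕ) : Prop where
  td : TD z ph (S : Subgroup G)
  cent : ∀ g : G, g * z = z * g → g ∈ H
  zt_fus : ∀ a, TC a → zt m a = true → ∃ h ∈ H, h * z * h⁻¹ = ph a
  inv : ∀ a, TC a → zt m a = true → mu a a = e1 ∧ a ≠ e1
  tt_fus : ∀ a, TC a → mu a a = e1 → a ≠ e1 → zt m a = false → ∃ h ∈ H, h * ph tt * h⁻¹ = ph a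
  tt_not : ¬ IsConj z (ph tt)

namespace Hyp

variable {z : G} {ph : ℕ → G} {S : Sylow 2 G} {H : Subgroup G} {m : ℕ}

theorem S_cent (h : Hyp z ph S H m) : ∀ x ∈ (S : Subgroup G), x * z = z * x := by
  intro x hx
  obtain ⟨a, ha, rfl⟩ := (h.td.surj x).1 hx
  rw [← h.td.z_eq]
  exact (comm_iff h.td ha TC_zc).2 (zc_comm ha)

theorem S_le (h : Hyp z ph S H m) : (S : Subgroup G) ≤ H := fun x hx => h.cent x (h.S_cent x hx)

theorem zz (h : Hyp z ph S H m) : z * z = 1 := by
  rw [← h.td.z_eq, ← h.td.mul TC_zc TC_zc]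
  have : mu zc zc = e1 := by decide +kernel
  rw [this]; exact h.td.one

theorem z_ne (h : Hyp z ph S H m) : z ≠ 1 := by
  rw [← h.td.z_eq, ← h.td.one]
  intro h1
  exact absurd (h.td.inj TC_zc TC_e1 h1) (by decide)

theorem zt_iff (h : Hyp z ph S H m) {a : ℕ} (ha : TC a) : zt m a = true ↔ IsConj z (ph a) := by
  constructor
  · intro h1
    obtain ⟨g, -, hg⟩ := h.zt_fus a ha h1
    exact isConj_iff.2 ⟨g, hg⟩
  · intro h1
    rcases h2 : zt m a with _ | _
    · exfalso
      obtain ⟨g, hg⟩ := isConj_iff.1 h1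
      have haa : mu a a = e1 := by
        apply h.td.inj (ha.mul ha) TC_e1
        rw [h.td.mul ha ha, h.td.one, ← hg]
        have : g * z * g⁻¹ * (g * z * g⁻¹) = g * (z * z) * g⁻¹ := by group
        rw [this, h.zz]; group
      have ha1 : a ≠ e1 := by
        rintro rfl
        apply h.z_ne
        rw [h.td.one] at hg
        have : z = g⁻¹ * (g * z * g⁻¹) * g := by group
        rw [this, hg]; group
      obtain ⟨k, -, hk⟩ := h.tt_fus a ha haa ha1 h2
      exact h.tt_not (h1.trans (isConj_iff.2 ⟨k, hk⟩).symm)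
    · rfl

/-- 2-subgroups of `H` are conjugate into `S` by elements of `H`. -/
theorem conj_S [Finite G] (h : Hyp z ph S H m) (P : Subgroup G) (hP : IsPGroup 2 P) (hPH : P ≤ H) :
    ∃ d ∈ H, ∀ x ∈ P, d * x * d⁻¹ ∈ (S : Subgroup G) := by
  have f2 : Fact (Nat.Prime 2) := ⟨Nat.prime_two⟩
  apply conj_into H S P S.2 h.S_le _ hP hPH
  intro Q _ hQ
  obtain ⟨Q', hQ'⟩ := hQ.exists_le_sylow
  have h1 : Nat.card Q ≤ Nat.card Q' := Subgroup.card_le_of_le hQ'
  rwa [Sylow.card_eq_multiplicity, ← Sylow.card_eq_multiplicity S] at h1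

theorem fix [Finite G] (h : Hyp z ph S H m) : ∀ k : G, k * z * k⁻¹ ∈ H → k ∈ H := by
  intro k hk
  have hord : IsPGroup 2 (zpowers (k * z * k⁻¹)) := by
    intro x
    obtain ⟨n, hn⟩ := Subgroup.mem_zpowers_iff.1 x.2
    refine ⟨1, Subtype.ext ?_⟩
    show (x : G) ^ 2 ^ 1 = 1
    rw [← hn, pow_one, ← zpow_natCast, ← zpow_mul, mul_comm, zpow_mul]
    have : (k * z * k⁻¹) ^ ((2 : ℕ) : ℤ) = 1 := by
      rw [zpow_natCast, pow_two]
      have h1 : k * z * k⁻¹ * (k * z * k⁻¹) = k * (z * z) * k⁻¹ := by group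
      rw [h1, h.zz]; group
    rw [this, one_zpow]
  obtain ⟨d, hd, hdc⟩ := h.conj_S _ hord (by rw [zpowers_le]; exact hk)
  have h1 := hdc _ (mem_zpowers _)
  obtain ⟨a, ha, hae⟩ := (h.td.surj _).1 h1
  have h2 : IsConj z (ph a) := by
    rw [hae]
    exact isConj_iff.2 ⟨d * k, by group⟩
  obtain ⟨e, he, hee⟩ := h.zt_fus a ha ((h.zt_iff ha).2 h2)
  have h3 : (e⁻¹ * d * k) * z = z * (e⁻¹ * d * k) := by
    have h4 : e * z * e⁻¹ = d * (k * z * k⁻¹) * d⁻¹ := by rw [hee, hae]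
    calc (e⁻¹ * d * k) * z = e⁻¹ * (d * (k * z * k⁻¹) * d⁻¹) * (d * k) := by group
      _ = e⁻¹ * (e * z * e⁻¹) * (d * k) := by rw [h4]
      _ = z * (e⁻¹ * d * k) := by group
  have h4 := h.cent _ h3
  have : k = d⁻¹ * (e * (e⁻¹ * d * k)) := by group
  rw [this]
  exact H.mul_mem (H.inv_mem hd) (H.mul_mem he h4)

theorem not_conj_of_stab [Finite G] (h : Hyp z ph S H m) {R : Subgroup G} {g : G}
    (hR : IsMaxStab H R g) {x : G} (hx : x ∈ R) : ¬ IsConj z x := by
  intro hc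
  obtain ⟨k, hk⟩ := isConj_iff.1 hc
  have h1 := h.fix k (by rw [hk]; exact hR.le hx)
  have h2 := h.fix (g⁻¹ * k) (by
    have : g⁻¹ * k * z * (g⁻¹ * k)⁻¹ = g⁻¹ * (k * z * k⁻¹) * g := by group
    rw [this, hk]; exact hR.le' x hx)
  apply hR.notMem
  have : g = k * (g⁻¹ * k)⁻¹ := by group
  rw [this]
  exact H.mul_mem h1 (H.inv_mem h2)

/-- a 2-subgroup centralising `ph tt` has order at most `512` -/
theorem card_le_512 [Finite G] (h : Hyp z ph S H m) (Q : Subgroup G) (hQ : IsPGroup 2 Q)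
    (hQc : Q ≤ centralizer {ph tt}) : Nat.card Q ≤ 512 := by
  have f2 : Fact (Nat.Prime 2) := ⟨Nat.prime_two⟩
  by_contra hcon
  push Not at hcon
  obtain ⟨Q', hQ'⟩ := hQ.exists_le_sylow
  have hcS : Nat.card Q' = 1024 := by
    rw [Sylow.card_eq_multiplicity, ← Sylow.card_eq_multiplicity S]
    exact card_S h.td
  obtain ⟨n, hn⟩ := (IsPGroup.iff_card (p := 2)).1 hQ
  have hdvd : Nat.card Q ∣ Nat.card Q' := Subgroup.card_dvd_of_le hQ'
  have hQeq : Nat.card Q = 1024 := by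
    rw [hcS] at hdvd
    rw [hn] at hdvd hcon ⊢
    have h3 : 9 < n := by
      by_contra hc
      have : 2 ^ n ≤ 2 ^ 9 := Nat.pow_le_pow_right (by norm_num) (by omega)
      omega
    have h4 : n ≤ 10 := by
      have h5 := Nat.le_of_dvd (by norm_num) hdvd
      by_contra hc
      have : 2 ^ 11 ≤ 2 ^ n := Nat.pow_le_pow_right (by norm_num) (by omega)
      omega
    have h5 : n = 10 := by omega
    rw [h5]; norm_num
  have hQQ : Q = Q' := Subgroup.eq_of_le_of_card_ge hQ' (by rw [hQeq, hcS])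
  -- `ph tt` lies in `Q'`
  have htS : ph tt ∈ (S : Subgroup G) := (h.td.surj _).2 ⟨tt, TC_tt, rfl⟩
  have httm : ph tt * ph tt = 1 := by
    rw [← h.td.mul TC_tt TC_tt]
    have : mu tt tt = e1 := by decide +kernel
    rw [this]; exact h.td.one
  have hpz : IsPGroup 2 (zpowers (ph tt)) := S.2.to_le (by rw [zpowers_le]; exact htS)
  have hnorm : zpowers (ph tt) ≤ normalizer (Q : Set G) := by
    rw [zpowers_le, Subgroup.mem_normalizer_iff]
    have hcm : ∀ y ∈ Q, ph tt * y * (ph tt)⁻¹ = y := by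
      intro y hy
      have h1 := Subgroup.mem_centralizer_singleton_iff.1 (hQc hy)
      have h2 : ph tt * y = y * ph tt := by
        first
          | exact h1
          | exact h1.symm
      rw [h2]; group
    intro y
    constructor
    · intro hy
      show ph tt * y * (ph tt)⁻¹ ∈ Q
      rw [hcm y hy]; exact hy
    · intro hy
      have hy' : ph tt * y * (ph tt)⁻¹ ∈ Q := hy
      have h3 := hcm _ hy'
      have h4 : ph tt * y * (ph tt)⁻¹ = y := by
        have h5 := congrArg (fun w => (ph tt)⁻¹ * w * ph tt) h3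
        calc ph tt * y * (ph tt)⁻¹ =
              (ph tt)⁻¹ * (ph tt * (ph tt * y * (ph tt)⁻¹) * (ph tt)⁻¹) * ph tt := by group
          _ = (ph tt)⁻¹ * (ph tt * y * (ph tt)⁻¹) * ph tt := h5
          _ = y := by group
      rw [h4] at hy'; exact hy'
  have hbig : IsPGroup 2 (Q ⊔ zpowers (ph tt) : Subgroup G) := hQ.to_sup_of_normal_left' hpz hnorm
  have h6 : Q ⊔ zpowers (ph tt) = Q' := by
    rw [hQQ] at hbig ⊢
    exact Q'.3 hbig le_sup_left
  have htQ : ph tt ∈ Q := by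
    rw [hQQ, ← h6]; exact (le_sup_right : zpowers (ph tt) ≤ _) (mem_zpowers _)
  -- conjugate `Q'` to `S`
  obtain ⟨d, hd⟩ := MulAction.exists_smul_eq G Q' S
  have hmem : ∀ y, y ∈ Q → d * y * d⁻¹ ∈ (S : Subgroup G) := by
    intro y hy
    have h7 : y ∈ (Q' : Subgroup G) := by rw [← hQQ]; exact hy
    have h8 : d * y * d⁻¹ ∈ (d • Q' : Sylow 2 G) :=
      Subgroup.smul_mem_pointwise_smul _ (MulAut.conj d) _ h7
    rw [hd] at h8
    exact h8
  have hmem' : ∀ y, y ∈ (S : Subgroup G) → d⁻¹ * y * d ∈ Q := by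
    intro y hy
    have h7 : y ∈ (d • Q' : Sylow 2 G) := by rw [hd]; exact hy
    obtain ⟨w, hw, hwe⟩ := h7
    have h8 : d * w * d⁻¹ = y := hwe
    rw [← h8, hQQ]
    have : d⁻¹ * (d * w * d⁻¹) * d = w := by group
    rw [this]; exact hw
  obtain ⟨a, ha, hae⟩ := (h.td.surj _).1 (hmem _ htQ)
  have hcen : ∀ b, TC b → mu a b = mu b a := by
    intro b hb
    rw [← comm_iff h.td ha hb, hae]
    have h9 : ph b ∈ (S : Subgroup G) := (h.td.surj _).2 ⟨b, hb, rfl⟩
    have h10 := Subgroup.mem_centralizer_singleton_iff.1 (hQc (hmem' _ h9))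
    have h11 : ph tt * (d⁻¹ * ph b * d) = (d⁻¹ * ph b * d) * ph tt := by
      first
        | exact h10
        | exact h10.symm
    calc d * ph tt * d⁻¹ * ph b = d * (ph tt * (d⁻¹ * ph b * d)) * d⁻¹ := by group
      _ = d * ((d⁻¹ * ph b * d) * ph tt) * d⁻¹ := by rw [h11]
      _ = ph b * (d * ph tt * d⁻¹) := by group
  rcases centre_code ha hcen with rfl | rfl
  · rw [h.td.one] at hae
    have h12 : ph tt = 1 := by
      calc ph tt = d⁻¹ * (d * ph tt * d⁻¹) * d := by group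
        _ = 1 := by rw [← hae]; group
    rw [← h.td.one] at h12
    exact absurd (h.td.inj TC_tt TC_e1 h12) (by decide)
  · rw [h.td.z_eq] at hae
    exact h.tt_not (isConj_iff.2 ⟨d⁻¹, by rw [hae]; group⟩)

end Hyp

/-- **The closing theorem.** -/
theorem closing [Finite G] {z : G} {ph : ℕ → G} {S : Sylow 2 G} {H : Subgroup G} {m v : ℕ}
    {W : List ℕ} (h : Hyp z ph S H m) (hm : main m v W = true) (hW : alll isT W = true)
    (hv : TC v → ∀ g : G, g * ph tt = ph tt * g → g * ph v = ph v * g → g ∈ H) : H = ⊤ := by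
  by_contra hne
  have f2 : Fact (Nat.Prime 2) := ⟨Nat.prime_two⟩
  have td := h.td
  obtain ⟨R, g, hR⟩ := exists_isMaxStab H hne
  -- replace `R` by a suitable conjugate
  obtain ⟨R, g, hR, hRS, hRt⟩ : ∃ (R : Subgroup G) (g : G), IsMaxStab H R g ∧
      R ≤ (S : Subgroup G) ∧ (R = ⊥ ∨ (ph tt ∈ R ∧ ∀ y ∈ R, y * ph tt = ph tt * y)) := by
    by_cases hbot : R = ⊥
    · exact ⟨R, g, hR, by rw [hbot]; exact bot_le, Or.inl hbot⟩
    obtain ⟨t, htR, ht1, htt, htc⟩ := exists_central_involution hR.two hbot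
    obtain ⟨d, hd, hdS⟩ := h.conj_S R hR.two hR.le
    obtain ⟨a, ha, hae⟩ := (td.surj _).1 (hdS t htR)
    have haa : mu a a = e1 := by
      apply td.inj (ha.mul ha) TC_e1
      rw [td.mul ha ha, td.one, hae]
      have : d * t * d⁻¹ * (d * t * d⁻¹) = d * (t * t) * d⁻¹ := by group
      rw [this, htt]; group
    have ha1 : a ≠ e1 := by
      rintro rfl
      rw [td.one] at hae
      apply ht1
      calc t = d⁻¹ * (d * t * d⁻¹) * d := by group
        _ = 1 := by rw [← hae]; group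
    have hza : zt m a = false := by
      rcases hz : zt m a with _ | _
      · rfl
      · exfalso
        have h1 := (h.zt_iff ha).1 hz
        rw [hae] at h1
        exact h.not_conj_of_stab hR htR (isConj_congr_conj.1 h1)
    obtain ⟨e, he, hee⟩ := h.tt_fus a ha haa ha1 hza
    -- c conjugates t to `ph tt`
    have hcH : e⁻¹ * d ∈ H := H.mul_mem (H.inv_mem he) hd
    have hct : (e⁻¹ * d) * t * (e⁻¹ * d)⁻¹ = ph tt := by
      calc (e⁻¹ * d) * t * (e⁻¹ * d)⁻¹ = e⁻¹ * (d * t * d⁻¹) * e := by group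
        _ = e⁻¹ * (e * ph tt * e⁻¹) * e := by rw [← hae, hee]
        _ = ph tt := by group
    set c := e⁻¹ * d with hc
    have hR1 := IsMaxStab_conj hR hcH
    set R1 := R.map (MulAut.conj c).toMonoidHom with hR1def
    have hR1c : R1 ≤ H ⊓ centralizer {ph tt} := by
      rintro _ ⟨x, hx, rfl⟩
      refine Subgroup.mem_inf.2 ⟨hR1.le ⟨x, hx, rfl⟩, Subgroup.mem_centralizer_singleton_iff.2 ?_⟩
      show c * x * c⁻¹ * ph tt = ph tt * (c * x * c⁻¹)
      rw [← hct]
      have h2 := htc x hx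
      calc c * x * c⁻¹ * (c * t * c⁻¹) = c * (x * t) * c⁻¹ := by group
        _ = c * (t * x) * c⁻¹ := by rw [h2]
        _ = _ := by group
    obtain ⟨f, hf, hfc⟩ := conj_into (H ⊓ centralizer {ph tt})
      ((S : Subgroup G) ⊓ centralizer {ph tt}) R1 (S.2.to_le inf_le_left)
      (inf_le_inf_right _ h.S_le) (by
        intro Q hQ hQ2
        rw [card_St td]
        exact h.card_le_512 Q hQ2 (hQ.trans inf_le_right)) hR1.two hR1c
    have hR2 := IsMaxStab_conj hR1 hf.1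
    refine ⟨_, _, hR2, ?_, Or.inr ⟨?_, ?_⟩⟩
    · rintro _ ⟨x, hx, rfl⟩
      exact (hfc x hx).1
    · refine ⟨ph tt, ?_, ?_⟩
      · exact ⟨t, htR, hct⟩
      · have h3 := Subgroup.mem_centralizer_singleton_iff.1 hf.2
        show f * ph tt * f⁻¹ = ph tt
        have h4 : f * ph tt = ph tt * f := by
          first
            | exact h3
            | exact h3.symm
        rw [h4]; group
    · rintro _ ⟨x, hx, rfl⟩
      have h3 := Subgroup.mem_centralizer_singleton_iff.1 (hfc x hx).2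
      first
        | exact h3
        | exact h3.symm
  have hzH : z ∈ H := h.cent z rfl
  have hcen : ∀ P : Subgroup G, IsPGroup 2 P → P ≤ H →
      ∃ k ∈ H, ∀ x ∈ P, x * (k * z * k⁻¹) = k * z * k⁻¹ * x := by
    intro P hP hPH
    obtain ⟨d, hd, hdS⟩ := h.conj_S P hP hPH
    refine ⟨d⁻¹, H.inv_mem hd, ?_⟩
    intro x hx
    have h1 := h.S_cent _ (hdS x hx)
    calc x * (d⁻¹ * z * d⁻¹⁻¹) = d⁻¹ * ((d * x * d⁻¹) * z) * d := by group
      _ = d⁻¹ * (z * (d * x * d⁻¹)) * d := by rw [h1]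
      _ = d⁻¹ * z * d⁻¹⁻¹ * x := by group
  have hzR : ∀ x ∈ R, x * z = z * x := fun x hx => h.S_cent x (hRS hx)
  have st : Star z ph (S : Subgroup G) R m := by
    refine ⟨td, hRS, fun a ha => h.zt_iff ha, ?_, ?_⟩
    · intro x _ hxR hxN hxx
      exact exists_conj_centralizer hR z h.z_ne h.zz hzH h.fix hcen hzR x hxN hxR hxx
    · intro a ha haR
      rcases hz : zt m a with _ | _
      · rfl
      · exact absurd ((h.zt_iff ha).1 hz) (h.not_conj_of_stab hR haR)
  obtain ⟨hvT, hvR⟩ := main_sound hm hW st hR.two hRt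
  have hcH := hv hvT
  -- a conjugate of `z` centralising `R` outside `H`
  obtain ⟨k, hk, hkc⟩ := hcen (R.map (MulAut.conj g⁻¹).toMonoidHom) (hR.two.map _) (by
    rintro _ ⟨y, hy, rfl⟩
    show g⁻¹ * y * g⁻¹⁻¹ ∈ H
    rw [inv_inv]; exact hR.le' y hy)
  have hbc : ∀ y ∈ R, (g * (k * z * k⁻¹) * g⁻¹) * y = y * (g * (k * z * k⁻¹) * g⁻¹) := by
    intro y hy
    have h1 := hkc (g⁻¹ * y * g⁻¹⁻¹) ⟨y, hy, rfl⟩
    rw [inv_inv] at h1
    calc (g * (k * z * k⁻¹) * g⁻¹) * y = g * ((k * z * k⁻¹) * (g⁻¹ * y * g)) * g⁻¹ := by group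
      _ = g * ((g⁻¹ * y * g) * (k * z * k⁻¹)) * g⁻¹ := by rw [h1]
      _ = _ := by group
  have hbR : (g * (k * z * k⁻¹) * g⁻¹) ∈ H := by
    rcases hRt with hbot | ⟨htR, -⟩
    · exfalso
      rw [hbot, Subgroup.mem_bot, ← td.one] at hvR
      have hv1 := td.inj hvT TC_e1 hvR
      -- then `R = 1` is impossible: use the search again
      have hm' := hm
      unfold main at hm'
      rw [ab_iff] at hm'
      refine good_false st ?_ hW hm'.1
      constructor
      · intro a ha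
        rw [List.mem_singleton] at ha
        rw [ha]; exact TC_e1
      · intro x
        rw [hbot, Subgroup.mem_bot]
        constructor
        · rintro rfl; exact ⟨e1, List.mem_singleton.2 rfl, td.one⟩
        · rintro ⟨a, ha, rfl⟩
          rw [List.mem_singleton] at ha
          rw [ha]; exact td.one
    · exact hcH _ (hbc _ htR) (hbc _ hvR)
  apply hR.notMem
  have h2 := h.fix (g * k) (by
    have : (g * k) * z * (g * k)⁻¹ = g * (k * z * k⁻¹) * g⁻¹ := by group
    rw [this]; exact hbR)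
  have : g = (g * k) * k⁻¹ := by group
  rw [this]; exact H.mul_mem h2 (H.inv_mem hk)

end Cfsg.Agent.Held.Closing
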