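import Mathlib
import Cfsg.Prelude.Def_Involutions
import Cfsg.Agent.TwoFusion.StronglyEmbeddedBasic
import Cfsg.Agent.S1225
import Cfsg.Agent.Held.CentV
import Cfsg.Agent.Held.Closing

/-!
# The closing argument for the Held group, modulo a normal subgroup of odd order

`centralizer_le_odd`: version of `CentV.centralizer_le` for a subgroup `M` with a normal subgroup
of odd order modulo which the configuration is known.
-/

set_option autoImplicit false

namespace Cfsg.Agent.Held.CentVOdd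

open Cfsg Subgroup Cfsg.Agent.Held.CentV

/-- The configuration of `L3(4)`: no subgroup of odd order is transitive on the involutions. -/
theorem no_odd_transitive {Y : Type*} [Group Y] [Finite Y] (D : Subgroup Y)
    (hDodd : Odd (Nat.card D)) (z : Y) (hz : orderOf z = 2)
    (htr : ∀ v : Y, orderOf v = 2 → ∃ d ∈ D, d * z * d⁻¹ = v) (J V X : Subgroup Y)
    (hJ : Nat.card J = 64) (hV : Nat.card V = 16) (hX : Nat.card X = 4)
    (hXV : X ≤ V) (hVJ : V ≤ J) (hzX : z ∈ X) (hVe : ∀ v ∈ V, v * v = 1)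
    (hC : ∀ x, x * z = z * x → x ∈ J)
    (hVw : ∀ g, (∀ v ∈ V, g * v * g⁻¹ ∈ J) → g ∈ normalizer (V : Set Y))
    (hXc : ∀ g, (∀ j ∈ J, g * j * g⁻¹ ∈ J) → g ∈ normalizer (X : Set Y))
    (hJV : J ≤ normalizer (V : Set Y)) (y : Y) (hyV : y ∈ normalizer (V : Set Y))
    (hyJ : ∀ j ∈ J, ∃ a ∈ J, ∃ v ∈ V, j = a * y * a⁻¹ * y⁻¹ * v) : False := by
  have hVab : ∀ v ∈ V, ∀ w ∈ V, v * w = w * v := by
    intro v hv w hw
    have h1 := hVe (v * w) (V.mul_mem hv hw)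
    have h2 := hVe v hv
    have h3 := hVe w hw
    calc v * w = v * w * (v * w) * (v * w)⁻¹ := by group
      _ = (v * w)⁻¹ := by rw [h1, one_mul]
      _ = w⁻¹ * v⁻¹ := by group
      _ = w * v := by rw [inv_eq_of_mul_eq_one_left h2, inv_eq_of_mul_eq_one_left h3]
  have hzV : z ∈ V := hXV hzX
  have hz1 : z ≠ 1 := by
    intro h; rw [h, orderOf_one] at hz; exact absurd hz (by norm_num)
  have hJ2 : ∃ n, Nat.card J = 2 ^ n := ⟨6, by rw [hJ]; norm_num⟩
  have hV2 : ∃ n, Nat.card V = 2 ^ n := ⟨4, by rw [hV]; norm_num⟩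
  set D1 : Subgroup Y := D ⊓ normalizer (V : Set Y) with hD1
  have hDtrans : ∀ v ∈ V, v ≠ 1 → ∃ d ∈ D1, d * z * d⁻¹ = v := by
    intro v hv hv1
    have hv2 : orderOf v = 2 := orderOf_eq_prime (by rw [pow_two]; exact hVe v hv) hv1
    obtain ⟨d, hdD, hd⟩ := htr v hv2
    refine ⟨d, ⟨hdD, ?_⟩, hd⟩
    have h1 : d⁻¹ ∈ normalizer (V : Set Y) := by
      apply hVw
      intro w hw
      apply hC
      have h2 : w * (d * z * d⁻¹) = (d * z * d⁻¹) * w := by rw [hd]; exact hVab w hw v hv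
      calc d⁻¹ * w * d⁻¹⁻¹ * z = d⁻¹ * (w * (d * z * d⁻¹)) * d := by group
        _ = d⁻¹ * ((d * z * d⁻¹) * w) * d := by rw [h2]
        _ = z * (d⁻¹ * w * d⁻¹⁻¹) := by group
    have h2 := (normalizer (V : Set Y)).inv_mem h1
    rwa [inv_inv] at h2
  have hDJ : ∀ d ∈ D1, d ∈ J → d = 1 := fun d hd hdJ => eq_one_of_mem_of_mem hDodd hJ2 hd.1 hdJ
  have hnorm : ∀ g ∈ normalizer (V : Set Y), ∀ v, v ∈ V ↔ g * v * g⁻¹ ∈ V := fun g hg v =>
    Subgroup.mem_normalizer_iff.1 hg v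
  -- the order of D1
  have hD1card : Nat.card D1 = 15 := by
    have h15 : Nat.card {v : V // v ≠ 1} = 15 := by
      have h1 : Nat.card {v : V // v ≠ 1} = Nat.card V - 1 := by
        have : Fintype V := Fintype.ofFinite V
        classical
        rw [Nat.card_eq_fintype_card, Nat.card_eq_fintype_card, Fintype.card_subtype_compl,
          Fintype.card_subtype_eq]
      rw [h1, hV]
    rw [← h15]
    refine Nat.card_congr (Equiv.ofBijective (fun d : D1 => (⟨⟨(d : Y) * z * (d : Y)⁻¹,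
      (hnorm d d.2.2 z).1 hzV⟩, ?_⟩ : {v : V // v ≠ 1})) ⟨?_, ?_⟩)
    · intro h
      have h1 : (d : Y) * z * (d : Y)⁻¹ = 1 := congrArg Subtype.val h
      apply hz1
      calc z = (d : Y)⁻¹ * ((d : Y) * z * (d : Y)⁻¹) * d := by group
        _ = 1 := by rw [h1]; group
    · intro d d' h
      have h1 : (d : Y) * z * (d : Y)⁻¹ = (d' : Y) * z * (d' : Y)⁻¹ :=
        congrArg (fun w => ((w.1 : V) : Y)) h
      have h2 : (d' : Y)⁻¹ * d ∈ J := by
        apply hC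
        calc (d' : Y)⁻¹ * d * z = (d' : Y)⁻¹ * ((d : Y) * z * (d : Y)⁻¹) * d := by group
          _ = (d' : Y)⁻¹ * ((d' : Y) * z * (d' : Y)⁻¹) * d := by rw [h1]
          _ = z * ((d' : Y)⁻¹ * d) := by group
      have h3 := hDJ _ (D1.mul_mem (D1.inv_mem d'.2) d.2) h2
      apply Subtype.ext
      exact (inv_mul_eq_one.1 h3).symm
    · rintro ⟨⟨v, hv⟩, hv1⟩
      obtain ⟨d, hd, hdv⟩ := hDtrans v hv (fun h => hv1 (Subtype.ext h))
      exact ⟨⟨d, hd⟩, Subtype.ext (Subtype.ext hdv)⟩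
  -- L = N(V)
  set L : Subgroup Y := normalizer (V : Set Y) with hLdef
  have hJL : J ≤ L := hJV
  have hD1L : D1 ≤ L := fun d hd => hd.2
  have hVL : V ≤ L := hVJ.trans hJL
  have hLcard : Nat.card L = 15 * 64 := by
    rw [← hD1card, ← hJ, ← Nat.card_prod]
    symm
    refine Nat.card_congr (Equiv.ofBijective (fun p : D1 × J => (⟨(p.1 : Y) * p.2,
      L.mul_mem (hD1L p.1.2) (hJL p.2.2)⟩ : L)) ⟨?_, ?_⟩)
    · rintro ⟨⟨d, hd⟩, ⟨j, hj⟩⟩ ⟨⟨d', hd'⟩, ⟨j', hj'⟩⟩ h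
      have h1 : d * j = d' * j' := congrArg Subtype.val h
      have h2 : d'⁻¹ * d = j' * j⁻¹ := by
        calc d'⁻¹ * d = d'⁻¹ * (d * j) * j⁻¹ := by group
          _ = d'⁻¹ * (d' * j') * j⁻¹ := by rw [h1]
          _ = j' * j⁻¹ := by group
      have h3 := hDJ _ (D1.mul_mem (D1.inv_mem hd') hd) (by
        rw [h2]; exact J.mul_mem hj' (J.inv_mem hj))
      have h4 : d = d' := (inv_mul_eq_one.1 h3).symm
      subst h4
      have h5 : j = j' := mul_left_cancel h1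
      subst h5
      rfl
    · rintro ⟨l, hl⟩
      have h1 : l * z * l⁻¹ ∈ V := (hnorm l hl z).1 hzV
      have h2 : l * z * l⁻¹ ≠ 1 := by
        intro h
        apply hz1
        calc z = l⁻¹ * (l * z * l⁻¹) * l := by group
          _ = 1 := by rw [h]; group
      obtain ⟨d, hd, hdv⟩ := hDtrans _ h1 h2
      have h3 : d⁻¹ * l ∈ J := by
        apply hC
        calc d⁻¹ * l * z = d⁻¹ * (l * z * l⁻¹) * l := by group
          _ = d⁻¹ * (d * z * d⁻¹) * l := by rw [hdv]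
          _ = z * (d⁻¹ * l) := by group
      exact ⟨⟨⟨d, hd⟩, ⟨_, h3⟩⟩, Subtype.ext (by show d * (d⁻¹ * l) = l; group)⟩
  -- the quotient L / V
  have hVn : (V.subgroupOf L).Normal :=
    (Subgroup.normal_subgroupOf_iff_le_normalizer hVL).2 le_rfl
  let q : L →* L ⧸ V.subgroupOf L := QuotientGroup.mk' _
  have hqcard : Nat.card (L ⧸ V.subgroupOf L) = 60 := by
    have h1 := Subgroup.card_eq_card_quotient_mul_card_subgroup (V.subgroupOf L)
    have h2 : Nat.card (V.subgroupOf L) = 16 := by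
      rw [← hV]; exact Nat.card_congr (Subgroup.subgroupOfEquivOfLe hVL).toEquiv
    rw [h2, hLcard] at h1
    omega
  have hqD : Nat.card ((D1.subgroupOf L).map q) = 15 := by
    rw [← hD1card]
    have h1 : Function.Injective (fun d : D1 => (⟨q ⟨d, hD1L d.2⟩, ⟨⟨d, hD1L d.2⟩, d.2, rfl⟩⟩ :
        (D1.subgroupOf L).map q)) := by
      intro d d' h
      have h2 : q ⟨d, hD1L d.2⟩ = q ⟨d', hD1L d'.2⟩ := congrArg Subtype.val h
      have h3 : (⟨d, hD1L d.2⟩ : L)⁻¹ * ⟨d', hD1L d'.2⟩ ∈ V.subgroupOf L := QuotientGroup.eq.1 h2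
      have h4 : (d : Y)⁻¹ * d' ∈ V := h3
      have h5 := hDJ _ (D1.mul_mem (D1.inv_mem d.2) d'.2) (hVJ h4)
      exact Subtype.ext (inv_mul_eq_one.1 h5)
    refine (Nat.card_congr (Equiv.ofBijective _ ⟨h1, ?_⟩)).symm
    rintro ⟨_, ⟨l, hl, rfl⟩⟩
    exact ⟨⟨l, hl⟩, rfl⟩
  obtain ⟨δ', hδ', hδ5, hδc⟩ := exists_five _ hqD hqcard
  obtain ⟨⟨δ, hδL⟩, hδD, rfl⟩ := hδ'
  have hδD' : δ ∈ D1 := hδD
  have hδ5' : δ ^ 5 = 1 := by
    apply hDJ _ (D1.pow_mem hδD' 5)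
    apply hVJ
    have h1 : q ⟨δ, hδL⟩ ^ 5 = 1 := by rw [← hδ5]; exact pow_orderOf_eq_one _
    rw [← map_pow] at h1
    have h2 : (⟨δ, hδL⟩ : L) ^ 5 ∈ V.subgroupOf L := (QuotientGroup.eq_one_iff _).1 h1
    exact h2
  have hyL : y ∈ L := hyV
  have hδJ : ∀ j ∈ J, δ * j * δ⁻¹ ∈ J := by
    intro j hj
    obtain ⟨a, ha, v, hv, hjv⟩ := hyJ j hj
    have h1 := hδc (q ⟨a, hJL ha⟩) (q ⟨y, hyL⟩)
    have h2 : q (⟨δ, hδL⟩ * (⟨a, hJL ha⟩ * ⟨y, hyL⟩ * ⟨a, hJL ha⟩⁻¹ * ⟨y, hyL⟩⁻¹)) =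
        q ((⟨a, hJL ha⟩ * ⟨y, hyL⟩ * ⟨a, hJL ha⟩⁻¹ * ⟨y, hyL⟩⁻¹) * ⟨δ, hδL⟩) := by
      rw [map_mul, map_mul, map_mul, map_mul, map_mul, map_inv, map_inv]
      exact h1.eq
    have h3' : (⟨δ, hδL⟩ * (⟨a, hJL ha⟩ * ⟨y, hyL⟩ * ⟨a, hJL ha⟩⁻¹ * ⟨y, hyL⟩⁻¹) : L)⁻¹ *
        ((⟨a, hJL ha⟩ * ⟨y, hyL⟩ * ⟨a, hJL ha⟩⁻¹ * ⟨y, hyL⟩⁻¹) * ⟨δ, hδL⟩) ∈ V.subgroupOf L :=
      QuotientGroup.eq.1 h2
    have h3 : (δ * (a * y * a⁻¹ * y⁻¹))⁻¹ * ((a * y * a⁻¹ * y⁻¹) * δ) ∈ V := h3'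
    have h4 : δ ∈ normalizer (V : Set Y) := hδD'.2
    -- δ c δ⁻¹ ∈ V c
    set c := a * y * a⁻¹ * y⁻¹ with hc
    have h5 : c ∈ J := by
      have : c = j * v⁻¹ := by rw [hjv]; group
      rw [this]; exact J.mul_mem hj (J.inv_mem (hVJ hv))
    have h6 : δ * c * δ⁻¹ = c * ((δ) * ((δ * c)⁻¹ * (c * δ)) * δ⁻¹)⁻¹ := by group
    rw [hjv]
    have h7 : δ * (c * v) * δ⁻¹ = (δ * c * δ⁻¹) * (δ * v * δ⁻¹) := by group
    rw [h7, h6]
    refine J.mul_mem (J.mul_mem h5 (J.inv_mem (hVJ ?_))) (hVJ ((hnorm δ h4 v).1 hv))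
    exact (hnorm δ h4 _).1 h3
  have hδX := hXc δ hδJ
  -- δ commutes with X
  have hδz : δ * z = z * δ := by
    let φ : normalizer (X : Set Y) →* MulAut X := X.normalizerMonoidHom
    let ψ : MulAut X →* Equiv.Perm X := MulAut.toPerm X
    have h1 : (ψ (φ ⟨δ, hδX⟩)) ^ 5 = 1 := by
      rw [← map_pow, ← map_pow]
      have : (⟨δ, hδX⟩ : normalizer (X : Set Y)) ^ 5 = 1 := Subtype.ext hδ5'
      rw [this, map_one, map_one]
    have h2 : orderOf (ψ (φ ⟨δ, hδX⟩)) ∣ 5 := orderOf_dvd_of_pow_eq_one h1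
    have h3 : orderOf (ψ (φ ⟨δ, hδX⟩)) ∣ 24 := by
      have : Nat.card (Equiv.Perm X) = 24 := by
        rw [Nat.card_perm, hX]; rfl
      rw [← this]; exact orderOf_dvd_natCard _
    have h4 : orderOf (ψ (φ ⟨δ, hδX⟩)) = 1 :=
      Nat.eq_one_of_dvd_coprimes (by norm_num : Nat.Coprime 5 24) h2 h3
    rw [orderOf_eq_one_iff] at h4
    have h5 : (ψ (φ ⟨δ, hδX⟩)) ⟨z, hzX⟩ = ⟨z, hzX⟩ := by rw [h4]; rfl
    have h6 : δ * z * δ⁻¹ = z := congrArg Subtype.val h5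
    rw [mul_inv_eq_iff_eq_mul] at h6
    exact h6
  have h1 := hDJ δ hδD' (hC δ hδz)
  rw [show (⟨δ, hδL⟩ : L) = 1 from Subtype.ext h1, map_one, orderOf_one] at hδ5
  exact absurd hδ5 (by norm_num)


/-- The local configuration around a four-group `B` (as for `2^2.L3(4)` in the Held group). -/
structure Cfg {N : Type*} [Group N] (z : N) (B X V J : Subgroup N) (y : N) : Prop where
  hBX : B ≤ X
  hXV : X ≤ V
  hVJ : V ≤ J
  hB : Nat.card B = 4
  hX : Nat.card X = 16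
  hV : Nat.card V = 64
  hJ : Nat.card J = 256
  hVe : ∀ v ∈ V, v * v = 1
  hzX : z ∈ X
  hzB : z ∉ B
  hJB : J ≤ centralizer (B : Set N)
  hCzB : ∀ x, x * z = z * x → x ∈ centralizer (B : Set N) → x ∈ J
  hJz : ∀ x ∈ J, x * z = z * x
  hJS : ∀ x ∈ centralizer (B : Set N), (∀ j ∈ J, x * j * x⁻¹ ∈ J) → x * x ∈ J → x ∈ J
  hcoset : ∀ x ∈ J, x ∉ B → x * x ∈ B → ∃ b ∈ B, ∃ g, g * z * g⁻¹ = x * b
  hVw : ∀ g, (∀ v ∈ V, g * v * g⁻¹ ∈ J) → g ∈ normalizer (V : Set N)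
  hXc : ∀ g, (∀ j ∈ J, g * j * g⁻¹ ∈ J) → g ∈ normalizer (X : Set N)
  hJV : J ≤ normalizer (V : Set N)
  hyB : y ∈ centralizer (B : Set N)
  hyV : y ∈ normalizer (V : Set N)
  hyJ : ∀ j ∈ J, ∃ a ∈ J, ∃ v ∈ V, j = a * y * a⁻¹ * y⁻¹ * v

/-- In the configuration no subgroup `D ≥ B` of `C(B)` with `|D / B|` odd is transitive on the
involutions of `C(B) / B`. -/
theorem no_odd {G : Type*} [Group G] [Finite G] {z : G} {B X V J : Subgroup G} {y : G}
    (c : Cfg z B X V J y) (D : Subgroup G) (hBD : B ≤ D) (hDY : D ≤ centralizer (B : Set G))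
    (k : ℕ) (hk : Odd k) (hD : Nat.card D = 4 * k)
    (htr : ∀ v ∈ centralizer (B : Set G), v ∉ B → v * v ∈ B →
      ∃ d ∈ D, v⁻¹ * (d * z * d⁻¹) ∈ B) : False := by
  obtain ⟨hBX, hXV, hVJ, hB, hX, hV, hJ, hVe, hzX, hzB, hJB, hCzB, hJz, hJS, hcoset, hVw, hXc,
    hJV, hyB, hyV, hyJ⟩ := c
  have f2 : Fact (Nat.Prime 2) := ⟨Nat.prime_two⟩
  set Y : Subgroup G := centralizer (B : Set G) with hY
  have hBY : B ≤ Y := (hBX.trans (hXV.trans hVJ)).trans hJB
  have hJp : IsPGroup 2 J := IsPGroup.of_card (n := 8) (by rw [hJ]; norm_num)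
  have hcomm : ∀ y ∈ Y, ∀ b ∈ B, y * b = b * y := by
    intro y hy b hb
    exact (Subgroup.mem_centralizer_iff.1 hy b hb).symm
  -- the quotient
  let B' : Subgroup Y := B.subgroupOf Y
  have hB'n : B'.Normal := by
    constructor
    intro b hb g
    have h1 : (b : G) ∈ B := hb
    show (g : G) * b * (g : G)⁻¹ ∈ B
    rw [hcomm g g.2 b h1]
    simpa using h1
  let q : Y →* Y ⧸ B' := QuotientGroup.mk' B'
  have hqker : ∀ n : Y, q n = 1 ↔ (n : G) ∈ B := fun n => QuotientGroup.eq_one_iff n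
  -- images of subgroups between B and Y
  have himg : ∀ A : Subgroup G, B ≤ A → ∀ n : Y, q n ∈ (A.subgroupOf Y).map q ↔ (n : G) ∈ A := by
    intro A hBA n
    constructor
    · rintro ⟨m, hm, hmn⟩
      have h1 : (m : Y)⁻¹ * n ∈ B' := QuotientGroup.eq.1 hmn
      have h2 : ((m : Y) : G)⁻¹ * n ∈ B := h1
      have h3 : (n : G) = m * ((m : G)⁻¹ * n) := by group
      rw [h3]
      exact A.mul_mem hm (hBA h2)
    · intro hn
      exact ⟨n, hn, rfl⟩
  have hcard : ∀ A : Subgroup G, B ≤ A → A ≤ Y →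
      Nat.card ((A.subgroupOf Y).map q) * 4 = Nat.card A := by
    intro A hBA hAY
    have h1 := card_map_mk B' (A.subgroupOf Y) (by
      intro x hx
      exact hBA hx)
    have h2 : Nat.card B' = 4 := by
      rw [← hB]; exact Nat.card_congr (Subgroup.subgroupOfEquivOfLe hBY).toEquiv
    have h3 : Nat.card (A.subgroupOf Y) = Nat.card A :=
      Nat.card_congr (Subgroup.subgroupOfEquivOfLe hAY).toEquiv
    rw [h2, h3] at h1
    exact h1
  have hzY : z ∈ Y := hJB (hVJ (hXV hzX))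
  have hVY : V ≤ Y := hVJ.trans hJB
  have hXY : X ≤ Y := hXV.trans hVY
  have hBV : B ≤ V := hBX.trans hXV
  have hBJ : B ≤ J := hBV.trans hVJ
  have hzz : z * z = 1 := hVe z (hXV hzX)
  have hqz : orderOf (q ⟨z, hzY⟩) = 2 := by
    apply orderOf_eq_prime
    · rw [← map_pow, hqker]
      show z ^ 2 ∈ B
      rw [pow_two, hzz]; exact B.one_mem
    · rw [Ne, hqker]; exact hzB
  have hYmul : ∀ a ∈ Y, ∀ b ∈ Y, a * b * a⁻¹ ∈ Y := fun a ha b hb =>
    Y.mul_mem (Y.mul_mem ha hb) (Y.inv_mem ha)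
  have hnrm : ∀ A : Subgroup G, B ≤ A → ∀ n : Y, (n : G) ∈ normalizer (A : Set G) →
      q n ∈ normalizer (((A.subgroupOf Y).map q : Subgroup (Y ⧸ B')) : Set (Y ⧸ B')) := by
    intro A hBA n hn
    rw [Subgroup.mem_normalizer_iff]
    intro w
    obtain ⟨m, rfl⟩ := QuotientGroup.mk'_surjective B' w
    show q m ∈ (A.subgroupOf Y).map q ↔ q n * q m * (q n)⁻¹ ∈ (A.subgroupOf Y).map q
    rw [← map_inv, ← map_mul, ← map_mul, himg A hBA, himg A hBA]
    exact Subgroup.mem_normalizer_iff.1 hn m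
  refine no_odd_transitive ((D.subgroupOf Y).map q) ?_ (q ⟨z, hzY⟩) hqz ?_ ((J.subgroupOf Y).map q)
    ((V.subgroupOf Y).map q) ((X.subgroupOf Y).map q) ?_ ?_ ?_ ?_ ?_ ?_ ?_ ?_ ?_ ?_ ?_
    (q ⟨y, hyB⟩) ?_ ?_
  · have := hcard D hBD hDY
    rw [hD] at this
    have h2 : Nat.card ((D.subgroupOf Y).map q) = k := by omega
    rw [h2]; exact hk
  · intro v hv
    obtain ⟨n, rfl⟩ := QuotientGroup.mk'_surjective B' v
    have h1 : (n : G) ∉ B := by
      intro h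
      have h2 : q n = 1 := (hqker n).2 h
      have h3 : orderOf (q n) = 2 := hv
      rw [h2, orderOf_one] at h3
      exact absurd h3 (by norm_num)
    have h2 : (n : G) * n ∈ B := by
      have h3 : q (n * n) = 1 := by
        have h4 := pow_orderOf_eq_one (q n)
        have h5 : orderOf (q n) = 2 := hv
        rw [h5, pow_two] at h4
        rw [map_mul]; exact h4
      exact (hqker _).1 h3
    obtain ⟨d, hd, hdv⟩ := htr n n.2 h1 h2
    refine ⟨q ⟨d, hDY hd⟩, ⟨⟨d, hDY hd⟩, hd, rfl⟩, ?_⟩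
    have h3 : n⁻¹ * (⟨d, hDY hd⟩ * ⟨z, hzY⟩ * ⟨d, hDY hd⟩⁻¹) ∈ B' := hdv
    have h4 : q n = q (⟨d, hDY hd⟩ * ⟨z, hzY⟩ * ⟨d, hDY hd⟩⁻¹) := QuotientGroup.eq.2 h3
    show q ⟨d, hDY hd⟩ * q ⟨z, hzY⟩ * (q ⟨d, hDY hd⟩)⁻¹ = q n
    rw [h4, map_mul, map_mul, map_inv]
  · have := hcard J hBJ hJB
    rw [hJ] at this; omega
  · have := hcard V hBV hVY
    rw [hV] at this; omega
  · have := hcard X hBX hXY
    rw [hX] at this; omega
  · exact Subgroup.map_mono (fun x hx => hXV hx)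
  · exact Subgroup.map_mono (fun x hx => hVJ hx)
  · exact (himg X hBX ⟨z, hzY⟩).2 hzX
  · rintro _ ⟨v, hv, rfl⟩
    rw [← map_mul, hqker]
    show (v : G) * v ∈ B
    rw [hVe v hv]; exact B.one_mem
  · intro w hw
    obtain ⟨x, rfl⟩ := QuotientGroup.mk'_surjective B' w
    show q x ∈ (J.subgroupOf Y).map q
    rw [himg J hBJ]
    have h1 : q (x * ⟨z, hzY⟩) = q (⟨z, hzY⟩ * x) := by
      rw [map_mul, map_mul]; exact hw
    have h2 : (x * ⟨z, hzY⟩)⁻¹ * (⟨z, hzY⟩ * x) ∈ B' := QuotientGroup.eq.1 h1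
    have h3' : ((x : G) * z)⁻¹ * (z * x) ∈ B := h2
    obtain ⟨b, hb⟩ : ∃ b, b = ((x : G) * z)⁻¹ * (z * x) := ⟨_, rfl⟩
    have h3 : b ∈ B := by rw [hb]; exact h3'
    have h4 : z * x = x * z * b := by rw [hb]; group
    have hbb : b * b = 1 := hVe b (hBV h3)
    have hxb := hcomm x x.2 b h3
    have hzb := hcomm z hzY b h3
    -- x z x⁻¹ = z b
    have h5 : (x : G) * z * (x : G)⁻¹ = z * b := by
      rw [mul_inv_eq_iff_eq_mul]
      calc (x : G) * z = x * z * b * b := by rw [mul_assoc, hbb, mul_one]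
        _ = z * x * b := by rw [← h4]
        _ = z * b * x := by rw [mul_assoc, hxb, ← mul_assoc]
    have hcz : ∀ j : G, j * z = z * j → j ∈ Y → ((x : G) * j * (x : G)⁻¹) * z = z * (x * j * (x : G)⁻¹) := by
      intro j hj hjY
      have h6 : ((x : G) * j * (x : G)⁻¹) * (z * b) = (z * b) * (x * j * (x : G)⁻¹) := by
        rw [← h5]
        calc (x : G) * j * (x : G)⁻¹ * (x * z * (x : G)⁻¹) = x * (j * z) * (x : G)⁻¹ := by group
          _ = x * (z * j) * (x : G)⁻¹ := by rw [hj]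
          _ = _ := by group
      have h7 := hcomm _ (hYmul x x.2 j hjY) b h3
      have h8 : ((x : G) * j * (x : G)⁻¹) * z * b = z * (x * j * (x : G)⁻¹) * b := by
        calc ((x : G) * j * (x : G)⁻¹) * z * b = ((x : G) * j * (x : G)⁻¹) * (z * b) := by group
          _ = (z * b) * (x * j * (x : G)⁻¹) := h6
          _ = z * (b * (x * j * (x : G)⁻¹)) := by group
          _ = z * ((x * j * (x : G)⁻¹) * b) := by rw [h7]
          _ = _ := by group
      exact mul_right_cancel h8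
    apply hJS x x.2
    · intro j hj
      exact hCzB _ (hcz j (hJz j hj) (hJB hj)) (hYmul x x.2 j (hJB hj))
    · apply hCzB _ _ (Y.mul_mem x.2 x.2)
      have h6 : (x : G) * x * z * ((x : G) * x)⁻¹ = z := by
        calc (x : G) * x * z * ((x : G) * x)⁻¹ = x * (x * z * (x : G)⁻¹) * (x : G)⁻¹ := by group
          _ = x * (z * b) * (x : G)⁻¹ := by rw [h5]
          _ = (x * z * (x : G)⁻¹) * (x * b * (x : G)⁻¹) := by group
          _ = z * b * b := by rw [h5, hxb]; group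
          _ = z := by rw [mul_assoc, hbb, mul_one]
      rw [mul_inv_eq_iff_eq_mul] at h6
      exact h6
  · intro w hw
    obtain ⟨g, rfl⟩ := QuotientGroup.mk'_surjective B' w
    apply hnrm V hBV
    apply hVw
    intro v hv
    have h1 := hw (q ⟨v, hVY hv⟩) ((himg V hBV ⟨v, hVY hv⟩).2 hv)
    have h2 : q (g * ⟨v, hVY hv⟩ * g⁻¹) ∈ (J.subgroupOf Y).map q := by
      rw [map_mul, map_mul, map_inv]; exact h1
    exact (himg J hBJ _).1 h2
  · intro w hw
    obtain ⟨g, rfl⟩ := QuotientGroup.mk'_surjective B' w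
    apply hnrm X hBX
    apply hXc
    intro v hv
    have h1 := hw (q ⟨v, hJB hv⟩) ((himg J hBJ ⟨v, hJB hv⟩).2 hv)
    have h2 : q (g * ⟨v, hJB hv⟩ * g⁻¹) ∈ (J.subgroupOf Y).map q := by
      rw [map_mul, map_mul, map_inv]; exact h1
    exact (himg J hBJ _).1 h2
  · rintro _ ⟨j, hj, rfl⟩
    exact hnrm V hBV j (hJV hj)
  · exact hnrm V hBV ⟨y, hyB⟩ hyV
  · rintro _ ⟨j, hj, rfl⟩
    obtain ⟨a, ha, v, hv, hjv⟩ := hyJ j hj
    refine ⟨q ⟨a, hJB ha⟩, (himg J hBJ ⟨a, hJB ha⟩).2 ha, q ⟨v, hVY hv⟩,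
      (himg V hBV ⟨v, hVY hv⟩).2 hv, ?_⟩
    rw [← map_mul, ← map_inv, ← map_mul, ← map_inv, ← map_mul, ← map_mul]
    congr 1
    exact Subtype.ext hjv


/-! ### Lifting through a homomorphism with kernel of odd order -/

section Lift

variable {M N : Type*} [Group M] [Group N] [Finite M] (π : M →* N)

theorem eq_one_of_two {k : M} {n : ℕ} (hker : Odd (Nat.card π.ker)) (hk : π k = 1)
    (h : k ^ 2 ^ n = 1) : k = 1 := by
  have h1 : orderOf k ∣ Nat.card π.ker := π.ker.orderOf_dvd_natCard hk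
  have h2 : orderOf k ∣ 2 ^ n := orderOf_dvd_of_pow_eq_one h
  rw [← orderOf_eq_one_iff]
  exact Nat.eq_one_of_dvd_coprimes (Nat.Coprime.pow_right _ (Nat.coprime_two_right.2 hker)) h1 h2

theorem inj_of_odd (hker : Odd (Nat.card π.ker)) {P : Subgroup M} (hP : IsPGroup 2 P) {x y : M}
    (hx : x ∈ P) (hy : y ∈ P) (h : π x = π y) : x = y := by
  obtain ⟨n, hn⟩ := hP ⟨x⁻¹ * y, P.mul_mem (P.inv_mem hx) hy⟩
  have h1 : (x⁻¹ * y) ^ 2 ^ n = 1 := congrArg Subtype.val hn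
  have h2 : π (x⁻¹ * y) = 1 := by rw [map_mul, map_inv, h, inv_mul_cancel]
  exact inv_mul_eq_one.1 (eq_one_of_two π hker h2 h1)

theorem card_map_of_odd (hker : Odd (Nat.card π.ker)) {P : Subgroup M} (hP : IsPGroup 2 P) :
    Nat.card (P.map π) = Nat.card P := by
  symm
  refine Nat.card_congr (Equiv.ofBijective (fun p : P => (⟨π p, ⟨p, p.2, rfl⟩⟩ : P.map π)) ⟨?_, ?_⟩)
  · intro p q h
    exact Subtype.ext (inj_of_odd π hker hP p.2 q.2 (congrArg Subtype.val h))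
  · rintro ⟨_, ⟨p, hp, rfl⟩⟩
    exact ⟨⟨p, hp⟩, rfl⟩

/-- Sylow's theorem in `P ker π`. -/
theorem conj_le (hker : Odd (Nat.card π.ker)) {P Q : Subgroup M} (hP : IsPGroup 2 P)
    (hQ : IsPGroup 2 Q) (h : ∀ q ∈ Q, π q ∈ P.map π) :
    ∃ k : M, π k = 1 ∧ ∀ q ∈ Q, k * q * k⁻¹ ∈ P := by
  obtain ⟨d, hd, hdQ⟩ := Closing.conj_into ((P.map π).comap π) P Q hP
    (fun p hp => ⟨p, hp, rfl⟩) (by
      intro R hR hR2
      rw [← card_map_of_odd π hker hR2, ← card_map_of_odd π hker hP]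
      have : Finite (P.map π) := Set.Finite.subset (Set.toFinite (Set.range π)) (by
        rintro _ ⟨p, -, rfl⟩
        exact ⟨p, rfl⟩)
      apply Subgroup.card_le_of_le
      rintro _ ⟨r, hr, rfl⟩
      exact hR hr) hQ h
  obtain ⟨p, hp, hpd⟩ := hd
  refine ⟨p⁻¹ * d, by rw [map_mul, map_inv, hpd, inv_mul_cancel], ?_⟩
  intro q hq
  have h1 := P.mul_mem (P.mul_mem (P.inv_mem hp) (hdQ q hq)) hp
  have h2 : p⁻¹ * d * q * (p⁻¹ * d)⁻¹ = p⁻¹ * (d * q * d⁻¹) * p := by group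
  rw [h2]; exact h1

/-- Elements centralising the image of a `2`-group `B0 ≤ P` lift to its centraliser. -/
theorem exists_lift_centralizer (hπ : Function.Surjective π) (hker : Odd (Nat.card π.ker))
    {P : Subgroup M} (hP : IsPGroup 2 P) (B0 : Subgroup M) (hB : B0 ≤ P) {v : N}
    (hv : ∀ b ∈ B0, v * π b = π b * v) :
    ∃ m : M, π m = v ∧ ∀ b ∈ B0, m * b = b * m := by
  obtain ⟨m0, rfl⟩ := hπ v
  have hB2 : IsPGroup 2 B0 := hP.to_le hB
  obtain ⟨k, hk, hkQ⟩ := conj_le π hker hP (Q := B0.map (MulAut.conj m0).toMonoidHom)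
    (hB2.map _) (by
      rintro _ ⟨b, hb, rfl⟩
      refine ⟨b, hB hb, ?_⟩
      show π b = π (m0 * b * m0⁻¹)
      rw [map_mul, map_mul, map_inv, hv b hb, mul_assoc, mul_inv_cancel, mul_one])
  refine ⟨k * m0, by rw [map_mul, hk, one_mul], ?_⟩
  intro b hb
  have h1 := hkQ (m0 * b * m0⁻¹) ⟨b, hb, rfl⟩
  have h2 : k * (m0 * b * m0⁻¹) * k⁻¹ = b := by
    apply inj_of_odd π hker hP h1 (hB hb)
    rw [map_mul, map_mul, map_inv, hk, map_mul, map_mul, map_inv, hv b hb]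
    group
  calc k * m0 * b = (k * (m0 * b * m0⁻¹) * k⁻¹) * (k * m0) := by group
    _ = b * (k * m0) := by rw [h2]

/-- Two involutions with the same image are conjugate under the kernel. -/
theorem conj_involutions (hker : Odd (Nat.card π.ker)) {a b : M} (ha : a * a = 1) (hb : b * b = 1)
    (h : π a = π b) : ∃ k : M, π k = 1 ∧ k * a * k⁻¹ = b := by
  have hz : ∀ c : M, c * c = 1 → IsPGroup 2 (zpowers c) := by
    intro c hc x
    obtain ⟨n, hn⟩ := Subgroup.mem_zpowers_iff.1 x.2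
    refine ⟨1, Subtype.ext ?_⟩
    show (x : M) ^ 2 ^ 1 = 1
    rw [← hn, pow_one, ← zpow_natCast, ← zpow_mul, mul_comm, zpow_mul]
    have : c ^ ((2 : ℕ) : ℤ) = 1 := by rw [zpow_natCast, pow_two, hc]
    rw [this, one_zpow]
  obtain ⟨k, hk, hkQ⟩ := conj_le π hker (P := zpowers b) (Q := zpowers a) (hz b hb) (hz a ha) (by
    intro q hq
    obtain ⟨n, rfl⟩ := Subgroup.mem_zpowers_iff.1 hq
    exact ⟨b ^ n, zpow_mem (mem_zpowers b) n, by rw [map_zpow, map_zpow, h]⟩)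
  refine ⟨k, hk, ?_⟩
  apply inj_of_odd π hker (hz b hb) (hkQ a (mem_zpowers a)) (mem_zpowers b)
  rw [map_mul, map_mul, map_inv, hk, h]; group

end Lift

section Main

variable {G : Type*} [Group G] [Finite G] {M : Subgroup G} {N : Type*} [Group N] [Finite N]
  (π : M →* N)

/-- **`C_G(B) ≤ M`** when the configuration holds modulo a normal subgroup of odd order of `M`. -/
theorem centralizer_le_odd (hπ : Function.Surjective π) (hker : Odd (Nat.card π.ker))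
    (z : M) (hA : ∀ g : G, g * z * g⁻¹ ∈ M → g ∈ M) {B X V J : Subgroup N} {y : N}
    (c : Cfg (π z) B X V J y) (P : Subgroup M) (hP : IsPGroup 2 P) (hPJ : P.map π = J)
    (hzP : z ∈ P) (g : G) (hg : ∀ b ∈ P, π b ∈ B → g * (b : G) = (b : G) * g) : g ∈ M := by
  have f2 : Fact (Nat.Prime 2) := ⟨Nat.prime_two⟩
  by_contra hgM
  have hBV : B ≤ V := c.hBX.trans c.hXV
  have hBJ : B ≤ J := hBV.trans c.hVJ
  set B0 : Subgroup M := P ⊓ B.comap π with hB0
  have hB0P : B0 ≤ P := inf_le_left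
  have hB0mem : ∀ b : M, b ∈ P → π b ∈ B → b ∈ B0 := fun b h1 h2 => ⟨h1, h2⟩
  have hB02 : IsPGroup 2 B0 := hP.to_le hB0P
  have hB0map : B0.map π = B := by
    apply le_antisymm
    · rintro _ ⟨b, hb, rfl⟩
      exact hb.2
    · intro b hb
      have h1 : b ∈ P.map π := by rw [hPJ]; exact hBJ hb
      obtain ⟨p, hp, rfl⟩ := h1
      exact ⟨p, ⟨hp, hb⟩, rfl⟩
  have hB0card : Nat.card B0 = 4 := by
    rw [← card_map_of_odd π hker hB02, hB0map, c.hB]
  have hBB : ∀ b ∈ B0, b * b = 1 := by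
    intro b hb
    apply inj_of_odd π hker hB02 (B0.mul_mem hb hb) B0.one_mem
    rw [map_mul, map_one]
    exact c.hVe _ (hBV hb.2)
  have hzz : z * z = 1 := by
    apply inj_of_odd π hker hP (P.mul_mem hzP hzP) P.one_mem
    rw [map_mul, map_one]
    exact c.hVe _ (c.hXV c.hzX)
  have hzB0 : z ∉ B0 := fun h => c.hzB h.2
  set BG : Subgroup G := B0.map M.subtype with hBG
  set Y : Subgroup G := centralizer (BG : Set G) with hY
  have hcomm : ∀ n ∈ Y, ∀ b ∈ BG, n * b = b * n := by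
    intro n hn b hb
    exact (Subgroup.mem_centralizer_iff.1 hn b hb).symm
  have hYmem : ∀ n : G, (∀ b ∈ B0, n * (b : G) = (b : G) * n) → n ∈ Y := by
    intro n hn
    rw [hY, Subgroup.mem_centralizer_iff]
    rintro _ ⟨b, hb, rfl⟩
    exact (hn b hb).symm
  have hgY : g ∈ Y := hYmem g (fun b hb => hg b hb.1 hb.2)
  set YM : Subgroup M := centralizer (B0 : Set M) with hYM
  have hYYM : ∀ m : M, (m : G) ∈ Y ↔ m ∈ YM := by
    intro m
    constructor
    · intro h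
      rw [hYM, Subgroup.mem_centralizer_iff]
      intro b hb
      exact Subtype.ext (hcomm m h b ⟨b, hb, rfl⟩).symm
    · intro h
      apply hYmem
      intro b hb
      exact (congrArg Subtype.val (Subgroup.mem_centralizer_iff.1 h b hb)).symm
  have hYMc : ∀ m ∈ YM, π m ∈ centralizer (B : Set N) := by
    intro m hm
    rw [Subgroup.mem_centralizer_iff]
    intro b hb
    have hb' : b ∈ B0.map π := by rw [hB0map]; exact hb
    obtain ⟨b0, hb0, rfl⟩ := hb'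
    rw [← map_mul, ← map_mul, Subgroup.mem_centralizer_iff.1 hm b0 hb0]
  have hYMc' : ∀ m ∈ YM, ∀ b ∈ B0, m * b = b * m := fun m hm b hb =>
    (Subgroup.mem_centralizer_iff.1 hm b hb).symm
  have hPY : P ≤ YM := by
    intro p hp
    rw [hYM, Subgroup.mem_centralizer_iff]
    intro b hb
    apply inj_of_odd π hker hP (P.mul_mem (hB0P hb) hp) (P.mul_mem hp (hB0P hb))
    rw [map_mul, map_mul]
    have h1 : π p ∈ J := by rw [← hPJ]; exact ⟨p, hp, rfl⟩
    exact Subgroup.mem_centralizer_iff.1 (c.hJB h1) _ hb.2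
  have hB0Y : B0 ≤ YM := hB0P.trans hPY
  -- `P` contains conjugates of all 2-elements of `YM`
  have step0 : ∀ x ∈ YM, ∀ k : ℕ, x ^ 2 ^ k = 1 → ∃ h ∈ YM, h * x * h⁻¹ ∈ P := by
    intro x hx k hk
    obtain ⟨h, hh⟩ := exists_conj_mem (M := YM) (P.subgroupOf YM)
      (hP.comap_of_injective YM.subtype YM.subtype_injective) (by
        intro x h1 h2
        have e1 : ∀ j ∈ P, (x : M) * j * (x : M)⁻¹ ∈ P := fun j hj => h1 ⟨j, hPY hj⟩ hj
        have e2 : (x : M) * x ∈ P := h2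
        show (x : M) ∈ P
        have e3 : π x ∈ J := by
          apply c.hJS _ (hYMc x x.2)
          · intro j hj
            rw [← hPJ] at hj ⊢
            obtain ⟨p, hp, rfl⟩ := hj
            exact ⟨_, e1 p hp, by rw [map_mul, map_mul, map_inv]⟩
          · rw [← hPJ]
            exact ⟨_, e2, by rw [map_mul]⟩
        rw [← hPJ] at e3
        obtain ⟨p, hp, hpx⟩ := e3
        obtain ⟨w, hw⟩ : ∃ w : M, w = p⁻¹ * x := ⟨_, rfl⟩
        have hw1 : π w = 1 := by rw [hw, map_mul, map_inv, hpx, inv_mul_cancel]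
        have hxw : (x : M) = p * w := by rw [hw]; group
        have hcw : w * p = p * w := by
          have e4 : (x : M) * p * (x : M)⁻¹ = p * p * p⁻¹ := by
            apply inj_of_odd π hker hP (e1 p hp) (P.mul_mem (P.mul_mem hp hp) (P.inv_mem hp))
            rw [map_mul, map_mul, map_mul, map_mul, map_inv, map_inv, hpx]
          rw [hxw] at e4
          have e5 : w * p * w⁻¹ = p := by
            calc w * p * w⁻¹ = p⁻¹ * (p * w * p * (p * w)⁻¹) * p := by group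
              _ = p⁻¹ * (p * p * p⁻¹) * p := by rw [e4]
              _ = p := by group
          rw [mul_inv_eq_iff_eq_mul] at e5
          exact e5
        have hww : w * w ∈ P := by
          have e4 : w * w = (p * p)⁻¹ * ((x : M) * x) := by
            rw [hxw]
            calc w * w = (p * p)⁻¹ * (p * (p * w) * w) := by group
              _ = (p * p)⁻¹ * (p * (w * p) * w) := by rw [hcw]
              _ = _ := by group
          rw [e4]
          exact P.mul_mem (P.inv_mem (P.mul_mem hp hp)) e2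
        have hww1 : w * w = 1 := by
          apply inj_of_odd π hker hP hww P.one_mem
          rw [map_mul, hw1, map_one, one_mul]
        have hw0 : w = 1 := eq_one_of_two π (n := 1) hker hw1 (by rw [pow_one, pow_two, hww1])
        rw [hxw, hw0, mul_one]; exact hp)
      ⟨x, hx⟩ k (Subtype.ext hk)
    exact ⟨h, h.2, hh⟩
  have step0' : ∀ x ∈ YM, x * x ∈ B0 → ∃ h ∈ YM, h * x * h⁻¹ ∈ P := by
    intro x hx hxx
    refine step0 x hx 2 ?_
    calc x ^ 2 ^ 2 = (x * x) * (x * x) := by norm_num [pow_succ, mul_assoc]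
      _ = 1 := hBB _ hxx
  -- squares of conjugates
  have hconj : ∀ h ∈ YM, ∀ b ∈ B0, h * b * h⁻¹ = b := by
    intro h hh b hb
    rw [hYMc' h hh b hb]; group
  have step1 : ∀ n ∈ Y, ∀ x : M, x ∈ YM → x ∉ B0 → x * x ∈ B0 → n⁻¹ * (x : G) * n ∈ M → n ∈ M := by
    intro n hn x hxY hxB hxx hnx
    obtain ⟨h, hhY, hhx⟩ := step0' x hxY hxx
    have h1 : h * x * h⁻¹ ∉ B0 := by
      intro h1
      apply hxB
      have h2 : x = h * x * h⁻¹ := by
        have h3 := hconj h⁻¹ (YM.inv_mem hhY) _ h1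
        calc x = h⁻¹ * (h * x * h⁻¹) * h⁻¹⁻¹ := by group
          _ = h * x * h⁻¹ := h3
      rw [h2]; exact h1
    have h2 : (h * x * h⁻¹) * (h * x * h⁻¹) ∈ B0 := by
      have : (h * x * h⁻¹) * (h * x * h⁻¹) = x * x := by
        calc (h * x * h⁻¹) * (h * x * h⁻¹) = h * (x * x) * h⁻¹ := by group
          _ = x * x := hconj h hhY _ hxx
      rw [this]; exact hxx
    have h3 : π (h * x * h⁻¹) ∈ J := by rw [← hPJ]; exact ⟨_, hhx, rfl⟩
    obtain ⟨b', hb', g', hg'⟩ := c.hcoset _ h3 (fun h4 => h1 ⟨hhx, h4⟩) (by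
      rw [← map_mul]; exact h2.2)
    have hb'' : b' ∈ B0.map π := by rw [hB0map]; exact hb'
    obtain ⟨b, hb, rfl⟩ := hb''
    obtain ⟨g0, rfl⟩ := hπ g'
    have h4 : π (g0 * z * g0⁻¹) = π (h * x * h⁻¹ * b) := by
      rw [map_mul π (h * x * h⁻¹) b, ← hg', map_mul, map_mul, map_inv]
    have h5 : (h * x * h⁻¹ * b) * (h * x * h⁻¹ * b) = 1 := by
      apply inj_of_odd π hker hP (P.mul_mem (P.mul_mem hhx (hB0P hb)) (P.mul_mem hhx (hB0P hb)))
        P.one_mem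
      rw [map_mul, ← h4, ← map_mul]
      congr 1
      calc g0 * z * g0⁻¹ * (g0 * z * g0⁻¹) = g0 * (z * z) * g0⁻¹ := by group
        _ = 1 := by rw [hzz]; group
    obtain ⟨k, hk, hka⟩ := conj_involutions π hker (a := g0 * z * g0⁻¹) (by
      calc g0 * z * g0⁻¹ * (g0 * z * g0⁻¹) = g0 * (z * z) * g0⁻¹ := by group
        _ = 1 := by rw [hzz]; group) h5 h4
    obtain ⟨m, hm⟩ : ∃ m : M, m = k * g0 := ⟨_, rfl⟩
    have h6 : m * z * m⁻¹ = h * x * h⁻¹ * b := by rw [← hka, hm]; group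
    have h6' : (m : G) * z * (m : G)⁻¹ = h * x * (h : G)⁻¹ * b := congrArg Subtype.val h6
    have hbG : (b : G) ∈ BG := ⟨b, hb, rfl⟩
    have hhb : (h : G) * b = b * h := hcomm h ((hYYM h).2 hhY) b hbG
    have h7 : n⁻¹ * (h : G)⁻¹ * m ∈ M := by
      apply hA
      have h8 : n⁻¹ * (h : G)⁻¹ * m * z * (n⁻¹ * (h : G)⁻¹ * m)⁻¹ = (n⁻¹ * x * n) * b := by
        calc n⁻¹ * (h : G)⁻¹ * m * z * (n⁻¹ * (h : G)⁻¹ * m)⁻¹
            = n⁻¹ * (h : G)⁻¹ * (m * z * (m : G)⁻¹) * h * n := by group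
          _ = n⁻¹ * (x * ((h : G)⁻¹ * (b * h))) * n := by rw [h6']; group
          _ = n⁻¹ * (x * b) * n := by rw [← hhb]; group
          _ = (n⁻¹ * x * n) * (n⁻¹ * (b * n)) := by group
          _ = (n⁻¹ * x * n) * b := by rw [← hcomm n hn b hbG]; group
      rw [h8]
      exact M.mul_mem hnx b.2
    have h8 : n⁻¹ = (n⁻¹ * (h : G)⁻¹ * m) * (m : G)⁻¹ * h := by group
    have h9 : n⁻¹ ∈ M := by
      rw [h8]
      exact M.mul_mem (M.mul_mem h7 (M.inv_mem m.2)) h.2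
    have h10 := M.inv_mem h9
    rwa [inv_inv] at h10
  -- the quotient
  have hBGY : BG ≤ Y := by
    rintro _ ⟨b, hb, rfl⟩
    exact (hYYM b).2 (hB0Y hb)
  have hBGM : BG ≤ M := by
    rintro _ ⟨b, hb, rfl⟩
    exact b.2
  let B' : Subgroup Y := BG.subgroupOf Y
  have hB'n : B'.Normal := by
    constructor
    intro b hb g
    have h1 : (b : G) ∈ BG := hb
    show (g : G) * b * (g : G)⁻¹ ∈ BG
    rw [hcomm g g.2 b h1]
    simpa using h1
  have hB'card : Nat.card B' = 4 := by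
    rw [Nat.card_congr (Subgroup.subgroupOfEquivOfLe hBGY).toEquiv, ← hB0card]
    exact Subgroup.card_map_of_injective M.subtype_injective
  let q : Y →* Y ⧸ B' := QuotientGroup.mk' B'
  have hqker : ∀ n : Y, q n = 1 ↔ (n : G) ∈ BG := fun n => QuotientGroup.eq_one_iff n
  have himg : ∀ A : Subgroup G, BG ≤ A → ∀ n : Y, q n ∈ (A.subgroupOf Y).map q ↔ (n : G) ∈ A := by
    intro A hBA n
    constructor
    · rintro ⟨m, hm, hmn⟩
      have h1 : (m : Y)⁻¹ * n ∈ B' := QuotientGroup.eq.1 hmn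
      have h2 : ((m : Y) : G)⁻¹ * n ∈ BG := h1
      have h3 : (n : G) = m * ((m : G)⁻¹ * n) := by group
      rw [h3]
      exact A.mul_mem hm (hBA h2)
    · intro hn
      exact ⟨n, hn, rfl⟩
  let K := (M.subgroupOf Y).map q
  have hzYM : z ∈ YM := hPY hzP
  have hzY : (z : G) ∈ Y := (hYYM z).2 hzYM
  have hBGmem : ∀ m : M, (m : G) ∈ BG → m ∈ B0 := by
    rintro m ⟨b, hb, hbm⟩
    have : b = m := Subtype.ext hbm
    rw [← this]; exact hb
  have hqz : orderOf (q ⟨z, hzY⟩) = 2 := by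
    apply orderOf_eq_prime
    · rw [← map_pow, hqker]
      show (z : G) ^ 2 ∈ BG
      have : (z : G) ^ 2 = 1 := by rw [pow_two]; exact congrArg Subtype.val hzz
      rw [this]; exact BG.one_mem
    · rw [Ne, hqker]
      exact fun h => hzB0 (hBGmem z h)
  have hzK : q ⟨z, hzY⟩ ∈ K := (himg M hBGM ⟨z, hzY⟩).2 z.2
  have hSE : IsStronglyEmbedded K := by
    refine ⟨?_, ?_, ?_⟩
    · intro htop
      apply hgM
      have h1 : q ⟨g, hgY⟩ ∈ K := by rw [htop]; trivial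
      exact (himg M hBGM ⟨g, hgY⟩).1 h1
    · have h1 : orderOf (⟨q ⟨z, hzY⟩, hzK⟩ : K) = 2 := by
        rw [Subgroup.orderOf_mk]; exact hqz
      rw [even_iff_two_dvd, ← h1]
      exact orderOf_dvd_natCard _
    · intro w hw
      obtain ⟨n, rfl⟩ := QuotientGroup.mk'_surjective B' w
      rw [← Nat.not_even_iff_odd, even_iff_two_dvd]
      intro hdvd
      obtain ⟨w, hw2⟩ := exists_prime_orderOf_dvd_card' 2 hdvd
      obtain ⟨m, hm⟩ := QuotientGroup.mk'_surjective B' (w : Y ⧸ B')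
      have hw1 : orderOf (w : Y ⧸ B') = 2 := by rw [← hw2]; exact Subgroup.orderOf_coe w
      have hm' : q m = w := hm
      have hmM : (m : G) ∈ M := by
        rw [← himg M hBGM, hm']
        exact w.2.1
      apply hw
      show q n ∈ K
      rw [himg M hBGM]
      apply step1 n n.2 ⟨m, hmM⟩
      · exact (hYYM ⟨m, hmM⟩).1 m.2
      · intro h
        have h1 : q m = 1 := (hqker m).2 ⟨_, h, rfl⟩
        rw [hm'] at h1
        rw [h1, orderOf_one] at hw1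
        exact absurd hw1 (by norm_num)
      · have h1 : (w : Y ⧸ B') * w = 1 := by
          have := pow_orderOf_eq_one (w : Y ⧸ B')
          rwa [hw1, pow_two] at this
        rw [← hm', ← map_mul, hqker] at h1
        exact hBGmem (⟨m, hmM⟩ * ⟨m, hmM⟩) h1
      · obtain ⟨v, hv, hvw⟩ := w.2.2
        have h1 : q n * v * (q n)⁻¹ = q m := by rw [hm']; exact hvw
        have h2 : v = q (n⁻¹ * m * n) := by
          rw [map_mul, map_mul, ← h1, map_inv]; group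
        rw [h2] at hv
        exact (himg M hBGM (n⁻¹ * m * n)).1 hv
  -- the transitive subgroup of odd order
  obtain ⟨u, huK, hu⟩ := TwoFusion.StronglyEmbeddedBasic.exists_involution_notMem hSE
  set D : Subgroup (Y ⧸ B') := K ⊓ K.map (MulAut.conj u).toMonoidHom with hDdef
  have hDodd : Odd (Nat.card D) := hSE.2.2 u huK
  let DG : Subgroup G := (D.comap q).map Y.subtype
  have hDGM : DG ≤ M := by
    rintro _ ⟨n, hn, rfl⟩
    have h1 : q n ∈ D := hn
    exact (himg M hBGM n).1 h1.1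
  have hDGcard : Nat.card (DG.subgroupOf M) = 4 * Nat.card D := by
    have h1 : Nat.card (DG.subgroupOf M) = Nat.card DG :=
      Nat.card_congr (Subgroup.subgroupOfEquivOfLe hDGM).toEquiv
    have h2 : Nat.card DG = Nat.card (D.comap q) :=
      Subgroup.card_map_of_injective Y.subtype_injective
    have h3 := card_map_mk B' (D.comap q) (by
      intro b hb
      show q b ∈ D
      rw [(hqker b).2 hb]; exact D.one_mem)
    have h4 : (D.comap q).map q = D :=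
      Subgroup.map_comap_eq_self_of_surjective (QuotientGroup.mk'_surjective B') D
    have h5 : Nat.card ((D.comap q).map q) * Nat.card B' = Nat.card (D.comap q) := h3
    rw [h4, hB'card] at h5
    rw [h1, h2, ← h5, mul_comm]
  let DN : Subgroup N := (DG.subgroupOf M).map π
  have hBDN : B ≤ DN := by
    intro b hb
    have hb' : b ∈ B0.map π := by rw [hB0map]; exact hb
    obtain ⟨b0, hb0, rfl⟩ := hb'
    have hbG : (b0 : G) ∈ BG := ⟨b0, hb0, rfl⟩
    refine ⟨b0, ⟨⟨b0, hBGY hbG⟩, ?_, rfl⟩, rfl⟩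
    show q ⟨b0, hBGY hbG⟩ ∈ D
    rw [(hqker ⟨b0, hBGY hbG⟩).2 hbG]; exact D.one_mem
  have hDNY : DN ≤ centralizer (B : Set N) := by
    rintro _ ⟨m, ⟨n, hn, hnm⟩, rfl⟩
    apply hYMc
    rw [← hYYM]
    have : (m : G) = n := hnm.symm
    rw [this]; exact n.2
  have hd1 : Nat.card DN ∣ 4 * Nat.card D := by
    rw [← hDGcard]
    exact Subgroup.card_map_dvd _ _
  have hd2 : 4 ∣ Nat.card DN := by
    rw [← c.hB]; exact Subgroup.card_dvd_of_le hBDN
  obtain ⟨k, hk⟩ := hd2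
  have hkodd : Odd k := by
    rw [hk] at hd1
    have h1 : k ∣ Nat.card D := Nat.dvd_of_mul_dvd_mul_left (by norm_num) hd1
    exact Odd.of_dvd_nat hDodd h1
  refine no_odd c DN hBDN hDNY k hkodd hk ?_
  intro v hv hvB hvv
  obtain ⟨m0, hm0, hm0c⟩ := exists_lift_centralizer π hπ hker hP B0 hB0P (v := v) (by
    intro b hb
    exact (Subgroup.mem_centralizer_iff.1 hv _ hb.2).symm)
  have hm0Y : m0 ∈ YM := by
    rw [hYM, Subgroup.mem_centralizer_iff]
    intro b hb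
    exact (hm0c b hb).symm
  obtain ⟨a, o, ho, hao⟩ := Nat.exists_eq_two_pow_mul_odd (n := orderOf m0) (orderOf_pos m0).ne'
  obtain ⟨m, hm⟩ : ∃ m : M, m = m0 ^ (o * o) := ⟨_, rfl⟩
  have hmY : m ∈ YM := by rw [hm]; exact YM.pow_mem hm0Y _
  have hm2 : m ^ 2 ^ a = 1 := by
    rw [hm, ← pow_mul, show o * o * 2 ^ a = (2 ^ a * o) * o by ring, ← hao, pow_mul,
      pow_orderOf_eq_one, one_pow]
  have hv4 : v ^ 4 = 1 := by
    have h1 := c.hVe _ (hBV hvv)
    calc v ^ 4 = (v * v) * (v * v) := by norm_num [pow_succ, mul_assoc]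
      _ = 1 := h1
  have hmv : π m = v := by
    obtain ⟨t, ht⟩ := ho
    have h1 : o * o = 4 * (t * t + t) + 1 := by rw [ht]; ring
    rw [hm, map_pow, hm0, h1, pow_succ, pow_mul, hv4, one_pow, one_mul]
  obtain ⟨h, hh, hhm⟩ := step0 m hmY a hm2
  have hmm : m * m ∈ B0 := by
    have h1 : (h * m * h⁻¹) * (h * m * h⁻¹) ∈ B0 := by
      refine ⟨P.mul_mem hhm hhm, ?_⟩
      show π ((h * m * h⁻¹) * (h * m * h⁻¹)) ∈ B
      have h2 : π ((h * m * h⁻¹) * (h * m * h⁻¹)) = π h * (v * v) * (π h)⁻¹ := by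
        rw [← hmv, ← map_mul, ← map_inv, ← map_mul, ← map_mul]
        congr 1; group
      have h3 : π h * (v * v) = (v * v) * π h :=
        (Subgroup.mem_centralizer_iff.1 (hYMc h hh) _ hvv).symm
      rw [h2, h3, mul_assoc, mul_inv_cancel, mul_one]; exact hvv
    have h4 : m * m = (h * m * h⁻¹) * (h * m * h⁻¹) := by
      have h5 := hconj h⁻¹ (YM.inv_mem hh) _ h1
      calc m * m = h⁻¹ * ((h * m * h⁻¹) * (h * m * h⁻¹)) * h⁻¹⁻¹ := by group
        _ = _ := h5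
    rw [h4]; exact h1
  have hmB : m ∉ B0 := fun h => hvB (by rw [← hmv]; exact h.2)
  have hmYG : (m : G) ∈ Y := (hYYM m).2 hmY
  have hqm : orderOf (q ⟨m, hmYG⟩) = 2 := by
    apply orderOf_eq_prime
    · rw [← map_pow, hqker, pow_two]
      exact ⟨m * m, hmm, rfl⟩
    · rw [Ne, hqker]
      exact fun h => hmB (hBGmem m h)
  have hmK : q ⟨m, hmYG⟩ ∈ K := (himg M hBGM ⟨m, hmYG⟩).2 m.2
  obtain ⟨d, hdD, hd⟩ := (S1225.result K hSE u hu huK _ _ hqz hzK hqm hmK).1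
  obtain ⟨n, rfl⟩ := QuotientGroup.mk'_surjective B' d
  have hnG : (n : G) ∈ DG := ⟨n, hdD, rfl⟩
  have hnM : (n : G) ∈ M := hDGM hnG
  refine ⟨π ⟨n, hnM⟩, ⟨⟨n, hnM⟩, hnG, rfl⟩, ?_⟩
  have h1 : q ⟨m, hmYG⟩ = q (n * ⟨z, hzY⟩ * n⁻¹) := by
    rw [map_mul, map_mul, map_inv]; exact hd.symm
  have h2 : (⟨m, hmYG⟩ : Y)⁻¹ * (n * ⟨z, hzY⟩ * n⁻¹) ∈ B' := QuotientGroup.eq.1 h1
  have h3 : (m : G)⁻¹ * ((n : G) * z * (n : G)⁻¹) ∈ BG := h2
  have h4 : m⁻¹ * (⟨n, hnM⟩ * z * ⟨n, hnM⟩⁻¹) ∈ B0 := hBGmem _ h3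
  have h5 := h4.2
  rw [← hmv]
  have h6 : π (m⁻¹ * (⟨n, hnM⟩ * z * ⟨n, hnM⟩⁻¹)) ∈ B := h5
  rwa [map_mul, map_mul, map_mul, map_inv, map_inv] at h6

end Main

end Cfsg.Agent.Held.CentVOdd
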