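import Mathlib
import Cfsg.Agent.Held.CentB
import Cfsg.Agent.Held.CentVOdd

/-!
# The configuration around the four-group `BB`
-/

set_option autoImplicit false

namespace Cfsg.Agent.Held.CentBCfg

open Matrix Cfsg.Agent.SporadicRecognition.HeldModel Cfsg.Agent.Lib.F2Mat
  Cfsg.Agent.Held.NoBModel Cfsg.Agent.Held.Pattern Cfsg.Agent.Held.CentB
  Cfsg.Agent.Held.Acts Cfsg.Agent.Held.WordCore Cfsg.Agent.Held.ConfigThm

variable {G : Type*} [Group G] {z : G} {ph : ℕ → G}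

set_option maxHeartbeats 800000 in
/-- The configuration `Cfg` around the four-group `BB`, Held configuration. -/
theorem cfg_BB [Finite G] (E : Code.Emb z ph)
    (S : Sylow 2 G) (hS : (S : Subgroup G) = im (iota E) T0)
    (hF : ∀ n < 1024, Fus8.kf n ≠ 0 → Fus8.zt true true (Fus8.kf n) = true →
      IsConj z (ph (Fus8.tc n)))
    (hN : ∀ n < 1024, Fus8.kf n ≠ 0 → Fus8.zt true true (Fus8.kf n) = false →
      ¬ IsConj z (ph (Fus8.tc n)))
    (hw : ∀ g : G, (∀ v ∈ im (iota E) V1, g * v * g⁻¹ ∈ im (iota E) T0) →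
      g ∈ Subgroup.normalizer (im (iota E) V1 : Set G))
    {y1 y2 : G}
    (c : Config.Config (xs ph) 1 1 (ph (Code.X 1 3)) y1 y2) :
    ∃ y0 : G, CentVOdd.Cfg z (im (iota E) BB) (im (iota E) FF) (im (iota E) V1) (im (iota E) JJ)
      y0 := by
  have h := hyp E
  set ι := iota E with hι
  have hFc : ∀ u : CC, isF (cd (u : L5)) = true → IsConj z (ι u) := by
    intro u hu
    unfold isF at hu
    simp only [Bool.and_eq_true, Bool.not_eq_true'] at hu
    obtain ⟨⟨⟨h1, h2⟩, h3⟩, h4⟩ := hu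
    have h5 := hF (nidx (cd (u : L5))) (by rwa [Nat.blt_eq] at h1) (fun e => by
      rw [e] at h3; exact absurd h3 (by decide)) h4
    rw [Nat.eq_of_beq_eq_true h2] at h5
    exact h5
  have hNc : ∀ u : CC, isN (cd (u : L5)) = true → ¬ IsConj z (ι u) := by
    intro u hu
    unfold isN at hu
    simp only [Bool.and_eq_true, Bool.not_eq_true'] at hu
    obtain ⟨⟨⟨h1, h2⟩, h3⟩, h4⟩ := hu
    have h5 := hN (nidx (cd (u : L5))) (by rwa [Nat.blt_eq] at h1) (fun e => by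
      rw [e] at h3; exact absurd h3 (by decide)) h4
    rw [Nat.eq_of_beq_eq_true h2] at h5
    exact h5
  have s1 := toSide E (Or.inr rfl) c.side1
  have s2 := toSide2 E (Or.inr rfl) c.side2
  have a11 : Acts (P1 ph) y1 (A11 true) := side_acts1 E s1
  have a12 : Acts (P2 ph) y1 A12 := side_acts2 E s1
  have a21 : Acts (P1 ph) y2 A21 := side2_acts1 E s2
  have a22 : Acts (P2 ph) y2 (A22 true) := side2_acts2 E s2
  set f : G := ph (Code.X 1 3) with hf
  have b11 : Acts (P1 ph) (f * y1 * f) (A11 true) :=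
    acts_conj_self (hom1 E) a11 (w := 16) (by norm_num) p1_16
  have b12 : Acts (P2 ph) (f * y1 * f) A12 :=
    acts_conj_self (hom2 E) a12 (w := 4) (by norm_num) p2_4
  set y0 : G := f * y1 * f * y2 with hy0
  have c1 : ∀ v < 64, P1 ph v * y0 = y0 * P1 ph (app A21 (app (A11 true) v)) :=
    fun v hv => acts_comp b11 a21 hv
  have c2 : ∀ v < 64, P2 ph v * y0 = y0 * P2 ph (app (A22 true) (app A12 v)) :=
    fun v hv => acts_comp b12 a22 hv
  have hVJ : ∀ v ∈ im ι V1, ∀ j ∈ im ι JJ, j⁻¹ * v * j ∈ im ι V1 := by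
    intro v hv j hj
    obtain ⟨u, hu, rfl⟩ := mem_im.1 hv
    obtain ⟨w, hw, rfl⟩ := mem_im.1 hj
    refine mem_im.2 ⟨w⁻¹ * u * w, ?_, by rw [map_mul, map_mul, map_inv]⟩
    have := V1_conj (T0.inv_mem (JJ_le_T0 hw)) hu
    rwa [inv_inv] at this
  have hTJ : im ι T0 ≤ Subgroup.normalizer (im ι JJ : Set G) := by
    intro t ht
    obtain ⟨u, hu, rfl⟩ := mem_im.1 ht
    apply nrm_of
    intro j hj
    obtain ⟨w, hw, rfl⟩ := mem_im.1 hj
    refine mem_im.2 ⟨u * w * u⁻¹, ?_, by rw [map_mul, map_mul, map_inv]⟩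
    exact conj_pat (P := PJ) (P' := PT) (by decide) (by decide) (by decide) hu hw
  -- the centre of J
  have hcen : ∀ x ∈ im ι FF, ∀ j ∈ im ι JJ, j * x = x * j := by
    intro x hx j hj
    obtain ⟨u, hu, rfl⟩ := mem_im.1 hx
    obtain ⟨w, hw, rfl⟩ := mem_im.1 hj
    rw [← map_mul, ← map_mul]
    congr 1
    exact Subtype.ext (jj_ff_comm hw hu)
  have hcen' : ∀ x ∈ im ι JJ, (∀ j ∈ im ι JJ, x * j = j * x) → x ∈ im ι FF := by
    intro x hx hxj
    obtain ⟨u, hu, rfl⟩ := mem_im.1 hx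
    refine mem_im.2 ⟨u, mem_FF_of_comm hu ?_, rfl⟩
    intro j hj
    have h1 := hxj (ι ⟨j, JJ_le_CC hj⟩) (mem_im.2 ⟨_, hj, rfl⟩)
    rw [← map_mul, ← map_mul] at h1
    exact congrArg Subtype.val (h.inj h1)
  have hXc : ∀ g : G, (∀ j ∈ im ι JJ, g * j * g⁻¹ ∈ im ι JJ) →
      g ∈ Subgroup.normalizer (im ι FF : Set G) := by
    intro g hg
    have hgN : g ∈ Subgroup.normalizer (im ι JJ : Set G) := nrm_of hg
    apply nrm_of
    intro x hx
    apply hcen' _ (hg x (im_le FF_le_V1 |>.trans (im_le V1_le_JJ) |> fun hle => hle hx))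
    intro j hj
    have h1 : g⁻¹ * j * g ∈ im ι JJ := by
      have := (Subgroup.mem_normalizer_iff.1 ((Subgroup.normalizer _).inv_mem hgN) j).1 hj
      simpa using this
    have h2 := hcen x hx _ h1
    calc g * x * g⁻¹ * j = g * (x * (g⁻¹ * j * g)) * g⁻¹ := by group
      _ = g * ((g⁻¹ * j * g) * x) * g⁻¹ := by rw [h2]
      _ = j * (g * x * g⁻¹) := by group
  have hBJ : im ι BB ≤ im ι JJ := im_le (BB_le_FF.trans (FF_le_V1.trans V1_le_JJ))
  refine ⟨y0, (im_le BB_le_FF), (im_le FF_le_V1), (im_le V1_le_JJ), ?_, ?_, ?_, ?_,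
    (sq_im (fun a ha => sq_V1 ha)), ?_, ?_, ?_, ?_, ?_, ?_, ?_, ?_, hXc, ?_, ?_, ?_, ?_⟩
  · rw [card_im h BB_le_CC, card_BB]
  · rw [card_im h FF_le_CC, card_FF]
  · rw [card_im h V1_le_CC, card_V1]
  · rw [card_im h JJ_le_CC, card_JJ]
  · rw [← h.map_zz]
    refine mem_im.2 ⟨zC, ?_, rfl⟩
    show zz ∈ FF
    rw [← ve_four]
    exact ve_mem_FF.2 (by decide +kernel)
  · intro hz
    obtain ⟨u, hu, e⟩ := mem_im.1 hz
    rw [← h.map_zz] at e
    have h1 := h.inj e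
    rw [h1] at hu
    have h2 : zz ∈ BB := hu
    rw [← ve_four, ve_mem_BB] at h2
    revert h2; decide +kernel
  · intro j hj
    rw [Subgroup.mem_centralizer_iff]
    intro b hb
    exact (hcen b (im_le BB_le_FF hb) j hj).symm
  · intro x hxz hxB
    obtain ⟨u, rfl⟩ : ∃ u, ι u = x := by
      have : x ∈ Subgroup.centralizer ({z} : Set G) := by
        rw [Subgroup.mem_centralizer_singleton_iff]; exact hxz
      rw [← h.range] at this
      exact this
    refine mem_im.2 ⟨u, mem_JJ_of_BB u.2 ?_, rfl⟩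
    intro b hb
    have h1 := Subgroup.mem_centralizer_iff.1 hxB (ι ⟨b, BB_le_CC hb⟩) (mem_im.2 ⟨_, hb, rfl⟩)
    rw [← map_mul, ← map_mul] at h1
    exact (congrArg Subtype.val (h.inj h1)).symm
  · intro x hx
    obtain ⟨u, hu, rfl⟩ := mem_im.1 hx
    exact E.comm (C_cd u.2)
  · -- J is a Sylow subgroup of the centraliser
    intro x hxB hxJ hxx
    have hxN : x ∈ Subgroup.normalizer (im ι JJ : Set G) := nrm_of hxJ
    have hJ2 : IsPGroup 2 (im ι JJ) :=
      IsPGroup.of_card (n := 8) (by rw [card_im h JJ_le_CC, card_JJ]; norm_num)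
    have hP := MaxStab.isPGroup_adjoin (im ι JJ) hJ2 x hxN hxx
    set NJ : Subgroup G := Subgroup.normalizer (im ι JJ : Set G) with hNJ
    have hSN : (S : Subgroup G) ≤ NJ := by rw [hS]; exact hTJ
    let S' : Sylow 2 NJ := S.subtype hSN
    obtain ⟨Q, hQ⟩ := (hP.comap_of_injective NJ.subtype NJ.subtype_injective).exists_le_sylow
    obtain ⟨n, hn⟩ := MulAction.exists_smul_eq NJ Q S'
    have key : ∀ w ∈ im ι JJ ⊔ Subgroup.zpowers x, ∀ hw : w ∈ NJ, (n : G) * w * (n : G)⁻¹ ∈ im ι T0 := by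
      intro w hwP hwN
      have h1 : (⟨w, hwN⟩ : NJ) ∈ (Q : Subgroup NJ) := hQ hwP
      have h2 : n * ⟨w, hwN⟩ * n⁻¹ ∈ (S' : Subgroup NJ) := by
        rw [← hn, Sylow.coe_subgroup_smul]
        have := Subgroup.smul_mem_pointwise_smul (⟨w, hwN⟩ : NJ) (MulAut.conj n) (Q : Subgroup NJ) h1
        simpa using this
      have h3 : (n : G) * w * (n : G)⁻¹ ∈ (S : Subgroup G) := h2
      rwa [hS] at h3
    have hx' : (n : G) * x * (n : G)⁻¹ ∈ im ι T0 :=
      key x ((le_sup_right : Subgroup.zpowers x ≤ _) (Subgroup.mem_zpowers x)) hxN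
    have hnJ : ∀ j ∈ im ι JJ, (n : G) * j * (n : G)⁻¹ ∈ im ι JJ := fun j hj =>
      (Subgroup.mem_normalizer_iff.1 n.2 j).1 hj
    have hnX := hXc n hnJ
    obtain ⟨u, hu, hue⟩ := mem_im.1 hx'
    -- images of elements of B
    have hb : ∀ b : Fin 64, bi b = true → b ≠ 0 → ¬ IsConj z (P1 ph b) →
        ∃ a : Fin 64, (n : G) * P1 ph b * (n : G)⁻¹ = P1 ph a ∧
          Nat.beq (Nat.land a 54) a = true ∧ (cl a = 3 ∨ cl a = 5) := by
      intro b hb hb0 hbz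
      have h1 : P1 ph b ∈ im ι FF :=
        mem_im.2 ⟨⟨ve b, V1_le_CC (ve_mem b)⟩, BB_le_FF (ve_mem_BB.2 hb), iota_ve E b _⟩
      have h2 := (Subgroup.mem_normalizer_iff.1 hnX _).1 h1
      obtain ⟨⟨w, hw'⟩, hwF, hwe⟩ := mem_im.1 h2
      obtain ⟨a, rfl⟩ := ve_surj (FF_le_V1 hwF)
      rw [hι, iota_ve E a hw'] at hwe
      refine ⟨a, hwe.symm, ve_mem_FF.1 hwF, cl_cases a ?_ ?_⟩
      · rintro rfl
        have h3 : P1 ph ((0 : Fin 64) : ℕ) = 1 := (hom1 E).zero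
        rw [h3] at hwe
        have h4 : P1 ph b = 1 := by
          have : P1 ph b = (n : G)⁻¹ * ((n : G) * P1 ph b * (n : G)⁻¹) * n := by group
          rw [this, ← hwe]; group
        exact hb0 (Fin.ext (inj1 E b b.2 h4))
      · intro h3
        have h4 := hFc ⟨ve a, V1_le_CC (ve_mem a)⟩ (by
          show isF (cd (ve a)) = true
          rw [cd_ve]; exact isF_vc a h3)
        rw [hι, iota_ve E a] at h4
        apply hbz
        rw [hwe] at h4
        exact h4.trans (isConj_iff.2 ⟨(n : G)⁻¹, by group⟩)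
    have hNb : ∀ b : Fin 64, isN (vc b) = true → ¬ IsConj z (P1 ph b) := by
      intro b hb
      have := hNc ⟨ve b, V1_le_CC (ve_mem b)⟩ (by
        show isN (cd (ve b)) = true
        rw [cd_ve]; exact hb)
      rw [hι, iota_ve E b] at this
      exact this
    obtain ⟨a, ha, ha1, ha2⟩ := hb 34 (by decide +kernel) (by decide) (hNb 34 isN_chk.1)
    obtain ⟨b, hb', hb1, hb2⟩ := hb 52 (by decide +kernel) (by decide) (hNb 52 isN_chk.2.1)
    obtain ⟨d, hd, hd1, hd2⟩ := hb 22 (by decide +kernel) (by decide) (hNb 22 isN_chk.2.2)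
    have hab : d = xr a b := by
      have h1 : P1 ph d = P1 ph (xr a b) := by
        rw [← hd]
        show _ = P1 ph (a ^^^ b : ℕ)
        rw [(hom1 E) a b a.2 b.2, ← ha, ← hb']
        have h2 : P1 ph ((22 : Fin 64) : ℕ) = P1 ph ((34 : Fin 64) : ℕ) * P1 ph ((52 : Fin 64) : ℕ) := by
          rw [← (hom1 E) _ _ (34 : Fin 64).2 (52 : Fin 64).2]
          rfl
        rw [h2]; group
      have h3 : P1 ph ((d : ℕ) ^^^ ((xr a b : Fin 64) : ℕ)) = 1 := by
        rw [(hom1 E) _ _ d.2 (xr a b).2, h1, (hom1 E).sq (xr a b).2]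
      have h4 := inj1 E _ (Nat.xor_lt_two_pow (n := 6) d.2 (xr a b).2) h3
      exact Fin.ext (Nat.xor_eq_zero_iff.1 h4)
    rw [hab] at hd2
    have hcm : ∀ b : Fin 64, bi b = true → ∀ a : Fin 64, (n : G) * P1 ph b * (n : G)⁻¹ = P1 ph a →
        (u : L5) * ve a = ve a * (u : L5) := by
      intro b hb a ha
      have h1 : P1 ph b ∈ im ι BB :=
        mem_im.2 ⟨⟨ve b, V1_le_CC (ve_mem b)⟩, ve_mem_BB.2 hb, iota_ve E b _⟩
      have h2 := Subgroup.mem_centralizer_iff.1 hxB _ h1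
      have h3 : ι u * P1 ph a = P1 ph a * ι u := by
        rw [hue, ← ha]
        calc (n : G) * x * (n : G)⁻¹ * ((n : G) * P1 ph b * (n : G)⁻¹)
            = n * (x * P1 ph b) * (n : G)⁻¹ := by group
          _ = n * (P1 ph b * x) * (n : G)⁻¹ := by rw [h2]
          _ = _ := by group
      rw [← iota_ve E a (V1_le_CC (ve_mem a)), ← hι, ← map_mul, ← map_mul] at h3
      exact congrArg Subtype.val (h.inj h3)
    have huJ : (u : L5) ∈ JJ := mem_JJ_of_comm hu a b ha1 hb1 ha2 hb2 hd2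
      (hcm 34 (by decide +kernel) a ha) (hcm 52 (by decide +kernel) b hb')
    have h5 : (n : G) * x * (n : G)⁻¹ ∈ im ι JJ := mem_im.2 ⟨u, huJ, hue⟩
    exact (Subgroup.mem_normalizer_iff.1 n.2 x).2 h5
  · -- coset condition
    intro x hx hxB hxx
    obtain ⟨u, hu, rfl⟩ := mem_im.1 hx
    have h1 : (u : L5) ∉ BB := fun e => hxB (mem_im.2 ⟨u, e, rfl⟩)
    have h2 : (u : L5) * u ∈ BB := by
      rw [← map_mul] at hxx
      obtain ⟨w, hw, e⟩ := mem_im.1 hxx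
      have := h.inj e
      rw [this] at hw
      exact hw
    obtain ⟨b, hb, hbF⟩ := exists_isF hu h1 h2
    refine ⟨ι ⟨b, BB_le_CC hb⟩, mem_im.2 ⟨_, hb, rfl⟩, ?_⟩
    have e3 : ((u * ⟨b, BB_le_CC hb⟩ : CC) : L5) = (u : L5) * b := rfl
    have h3 := hFc (u * ⟨b, BB_le_CC hb⟩) (by rw [e3]; exact hbF)
    rw [map_mul, isConj_iff] at h3
    exact h3
  · intro g hg
    apply hw
    intro v hv
    exact im_le JJ_le_T0 (hg v hv)
  · intro j hj
    apply nrm_of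
    intro v hv
    have := hVJ v hv j⁻¹ ((im ι JJ).inv_mem hj)
    rwa [inv_inv] at this
  · -- y0 centralises B
    rw [Subgroup.mem_centralizer_iff]
    intro b hb
    obtain ⟨⟨w, hw'⟩, ⟨a, ha, hae⟩, rfl⟩ := mem_im.1 hb
    have hae' : ve a = w := hae
    subst hae'
    rw [hι, iota_ve E a hw', c1 a a.2]
    have key : ∀ a : Fin 64, bi a = true → app A21 (app (A11 true) a) = a := by decide +kernel
    rw [key a ha]
  · apply nrm_of'
    intro v hv
    obtain ⟨a, ha, rfl⟩ := (mem_imV E).1 hv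
    exact ⟨P1 ph _, (mem_imV E).2 ⟨_, app_lt _ _, rfl⟩, c1 a ha⟩
  · intro j hj
    obtain ⟨v, hv, k, hk, rfl⟩ := (mem_imJ E).1 hj
    obtain ⟨k', u, hu1, hu2⟩ := comm_chk3 ⟨k, hk⟩
    have hk16 : ∀ k : Fin 4, 16 * (k : ℕ) < 64 := by decide
    have hw1 : P2 ph (16 * (k' : ℕ)) ∈ im ι JJ := (mem_imJ E).2 ⟨0, by norm_num, k', k'.2, by
      rw [(hom1 E).zero, one_mul]⟩
    have hwk : P2 ph (16 * k) ∈ im ι JJ := (mem_imJ E).2 ⟨0, by norm_num, k, hk, by
      rw [(hom1 E).zero, one_mul]⟩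
    refine ⟨P2 ph (16 * (k' : ℕ)), hw1, P2 ph (16 * k ^^^ (16 * (k' : ℕ) ^^^ u)) *
      ((P2 ph (16 * k))⁻¹ * P1 ph v * P2 ph (16 * k)), ?_, ?_⟩
    · apply (im ι V1).mul_mem
      · obtain ⟨h1, h2⟩ := low_chk _ hu2
        refine (mem_imV E).2 ⟨_, h2, ?_⟩
        show ph (v2c _) = ph (v1c _)
        rw [h1]
      · exact hVJ _ ((mem_imV E).2 ⟨v, hv, rfl⟩) _ hwk
    · have e1 : y0 * (P2 ph (16 * (k' : ℕ)))⁻¹ * y0⁻¹ = P2 ph u := by
        have h1 := c2 u u.2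
        rw [hu1] at h1
        have h2 : (P2 ph (16 * (k' : ℕ)))⁻¹ = P2 ph (16 * (k' : ℕ)) :=
          inv_eq_of_mul_eq_one_right ((hom2 E).sq (hk16 k'))
        rw [h2, ← h1]; group
      have e2 : P2 ph (16 * (k' : ℕ)) * y0 * (P2 ph (16 * (k' : ℕ)))⁻¹ * y0⁻¹ =
          P2 ph (16 * (k' : ℕ) ^^^ u) := by
        rw [(hom2 E) _ _ (hk16 k') u.2, ← e1]; group
      have hlt : (16 * (k' : ℕ) ^^^ u : ℕ) < 64 := Nat.xor_lt_two_pow (n := 6) (hk16 k') u.2
      rw [e2, (hom2 E) _ _ (hk16 ⟨k, hk⟩) hlt]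
      have e3 := (hom2 E).sq hlt
      calc P1 ph v * P2 ph (16 * k)
          = P2 ph (16 * k) * ((P2 ph (16 * k))⁻¹ * P1 ph v * P2 ph (16 * k)) := by group
        _ = (P2 ph (16 * (k' : ℕ) ^^^ u) * P2 ph (16 * (k' : ℕ) ^^^ u)) * (P2 ph (16 * k) *
            ((P2 ph (16 * k))⁻¹ * P1 ph v * P2 ph (16 * k))) := by rw [e3, one_mul]
        _ = P2 ph (16 * (k' : ℕ) ^^^ u) * ((P2 ph (16 * (k' : ℕ) ^^^ u) * P2 ph (16 * k)) *
            ((P2 ph (16 * k))⁻¹ * P1 ph v * P2 ph (16 * k))) := by group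
        _ = P2 ph (16 * (k' : ℕ) ^^^ u) * ((P2 ph (16 * k) * P2 ph (16 * (k' : ℕ) ^^^ u)) *
            ((P2 ph (16 * k))⁻¹ * P1 ph v * P2 ph (16 * k))) := by
              rw [← (hom2 E) _ _ hlt (hk16 ⟨k, hk⟩), ← (hom2 E) _ _ (hk16 ⟨k, hk⟩) hlt,
                Nat.xor_comm (16 * (k' : ℕ) ^^^ u)]


end Cfsg.Agent.Held.CentBCfg
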