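import Cfsg.Agent.Held.CodeEnum

/-!
# Kernel search over the small subgroups of the unitriangular group `T = UT(5, 2)`

`dec i` (`i < 1024`) are the 25-bit codes of the elements of `T`. For a mask `m` (bit `i` says that
`dec i` is "of `z`-type") the Boolean `main m` checks that no `z`-free subgroup `R` of `C_T(t)`,
`t = 1 + E_{03} + E_{14}` in `R`, satisfies the condition `(***)`:
for every `x ∈ N_T(R) \ R` with `x² ∈ R` there is `c ∈ xR` of `z`-type centralising `R` with
`zt (c s) = zt (z s)` for all `s ∈ R`.
-/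

set_option autoImplicit false

namespace Cfsg.Agent.Held.ClosingCode

open Cfsg.Agent.Lib.F2Mat Cfsg.Agent.Held.Code

/-- `i`-th unitriangular code -/
def dec (i : ℕ) : ℕ :=
  Nat.add (Nat.add (Nat.add (Nat.add 17043521 (Nat.mul 2 (Nat.mod i 16)))
    (Nat.mul 128 (Nat.mod (Nat.div i 16) 8))) (Nat.mul 8192 (Nat.mod (Nat.div i 128) 4)))
    (Nat.mul 524288 (Nat.mod (Nat.div i 512) 2))

/-- index of a unitriangular code -/
def idx (c : ℕ) : ℕ :=
  Nat.add (Nat.add (Nat.add (Nat.mod (Nat.div c 2) 16) (Nat.mul 16 (Nat.mod (Nat.div c 128) 8)))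
    (Nat.mul 128 (Nat.mod (Nat.div c 8192) 4))) (Nat.mul 512 (Nat.mod (Nat.div c 524288) 2))

/-- `z`-type test for the mask `m` -/
def zt (m c : ℕ) : Bool := Nat.beq (Nat.mod (Nat.div m (Nat.pow 2 (idx c))) 2) 1

/-- `t = 1 + E_{03} + E_{14}` -/
abbrev tt : ℕ := 17044041

/-- one term of the product of codes -/
def trm (A B k l : ℕ) : ℕ :=
  Nat.mul (Nat.land (Nat.shiftRight A k) 1082401) (Nat.mod (Nat.shiftRight B l) 32)

/-- unrolled product of codes -/
def mt (A B : ℕ) : ℕ :=
  force A fun A => force B fun B => Nat.xor (Nat.xor (Nat.xor (Nat.xor (trm A B 0 0)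
    (trm A B 1 5)) (trm A B 2 10)) (trm A B 3 15)) (trm A B 4 20)

theorem mt_eq (A B : ℕ) : mt A B = mu A B := by
  have hm : msk 5 = 1082401 := by decide +kernel
  have h0 : ∀ x : ℕ, Nat.xor 0 x = x := Nat.zero_xor
  rw [mt, force_eq, force_eq, mu, Lib.F2Mat.mul_eq, hm]
  show _ = Nat.xor (Nat.xor (Nat.xor (Nat.xor (Nat.xor 0 (term 5 1082401 A B 0))
    (term 5 1082401 A B 1)) (term 5 1082401 A B 2)) (term 5 1082401 A B 3)) (term 5 1082401 A B 4)
  rw [h0]
  rfl

def memb (x : ℕ) (l : List ℕ) : Bool := List.rec false (fun a _ ih => cond (Nat.beq x a) true ih) l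
def alll (p : ℕ → Bool) (l : List ℕ) : Bool := List.rec true (fun a _ ih => cond (p a) ih false) l
def anyl (p : ℕ → Bool) (l : List ℕ) : Bool := List.rec false (fun a _ ih => cond (p a) true ih) l
def mapAux (f : ℕ → ℕ) (k : List ℕ → Bool) (l : List ℕ) : List ℕ → Bool :=
  List.rec (fun acc => k acc) (fun a _ ih acc => force (f a) fun b => ih (b :: acc)) l
def mapK (f : ℕ → ℕ) (l : List ℕ) (k : List ℕ → Bool) : Bool := mapAux f k l []
def anyb (N : ℕ) (P : ℕ → Bool) : Bool := Nat.rec false (fun n ih => cond (P n) true ih) N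

theorem memb_iff {x : ℕ} {l : List ℕ} : memb x l = true ↔ x ∈ l := by
  induction l with
  | nil => exact ⟨fun h => absurd h Bool.false_ne_true, fun h => absurd h List.not_mem_nil⟩
  | cons a l ih =>
    show (cond (Nat.beq x a) true (memb x l)) = true ↔ _
    rw [List.mem_cons]
    rcases h : Nat.beq x a with _ | _
    · have : ¬ x = a := fun e => by
        rw [e, Nat.beq_refl] at h; exact absurd h (by decide)
      rw [cond_false, ih]
      tauto
    · have : x = a := Nat.eq_of_beq_eq_true h
      simp [this]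

theorem alll_iff {p : ℕ → Bool} {l : List ℕ} : alll p l = true ↔ ∀ a ∈ l, p a = true := by
  induction l with
  | nil => exact ⟨fun _ a h => absurd h List.not_mem_nil, fun _ => rfl⟩
  | cons a l ih =>
    show (cond (p a) (alll p l) false) = true ↔ _
    rcases h : p a with _ | _
    · rw [cond_false]
      constructor
      · intro h'; exact absurd h' Bool.false_ne_true
      · intro h'
        have := h' a List.mem_cons_self
        rw [h] at this; exact absurd this Bool.false_ne_true
    · rw [cond_true, ih]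
      simp [h]

theorem anyl_iff {p : ℕ → Bool} {l : List ℕ} : anyl p l = true ↔ ∃ a ∈ l, p a = true := by
  induction l with
  | nil => exact ⟨fun h => absurd h Bool.false_ne_true, fun ⟨a, h, _⟩ => absurd h List.not_mem_nil⟩
  | cons a l ih =>
    show (cond (p a) true (anyl p l)) = true ↔ _
    rcases h : p a with _ | _
    · rw [cond_false, ih]
      simp [h]
    · rw [cond_true]
      simp [h]

theorem mapAux_eq (f : ℕ → ℕ) (k : List ℕ → Bool) (l acc : List ℕ) :
    mapAux f k l acc = k ((l.map f).reverse ++ acc) := by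
  induction l generalizing acc with
  | nil => rfl
  | cons a l ih =>
    show force (f a) (fun b => mapAux f k l (b :: acc)) = _
    rw [force_eq, ih]
    simp

theorem mapK_eq (f : ℕ → ℕ) (l : List ℕ) (k : List ℕ → Bool) :
    mapK f l k = k ((l.map f).reverse) := by
  unfold mapK
  rw [mapAux_eq, List.append_nil]

theorem of_anyb {N : ℕ} {P : ℕ → Bool} (h : anyb N P = true) : ∃ n < N, P n = true := by
  induction N with
  | zero => exact absurd h Bool.false_ne_true
  | succ N ih =>
    have h' : cond (P N) true (anyb N P) = true := h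
    rcases hp : P N with _ | _
    · rw [hp, cond_false] at h'
      obtain ⟨n, hn, hP⟩ := ih h'
      exact ⟨n, by omega, hP⟩
    · exact ⟨N, by omega, hp⟩

/-- equality of Booleans -/
def eqb (a b : Bool) : Bool := cond a b (cond b false true)

theorem eqb_iff {a b : Bool} : eqb a b = true ↔ a = b := by
  cases a <;> cases b <;> decide

/-- negation, lazy -/
def nb (a : Bool) : Bool := cond a false true

theorem nb_iff {a : Bool} : nb a = true ↔ a = false := by cases a <;> decide

/-- conjunction, lazy -/
def ab (a b : Bool) : Bool := cond a b false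

theorem ab_iff {a b : Bool} : ab a b = true ↔ a = true ∧ b = true := by
  cases a <;> cases b <;> decide

/-- `xL ⊆ Lx` -/
def norm (L : List ℕ) (x : ℕ) (xL : List ℕ) : Bool :=
  mapK (fun a => mt a x) L fun Lx => alll (fun y => memb y Lx) xL

/-- `c` is of `z`-type, centralises `L`, and looks like `z` on `L` -/
def cnd (m : ℕ) (L : List ℕ) (c : ℕ) : Bool :=
  ab (zt m c) (ab (alll (fun a => Nat.beq (mt a c) (mt c a)) L)
    (alll (fun a => eqb (zt m (mt c a)) (zt m (mt zc a))) L))

/-- `x` contradicts `(***)` for `L` -/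
def noc (m : ℕ) (L : List ℕ) (x : ℕ) : Bool :=
  ab (nb (memb x L)) (force (mt x x) fun xx => ab (memb xx L)
    (mapK (mt x) L fun xL => ab (norm L x xL) (alll (fun c => nb (cnd m L c)) xL)))

/-- some element of `W` contradicts `(***)` for `L` -/
def good (m : ℕ) (W L : List ℕ) : Bool := anyl (noc m L) W

def allp (p : ℕ → ℕ → Bool) (l : List (ℕ × ℕ)) : Bool :=
  List.rec true (fun a _ ih => cond (p a.1 a.2) ih false) l

theorem allp_iff {p : ℕ → ℕ → Bool} {l : List (ℕ × ℕ)} :
    allp p l = true ↔ ∀ a ∈ l, p a.1 a.2 = true := by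
  induction l with
  | nil => exact ⟨fun _ a h => absurd h List.not_mem_nil, fun _ => rfl⟩
  | cons a l ih =>
    show (cond (p a.1 a.2) (allp p l) false) = true ↔ _
    rcases h : p a.1 a.2 with _ | _
    · rw [cond_false]
      constructor
      · intro h'; exact absurd h' Bool.false_ne_true
      · intro h'
        have := h' a List.mem_cons_self
        rw [h] at this; exact absurd this Bool.false_ne_true
    · rw [cond_true, ih]
      simp only [List.mem_cons, forall_eq_or_imp, h, true_and]

/-- no `z`-free extension of `L` by an element of `cand` -/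
def noext (m : ℕ) (cand : List (ℕ × ℕ)) (L : List ℕ) : Bool :=
  allp (fun y yy => cond (memb yy L) (cond (memb y L) true
    (mapK (mt y) L fun yL => cond (norm L y yL) (anyl (zt m) yL) true)) true) cand

def leq (a b : ℕ) : Bool := Nat.ble a b

def lev3 (m v : ℕ) (W : List ℕ) (cand : List (ℕ × ℕ)) (L : List ℕ) : Bool :=
  allp (fun x xx => cond (memb xx L) (cond (memb x L) true
    (mapK (mt x) L fun xL => cond (norm L x xL) (cond (anyl (zt m) xL) true
      (cond (alll (fun c => leq x c) xL)
        (ab (cond (memb v (xL ++ L)) true (good m W (xL ++ L))) (noext m cand (xL ++ L))) true))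
      true)) true) cand

def lev2 (m v : ℕ) (W : List ℕ) (cand : List (ℕ × ℕ)) : Bool :=
  allp (fun s ss => cond (memb ss [e1, tt])
    (force (mt s tt) fun st => cond (leq s st)
      (ab (good m W [st, s, tt, e1]) (lev3 m v W cand [st, s, tt, e1])) true) true) cand

/-- elements `y ≠ 1, t` of `C_T(t)` with `y`, `yt` not of `z`-type -/
def isCand (m y : ℕ) : Bool :=
  ab (nb (Nat.beq y e1)) (ab (nb (Nat.beq y tt)) (force (mt y tt) fun yt =>
    ab (Nat.beq yt (mt tt y)) (ab (nb (zt m y)) (nb (zt m yt)))))

def buildAux (p : ℕ → Bool) (k : List (ℕ × ℕ) → Bool) (N : ℕ) : List (ℕ × ℕ) → Bool :=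
  Nat.rec (fun acc => k acc) (fun i ih acc => force (dec i) fun c =>
    cond (p c) (force (mt c c) fun cc => ih ((c, cc) :: acc)) (ih acc)) N

/-- pass the list of all unitriangular codes satisfying `p` (with their squares) to `k` -/
def buildK (p : ℕ → Bool) (k : List (ℕ × ℕ) → Bool) : Bool := buildAux p k 1024 []

def main (m v : ℕ) (W : List ℕ) : Bool :=
  ab (good m W [e1]) (ab (good m W [tt, e1]) (buildK (isCand m) fun cand => lev2 m v W cand))

end Cfsg.Agent.Held.ClosingCode
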