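import Mathlib
import Cfsg.Agent.Held.Assembly
import Cfsg.Agent.Held.CentBCfg

/-!
# The closing theorem modulo a normal subgroup of odd order
-/

set_option autoImplicit false

namespace Cfsg.Agent.Held.ClosingOdd

open Cfsg.Agent.Held.CentVOdd

section Core

open Cfsg.Agent.Lib.F2Mat Cfsg.Agent.Held.Code Cfsg.Agent.Held.ClosingCode Cfsg.Agent.Held.ClosingT
open Cfsg.Agent.Held.ClosingSound Cfsg.Agent.Held.Closing Cfsg.Agent.Held.ClosingCheck
open Cfsg.Agent.Held.Fus8 Cfsg.Agent.Held.SideDef Cfsg.Agent.Held.Acts Cfsg.Agent.Held.ClosingMain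

variable {G : Type*} [Group G] [Finite G] {M : Subgroup G} {N : Type*} [Group N] (π : M →* N)

/-- the lift to `P` of the coordinates in the quotient -/
noncomputable def lft (P : Subgroup M) (ph : ℕ → N) (a : ℕ) : G :=
  open Classical in
  if h : ∃ p : M, p ∈ P ∧ π p = ph a then ((Classical.choose h : M) : G) else 1

theorem lft_spec {P : Subgroup M} {ph : ℕ → N} (hPT : ∀ g : N, g ∈ P.map π ↔ ∃ n < 1024, ph (tc n) = g)
    {a : ℕ} (ha : TC a) : ∃ p : M, p ∈ P ∧ π p = ph a ∧ lft π P ph a = p := by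
  have h : ∃ p : M, p ∈ P ∧ π p = ph a := by
    obtain ⟨n, hn, rfl⟩ := ha
    have h1 : ph (dec n) ∈ P.map π := by
      rw [hPT]; exact ⟨n, hn, by rw [tc_eq_dec hn]⟩
    obtain ⟨p, hp, hpe⟩ := h1
    exact ⟨p, hp, hpe⟩
  refine ⟨Classical.choose h, (Classical.choose_spec h).1, (Classical.choose_spec h).2, ?_⟩
  unfold lft
  rw [dif_pos h]

theorem lft_eq (hker : Odd (Nat.card π.ker)) {P : Subgroup M} (hP : IsPGroup 2 P) {ph : ℕ → N}
    (hPT : ∀ g : N, g ∈ P.map π ↔ ∃ n < 1024, ph (tc n) = g)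
    {a : ℕ} (ha : TC a) {p : M} (hp : p ∈ P) (hpa : π p = ph a) : lft π P ph a = p := by
  obtain ⟨q, hq, hqa, he⟩ := lft_spec π hPT ha
  rw [he, inj_of_odd π hker hP hq hp (hqa.trans hpa.symm)]

/-- **Closing theorem modulo a normal subgroup of odd order** (with a given Sylow subgroup). -/
theorem closing_core [Finite N] (hπ : Function.Surjective π) (hker : Odd (Nat.card π.ker))
    (z : M) (hA : ∀ g : G, g * z * g⁻¹ ∈ M → g ∈ M) {t1 t2 : Bool} {y1 y2 : N} {ph : ℕ → N}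
    (E : Emb (π z) ph) (P : Subgroup M) (hP : IsPGroup 2 P) (hzP : z ∈ P)
    (S : Sylow 2 G) (hS : (S : Subgroup G) = P.map M.subtype)
    (hPT : ∀ g : N, g ∈ P.map π ↔ ∃ n < 1024, ph (tc n) = g)
    (s1 : SideDef.Side (π z) ph t1 y1) (s2 : Side2 (π z) ph t2 y2)
    (hb : ¬ IsConj (π z) (ph (mu (X 0 3) (X 1 4))))
    (hV : t1 = true → t2 = true → ∀ g : G,
      (∀ b ∈ P, π b = ph tt ∨ π b = ph ClosingCheck.vv → g * (b : G) = b * g) → g ∈ M) :
    M = ⊤ := by
  have hzz : z * z = 1 := by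
    apply inj_of_odd π hker hP (P.mul_mem hzP hzP) P.one_mem
    rw [map_mul, map_one, ← Acts.ph_z E]
    exact Acts.p1_4 (ph := ph) ▸ (Acts.hom1 E).sq (by norm_num)
  have hH : ∀ c, C c → ph c ∈ (⊤ : Subgroup N) := fun _ _ => Subgroup.mem_top _
  have hph1 : ph e1 = 1 := Acts.ph_e1 E
  have td : TD (z : G) (lft π P ph) (S : Subgroup G) := by
    refine ⟨?_, ?_, ?_, ?_⟩
    · intro a b ha hb
      obtain ⟨p, hp, hpa, he⟩ := lft_spec π hPT ha
      obtain ⟨q, hq, hqa, hf⟩ := lft_spec π hPT hb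
      rw [he, hf, lft_eq π hker hP hPT (ha.mul hb) (P.mul_mem hp hq)]
      · rfl
      · rw [map_mul, hpa, hqa, E.mul (C_of_TC ha) (C_of_TC hb)]
    · intro a b ha hb h
      obtain ⟨p, hp, hpa, he⟩ := lft_spec π hPT ha
      obtain ⟨q, hq, hqa, hf⟩ := lft_spec π hPT hb
      apply E.inj (C_of_TC ha) (C_of_TC hb)
      rw [← hpa, ← hqa]
      congr 1
      apply Subtype.ext
      rw [← he, ← hf, h]
    · intro g
      rw [hS]
      constructor
      · rintro ⟨p, hp, rfl⟩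
        obtain ⟨n, hn, h1⟩ := (hPT (π p)).1 ⟨p, hp, rfl⟩
        refine ⟨dec n, ⟨n, hn, rfl⟩, ?_⟩
        exact lft_eq π hker hP hPT ⟨n, hn, rfl⟩ hp (by rw [← h1, tc_eq_dec hn])
      · rintro ⟨a, ha, rfl⟩
        obtain ⟨p, hp, hpa, he⟩ := lft_spec π hPT ha
        exact ⟨p, hp, he.symm⟩
    · exact lft_eq π hker hP hPT TC_zc hzP E.z_eq.symm
  have hinv : ∀ n < 1024, kf n ≠ 0 → mu (dec n) (dec n) = e1 := by
    intro n hn h0
    have h2 := (isC_mu (tc_spec hn h0).2.1).2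
    rwa [tc_eq_dec hn] at h2
  have hsq : ∀ {a : ℕ}, TC a → mu a a = e1 → ∀ p ∈ P, π p = ph a → p * p = 1 := by
    intro a ha haa p hp hpa
    apply inj_of_odd π hker hP (P.mul_mem hp hp) P.one_mem
    rw [map_mul, map_one, hpa, ← E.mul (C_of_TC ha) (C_of_TC ha), haa, hph1]
  -- conjugacy in the quotient gives conjugacy in `M`
  have hlift : ∀ {a b : ℕ}, TC a → TC b → mu a a = e1 → mu b b = e1 →
      (∃ h : N, h * ph a * h⁻¹ = ph b) →
      ∃ m ∈ M, m * lft π P ph a * m⁻¹ = lft π P ph b := by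
    intro a b ha hb haa hbb hab
    obtain ⟨h, hh⟩ := hab
    obtain ⟨p, hp, hpa, he⟩ := lft_spec π hPT ha
    obtain ⟨q, hq, hqa, hf⟩ := lft_spec π hPT hb
    obtain ⟨m0, rfl⟩ := hπ h
    have hpp := hsq ha haa p hp hpa
    obtain ⟨k, -, hk⟩ := conj_involutions π hker (a := m0 * p * m0⁻¹) (b := q) (by
      calc m0 * p * m0⁻¹ * (m0 * p * m0⁻¹) = m0 * (p * p) * m0⁻¹ := by group
        _ = 1 := by rw [hpp]; group) (hsq hb hbb q hq hqa) (by
      rw [map_mul, map_mul, map_inv, hpa, hqa, hh])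
    refine ⟨(k * m0 : M), (k * m0).2, ?_⟩
    rw [he, hf, ← hk]
    show ((k * m0 : M) : G) * p * ((k * m0 : M) : G)⁻¹ = _
    push_cast
    group
  have hzc : mu zc zc = e1 := by decide +kernel
  have htt2 : mu tt tt = e1 := by decide +kernel
  have hzl : lft π P ph zc = z := td.z_eq
  have hyp : Closing.Hyp (z : G) (lft π P ph) S M (msk t1 t2) := by
    refine ⟨td, ?_, ?_, ?_, ?_, ?_⟩
    · intro g hg
      apply hA
      rw [hg]
      have : (z : G) * g * g⁻¹ = z := by group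
      rw [this]; exact z.2
    · rintro a ⟨n, hn, rfl⟩ hz
      obtain ⟨h0, h1⟩ := (mask_iff t1 t2 hn).1 hz
      obtain ⟨h, -, hh⟩ := (fus E hH s1 s2 (Subgroup.mem_top _) (Subgroup.mem_top _) hn h0).1 h1
      rw [tc_eq_dec hn] at hh
      have := hlift TC_zc ⟨n, hn, rfl⟩ hzc (hinv n hn h0) ⟨h, by rw [E.z_eq]; exact hh⟩
      rw [hzl] at this
      exact this
    · rintro a ⟨n, hn, rfl⟩ hz
      obtain ⟨h0, h1⟩ := (mask_iff t1 t2 hn).1 hz
      refine ⟨hinv n hn h0, ?_⟩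
      intro h3
      have h4 : n = 0 := dec_inj hn (by norm_num) (h3.trans (by decide +kernel : e1 = dec 0))
      rw [h4] at h0
      exact h0 (by decide +kernel)
    · rintro a ⟨n, hn, rfl⟩ haa ha1 hz
      have h0 : kf n ≠ 0 := by
        apply kf_ne_zero hn
        · rintro rfl
          exact ha1 (by decide +kernel)
        · rw [tc_eq_dec hn]; exact haa
      have h1 : Fus8.zt t1 t2 (kf n) = false := by
        rcases h2 : Fus8.zt t1 t2 (kf n) with _ | _
        · rfl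
        · rw [(mask_iff t1 t2 hn).2 ⟨h0, h2⟩] at hz
          exact absurd hz (by decide)
      obtain ⟨h, -, hh⟩ := (fus E hH s1 s2 (Subgroup.mem_top _) (Subgroup.mem_top _) hn h0).2 h1
      rw [tc_eq_dec hn, tt_eq] at hh
      exact hlift TC_tt ⟨n, hn, rfl⟩ htt2 (hinv n hn h0) ⟨h, hh⟩
    · intro hc
      obtain ⟨g, hg⟩ := isConj_iff.1 hc
      obtain ⟨p, hp, hpa, he⟩ := lft_spec π hPT TC_tt
      have hgM : g ∈ M := by
        apply hA; rw [hg, he]; exact p.2
      apply hb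
      rw [tt_eq, ← hpa]
      refine isConj_iff.2 ⟨π ⟨g, hgM⟩, ?_⟩
      rw [← map_inv, ← map_mul, ← map_mul]
      congr 1
      apply Subtype.ext
      show g * z * g⁻¹ = p
      rw [hg, he]
  have h0 : ¬ TC 0 := by
    rintro ⟨n, hn, h⟩
    rw [dec_eq] at h
    omega
  cases t1 <;> cases t2
  · exact closing hyp main_m00 (by decide +kernel) (fun h => absurd h h0)
  · exact closing hyp main_m10 (by decide +kernel) (fun h => absurd h h0)
  · exact closing hyp main_m01 (by decide +kernel) (fun h => absurd h h0)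
  · refine closing hyp main_m11 (by decide +kernel) (fun _ g hg1 hg2 => hV rfl rfl g ?_)
    rintro b hb (h1 | h1)
    · have := lft_eq π hker hP hPT TC_tt hb h1
      rw [this] at hg1; exact hg1
    · have := lft_eq π hker hP hPT (a := ClosingCheck.vv) ⟨104, by norm_num, by decide +kernel⟩ hb h1
      rw [this] at hg2; exact hg2

end Core

section SylowPart

variable {G : Type*} [Group G] [Finite G] {M : Subgroup G} {N : Type*} [Group N] [Finite N]
  (π : M →* N)

/-- A Sylow subgroup of `M` over a given Sylow subgroup of `N` containing the involution `z`; it is a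
Sylow subgroup of `G`. -/
theorem exists_sylow (hπ : Function.Surjective π) (hker : Odd (Nat.card π.ker))
    (z : M) (hzz : z * z = 1) (hA : ∀ g : G, g * z * g⁻¹ ∈ M → g ∈ M) (T : Sylow 2 N)
    (hzT : π z ∈ (T : Subgroup N)) :
    ∃ P : Subgroup M, IsPGroup 2 P ∧ z ∈ P ∧ P.map π = T ∧
      ∃ S : Sylow 2 G, (S : Subgroup G) = P.map M.subtype := by
  have f2 : Fact (Nat.Prime 2) := ⟨Nat.prime_two⟩
  have P1 : Sylow 2 M := default
  have hmap : ∀ g : M, ∀ x : N, x ∈ ((g • P1 : Sylow 2 M) : Subgroup M).map π ↔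
      ∃ p ∈ (P1 : Subgroup M), π (g * p * g⁻¹) = x := by
    intro g x
    constructor
    · rintro ⟨y, hy, rfl⟩
      have hy' : y ∈ ((g • P1 : Sylow 2 M) : Subgroup M) := hy
      rw [Sylow.coe_subgroup_smul, Subgroup.mem_pointwise_smul_iff_inv_smul_mem] at hy'
      refine ⟨g⁻¹ * y * g, ?_, ?_⟩
      · simpa using hy'
      · congr 1; group
    · rintro ⟨p, hp, rfl⟩
      refine ⟨g * p * g⁻¹, ?_, rfl⟩
      show g * p * g⁻¹ ∈ ((g • P1 : Sylow 2 M) : Subgroup M)
      rw [Sylow.coe_subgroup_smul]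
      have := Subgroup.smul_mem_pointwise_smul p (MulAut.conj g) (P1 : Subgroup M) hp
      simpa using this
  obtain ⟨n, hn⟩ := MulAction.exists_smul_eq N (P1.mapSurjective hπ) T
  obtain ⟨m, rfl⟩ := hπ n
  have hT : ∀ x : N, x ∈ (T : Subgroup N) ↔ ∃ p ∈ (P1 : Subgroup M), π (m * p * m⁻¹) = x := by
    intro x
    rw [← hn, Sylow.coe_subgroup_smul, Subgroup.mem_pointwise_smul_iff_inv_smul_mem]
    have e1 : (MulAut.conj (π m))⁻¹ • x = (π m)⁻¹ * x * π m := by
      rw [← map_inv, MulAut.smul_def, MulAut.conj_apply, inv_inv]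
    rw [e1]
    constructor
    · rintro ⟨p, hp, hpe⟩
      refine ⟨p, hp, ?_⟩
      rw [map_mul, map_mul, map_inv, hpe]; group
    · rintro ⟨p, hp, rfl⟩
      refine ⟨p, hp, ?_⟩
      rw [map_mul, map_mul, map_inv]; group
  obtain ⟨p0, hp0, hp0z⟩ := (hT _).1 hzT
  have hp0' : m * p0 * m⁻¹ ∈ ((m • P1 : Sylow 2 M) : Subgroup M) := by
    rw [Sylow.coe_subgroup_smul]
    have := Subgroup.smul_mem_pointwise_smul p0 (MulAut.conj m) (P1 : Subgroup M) hp0
    simpa using this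
  have h2 : (m * p0 * m⁻¹) * (m * p0 * m⁻¹) = 1 := by
    apply inj_of_odd π hker (m • P1 : Sylow 2 M).2 (Subgroup.mul_mem _ hp0' hp0') (Subgroup.one_mem _)
    rw [map_mul, hp0z, ← map_mul, hzz]
  obtain ⟨k, hk, hkz⟩ := conj_involutions π hker h2 hzz hp0z
  let P : Sylow 2 M := (k * m) • P1
  have hPT : (P : Subgroup M).map π = T := by
    ext x
    rw [hT]
    show x ∈ (((k * m) • P1 : Sylow 2 M) : Subgroup M).map π ↔ _
    rw [hmap]
    have e : ∀ p : M, π (k * m * p * (k * m)⁻¹) = π (m * p * m⁻¹) := by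
      intro p
      rw [show k * m * p * (k * m)⁻¹ = k * (m * p * m⁻¹) * k⁻¹ by group, map_mul, map_mul, map_inv,
        hk, one_mul, inv_one, mul_one]
    constructor
    · rintro ⟨p, hp, hpe⟩
      exact ⟨p, hp, by rw [← e]; exact hpe⟩
    · rintro ⟨p, hp, hpe⟩
      exact ⟨p, hp, by rw [e]; exact hpe⟩
  have hzP : z ∈ (P : Subgroup M) := by
    show z ∈ (((k * m) • P1 : Sylow 2 M) : Subgroup M)
    rw [Sylow.coe_subgroup_smul]
    have := Subgroup.smul_mem_pointwise_smul p0 (MulAut.conj (k * m)) (P1 : Subgroup M) hp0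
    have e : (MulAut.conj (k * m)) • p0 = z := by
      rw [MulAut.smul_def, MulAut.conj_apply, ← hkz]; group
    rwa [e] at this
  refine ⟨P, P.2, hzP, hPT, ?_⟩
  have hPG : IsPGroup 2 ((P : Subgroup M).map M.subtype) := P.2.map _
  refine ⟨⟨(P : Subgroup M).map M.subtype, hPG, ?_⟩, rfl⟩
  intro Q hQ hPQ
  apply le_antisymm _ hPQ
  -- inside `M` nothing new
  have hin : ∀ x ∈ Q, x ∈ M → x ∈ (P : Subgroup M).map M.subtype := by
    intro x hx hxM
    have h1 : Q.subgroupOf M = P := by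
      apply P.3
      · exact hQ.comap_of_injective M.subtype M.subtype_injective
      · intro p hp
        exact hPQ ⟨p, hp, rfl⟩
    have h2 : (⟨x, hxM⟩ : M) ∈ Q.subgroupOf M := hx
    rw [h1] at h2
    exact ⟨_, h2, rfl⟩
  have hnil : Group.IsNilpotent Q := hQ.isNilpotent
  have hnc : NormalizerCondition Q := Group.normalizerCondition_of_isNilpotent
  by_contra hne
  have hlt : ((P : Subgroup M).map M.subtype).subgroupOf Q < ⊤ := by
    rw [lt_top_iff_ne_top]
    intro h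
    apply hne
    intro x hx
    have : (⟨x, hx⟩ : Q) ∈ ((P : Subgroup M).map M.subtype).subgroupOf Q := by rw [h]; trivial
    exact this
  obtain ⟨x, hx, hxn⟩ := SetLike.exists_of_lt (hnc _ hlt)
  apply hxn
  have hzPG : (z : G) ∈ (P : Subgroup M).map M.subtype := ⟨z, hzP, rfl⟩
  have h3 := (Subgroup.mem_normalizer_iff.1 hx ⟨z, hPQ hzPG⟩).1 hzPG
  have h4 : (x : G) * z * (x : G)⁻¹ ∈ (P : Subgroup M).map M.subtype := h3
  have h5 : (x : G) ∈ M := by
    apply hA
    obtain ⟨p, -, hp⟩ := h4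
    rw [← hp]; exact p.2
  exact hin x x.2 h5

end SylowPart

section Main

open Cfsg.Agent.SporadicRecognition.HeldModel Cfsg.Agent.Lib.F2Mat
  Cfsg.Agent.Held.NoBModel Cfsg.Agent.Held.Pattern Cfsg.Agent.Held.Code Cfsg.Agent.Held.PFus
  Cfsg.Agent.Held.Assembly

variable {G : Type*} [Group G] [Finite G] {M : Subgroup G} {N : Type*} [Group N] [Finite N]
  (π : M →* N)

/-- **Closing theorem modulo a normal subgroup of odd order.** `M` controls the fusion of `z`
(`hA`), `N` is the quotient of `M` by a normal subgroup of odd order, the centraliser of the image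
of `z` in `N` is the one of a transvection of `SL(5, 2)`, and both `x03`, `x14` are fused to it
in `N` (so `N` is `L5(2)`, `M24` or `He`). Then `M = G`. -/
theorem eq_top (hπ : Function.Surjective π) (hker : Odd (Nat.card π.ker))
    (z : M) (hzz : z * z = 1) (hA : ∀ g : G, g * z * g⁻¹ ∈ M → g ∈ M) {ι : CC →* N}
    (h : Hyp (π z) ι) (h1 : IsConj (π z) (ι x03C)) (h2 : IsConj (π z) (ι x14C)) : M = ⊤ := by
  have Fu := fusion h
  obtain ⟨T, hT⟩ := Fu.sylow
  have hb := NoBFin.not_isConj_bC h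
  obtain ⟨ph, E, hl⟩ := SideHyp.exists_ph h
  obtain ⟨t1, t2, y1, y2, c⟩ := SideHyp.config h E hl Fu.ctl1 Fu.ctl2 h1 h2
  have hbt : ∀ t : Bool, t.toNat = 0 ∨ t.toNat = 1 := by decide
  have hbt' : ∀ t : Bool, Nat.beq t.toNat 1 = t := by decide
  have s1 := ConfigThm.toSide E (hbt t1) c.side1
  have s2 := ConfigThm.toSide2 E (hbt t2) c.side2
  rw [hbt'] at s1 s2
  have hb' : ¬ IsConj (π z) (ph (mu (X 0 3) (X 1 4))) := by
    have e : ι bC = ph (mu (X 0 3) (X 1 4)) := by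
      rw [← hl bC]
      show ph (cd (x 0 3 * x 1 4)) = _
      rw [cd_mul, cd_x, cd_x]
      rfl
    rw [← e]; exact hb
  have hzT : π z ∈ (T : Subgroup N) := by
    rw [hT, ← h.map_zz]
    exact mem_im.2 ⟨zC, PCase.R1_le_T0 PCase.zC_mem_R1, rfl⟩
  obtain ⟨P, hP, hzP, hPT, S, hS⟩ := exists_sylow π hπ hker z hzz hA T hzT
  have hPT' : ∀ g : N, g ∈ P.map π ↔ ∃ n < 1024, ph (Fus8.tc n) = g := fun g => by
    rw [hPT, hT]; exact mem_T0_codes hl g
  have hH : ∀ c, C c → ph c ∈ (⊤ : Subgroup N) := fun _ _ => Subgroup.mem_top _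
  refine closing_core π hπ hker z hA E P hP hzP S hS hPT' s1 s2 hb' ?_
  rintro rfl rfl g hg
  have hi := iota_eq E hl
  obtain ⟨y0, cfg⟩ := CentBCfg.cfg_BB E T (by rw [hT, hi])
    (fun n hn h0 ht => ((Fus8.fus E hH s1 s2 (Subgroup.mem_top _) (Subgroup.mem_top _) hn h0).1
      ht).isConj)
    (fun n hn h0 ht => Fus8.fus_not E hH s1 s2 (Subgroup.mem_top _) (Subgroup.mem_top _) hb' hn h0
      ht)
    (by rw [hi]; exact Fu.weak) c
  -- the part of `P` over `J`
  set J : Subgroup N := im (CentB.iota E) JJ with hJ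
  have hJT : J ≤ P.map π := by
    rw [hPT, hT, ← hi]
    exact im_le JJ_le_T0
  set P0 : Subgroup M := P ⊓ J.comap π with hP0
  have hP0J : P0.map π = J := by
    apply le_antisymm
    · rintro _ ⟨p, hp, rfl⟩
      exact hp.2
    · intro j hj
      obtain ⟨p, hp, rfl⟩ := hJT hj
      exact ⟨p, ⟨hp, hj⟩, rfl⟩
  have hzJ : π z ∈ J := cfg.hVJ (cfg.hXV cfg.hzX)
  refine centralizer_le_odd π hπ hker z hA cfg P0 (hP.to_le inf_le_left) hP0J ⟨hzP, hzJ⟩ g ?_
  intro b hb0 hbB
  have hbP : b ∈ P := hb0.1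
  obtain ⟨⟨w, hw'⟩, ⟨a, ha, hae⟩, hab⟩ := mem_im.1 hbB
  have hae' : ve a = w := hae
  subst hae'
  rw [CentB.iota_ve E a hw'] at hab
  have e34 : Acts.P1 ph 34 = ph ClosingCode.tt := congrArg ph (by decide +kernel)
  have e52 : Acts.P1 ph 52 = ph ClosingCheck.vv := congrArg ph (by decide +kernel)
  have key : ∀ a : Fin 64, CentB.bi a = true → (a : ℕ) = 0 ∨ (a : ℕ) = 34 ∨ (a : ℕ) = 52 ∨
      (a : ℕ) = 22 := by decide +kernel
  have hex : ∀ k : Fin 64, CentB.bi k = true → ∃ p : M, p ∈ P ∧ π p = Acts.P1 ph k := by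
    intro k hk
    have h3 : Acts.P1 ph k ∈ P.map π := by
      apply hJT
      rw [← CentB.iota_ve E k (V1_le_CC (ve_mem k))]
      exact mem_im.2 ⟨_, CentB.BB_le_FF.trans (FF_le_V1.trans V1_le_JJ)
        (CentB.ve_mem_BB.2 hk), rfl⟩
    obtain ⟨p, hp, hpe⟩ := h3
    exact ⟨p, hp, hpe⟩
  rcases key a ha with e | e | e | e
  · have h3 : π b = 1 := by rw [← hab, e, (Acts.hom1 E).zero]
    have h4 : b = 1 := inj_of_odd π hker hP hbP P.one_mem (by rw [h3, map_one])
    rw [h4]; simp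
  · apply hg b hbP
    left; rw [← hab, e]; exact e34
  · apply hg b hbP
    right; rw [← hab, e]; exact e52
  · obtain ⟨p, hp, hpe⟩ := hex 34 (by decide +kernel)
    obtain ⟨p', hp', hpe'⟩ := hex 52 (by decide +kernel)
    have e2 : Acts.P1 ph 22 = Acts.P1 ph 34 * Acts.P1 ph 52 := by
      rw [← (Acts.hom1 E) 34 52 (by norm_num) (by norm_num)]
      rfl
    have h4 : b = p * p' := by
      apply inj_of_odd π hker hP hbP (P.mul_mem hp hp')
      rw [← hab, e, e2, map_mul, hpe, hpe']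
      rfl
    have k1 := hg p hp (Or.inl (by rw [hpe]; exact e34))
    have k2 := hg p' hp' (Or.inr (by rw [hpe']; exact e52))
    rw [h4]
    show g * ((p : G) * p') = (p : G) * p' * g
    rw [← mul_assoc, k1, mul_assoc, k2, ← mul_assoc]

end Main

end Cfsg.Agent.Held.ClosingOdd
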