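import Mathlib
import Cfsg.Prelude.Def_Involutions
import Cfsg.Agent.Held.MaxStab

/-!
# Maximal 2-subgroups in `H ∩ H^g`, version inside a subgroup of the normaliser

`R` a maximal stabiliser (`IsMaxStab H R g`), `N ≤ N_G(R)` with `N` not contained in `H`. Then
`(H ∩ N)R/R` is strongly embedded in `N/(N ∩ R)`.  With `N = C_G(R)` this gives a conjugating
element centralising `R`.
-/

set_option autoImplicit false

namespace Cfsg.Agent.Held.MaxStabC

open Cfsg Subgroup Cfsg.Agent.Held.MaxStab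

variable {G : Type*} [Group G]

/-- `R ∩ N` as a subgroup of `N` -/
abbrev RN (R N : Subgroup G) : Subgroup N := R.subgroupOf N

theorem RN_normal {R N : Subgroup G} (hN : N ≤ normalizer (R : Set G)) : (RN R N).Normal := by
  constructor
  intro n hn m
  have h1 : (n : G) ∈ R := hn
  have h2 : (m : G) ∈ normalizer (R : Set G) := hN m.2
  show (m : G) * n * (m : G)⁻¹ ∈ R
  exact (Subgroup.mem_normalizer_iff.1 h2 n).1 h1

/-- the image of `H ∩ N` in `N/(R ∩ N)` -/
def KN (H R N : Subgroup G) [(RN R N).Normal] : Subgroup (N ⧸ RN R N) :=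
  (H.subgroupOf N).map (QuotientGroup.mk' (RN R N))

theorem mem_KN {H R N : Subgroup G} [(RN R N).Normal] (hRH : R ≤ H) (n : N) :
    (QuotientGroup.mk' (RN R N) n) ∈ KN H R N ↔ (n : G) ∈ H := by
  constructor
  · rintro ⟨m, hm, hmn⟩
    have h1 : (m : N)⁻¹ * n ∈ RN R N := QuotientGroup.eq.1 hmn
    have h2 : ((m : N) : G)⁻¹ * n ∈ R := h1
    have h3 : (n : G) = m * ((m : G)⁻¹ * n) := by group
    rw [h3]
    exact H.mul_mem hm (hRH h2)
  · intro hn
    exact ⟨n, hn, rfl⟩

theorem orderOf_mk {R N : Subgroup G} [(RN R N).Normal] (n : N) (h1 : (n : G) ∉ R)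
    (h2 : (n : G) * n ∈ R) : orderOf (QuotientGroup.mk' (RN R N) n) = 2 := by
  apply orderOf_eq_prime
  · rw [← map_pow]
    show ((n ^ 2 : N) : N ⧸ RN R N) = 1
    rw [QuotientGroup.eq_one_iff]
    show ((n ^ 2 : N) : G) ∈ R
    rw [pow_two]; exact h2
  · intro h3
    apply h1
    have h4 : ((n : N) : N ⧸ RN R N) = 1 := h3
    rw [QuotientGroup.eq_one_iff] at h4
    exact h4

theorem of_orderOf_mk {R N : Subgroup G} [(RN R N).Normal] (n : N)
    (h : orderOf (QuotientGroup.mk' (RN R N) n) = 2) : (n : G) ∉ R ∧ (n : G) * n ∈ R := by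
  constructor
  · intro h1
    have h2 : QuotientGroup.mk' (RN R N) n = 1 := (QuotientGroup.eq_one_iff (N := RN R N) n).2 h1
    rw [h2, orderOf_one] at h
    exact absurd h (by norm_num)
  · have h1 : (QuotientGroup.mk' (RN R N) n) ^ 2 = 1 := by rw [← h]; exact pow_orderOf_eq_one _
    rw [← map_pow] at h1
    have h2 : (n ^ 2 : N) ∈ RN R N := (QuotientGroup.eq_one_iff (N := RN R N) (n ^ 2)).1 h1
    have h3 : ((n ^ 2 : N) : G) ∈ R := h2
    rwa [pow_two] at h3

/-- `K = (H ∩ N)R/R` is strongly embedded. -/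
theorem stronglyEmbedded [Finite G] {H R N : Subgroup G} {g : G} [(RN R N).Normal]
    (h : IsMaxStab H R g) (hN : N ≤ normalizer (R : Set G))
    (b : G) (hbN : b ∈ N) (hbH : b ∉ H)
    (a : G) (haN : a ∈ N) (haH : a ∈ H) (haR : a ∉ R) (haa : a * a ∈ R) :
    IsStronglyEmbedded (KN H R N) := by
  refine ⟨?_, ?_, ?_⟩
  · intro htop
    have h1 : QuotientGroup.mk' (RN R N) ⟨b, hbN⟩ ∈ KN H R N := by rw [htop]; trivial
    exact hbH ((mem_KN h.le ⟨b, hbN⟩).1 h1)
  · have h1 : orderOf (⟨QuotientGroup.mk' (RN R N) ⟨a, haN⟩, (mem_KN h.le ⟨a, haN⟩).2 haH⟩ :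
        KN H R N) = 2 := by
      rw [Subgroup.orderOf_mk]
      exact orderOf_mk ⟨a, haN⟩ haR haa
    rw [even_iff_two_dvd, ← h1]
    exact orderOf_dvd_natCard _
  · intro y hy
    obtain ⟨n, rfl⟩ := QuotientGroup.mk'_surjective (RN R N) y
    rw [← Nat.not_even_iff_odd, even_iff_two_dvd]
    intro hdvd
    have f2 : Fact (Nat.Prime 2) := ⟨Nat.prime_two⟩
    obtain ⟨w, hw⟩ := exists_prime_orderOf_dvd_card' 2 hdvd
    obtain ⟨m, hm⟩ := QuotientGroup.mk'_surjective (RN R N) (w : N ⧸ RN R N)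
    have hw1 : orderOf (w : N ⧸ RN R N) = 2 := by rw [← hw]; exact Subgroup.orderOf_coe w
    have hmK : QuotientGroup.mk' (RN R N) m ∈ KN H R N := by
      rw [hm]; exact w.2.1
    have hmH : (m : G) ∈ H := (mem_KN h.le m).1 hmK
    obtain ⟨hmR, hmm⟩ := of_orderOf_mk m (by rw [hm]; exact hw1)
    have hnH : (n : G) ∉ H := by
      intro h1
      exact hy ((mem_KN h.le n).2 h1)
    have hmN : (m : G) ∈ normalizer (R : Set G) := hN m.2
    have hnN : (n : G) ∈ normalizer (R : Set G) := hN n.2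
    have hmn : (n : G)⁻¹ * m * n ∈ H := by
      obtain ⟨v, hv, hvw⟩ := w.2.2
      have h1 : (QuotientGroup.mk' (RN R N) n) * v * (QuotientGroup.mk' (RN R N) n)⁻¹ =
          QuotientGroup.mk' (RN R N) m := by
        rw [hm]; exact hvw
      have h2 : v = QuotientGroup.mk' (RN R N) (n⁻¹ * m * n) := by
        rw [map_mul, map_mul, ← h1, map_inv]; group
      rw [h2] at hv
      exact (mem_KN h.le (n⁻¹ * m * n)).1 hv
    have h2 := h.max (R ⊔ zpowers (m : G)) n (isPGroup_adjoin R h.two m hmN hmm) hnH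
      (sup_le h.le (by rw [zpowers_le]; exact hmH)) (by
        have h3 : (R ⊔ zpowers (m : G)) ≤ H.map (MulAut.conj (n : G)).toMonoidHom := by
          apply sup_le
          · intro x hx
            have hx' : (n : G)⁻¹ * x * n ∈ R := by
              have h5 := (Subgroup.mem_normalizer_iff.1 ((normalizer (R : Set G)).inv_mem hnN) x).1 hx
              simpa using h5
            exact ⟨(n : G)⁻¹ * x * n, h.le hx', by
              show (n : G) * ((n : G)⁻¹ * x * n) * (n : G)⁻¹ = x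
              group⟩
          · rw [zpowers_le]
            exact ⟨(n : G)⁻¹ * m * n, hmn, by
              show (n : G) * ((n : G)⁻¹ * m * n) * (n : G)⁻¹ = m
              group⟩
        intro x hx
        obtain ⟨y, hy, hyx⟩ := h3 hx
        have h4 : (n : G)⁻¹ * x * n = y := by
          rw [← hyx]
          show (n : G)⁻¹ * ((n : G) * y * (n : G)⁻¹) * n = y
          group
        rw [h4]; exact hy) le_sup_left
    apply hmR
    rw [← h2]
    exact (le_sup_right : zpowers (m : G) ≤ _) (mem_zpowers (m : G))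

/-- fusion of the involutions of `N/(N ∩ R)`, with a conjugating element of `N` -/
theorem exists_conj_in [Finite G] {H R N : Subgroup G} {g : G}
    (h : IsMaxStab H R g) (hN : N ≤ normalizer (R : Set G))
    (b : G) (hbN : b ∈ N) (hbH : b ∉ H)
    (a : G) (haN : a ∈ N) (haH : a ∈ H) (haR : a ∉ R) (haa : a * a ∈ R)
    (x : G) (hxN : x ∈ N) (hxR : x ∉ R) (hxx : x * x ∈ R) :
    ∃ n ∈ N, ∃ r ∈ R, n * a * n⁻¹ = x * r := by
  have := RN_normal hN
  have hSE := stronglyEmbedded h hN b hbN hbH a haN haH haR haa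
  have hconj := TwoFusion.StronglyEmbeddedBasic.isConj_of_involutions hSE
    (QuotientGroup.mk' (RN R N) ⟨a, haN⟩) (QuotientGroup.mk' (RN R N) ⟨x, hxN⟩)
    (orderOf_mk ⟨a, haN⟩ haR haa) (orderOf_mk ⟨x, hxN⟩ hxR hxx)
  rw [isConj_iff] at hconj
  obtain ⟨c, hc⟩ := hconj
  obtain ⟨n, rfl⟩ := QuotientGroup.mk'_surjective (RN R N) c
  refine ⟨n, n.2, x⁻¹ * (n * a * (n : G)⁻¹), ?_, by group⟩
  have h1 : QuotientGroup.mk' (RN R N) ⟨x, hxN⟩ =
      QuotientGroup.mk' (RN R N) (n * ⟨a, haN⟩ * n⁻¹) := by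
    rw [map_mul, map_mul, map_inv]; exact hc.symm
  have h2 : (⟨x, hxN⟩ : N)⁻¹ * (n * ⟨a, haN⟩ * n⁻¹) ∈ RN R N := QuotientGroup.eq.1 h1
  exact h2

/-- **Key lemma, strong version.** Let `z` be an involution with `C_G(z) ≤ H` fixing only one point
of `G/H`, such that every 2-subgroup of `H` is centralised by an `H`-conjugate of `z`. If `R` is a
maximal stabiliser centralised by `z`, then every `x ∈ N_G(R) \ R` with `x² ∈ R` has, modulo `R`, the
form `n z n⁻¹` with `n` centralising `R`. -/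
theorem exists_conj_centralizer [Finite G] {H R : Subgroup G} {g : G} (h : IsMaxStab H R g)
    (z : G) (hz1 : z ≠ 1) (hzz : z * z = 1) (hzH : z ∈ H)
    (hfix : ∀ k : G, k * z * k⁻¹ ∈ H → k ∈ H)
    (hcen : ∀ P : Subgroup G, IsPGroup 2 P → P ≤ H → ∃ k ∈ H, ∀ x ∈ P, x * (k * z * k⁻¹) = k * z * k⁻¹ * x)
    (hzR : ∀ x ∈ R, x * z = z * x)
    (x : G) (hxN : x ∈ normalizer (R : Set G)) (hxR : x ∉ R) (hxx : x * x ∈ R) :
    ∃ n : G, (∀ y ∈ R, y * n = n * y) ∧ ∃ r ∈ R, n * z * n⁻¹ = x * r := by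
  have hzR' : z ∉ R := by
    intro hz
    have h1 := h.le' z hz
    have h2 : g⁻¹ ∈ H := hfix g⁻¹ (by simpa using h1)
    exact h.notMem (by simpa using H.inv_mem h2)
  -- a conjugate of z outside H which centralises R
  obtain ⟨b, hbC, hbH, hb1, hbb⟩ : ∃ b : G, (∀ y ∈ R, y * b = b * y) ∧ b ∉ H ∧ b ≠ 1 ∧ b * b = 1 := by
    obtain ⟨k, hk, hkc⟩ := hcen (R.map (MulAut.conj g⁻¹).toMonoidHom) (h.two.map _) (by
      rintro _ ⟨y, hy, rfl⟩
      show g⁻¹ * y * g⁻¹⁻¹ ∈ H
      rw [inv_inv]; exact h.le' y hy)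
    refine ⟨g * (k * z * k⁻¹) * g⁻¹, ?_, ?_, ?_, ?_⟩
    · intro y hy
      have h1 := hkc (g⁻¹ * y * g⁻¹⁻¹) ⟨y, hy, rfl⟩
      rw [inv_inv] at h1
      have h2 : g * ((g⁻¹ * y * g) * (k * z * k⁻¹)) * g⁻¹ = g * ((k * z * k⁻¹) * (g⁻¹ * y * g)) * g⁻¹ := by
        rw [h1]
      calc y * (g * (k * z * k⁻¹) * g⁻¹) = g * ((g⁻¹ * y * g) * (k * z * k⁻¹)) * g⁻¹ := by group
        _ = _ := h2
        _ = _ := by group
    · intro hH
      have h1 : (g * k) * z * (g * k)⁻¹ ∈ H := by
        have : (g * k) * z * (g * k)⁻¹ = g * (k * z * k⁻¹) * g⁻¹ := by group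
        rw [this]; exact hH
      have h2 := hfix _ h1
      apply h.notMem
      have : g = (g * k) * k⁻¹ := by group
      rw [this]; exact H.mul_mem h2 (H.inv_mem hk)
    · intro h1
      apply hz1
      have : z = k⁻¹ * (g⁻¹ * (g * (k * z * k⁻¹) * g⁻¹) * g) * k := by group
      rw [this, h1]; group
    · calc g * (k * z * k⁻¹) * g⁻¹ * (g * (k * z * k⁻¹) * g⁻¹) = g * (k * (z * z) * k⁻¹) * g⁻¹ := by group
        _ = 1 := by rw [hzz]; group
  have hCN : centralizer (R : Set G) ≤ normalizer (R : Set G) := by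
    intro c hc
    rw [Subgroup.mem_normalizer_iff]
    rw [Subgroup.mem_centralizer_iff] at hc
    intro y
    constructor
    · intro hy
      have := hc y hy
      have h2 : c * y * c⁻¹ = y := by rw [← this]; group
      rw [h2]; exact hy
    · intro hy
      have h1 := hc _ hy
      have h2 : y = c * y * c⁻¹ := by
        have h3 : c⁻¹ * (c * y * c⁻¹ * c) = c⁻¹ * (c * (c * y * c⁻¹)) := by rw [h1]
        calc y = c⁻¹ * (c * y * c⁻¹ * c) := by group
          _ = _ := h3
          _ = _ := by group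
      rw [h2]; exact hy
  have hbCR : b ∈ centralizer (R : Set G) := by
    rw [Subgroup.mem_centralizer_iff]; exact hbC
  have hzCR : z ∈ centralizer (R : Set G) := by
    rw [Subgroup.mem_centralizer_iff]; exact hzR
  have hzzR : z * z ∈ R := by rw [hzz]; exact R.one_mem
  -- first step: x is, mod R, conjugate to z in the normaliser
  obtain ⟨m, hmN, r, hr, hmr⟩ := exists_conj_in h (le_refl (normalizer (R : Set G))) b (hCN hbCR) hbH z
    (hCN hzCR) hzH hzR' hzzR x hxN hxR hxx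
  have hcC : x * r ∈ centralizer (R : Set G) := by
    rw [← hmr, Subgroup.mem_centralizer_iff]
    intro y hy
    have h1 : m⁻¹ * y * m ∈ R := by
      have := (Subgroup.mem_normalizer_iff.1 ((normalizer (R : Set G)).inv_mem hmN) y).1 hy
      simpa using this
    have h2 := hzR _ h1
    calc y * (m * z * m⁻¹) = m * ((m⁻¹ * y * m) * z) * m⁻¹ := by group
      _ = m * (z * (m⁻¹ * y * m)) * m⁻¹ := by rw [h2]
      _ = m * z * m⁻¹ * y := by group
  have hcR : x * r ∉ R := by
    intro h1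
    apply hxR
    have : x = (x * r) * r⁻¹ := by group
    rw [this]; exact R.mul_mem h1 (R.inv_mem hr)
  have hcc : (x * r) * (x * r) ∈ R := by
    rw [← hmr]
    have : m * z * m⁻¹ * (m * z * m⁻¹) = m * (z * z) * m⁻¹ := by group
    rw [this, hzz]
    have : m * 1 * m⁻¹ = 1 := by group
    rw [this]; exact R.one_mem
  obtain ⟨n, hn, r', hr', hnr⟩ := exists_conj_in h hCN b hbCR hbH z hzCR hzH hzR' hzzR (x * r) hcC hcR hcc
  refine ⟨n, ?_, r * r', R.mul_mem hr hr', by rw [hnr, mul_assoc]⟩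
  rw [Subgroup.mem_centralizer_iff] at hn
  exact hn

end Cfsg.Agent.Held.MaxStabC
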