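import Cfsg.Agent.Held.ClosingT
import Cfsg.Agent.Held.MaxStabC

/-!
# Soundness of the kernel search of `ClosingCode`
-/

set_option autoImplicit false

namespace Cfsg.Agent.Held.ClosingSound

open Cfsg.Agent.Lib.F2Mat Cfsg.Agent.Held.Code Cfsg.Agent.Held.ClosingCode Cfsg.Agent.Held.ClosingT
open Subgroup

variable {G : Type*} [Group G]

/-- `ph` is an embedding of the unitriangular codes in `G` with image `S`. -/
structure TD (z : G) (ph : ℕ → G) (S : Subgroup G) : Prop where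
  mul : ∀ {a b : ℕ}, TC a → TC b → ph (mu a b) = ph a * ph b
  inj : ∀ {a b : ℕ}, TC a → TC b → ph a = ph b → a = b
  surj : ∀ g : G, g ∈ S ↔ ∃ a, TC a ∧ ph a = g
  z_eq : ph zc = z

theorem TD.one {z : G} {ph : ℕ → G} {S : Subgroup G} (h : TD z ph S) : ph e1 = 1 := by
  have h1 := h.mul TC_e1 TC_e1
  have h2 : mu e1 e1 = e1 := mu_e1 (by norm_num)
  rw [h2] at h1
  exact (mul_eq_left.1 h1.symm)

/-- the list `L` of codes represents the subgroup `K` -/
def Rep (ph : ℕ → G) (K : Subgroup G) (L : List ℕ) : Prop :=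
  (∀ a ∈ L, TC a) ∧ ∀ g : G, g ∈ K ↔ ∃ a ∈ L, ph a = g

/-- In a 2-group, a proper subgroup is normalised by some `x` outside with `x²` inside. -/
theorem chain [Finite G] {R K : Subgroup G} (hR : IsPGroup 2 R) (hKR : K ≤ R) (hne : K ≠ R) :
    ∃ x ∈ R, x ∉ K ∧ x ∈ normalizer (K : Set G) ∧ x * x ∈ K := by
  have f2 : Fact (Nat.Prime 2) := ⟨Nat.prime_two⟩
  obtain ⟨N, hN⟩ := (IsPGroup.iff_card (p := 2)).1 hR
  have hK2 : IsPGroup 2 K := hR.to_le hKR
  obtain ⟨n, hn⟩ := (IsPGroup.iff_card (p := 2)).1 hK2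
  have hlt : Nat.card K < Nat.card R := by
    rcases lt_or_ge (Nat.card K) (Nat.card R) with h | h
    · exact h
    · exact absurd (Subgroup.eq_of_le_of_card_ge hKR h) hne
  have hnN : n < N := by
    rw [hn, hN] at hlt
    exact (Nat.pow_lt_pow_iff_right (by norm_num)).1 hlt
  let K' : Subgroup R := K.subgroupOf R
  have hK' : Nat.card K' = 2 ^ n := by
    rw [← hn]
    exact Nat.card_congr (Subgroup.subgroupOfEquivOfLe hKR).toEquiv
  obtain ⟨M, hM, hKM⟩ := Sylow.exists_subgroup_card_pow_succ (G := R) (p := 2) (n := n)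
    (by rw [hN]; exact pow_dvd_pow 2 hnN) hK'
  have hcard : Nat.card (K'.subgroupOf M) = 2 ^ n := by
    rw [← hK']
    exact Nat.card_congr (Subgroup.subgroupOfEquivOfLe hKM).toEquiv
  have hidx : (K'.subgroupOf M).index = 2 := by
    have h1 := (K'.subgroupOf M).card_mul_index
    rw [hcard, hM, pow_succ] at h1
    exact Nat.eq_of_mul_eq_mul_left (by positivity) h1
  have hnorm := Subgroup.normal_of_index_eq_two hidx
  obtain ⟨m, hm⟩ : ∃ m : M, m ∉ K'.subgroupOf M := by
    by_contra hcon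
    push Not at hcon
    have : K'.subgroupOf M = ⊤ := eq_top_iff.2 fun x _ => hcon x
    rw [this, Subgroup.index_top] at hidx
    exact absurd hidx (by norm_num)
  refine ⟨((m : R) : G), (m : R).2, ?_, ?_, ?_⟩
  · intro h; exact hm h
  · apply Subgroup.mem_normalizer_fintype
    intro k hk
    have hkR : k ∈ R := hKR hk
    have hkM : (⟨k, hkR⟩ : R) ∈ M := hKM hk
    have h1 : (⟨⟨k, hkR⟩, hkM⟩ : M) ∈ K'.subgroupOf M := hk
    exact hnorm.conj_mem _ h1 m
  · exact Subgroup.mul_self_mem_of_index_two hidx m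

/-- `K ∪ xK` -/
def extK (K : Subgroup G) (x : G) (hx : x ∈ normalizer (K : Set G)) (hxx : x * x ∈ K) :
    Subgroup G where
  carrier := {g | g ∈ K ∨ x⁻¹ * g ∈ K}
  one_mem' := Or.inl K.one_mem
  mul_mem' := by
    intro a b ha hb
    have hn : ∀ k ∈ K, x * k * x⁻¹ ∈ K := fun k hk => (Subgroup.mem_normalizer_iff.1 hx k).1 hk
    have hn' : ∀ k ∈ K, x⁻¹ * k * x ∈ K := fun k hk => by
      have := (Subgroup.mem_normalizer_iff.1 ((normalizer (K : Set G)).inv_mem hx) k).1 hk
      simpa using this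
    rcases ha with ha | ha <;> rcases hb with hb | hb
    · exact Or.inl (K.mul_mem ha hb)
    · right
      have : x⁻¹ * (a * b) = (x⁻¹ * a * x) * (x⁻¹ * b) := by group
      rw [this]; exact K.mul_mem (hn' a ha) hb
    · right
      have : x⁻¹ * (a * b) = (x⁻¹ * a) * b := by group
      rw [this]; exact K.mul_mem ha hb
    · left
      have : a * b = (x * (x⁻¹ * a) * x⁻¹) * (x * x) * (x⁻¹ * b) := by group
      rw [this]; exact K.mul_mem (K.mul_mem (hn _ ha) hxx) hb
  inv_mem' := by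
    intro a ha
    have hn' : ∀ k ∈ K, x⁻¹ * k * x ∈ K := fun k hk => by
      have := (Subgroup.mem_normalizer_iff.1 ((normalizer (K : Set G)).inv_mem hx) k).1 hk
      simpa using this
    rcases ha with ha | ha
    · exact Or.inl (K.inv_mem ha)
    · right
      have : x⁻¹ * a⁻¹ = (x⁻¹ * (x⁻¹ * a)⁻¹ * x) * (x * x)⁻¹ := by group
      rw [this]; exact K.mul_mem (hn' _ (K.inv_mem ha)) (K.inv_mem hxx)

theorem mem_extK {K : Subgroup G} {x : G} (hx : x ∈ normalizer (K : Set G)) (hxx : x * x ∈ K)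
    (g : G) : g ∈ extK K x hx hxx ↔ g ∈ K ∨ x⁻¹ * g ∈ K := Iff.rfl

theorem extK_le {K R : Subgroup G} {x : G} (hx : x ∈ normalizer (K : Set G)) (hxx : x * x ∈ K)
    (hKR : K ≤ R) (hxR : x ∈ R) : extK K x hx hxx ≤ R := by
  intro g hg
  rcases hg with h | h
  · exact hKR h
  · have : g = x * (x⁻¹ * g) := by group
    rw [this]; exact R.mul_mem hxR (hKR h)

theorem rep_ext {z : G} {ph : ℕ → G} {S : Subgroup G} (td : TD z ph S) {K : Subgroup G}
    {L : List ℕ} (hL : Rep ph K L) {c : ℕ} (hc : TC c) (hx : ph c ∈ normalizer (K : Set G))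
    (hxx : ph c * ph c ∈ K) :
    Rep ph (extK K (ph c) hx hxx) ((L.map (mt c)).reverse ++ L) := by
  constructor
  · intro a ha
    rw [List.mem_append, List.mem_reverse, List.mem_map] at ha
    rcases ha with ⟨b, hb, rfl⟩ | ha
    · rw [mt_eq]; exact hc.mul (hL.1 b hb)
    · exact hL.1 a ha
  · intro g
    rw [mem_extK, hL.2, hL.2]
    constructor
    · rintro (⟨a, ha, rfl⟩ | ⟨a, ha, h⟩)
      · exact ⟨a, by rw [List.mem_append]; exact Or.inr ha, rfl⟩
      · refine ⟨mt c a, ?_, ?_⟩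
        · rw [List.mem_append, List.mem_reverse, List.mem_map]
          exact Or.inl ⟨a, ha, rfl⟩
        · rw [mt_eq, td.mul hc (hL.1 a ha), h]; group
    · rintro ⟨a, ha, rfl⟩
      rw [List.mem_append, List.mem_reverse, List.mem_map] at ha
      rcases ha with ⟨b, hb, rfl⟩ | ha
      · right
        refine ⟨b, hb, ?_⟩
        rw [mt_eq, td.mul hc (hL.1 b hb)]; group
      · exact Or.inl ⟨a, ha, rfl⟩

theorem norm_of {z : G} {ph : ℕ → G} {S : Subgroup G} (td : TD z ph S) {K : Subgroup G}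
    {L : List ℕ} (hL : Rep ph K L) {c : ℕ} (hc : TC c) (hx : ph c ∈ normalizer (K : Set G)) :
    norm L c ((L.map (mt c)).reverse) = true := by
  unfold ClosingCode.norm
  rw [mapK_eq, alll_iff]
  intro y hy
  rw [memb_iff, List.mem_reverse, List.mem_map]
  rw [List.mem_reverse, List.mem_map] at hy
  obtain ⟨a, ha, rfl⟩ := hy
  have h1 : ph c * ph a * (ph c)⁻¹ ∈ K :=
    (Subgroup.mem_normalizer_iff.1 hx _).1 ((hL.2 _).2 ⟨a, ha, rfl⟩)
  obtain ⟨b, hb, hbe⟩ := (hL.2 _).1 h1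
  refine ⟨b, hb, ?_⟩
  rw [mt_eq, mt_eq]
  apply td.inj ((hL.1 b hb).mul hc) (hc.mul (hL.1 a ha))
  rw [td.mul (hL.1 b hb) hc, td.mul hc (hL.1 a ha), hbe]
  group

theorem of_norm [Finite G] {z : G} {ph : ℕ → G} {S : Subgroup G} (td : TD z ph S) {K : Subgroup G}
    {L : List ℕ} (hL : Rep ph K L) {c : ℕ} (hc : TC c)
    (h : norm L c ((L.map (mt c)).reverse) = true) : ph c ∈ normalizer (K : Set G) := by
  apply Subgroup.mem_normalizer_fintype
  intro g hg
  obtain ⟨a, ha, rfl⟩ := (hL.2 g).1 hg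
  unfold ClosingCode.norm at h
  rw [mapK_eq, alll_iff] at h
  have h1 := h (mt c a) (by rw [List.mem_reverse, List.mem_map]; exact ⟨a, ha, rfl⟩)
  rw [memb_iff, List.mem_reverse, List.mem_map] at h1
  obtain ⟨b, hb, hbe⟩ := h1
  rw [mt_eq, mt_eq] at hbe
  have h2 := congrArg ph hbe
  rw [td.mul (hL.1 b hb) hc, td.mul hc (hL.1 a ha)] at h2
  have h3 : ph c * ph a * (ph c)⁻¹ = ph b := by rw [← h2]; group
  show ph c * ph a * (ph c)⁻¹ ∈ K
  rw [h3]
  exact (hL.2 _).2 ⟨b, hb, rfl⟩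

/-- The situation of `(***)`. -/
structure Star (z : G) (ph : ℕ → G) (S R : Subgroup G) (m : ℕ) : Prop where
  td : TD z ph S
  le : R ≤ S
  zt_iff : ∀ a, TC a → (zt m a = true ↔ IsConj z (ph a))
  star : ∀ x ∈ S, x ∉ R → x ∈ normalizer (R : Set G) → x * x ∈ R →
    ∃ n : G, (∀ y ∈ R, y * n = n * y) ∧ ∃ r ∈ R, n * z * n⁻¹ = x * r
  pure : ∀ a, TC a → ph a ∈ R → zt m a = false

theorem isConj_congr_conj {z a n : G} : IsConj z (n * a * n⁻¹) ↔ IsConj z a := by
  constructor
  · intro h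
    exact h.trans ((isConj_iff.2 ⟨n, rfl⟩).symm)
  · intro h
    exact h.trans (isConj_iff.2 ⟨n, rfl⟩)

theorem noc_false [Finite G] {z : G} {ph : ℕ → G} {S R : Subgroup G} {m : ℕ}
    (st : Star z ph S R m) {L : List ℕ} (hL : Rep ph R L) {c : ℕ} (hc : TC c)
    (h : noc m L c = true) : False := by
  have td := st.td
  unfold noc at h
  rw [ab_iff, nb_iff, force_eq, ab_iff, mapK_eq, ab_iff] at h
  obtain ⟨h1, h2, h3, h4⟩ := h
  have hcR : ph c ∉ R := by
    intro h5
    obtain ⟨a, ha, hae⟩ := (hL.2 _).1 h5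
    have := td.inj (hL.1 a ha) hc hae
    rw [this] at ha
    rw [(memb_iff).2 ha] at h1
    exact absurd h1 (by decide)
  have hcc : ph c * ph c ∈ R := by
    rw [memb_iff] at h2
    rw [← td.mul hc hc, ← mt_eq]
    exact (hL.2 _).2 ⟨_, h2, rfl⟩
  have hcS : ph c ∈ S := (td.surj _).2 ⟨c, hc, rfl⟩
  obtain ⟨n, hn, r, hr, hnr⟩ := st.star (ph c) hcS hcR (of_norm td hL hc h3) hcc
  obtain ⟨a0, ha0, rfl⟩ := (hL.2 _).1 hr
  have hca : TC (mu c a0) := hc.mul (hL.1 a0 ha0)
  have hpc : ph (mu c a0) = n * z * n⁻¹ := by rw [td.mul hc (hL.1 a0 ha0), hnr]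
  rw [alll_iff] at h4
  have h5 := h4 (mt c a0) (by rw [List.mem_reverse, List.mem_map]; exact ⟨a0, ha0, rfl⟩)
  rw [nb_iff, mt_eq] at h5
  have h6 : cnd m L (mu c a0) = true := by
    unfold cnd
    rw [ab_iff, ab_iff]
    refine ⟨?_, ?_, ?_⟩
    · rw [st.zt_iff _ hca, hpc]
      exact isConj_iff.2 ⟨n, rfl⟩
    · rw [alll_iff]
      intro a ha
      have haR : ph a ∈ R := (hL.2 _).2 ⟨a, ha, rfl⟩
      have haS : ph a ∈ S := st.le haR
      have h7 : mt a (mu c a0) = mt (mu c a0) a := by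
        rw [mt_eq, mt_eq]
        apply td.inj ((hL.1 a ha).mul hca) (hca.mul (hL.1 a ha))
        rw [td.mul (hL.1 a ha) hca, td.mul hca (hL.1 a ha), hpc]
        have h8 : ph a * z = z * ph a := by
          rw [← td.z_eq, ← td.mul (hL.1 a ha) TC_zc, ← td.mul TC_zc (hL.1 a ha),
            zc_comm (hL.1 a ha)]
        have h9 := hn _ haR
        have h10 : ph a * n⁻¹ = n⁻¹ * ph a := by
          calc ph a * n⁻¹ = n⁻¹ * (n * ph a) * n⁻¹ := by group
            _ = n⁻¹ * (ph a * n) * n⁻¹ := by rw [h9]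
            _ = n⁻¹ * ph a := by group
        calc ph a * (n * z * n⁻¹) = (ph a * n) * z * n⁻¹ := by group
          _ = n * (ph a * z) * n⁻¹ := by rw [h9]; group
          _ = n * z * (ph a * n⁻¹) := by rw [h8]; group
          _ = n * z * n⁻¹ * ph a := by rw [h10]; group
      rw [h7]
      exact Nat.beq_refl _
    · rw [alll_iff]
      intro a ha
      have haR : ph a ∈ R := (hL.2 _).2 ⟨a, ha, rfl⟩
      rw [eqb_iff, mt_eq, mt_eq, Bool.eq_iff_iff, st.zt_iff _ (hca.mul (hL.1 a ha)),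
        st.zt_iff _ (TC_zc.mul (hL.1 a ha)), td.mul hca (hL.1 a ha), td.mul TC_zc (hL.1 a ha),
        hpc, td.z_eq]
      have h9 := hn _ haR
      have h10 : n * z * n⁻¹ * ph a = n * (z * ph a) * n⁻¹ := by
        calc n * z * n⁻¹ * ph a = n * z * (n⁻¹ * (ph a * n) * n⁻¹) := by group
          _ = n * z * (n⁻¹ * (n * ph a) * n⁻¹) := by rw [h9]
          _ = n * (z * ph a) * n⁻¹ := by group
      rw [h10]
      exact isConj_congr_conj
  rw [h6] at h5
  exact absurd h5 (by decide)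

theorem good_false [Finite G] {z : G} {ph : ℕ → G} {S R : Subgroup G} {m : ℕ}
    (st : Star z ph S R m) {L W : List ℕ} (hL : Rep ph R L) (hW : alll isT W = true)
    (h : good m W L = true) : False := by
  unfold good at h
  rw [anyl_iff] at h
  obtain ⟨a, ha, hn⟩ := h
  rw [alll_iff] at hW
  exact noc_false st hL (TC_of_isT (hW a ha)) hn

theorem buildAux_eq (p : ℕ → Bool) (k : List (ℕ × ℕ) → Bool) (N : ℕ) :
    ∀ acc : List (ℕ × ℕ), ∃ l : List (ℕ × ℕ), buildAux p k N acc = k l ∧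
      (∀ x ∈ acc, x ∈ l) ∧ ∀ i < N, p (dec i) = true → (dec i, mt (dec i) (dec i)) ∈ l := by
  induction N with
  | zero => intro acc; exact ⟨acc, rfl, fun x h => h, fun i hi => absurd hi (Nat.not_lt_zero _)⟩
  | succ N ih =>
    intro acc
    have h0 : buildAux p k (N + 1) acc = force (dec N) (fun c =>
      cond (p c) (force (mt c c) fun cc => buildAux p k N ((c, cc) :: acc)) (buildAux p k N acc)) :=
      rfl
    rw [force_eq, force_eq] at h0
    rcases hp : p (dec N) with _ | _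
    · rw [hp, cond_false] at h0
      obtain ⟨l, h1, h2, h3⟩ := ih acc
      refine ⟨l, by rw [h0, h1], h2, ?_⟩
      intro i hi hpi
      rcases Nat.lt_succ_iff_lt_or_eq.1 hi with h | rfl
      · exact h3 i h hpi
      · rw [hp] at hpi; exact absurd hpi Bool.false_ne_true
    · rw [hp, cond_true] at h0
      obtain ⟨l, h1, h2, h3⟩ := ih ((dec N, mt (dec N) (dec N)) :: acc)
      refine ⟨l, by rw [h0, h1], fun x hx => h2 x (List.mem_cons_of_mem _ hx), ?_⟩
      intro i hi hpi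
      rcases Nat.lt_succ_iff_lt_or_eq.1 hi with h | rfl
      · exact h3 i h hpi
      · exact h2 _ List.mem_cons_self

/-- a minimal element of a nonempty list of numbers -/
theorem exists_min {l : List ℕ} (h : l ≠ []) : ∃ x ∈ l, ∀ y ∈ l, x ≤ y := by
  classical
  obtain ⟨a, ha⟩ := List.exists_mem_of_ne_nil l h
  have hne : (l.toFinset).Nonempty := ⟨a, List.mem_toFinset.2 ha⟩
  refine ⟨l.toFinset.min' hne, List.mem_toFinset.1 (Finset.min'_mem _ _), ?_⟩
  intro y hy
  exact Finset.min'_le _ _ (List.mem_toFinset.2 hy)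

theorem mem_cand {z : G} {ph : ℕ → G} {S R : Subgroup G} {m : ℕ} (st : Star z ph S R m)
    (ht : ph tt ∈ R) (hc : ∀ y ∈ R, y * ph tt = ph tt * y) {c : ℕ} (hTc : TC c) (hcR : ph c ∈ R)
    (h1 : c ≠ e1) (h2 : c ≠ tt) : isCand m c = true := by
  have td := st.td
  unfold isCand
  rw [ab_iff, ab_iff, force_eq, ab_iff, ab_iff, nb_iff, nb_iff, nb_iff, nb_iff, mt_eq, mt_eq]
  have hne : ∀ a b : ℕ, a ≠ b → Nat.beq a b = false := by
    intro a b hab
    rcases h : Nat.beq a b with _ | _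
    · rfl
    · exact absurd (Nat.eq_of_beq_eq_true h) hab
  refine ⟨hne _ _ h1, hne _ _ h2, ?_, st.pure c hTc hcR, ?_⟩
  · have : mu c tt = mu tt c := by
      apply td.inj (hTc.mul TC_tt) (TC_tt.mul hTc)
      rw [td.mul hTc TC_tt, td.mul TC_tt hTc]
      exact hc _ hcR
    rw [this]; exact Nat.beq_refl _
  · apply st.pure _ (hTc.mul TC_tt)
    rw [td.mul hTc TC_tt]
    exact R.mul_mem hcR ht

/-- **Soundness of the search.** -/
theorem main_sound [Finite G] {z : G} {ph : ℕ → G} {S R : Subgroup G} {m v : ℕ} {W : List ℕ}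
    (hm : main m v W = true) (hW : alll isT W = true) (st : Star z ph S R m)
    (h2 : IsPGroup 2 R) (ht : R = ⊥ ∨ (ph tt ∈ R ∧ ∀ y ∈ R, y * ph tt = ph tt * y)) :
    TC v ∧ ph v ∈ R := by
  have td := st.td
  unfold main at hm
  rw [ab_iff, ab_iff] at hm
  obtain ⟨hm0, hm1, hm2⟩ := hm
  rcases ht with hbot | ⟨htR, htc⟩
  · exfalso
    refine good_false st ?_ hW hm0
    constructor
    · intro a ha
      rw [List.mem_singleton] at ha
      rw [ha]; exact TC_e1
    · intro g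
      rw [hbot, Subgroup.mem_bot]
      constructor
      · rintro rfl; exact ⟨e1, List.mem_singleton.2 rfl, td.one⟩
      · rintro ⟨a, ha, rfl⟩
        rw [List.mem_singleton] at ha
        rw [ha]; exact td.one
  obtain ⟨cand, hcd, -, hcand⟩ := buildAux_eq (isCand m) (fun cand => lev2 m v W cand) 1024 []
  have hm2' : lev2 m v W cand = true := by
    rw [← hcd]; exact hm2
  have hcand' : ∀ c, TC c → ph c ∈ R → c ≠ e1 → c ≠ tt → (c, mt c c) ∈ cand := by
    rintro c ⟨i, hi, rfl⟩ hcR h1 h3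
    exact hcand i hi (mem_cand st htR htc ⟨i, hi, rfl⟩ hcR h1 h3)
  -- the subgroup generated by t
  have httm : mu tt tt = e1 := by decide +kernel
  have htt : ph tt * ph tt = 1 := by
    rw [← td.mul TC_tt TC_tt, httm]; exact td.one
  have htne : tt ≠ e1 := by decide
  have ht1 : ph tt ≠ 1 := by
    rw [← td.one]
    intro h; exact htne (td.inj TC_tt TC_e1 h)
  let K1 : Subgroup G := extK ⊥ (ph tt) (by
    apply Subgroup.mem_normalizer_iff.2
    intro x
    constructor
    · intro hx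
      have : x = 1 := hx
      subst this
      show ph tt * 1 * (ph tt)⁻¹ ∈ (⊥ : Subgroup G)
      rw [mul_one, mul_inv_cancel]; exact Subgroup.one_mem _
    · intro hx
      have h3 : ph tt * x * (ph tt)⁻¹ = 1 := hx
      show x = 1
      calc x = (ph tt)⁻¹ * (ph tt * x * (ph tt)⁻¹) * ph tt := by group
        _ = 1 := by rw [h3]; group) (by rw [htt]; exact Subgroup.one_mem _)
  have hK1 : Rep ph K1 [tt, e1] := by
    constructor
    · intro a ha
      rcases List.mem_pair.1 ha with rfl | rfl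
      · exact TC_tt
      · exact TC_e1
    · intro g
      rw [mem_extK, Subgroup.mem_bot, Subgroup.mem_bot]
      constructor
      · rintro (rfl | h)
        · exact ⟨e1, by simp, td.one⟩
        · refine ⟨tt, by simp, ?_⟩
          have : g = ph tt * ((ph tt)⁻¹ * g) := by group
          rw [this, h, mul_one]
      · rintro ⟨a, ha, rfl⟩
        rcases List.mem_pair.1 ha with rfl | rfl
        · right; group
        · left; exact td.one
  have hK1R : K1 ≤ R := extK_le _ _ bot_le htR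
  by_cases hR1 : K1 = R
  · exfalso
    rw [hR1] at hK1
    exact good_false st hK1 hW hm1
  -- order 4
  obtain ⟨s0, hs0R, hs0K, hs0N, hs0s⟩ := chain h2 hK1R hR1
  obtain ⟨c0, hc0, rfl⟩ := (td.surj _).1 (st.le hs0R)
  have hc0t : ph c0 * ph tt = ph tt * ph c0 := htc _ hs0R
  -- choose the smaller one of c0, c0 t
  obtain ⟨s, hs, hsR, hsK, hss, hsle⟩ : ∃ s, TC s ∧ ph s ∈ R ∧ ph s ∉ K1 ∧ ph s * ph s ∈ K1 ∧
      s ≤ mu s tt := by
    rcases le_total c0 (mu c0 tt) with h | h
    · exact ⟨c0, hc0, hs0R, hs0K, hs0s, h⟩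
    · have htK : ph tt ∈ K1 := (hK1.2 _).2 ⟨tt, by simp, rfl⟩
      refine ⟨mu c0 tt, hc0.mul TC_tt, ?_, ?_, ?_, ?_⟩
      · rw [td.mul hc0 TC_tt]; exact R.mul_mem hs0R htR
      · rw [td.mul hc0 TC_tt]
        intro h3
        apply hs0K
        have : ph c0 = ph c0 * ph tt * (ph tt)⁻¹ := by group
        rw [this]; exact K1.mul_mem h3 (K1.inv_mem htK)
      · rw [td.mul hc0 TC_tt]
        have : ph c0 * ph tt * (ph c0 * ph tt) = ph c0 * ph c0 * (ph tt * ph tt) := by
          calc ph c0 * ph tt * (ph c0 * ph tt) = ph c0 * (ph tt * ph c0) * ph tt := by group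
            _ = ph c0 * (ph c0 * ph tt) * ph tt := by rw [hc0t]
            _ = _ := by group
        rw [this, htt, mul_one]; exact hs0s
      · have : mu (mu c0 tt) tt = c0 := by
          rw [mu_assoc, httm, mu_e1 (lt_of_TC hc0)]
        rw [this]; exact h
  have hst : ph s * ph tt = ph tt * ph s := htc _ hsR
  have hsN : ph s ∈ normalizer (K1 : Set G) := by
    apply Subgroup.mem_normalizer_iff.2
    intro x
    have hcomm : ∀ y ∈ K1, ph s * y * (ph s)⁻¹ = y := by
      intro y hy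
      obtain ⟨a, ha, rfl⟩ := (hK1.2 _).1 hy
      rcases List.mem_pair.1 ha with rfl | rfl
      · rw [hst]; group
      · rw [td.one]; group
    constructor
    · intro hx
      have h3 := hcomm x hx
      show ph s * x * (ph s)⁻¹ ∈ K1
      rw [h3]; exact hx
    · intro hx
      have hx' : ph s * x * (ph s)⁻¹ ∈ K1 := hx
      have h3 := hcomm _ hx'
      have h4 : x = ph s * x * (ph s)⁻¹ := by
        have h5 : ph s * (ph s * x * (ph s)⁻¹) * (ph s)⁻¹ = ph s * x * (ph s)⁻¹ := h3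
        have h6 : ph s * x * (ph s)⁻¹ = x := by
          calc ph s * x * (ph s)⁻¹ = (ph s)⁻¹ * (ph s * (ph s * x * (ph s)⁻¹) * (ph s)⁻¹) * ph s := by
                group
            _ = (ph s)⁻¹ * (ph s * x * (ph s)⁻¹) * ph s := by rw [h5]
            _ = x := by group
        exact h6.symm
      rw [h4]; exact hx'
  have hs1 : s ≠ e1 := by
    rintro rfl
    apply hsK
    rw [td.one]; exact K1.one_mem
  have hs2 : s ≠ tt := by
    rintro rfl
    exact hsK ((hK1.2 _).2 ⟨tt, by simp, rfl⟩)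
  have hscand := hcand' s hs hsR hs1 hs2
  have hK2 := rep_ext td hK1 hs hsN hss
  set K2 : Subgroup G := extK K1 (ph s) hsN hss with hK2def
  have hlist : (List.map (mt s) [tt, e1]).reverse ++ [tt, e1] = [s, mt s tt, tt, e1] := by
    have : mt s e1 = s := by rw [mt_eq, mu_e1 (lt_of_TC hs)]
    simp [this]
  rw [hlist] at hK2
  have hK2' : Rep ph K2 [mt s tt, s, tt, e1] := by
    constructor
    · intro a ha
      apply hK2.1
      simp only [List.mem_cons, List.not_mem_nil, or_false] at ha ⊢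
      tauto
    · intro g
      rw [hK2.2]
      simp only [List.mem_cons, List.not_mem_nil, or_false, exists_eq_or_imp, exists_eq_left]
      tauto
  have hK2R : K2 ≤ R := extK_le _ _ hK1R hsR
  unfold lev2 at hm2'
  rw [allp_iff] at hm2'
  have hm3 := hm2' _ hscand
  simp only at hm3
  have hmem1 : memb (mt s s) [e1, tt] = true := by
    rw [memb_iff]
    rw [← td.mul hs hs, hK1.2] at hss
    obtain ⟨a, ha, hae⟩ := hss
    have h3 := td.inj (hK1.1 a ha) (hs.mul hs) hae
    rw [mt_eq, ← h3]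
    rcases List.mem_pair.1 ha with rfl | rfl
    · simp
    · simp
  rw [hmem1, cond_true, force_eq] at hm3
  have hleq : leq s (mt s tt) = true := by
    rw [mt_eq]; exact Nat.ble_eq_true_of_le hsle
  rw [hleq, cond_true, ab_iff] at hm3
  obtain ⟨hm4, hm5⟩ := hm3
  by_cases hR2 : K2 = R
  · exfalso
    rw [hR2] at hK2'
    exact good_false st hK2' hW hm4
  -- order 8
  obtain ⟨x0, hx0R, hx0K, hx0N, hx0s⟩ := chain h2 hK2R hR2
  obtain ⟨d0, hd0, rfl⟩ := (td.surj _).1 (st.le hx0R)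
  set L2 : List ℕ := [mt s tt, s, tt, e1] with hL2
  obtain ⟨x, hxm, hxmin⟩ := exists_min (l := (L2.map (mt d0)).reverse) (by
    rw [hL2]; simp)
  have hxm' := hxm
  rw [List.mem_reverse, List.mem_map] at hxm'
  obtain ⟨a0, ha0, hxe⟩ := hxm'
  have ha0T : TC a0 := hK2'.1 a0 ha0
  have ha0K : ph a0 ∈ K2 := (hK2'.2 _).2 ⟨a0, ha0, rfl⟩
  have hx : TC x := by rw [← hxe, mt_eq]; exact hd0.mul ha0T
  have hpx : ph x = ph d0 * ph a0 := by rw [← hxe, mt_eq, td.mul hd0 ha0T]
  have hxR : ph x ∈ R := by rw [hpx]; exact R.mul_mem hx0R (hK2R ha0K)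
  have hxK : ph x ∉ K2 := by
    rw [hpx]
    intro h3
    apply hx0K
    have : ph d0 = ph d0 * ph a0 * (ph a0)⁻¹ := by group
    rw [this]; exact K2.mul_mem h3 (K2.inv_mem ha0K)
  have hxN : ph x ∈ normalizer (K2 : Set G) := by
    rw [hpx]
    exact (normalizer (K2 : Set G)).mul_mem hx0N (Subgroup.le_normalizer ha0K)
  have hxx : ph x * ph x ∈ K2 := by
    rw [hpx]
    have h3 : (ph d0)⁻¹ * ph a0 * ph d0 ∈ K2 := by
      have := (Subgroup.mem_normalizer_iff.1 ((normalizer (K2 : Set G)).inv_mem hx0N) (ph a0)).1 ha0K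
      simpa using this
    have : ph d0 * ph a0 * (ph d0 * ph a0) = (ph d0 * ph d0) * ((ph d0)⁻¹ * ph a0 * ph d0) * ph a0 := by
      group
    rw [this]
    exact K2.mul_mem (K2.mul_mem hx0s h3) ha0K
  -- the coset of x
  have hcoset : ∀ y, y ∈ (L2.map (mt x)).reverse → y ∈ (L2.map (mt d0)).reverse := by
    intro y hy
    rw [List.mem_reverse, List.mem_map] at hy
    obtain ⟨b, hb, rfl⟩ := hy
    have hbT : TC b := hK2'.1 b hb
    have hbK : ph b ∈ K2 := (hK2'.2 _).2 ⟨b, hb, rfl⟩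
    obtain ⟨c, hc, hce⟩ := (hK2'.2 _).1 (K2.mul_mem ha0K hbK)
    rw [List.mem_reverse, List.mem_map]
    refine ⟨c, hc, ?_⟩
    rw [mt_eq, mt_eq]
    apply td.inj (hd0.mul (hK2'.1 c hc)) (hx.mul hbT)
    rw [td.mul hd0 (hK2'.1 c hc), td.mul hx hbT, hpx, hce, mul_assoc]
  have hx1 : x ≠ e1 := by
    rintro rfl
    apply hxK; rw [td.one]; exact K2.one_mem
  have hx2 : x ≠ tt := by
    rintro rfl
    exact hxK ((hK2'.2 _).2 ⟨tt, by rw [hL2]; simp, rfl⟩)
  have hxcand := hcand' x hx hxR hx1 hx2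
  unfold lev3 at hm5
  rw [allp_iff] at hm5
  have hm6 := hm5 _ hxcand
  simp only at hm6
  have hmem2 : memb (mt x x) L2 = true := by
    rw [memb_iff]
    have hxx' := hxx
    rw [← td.mul hx hx, hK2'.2] at hxx'
    obtain ⟨a, ha, hae⟩ := hxx'
    have h3 := td.inj (hK2'.1 a ha) (hx.mul hx) hae
    rw [mt_eq, ← h3]; exact ha
  have hmem3 : memb x L2 = false := by
    rcases h : memb x L2 with _ | _
    · rfl
    · rw [memb_iff] at h
      exact absurd ((hK2'.2 _).2 ⟨x, h, rfl⟩) hxK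
  have hK3 := rep_ext td hK2' hx hxN hxx
  set K3 : Subgroup G := extK K2 (ph x) hxN hxx with hK3def
  have hK3R : K3 ≤ R := extK_le _ _ hK2R hxR
  have hnoz : anyl (zt m) (L2.map (mt x)).reverse = false := by
    rcases h : anyl (zt m) (L2.map (mt x)).reverse with _ | _
    · rfl
    · rw [anyl_iff] at h
      obtain ⟨y, hy, hyz⟩ := h
      have hy' : y ∈ (L2.map (mt x)).reverse ++ L2 := List.mem_append_left _ hy
      have hyR : ph y ∈ R := hK3R ((hK3.2 _).2 ⟨y, hy', rfl⟩)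
      rw [st.pure y (hK3.1 y hy') hyR] at hyz
      exact absurd hyz Bool.false_ne_true
  have hmin : alll (fun c => leq x c) (L2.map (mt x)).reverse = true := by
    rw [alll_iff]
    intro c hc
    exact Nat.ble_eq_true_of_le (hxmin c (hcoset c hc))
  rw [hmem2, cond_true, hmem3, cond_false, mapK_eq, norm_of td hK2' hx hxN, cond_true, hnoz,
    cond_false, hmin, cond_true, ab_iff] at hm6
  obtain ⟨hm7, hm8⟩ := hm6
  set L3 : List ℕ := (L2.map (mt x)).reverse ++ L2 with hL3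
  by_cases hR3 : K3 = R
  · rcases hv : memb v L3 with _ | _
    · exfalso
      rw [hv, cond_false] at hm7
      rw [hR3] at hK3
      exact good_false st hK3 hW hm7
    · rw [memb_iff] at hv
      exact ⟨hK3.1 v hv, hK3R ((hK3.2 _).2 ⟨v, hv, rfl⟩)⟩
  -- order 16
  exfalso
  obtain ⟨y0, hy0R, hy0K, hy0N, hy0s⟩ := chain h2 hK3R hR3
  obtain ⟨y, hy, rfl⟩ := (td.surj _).1 (st.le hy0R)
  have hy1 : y ≠ e1 := by
    rintro rfl
    apply hy0K; rw [td.one]; exact K3.one_mem
  have hy2 : y ≠ tt := by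
    rintro rfl
    exact hy0K ((hK3.2 _).2 ⟨tt, by rw [hL3, hL2]; simp, rfl⟩)
  have hycand := hcand' y hy hy0R hy1 hy2
  unfold noext at hm8
  rw [allp_iff] at hm8
  have hm9 := hm8 _ hycand
  simp only at hm9
  have hmem4 : memb (mt y y) L3 = true := by
    rw [memb_iff]
    have hyy' := hy0s
    rw [← td.mul hy hy, hK3.2] at hyy'
    obtain ⟨a, ha, hae⟩ := hyy'
    have h3 := td.inj (hK3.1 a ha) (hy.mul hy) hae
    rw [mt_eq, ← h3]; exact ha
  have hmem5 : memb y L3 = false := by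
    rcases h : memb y L3 with _ | _
    · rfl
    · rw [memb_iff] at h
      exact absurd ((hK3.2 _).2 ⟨y, h, rfl⟩) hy0K
  rw [hmem4, cond_true, hmem5, cond_false, mapK_eq, norm_of td hK3 hy hy0N, cond_true,
    anyl_iff] at hm9
  obtain ⟨w, hw, hwz⟩ := hm9
  rw [List.mem_reverse, List.mem_map] at hw
  obtain ⟨b, hb, rfl⟩ := hw
  rw [mt_eq] at hwz
  have hbR : ph b ∈ R := hK3R ((hK3.2 _).2 ⟨b, hb, rfl⟩)
  have h3 : ph (mu y b) ∈ R := by
    rw [td.mul hy (hK3.1 b hb)]; exact R.mul_mem hy0R hbR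
  rw [st.pure _ (hy.mul (hK3.1 b hb)) h3] at hwz
  exact Bool.false_ne_true hwz

end Cfsg.Agent.Held.ClosingSound
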