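import Cfsg.Agent.Held.ClosingCode

/-!
# The codes of the unitriangular group

`TC c` : `c = dec i` for some `i < 1024`. Closure under products.
-/

set_option autoImplicit false

namespace Cfsg.Agent.Held.ClosingT

open Cfsg.Agent.Lib.F2Mat Cfsg.Agent.Held.Code Cfsg.Agent.Held.ClosingCode

/-- unitriangular codes -/
def TC (c : ℕ) : Prop := ∃ i < 1024, dec i = c

theorem idx_lt (c : ℕ) : idx c < 1024 := by
  have h1 : c / 2 % 16 < 16 := Nat.mod_lt _ (by norm_num)
  have h2 : c / 128 % 8 < 8 := Nat.mod_lt _ (by norm_num)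
  have h3 : c / 8192 % 4 < 4 := Nat.mod_lt _ (by norm_num)
  have h4 : c / 524288 % 2 < 2 := Nat.mod_lt _ (by norm_num)
  show c / 2 % 16 + 16 * (c / 128 % 8) + 128 * (c / 8192 % 4) + 512 * (c / 524288 % 2) < 1024
  omega

/-- Boolean test for `TC` -/
def isT (c : ℕ) : Bool := Nat.beq (dec (idx c)) c

theorem TC_of_isT {c : ℕ} (h : isT c = true) : TC c :=
  ⟨idx c, idx_lt c, Nat.eq_of_beq_eq_true h⟩

theorem dec_eq (i : ℕ) : dec i = 17043521 + 2 * (i % 16) + 128 * (i / 16 % 8) +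
    8192 * (i / 128 % 4) + 524288 * (i / 512 % 2) := rfl

/-- mask of the lower triangular entries -/
abbrev lm : ℕ := 33004641

theorem land_dec : allb 1024 (fun i => Nat.beq (Nat.land (dec i) lm) 17043521) = true := by
  decide +kernel

theorem lm_ent : ∀ i j : Fin 5, j ≤ i → Nat.testBit lm (5 * i + j) = true := by decide +kernel

theorem lt_of_TC {c : ℕ} (h : TC c) : c < 2 ^ 25 := by
  obtain ⟨i, hi, rfl⟩ := h
  rw [dec_eq]
  have h1 : i % 16 < 16 := Nat.mod_lt _ (by norm_num)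
  have h2 : i / 16 % 8 < 8 := Nat.mod_lt _ (by norm_num)
  have h3 : i / 128 % 4 < 4 := Nat.mod_lt _ (by norm_num)
  have h4 : i / 512 % 2 < 2 := Nat.mod_lt _ (by norm_num)
  norm_num
  omega

/-- unitriangular matrix -/
def U (c : ℕ) : Prop := c < 2 ^ 25 ∧ ∀ i j : Fin 5, j ≤ i → toMat 5 c i j = if i = j then 1 else 0

theorem U_of_TC {c : ℕ} (h : TC c) : U c := by
  refine ⟨lt_of_TC h, ?_⟩
  obtain ⟨k, hk, rfl⟩ := h
  intro i j hij
  have h1 := Nat.eq_of_beq_eq_true (of_allb land_dec k hk)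
  have h2 : (dec k).testBit (5 * i + j) = Nat.testBit e1 (5 * i + j) := by
    have h3 : Nat.testBit (Nat.land (dec k) lm) (5 * i + j) = Nat.testBit 17043521 (5 * i + j) := by
      rw [h1]
    have h4 : Nat.testBit (Nat.land (dec k) lm) (5 * i + j) =
        ((dec k).testBit (5 * i + j) && Nat.testBit lm (5 * i + j)) := Nat.testBit_land _ _ _
    rw [h4, lm_ent i j hij, Bool.and_true] at h3
    exact h3
  rw [← e1_ent i j]
  show bz _ = bz _
  rw [h2]

theorem digits {a b d f : ℕ} (ha : a < 16) (hb : b < 8) (hd : d < 4) (hf : f < 2) :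
    a + 16 * b + 128 * d + 512 * f < 1024 ∧ (a + 16 * b + 128 * d + 512 * f) % 16 = a ∧
    (a + 16 * b + 128 * d + 512 * f) / 16 % 8 = b ∧
    (a + 16 * b + 128 * d + 512 * f) / 128 % 4 = d ∧
    (a + 16 * b + 128 * d + 512 * f) / 512 % 2 = f := by
  have e1 : (a + 16 * b + 128 * d + 512 * f) / 16 = b + 8 * d + 32 * f := by omega
  have e2 : (a + 16 * b + 128 * d + 512 * f) / 128 = d + 4 * f := by omega
  have e3 : (a + 16 * b + 128 * d + 512 * f) / 512 = f := by omega
  rw [e1, e2, e3]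
  refine ⟨by omega, by omega, by omega, by omega, by omega⟩

theorem TC_of_U {c : ℕ} (h : U c) : TC c := by
  obtain ⟨hc, hU⟩ := h
  have hz : ∀ i j : Fin 5, j < i → (row c i).testBit j = false := by
    intro i j hij
    have h1 := hU i j hij.le
    rw [if_neg (by rintro rfl; exact lt_irrefl _ hij), ← bz_row] at h1
    exact bz_eq_zero h1
  have ho : ∀ i : Fin 5, (row c i).testBit i = true := by
    intro i
    have h1 := hU i i le_rfl
    rw [if_pos rfl, ← bz_row] at h1
    exact bz_eq_one h1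
  have l0 := row_lt c 0
  have l1 := row_lt c 1
  have l2 := row_lt c 2
  have l3 := row_lt c 3
  have l4 := row_lt c 4
  have k0 : ∀ r < 32, Nat.testBit r 0 = true → r % 2 = 1 := by decide
  have k1 : ∀ r < 32, Nat.testBit r 0 = false → Nat.testBit r 1 = true → r % 4 = 2 := by decide
  have k2 : ∀ r < 32, Nat.testBit r 0 = false → Nat.testBit r 1 = false →
    Nat.testBit r 2 = true → r % 8 = 4 := by decide
  have k3 : ∀ r < 32, Nat.testBit r 0 = false → Nat.testBit r 1 = false →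
    Nat.testBit r 2 = false → Nat.testBit r 3 = true → r % 16 = 8 := by decide
  have k4 : ∀ r < 32, Nat.testBit r 0 = false → Nat.testBit r 1 = false →
    Nat.testBit r 2 = false → Nat.testBit r 3 = false → Nat.testBit r 4 = true → r = 16 := by
    intro r hr
    interval_cases r <;> simp (config := { decide := true })
  have r0 := k0 _ l0 (ho 0)
  have r1 := k1 _ l1 (hz 1 0 (by decide)) (ho 1)
  have r2 := k2 _ l2 (hz 2 0 (by decide)) (hz 2 1 (by decide)) (ho 2)
  have r3 := k3 _ l3 (hz 3 0 (by decide)) (hz 3 1 (by decide)) (hz 3 2 (by decide)) (ho 3)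
  have r4 := k4 _ l4 (hz 4 0 (by decide)) (hz 4 1 (by decide)) (hz 4 2 (by decide))
    (hz 4 3 (by decide)) (ho 4)
  have hr := eq_rows hc
  rw [r4] at hr
  generalize row c 0 = x0 at *
  generalize row c 1 = x1 at *
  generalize row c 2 = x2 at *
  generalize row c 3 = x3 at *
  obtain ⟨a, ha, rfl⟩ : ∃ a < 16, x0 = 2 * a + 1 := ⟨x0 / 2, by omega, by omega⟩
  obtain ⟨b, hb, rfl⟩ : ∃ b < 8, x1 = 4 * b + 2 := ⟨x1 / 4, by omega, by omega⟩
  obtain ⟨d, hd, rfl⟩ : ∃ d < 4, x2 = 8 * d + 4 := ⟨x2 / 8, by omega, by omega⟩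
  obtain ⟨f, hf, rfl⟩ : ∃ f < 2, x3 = 16 * f + 8 := ⟨x3 / 16, by omega, by omega⟩
  obtain ⟨h0, h1, h2, h3, h4⟩ := digits ha hb hd hf
  refine ⟨a + 16 * b + 128 * d + 512 * f, h0, ?_⟩
  rw [dec_eq, hr, h1, h2, h3, h4]
  ring

theorem U.mul {a b : ℕ} (ha : U a) (hb : U b) : U (mu a b) := by
  refine ⟨mu_lt _ _, ?_⟩
  intro i j hij
  rw [mu_ent]
  rw [Finset.sum_eq_single j]
  · rw [hb.2 j j le_rfl, if_pos rfl, mul_one]
    exact ha.2 i j hij
  · intro k _ hk
    rcases lt_or_gt_of_ne hk with h | h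
    · rw [ha.2 i k (le_trans h.le hij), if_neg (by rintro rfl; exact absurd hij (not_le.2 h)),
        zero_mul]
    · rw [hb.2 k j h.le, if_neg hk, mul_zero]
  · intro h; exact absurd (Finset.mem_univ _) h

theorem TC.mul {a b : ℕ} (ha : TC a) (hb : TC b) : TC (mu a b) :=
  TC_of_U ((U_of_TC ha).mul (U_of_TC hb))

theorem TC_e1 : TC e1 := TC_of_isT (by decide +kernel)
theorem TC_tt : TC tt := TC_of_isT (by decide +kernel)
theorem TC_zc : TC zc := TC_of_isT (by decide +kernel)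

theorem zc_comm_all : allb 1024 (fun i => force (dec i) fun c => Nat.beq (mt c zc) (mt zc c)) = true := by
  decide +kernel

theorem zc_comm {c : ℕ} (h : TC c) : mu c zc = mu zc c := by
  obtain ⟨i, hi, rfl⟩ := h
  have h1 := of_allb zc_comm_all i hi
  rw [force_eq] at h1
  have h2 := Nat.eq_of_beq_eq_true h1
  rwa [mt_eq, mt_eq] at h2

end Cfsg.Agent.Held.ClosingT
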