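import Mathlib
import Cfsg.Agent.LargeExtra.Pres

/-!
# Codes for `2₊^(1+6)` (S1659 from S1716, part 0)

`a < 128` codes the element `x₀^a₀ … x₅^a₅ z^a₆` of `XG BB 6`.  `x₀,x₁,x₂` and `x₃,x₄,x₅` generate complementary
elementary abelian subgroups, `[x₃₊ⱼ, xᵢ] = z` iff bit `i` of `BB (3+j)` is set.
-/

set_option autoImplicit false

namespace Cfsg.Agent.Held.Ext

open Cfsg.Agent.LargeExtra.Model Cfsg.Agent.LargeExtra.Pres

/-- commutator rows -/
def BB : ℕ → ℕ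
  | 3 => 1
  | 4 => 3
  | 5 => 7
  | _ => 0

/-- row of commutators of a mask -/
def ll (a : ℕ) : ℕ := ((a / 8 % 2) * 1) ^^^ ((a / 16 % 2) * 3) ^^^ ((a / 32 % 2) * 7)

/-- parity of three bits -/
def par (c : ℕ) : ℕ := (c ^^^ (c / 2) ^^^ (c / 4)) % 2

/-- the cocycle -/
def beta (a b : ℕ) : ℕ := par (ll a &&& b)

/-- product of codes -/
def mulQ (a b : ℕ) : ℕ := (a ^^^ b) ^^^ (beta a b * 64)

/-- quadratic form (squares) on masks -/
def qf (a : ℕ) : ℕ := beta a a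

/-- symplectic form (commutators) on masks -/
def bl (a b : ℕ) : ℕ := beta a b ^^^ beta b a

/-- inverse of codes -/
def invQ (a : ℕ) : ℕ := a ^^^ (beta a a * 64)

/-- a linear map on masks from six packed images -/
def ap (M a : ℕ) : ℕ :=
  ((a % 2) * (M % 64)) ^^^ ((a / 2 % 2) * (M / 64 % 64)) ^^^
    ((a / 4 % 2) * (M / 4096 % 64)) ^^^ ((a / 8 % 2) * (M / 262144 % 64)) ^^^
    ((a / 16 % 2) * (M / 16777216 % 64)) ^^^ ((a / 32 % 2) * (M / 1073741824 % 64))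

/-- the same, fixing bit six -/
def ap7 (M a : ℕ) : ℕ := ap M a ^^^ (a / 64 % 2 * 64)

/-- pack six masks -/
def mk6 (a b c d e f : ℕ) : ℕ :=
  a + 64 * b + 4096 * c + 262144 * d + 16777216 * e + 1073741824 * f

/-- composition of packed maps -/
def comp6 (M N : ℕ) : ℕ :=
  mk6 (ap M (N % 64)) (ap M (N / 64 % 64)) (ap M (N / 4096 % 64))
    (ap M (N / 262144 % 64)) (ap M (N / 16777216 % 64)) (ap M (N / 1073741824 % 64))

/-- identity -/
def I6 : ℕ := mk6 1 2 4 8 16 32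
/-- the action of the element of order seven -/
def Y6 : ℕ := mk6 2 4 3 16 32 40
/-- the action of the element of order three -/
def W6 : ℕ := mk6 1 4 6 8 32 56
/-- the action of the involution: both `W₁`, `W₂` invariant -/
def T0 : ℕ := mk6 1 4 2 8 56 32
/-- the action of the involution: only `W₁` invariant -/
def T1 : ℕ := mk6 1 4 2 8 58 38
/-- the action of the involution: only `W₂` invariant -/
def T2 : ℕ := mk6 1 28 50 8 56 32

/-- power of a packed map -/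
def pw (M : ℕ) : ℕ → ℕ
  | 0 => I6
  | n + 1 => comp6 M (pw M n)

/-- the packed map `T Y^j`, or the identity for `j = 7` -/
def tt6 (T j : ℕ) : ℕ := if j = 7 then I6 else comp6 T (pw Y6 j)

/-- the packed normal form `Y^i W^k (T Y^j)` -/
def nf6 (T i k j : ℕ) : ℕ := comp6 (pw Y6 i) (comp6 (pw W6 k) (tt6 T j))

/-! ### linearity -/

theorem xor_mod_two (a b : ℕ) : (a ^^^ b) % 2 = (a % 2) ^^^ (b % 2) := by
  rw [show (2 : ℕ) = 2 ^ 1 by norm_num]
  apply Nat.eq_of_testBit_eq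
  intro i
  rw [Nat.testBit_mod_two_pow, Nat.testBit_xor, Nat.testBit_xor, Nat.testBit_mod_two_pow,
    Nat.testBit_mod_two_pow]
  by_cases hi : i < 1 <;> simp [hi]

theorem xor_div_two_pow (a b i : ℕ) : (a ^^^ b) / 2 ^ i = (a / 2 ^ i) ^^^ (b / 2 ^ i) := by
  apply Nat.eq_of_testBit_eq
  intro j
  rw [Nat.testBit_div_two_pow, Nat.testBit_xor, Nat.testBit_xor, Nat.testBit_div_two_pow,
    Nat.testBit_div_two_pow]

theorem bit_xor (a b i : ℕ) : (a ^^^ b) / 2 ^ i % 2 = (a / 2 ^ i % 2) ^^^ (b / 2 ^ i % 2) := by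
  rw [xor_div_two_pow, xor_mod_two]

theorem mul_xor_bit (a b m : ℕ) : ((a % 2) ^^^ (b % 2)) * m = (a % 2 * m) ^^^ (b % 2 * m) := by
  rcases Nat.mod_two_eq_zero_or_one a with h1 | h1 <;>
    rcases Nat.mod_two_eq_zero_or_one b with h2 | h2 <;> rw [h1, h2] <;> simp

theorem xor4 (a b c d : ℕ) : (a ^^^ b) ^^^ (c ^^^ d) = (a ^^^ c) ^^^ (b ^^^ d) := by
  rw [Nat.xor_assoc, Nat.xor_assoc, ← Nat.xor_assoc b c d, Nat.xor_comm b c, Nat.xor_assoc c b d]

theorem xor12 (a0 a1 a2 a3 a4 a5 b0 b1 b2 b3 b4 b5 : ℕ) :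
    (a0 ^^^ b0) ^^^ (a1 ^^^ b1) ^^^ (a2 ^^^ b2) ^^^ (a3 ^^^ b3) ^^^ (a4 ^^^ b4) ^^^ (a5 ^^^ b5) =
      (a0 ^^^ a1 ^^^ a2 ^^^ a3 ^^^ a4 ^^^ a5) ^^^ (b0 ^^^ b1 ^^^ b2 ^^^ b3 ^^^ b4 ^^^ b5) := by
  rw [xor4 a0 b0 a1 b1, xor4 (a0 ^^^ a1) (b0 ^^^ b1) a2 b2,
    xor4 (a0 ^^^ a1 ^^^ a2) (b0 ^^^ b1 ^^^ b2) a3 b3,
    xor4 (a0 ^^^ a1 ^^^ a2 ^^^ a3) (b0 ^^^ b1 ^^^ b2 ^^^ b3) a4 b4,
    xor4 (a0 ^^^ a1 ^^^ a2 ^^^ a3 ^^^ a4) (b0 ^^^ b1 ^^^ b2 ^^^ b3 ^^^ b4) a5 b5]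

theorem ap_xor (M a b : ℕ) : ap M (a ^^^ b) = ap M a ^^^ ap M b := by
  have h0 := xor_mod_two a b
  have h1 := bit_xor a b 1
  have h2 := bit_xor a b 2
  have h3 := bit_xor a b 3
  have h4 := bit_xor a b 4
  have h5 := bit_xor a b 5
  norm_num at h1 h2 h3 h4 h5
  unfold ap
  rw [h0, h1, h2, h3, h4, h5]
  simp only [mul_xor_bit]
  exact xor12 _ _ _ _ _ _ _ _ _ _ _ _

theorem ap_zero (M : ℕ) : ap M 0 = 0 := by simp [ap]

theorem ap_bit (M x m : ℕ) : ap M (x % 2 * m) = x % 2 * ap M m := by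
  rcases Nat.mod_two_eq_zero_or_one x with h1 | h1 <;> rw [h1] <;> simp [ap_zero]

theorem ap_lt (M a : ℕ) : ap M a < 64 := by
  have h : ∀ x m : ℕ, x % 2 * (m % 64) < 2 ^ 6 := by
    intro x m
    rcases Nat.mod_two_eq_zero_or_one x with h1 | h1 <;> rw [h1]
    · norm_num
    · rw [one_mul]; exact Nat.mod_lt _ (by norm_num)
  unfold ap
  exact Nat.xor_lt_two_pow (Nat.xor_lt_two_pow (Nat.xor_lt_two_pow (Nat.xor_lt_two_pow
    (Nat.xor_lt_two_pow (h _ _) (h _ _)) (h _ _)) (h _ _)) (h _ _)) (h _ _)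

theorem ap_mk6 {m0 m1 m2 m3 m4 m5 : ℕ} (h0 : m0 < 64) (h1 : m1 < 64) (h2 : m2 < 64) (h3 : m3 < 64)
    (h4 : m4 < 64) (h5 : m5 < 64) (a : ℕ) : ap (mk6 m0 m1 m2 m3 m4 m5) a =
      ((a % 2) * m0) ^^^ ((a / 2 % 2) * m1) ^^^ ((a / 4 % 2) * m2) ^^^ ((a / 8 % 2) * m3) ^^^
        ((a / 16 % 2) * m4) ^^^ ((a / 32 % 2) * m5) := by
  have e0 : mk6 m0 m1 m2 m3 m4 m5 % 64 = m0 := by unfold mk6; omega
  have e1 : mk6 m0 m1 m2 m3 m4 m5 / 64 % 64 = m1 := by unfold mk6; omega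
  have e2 : mk6 m0 m1 m2 m3 m4 m5 / 4096 % 64 = m2 := by unfold mk6; omega
  have e3 : mk6 m0 m1 m2 m3 m4 m5 / 262144 % 64 = m3 := by unfold mk6; omega
  have e4 : mk6 m0 m1 m2 m3 m4 m5 / 16777216 % 64 = m4 := by unfold mk6; omega
  have e5 : mk6 m0 m1 m2 m3 m4 m5 / 1073741824 % 64 = m5 := by unfold mk6; omega
  unfold ap
  rw [e0, e1, e2, e3, e4, e5]

theorem ap_comp6 (M N a : ℕ) : ap (comp6 M N) a = ap M (ap N a) := by
  have e : ap M (ap N a) = ((a % 2) * ap M (N % 64)) ^^^ ((a / 2 % 2) * ap M (N / 64 % 64)) ^^^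
    ((a / 4 % 2) * ap M (N / 4096 % 64)) ^^^ ((a / 8 % 2) * ap M (N / 262144 % 64)) ^^^
    ((a / 16 % 2) * ap M (N / 16777216 % 64)) ^^^ ((a / 32 % 2) * ap M (N / 1073741824 % 64)) := by
    conv_lhs => rw [ap.eq_def N a]
    simp only [ap_xor, ap_bit]
  rw [e]
  exact ap_mk6 (ap_lt _ _) (ap_lt _ _) (ap_lt _ _) (ap_lt _ _) (ap_lt _ _) (ap_lt _ _) a

theorem ap_mod (M a : ℕ) : ap M (a % 64) = ap M a := by
  have e0 : a % 64 % 2 = a % 2 := by omega
  have e1 : a % 64 / 2 % 2 = a / 2 % 2 := by omega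
  have e2 : a % 64 / 4 % 2 = a / 4 % 2 := by omega
  have e3 : a % 64 / 8 % 2 = a / 8 % 2 := by omega
  have e4 : a % 64 / 16 % 2 = a / 16 % 2 := by omega
  have e5 : a % 64 / 32 % 2 = a / 32 % 2 := by omega
  unfold ap
  rw [e0, e1, e2, e3, e4, e5]

theorem ap_I6 : ∀ a : Fin 64, ap I6 a.1 = a.1 := by decide +kernel

theorem xor_64_mod {a : ℕ} (ha : a < 64) (b : ℕ) : (a ^^^ (b % 2 * 64)) % 64 = a := by
  rcases Nat.mod_two_eq_zero_or_one b with h1 | h1 <;> rw [h1]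
  · simp; omega
  · have : ∀ x : Fin 64, (x.1 ^^^ (1 * 64)) % 64 = x.1 := by decide +kernel
    exact this ⟨a, ha⟩

theorem xor_64_div {a : ℕ} (ha : a < 64) (b : ℕ) : (a ^^^ (b % 2 * 64)) / 64 % 2 = b % 2 := by
  rcases Nat.mod_two_eq_zero_or_one b with h1 | h1 <;> rw [h1]
  · simp; omega
  · have : ∀ x : Fin 64, (x.1 ^^^ (1 * 64)) / 64 % 2 = 1 := by decide +kernel
    exact this ⟨a, ha⟩

theorem ap7_mod (M a : ℕ) : ap7 M a % 64 = ap M a := xor_64_mod (ap_lt M a) _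

theorem ap7_div (M a : ℕ) : ap7 M a / 64 % 2 = a / 64 % 2 := xor_64_div (ap_lt M a) _

theorem ap7_lt (M a : ℕ) : ap7 M a < 128 := by
  have h1 : ap M a < 2 ^ 7 := lt_trans (ap_lt M a) (by norm_num)
  have h2 : a / 64 % 2 * 64 < 2 ^ 7 := by
    have := Nat.mod_lt (a / 64) (show 2 > 0 by norm_num)
    omega
  exact Nat.xor_lt_two_pow h1 h2

theorem ap7_comp6 (M N a : ℕ) : ap7 (comp6 M N) a = ap7 M (ap7 N a) := by
  unfold ap7
  rw [ap_comp6]
  have h1 := ap7_mod N a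
  have h2 := ap7_div N a
  unfold ap7 at h1 h2
  rw [h2, ← ap_mod M (ap N a ^^^ _), h1]

theorem ap7_I6 : ∀ a : Fin 128, ap7 I6 a.1 = a.1 := by decide +kernel

/-! ### the link with `XG BB 6` -/

/-- coding of `XG BB 6` -/
def dec (a : ℕ) : XG BB 6 := ⟨⟨a % 64, Nat.mod_lt _ (by norm_num)⟩, a.testBit 6⟩

/-- code of an element -/
def enc (x : XG BB 6) : ℕ := x.v.1 ^^^ (if x.s then 64 else 0)

theorem nondeg_BB : Nondeg BB 6 := by decide +kernel
theorem tri_BB : Tri BB 6 := by decide +kernel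

theorem lin_eq : ∀ a : Fin 64, lin BB 6 a.1 = ll a.1 := by decide +kernel

theorem xs_eq : ∀ l : Fin 8, ∀ b : Fin 64,
    xs (fun j => l.1.testBit j && b.1.testBit j) 6 = (par (l.1 &&& b.1)).testBit 0 := by
  decide +kernel

theorem ll_lt (a : ℕ) : ll a < 8 := by
  unfold ll
  rcases Nat.mod_two_eq_zero_or_one (a / 8) with h1 | h1 <;>
    rcases Nat.mod_two_eq_zero_or_one (a / 16) with h2 | h2 <;>
    rcases Nat.mod_two_eq_zero_or_one (a / 32) with h3 | h3 <;> rw [h1, h2, h3] <;> decide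

theorem ll_mod (a : ℕ) : ll (a % 64) = ll a := by
  have e3 : a % 64 / 8 % 2 = a / 8 % 2 := by omega
  have e4 : a % 64 / 16 % 2 = a / 16 % 2 := by omega
  have e5 : a % 64 / 32 % 2 = a / 32 % 2 := by omega
  unfold ll
  rw [e3, e4, e5]

theorem and_mod (l b : ℕ) (hl : l < 8) : l &&& (b % 64) = l &&& b := by
  apply Nat.eq_of_testBit_eq
  intro i
  rw [Nat.testBit_and, Nat.testBit_and, show (64 : ℕ) = 2 ^ 6 by norm_num, Nat.testBit_mod_two_pow]
  by_cases hi : i < 6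
  · simp [hi]
  · have : l.testBit i = false := Nat.testBit_lt_two_pow (lt_of_lt_of_le hl (by
      rw [show (8 : ℕ) = 2 ^ 3 by norm_num]; exact Nat.pow_le_pow_right (by norm_num) (by omega)))
    simp [this]

theorem beta_mod (a b : ℕ) : beta (a % 64) (b % 64) = beta a b := by
  unfold beta
  rw [ll_mod, and_mod _ _ (ll_lt a)]

theorem beta_mod_right (a b : ℕ) : beta a (b % 64) = beta a b := by
  unfold beta
  rw [and_mod _ _ (ll_lt a)]

theorem beta_mod_left (a b : ℕ) : beta (a % 64) b = beta a b := by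
  unfold beta
  rw [ll_mod]

theorem par_lt (c : ℕ) : par c < 2 := Nat.mod_lt _ (by norm_num)

theorem beta_lt (a b : ℕ) : beta a b < 2 := par_lt _

theorem bf_eq_beta (a b : ℕ) : bf BB 6 (a % 64) (b % 64) = (beta a b).testBit 0 := by
  have h1 := lin_eq ⟨a % 64, Nat.mod_lt _ (by norm_num)⟩
  have h2 := xs_eq ⟨ll (a % 64), ll_lt _⟩ ⟨b % 64, Nat.mod_lt _ (by norm_num)⟩
  rw [← beta_mod]
  unfold bf beta
  simp only at h1 h2
  rw [h1, h2]

theorem beta_cases (a b : ℕ) : beta a b = 0 ∨ beta a b = 1 := by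
  have := beta_lt a b; omega

theorem mul64_eq_shift (x : ℕ) : x * 64 = x <<< 6 := by rw [Nat.shiftLeft_eq]

theorem mulQ_mod (a b : ℕ) : mulQ a b % 64 = (a % 64) ^^^ (b % 64) := by
  apply Nat.eq_of_testBit_eq
  intro i
  unfold mulQ
  rw [mul64_eq_shift, show (64 : ℕ) = 2 ^ 6 by norm_num, Nat.testBit_mod_two_pow, Nat.testBit_xor,
    Nat.testBit_xor, Nat.testBit_xor, Nat.testBit_mod_two_pow, Nat.testBit_mod_two_pow,
    Nat.testBit_shiftLeft]
  by_cases hi : i < 6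
  · have : decide (i ≥ 6) = false := by simp; omega
    rw [this]
    simp [hi]
  · simp [hi]

theorem mulQ_lt {a b : ℕ} (ha : a < 128) (hb : b < 128) : mulQ a b < 128 := by
  unfold mulQ
  have h1 : a ^^^ b < 2 ^ 7 := Nat.xor_lt_two_pow ha hb
  have h2 : beta a b * 64 < 2 ^ 7 := by
    rcases beta_cases a b with h | h <;> rw [h] <;> decide
  exact Nat.xor_lt_two_pow h1 h2

theorem invQ_lt {a : ℕ} (ha : a < 128) : invQ a < 128 := by
  unfold invQ
  have h2 : beta a a * 64 < 2 ^ 7 := by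
    rcases beta_cases a a with h | h <;> rw [h] <;> decide
  exact Nat.xor_lt_two_pow ha h2

theorem mulQ_testBit (a b : ℕ) :
    (mulQ a b).testBit 6 = (a.testBit 6 ^^ b.testBit 6 ^^ (beta a b).testBit 0) := by
  unfold mulQ
  rw [mul64_eq_shift, Nat.testBit_xor, Nat.testBit_xor, Nat.testBit_shiftLeft]
  simp

theorem dec_mul (a b : ℕ) : dec (mulQ a b) = dec a * dec b := by
  apply XG.ext'
  · rw [mul_v]
    exact mulQ_mod a b
  · rw [mul_s]
    show (mulQ a b).testBit 6 = (a.testBit 6 ^^ b.testBit 6 ^^ bf BB 6 (a % 64) (b % 64))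
    rw [bf_eq_beta, mulQ_testBit]

theorem dec_zero : dec 0 = 1 := rfl

theorem dec_64 : dec 64 = zz := rfl

theorem dec_inj {a b : ℕ} (ha : a < 128) (hb : b < 128) (h : dec a = dec b) : a = b := by
  have h1 : a % 64 = b % 64 := congrArg (fun x => x.v.1) h
  have h2 : a.testBit 6 = b.testBit 6 := congrArg (fun x => x.s) h
  apply Nat.eq_of_testBit_eq
  intro i
  rcases Nat.lt_or_ge i 6 with hi | hi
  · have h3 := congrArg (fun x => Nat.testBit x i) h1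
    simp only [show (64 : ℕ) = 2 ^ 6 by norm_num, Nat.testBit_mod_two_pow] at h3
    simpa [hi] using h3
  · rcases Nat.eq_or_lt_of_le hi with h4 | h4
    · rw [← h4]; exact h2
    · rw [Nat.testBit_lt_two_pow (lt_of_lt_of_le ha (by
        rw [show (128 : ℕ) = 2 ^ 7 by norm_num]
        exact Nat.pow_le_pow_right (by norm_num) (by omega))),
        Nat.testBit_lt_two_pow (lt_of_lt_of_le hb (by
        rw [show (128 : ℕ) = 2 ^ 7 by norm_num]
        exact Nat.pow_le_pow_right (by norm_num) (by omega)))]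

theorem enc_lt (x : XG BB 6) : enc x < 128 := by
  unfold enc
  have h1 : x.v.1 < 2 ^ 7 := lt_trans x.v.2 (by norm_num)
  have h2 : (if x.s then 64 else 0) < 2 ^ 7 := by split <;> norm_num
  exact Nat.xor_lt_two_pow h1 h2

theorem dec_enc (x : XG BB 6) : dec (enc x) = x := by
  apply XG.ext'
  · show (x.v.1 ^^^ (if x.s then 64 else 0)) % 64 = x.v.1
    apply Nat.eq_of_testBit_eq
    intro i
    rw [show (64 : ℕ) = 2 ^ 6 by norm_num, Nat.testBit_mod_two_pow, Nat.testBit_xor]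
    by_cases hi : i < 6
    · have h6 : (2 ^ 6 : ℕ).testBit i = false := by
        rw [Nat.testBit_two_pow]; simp; omega
      cases x.s
      · simp [hi]
      · simp only [if_true, h6, Bool.xor_false, hi, decide_true, Bool.true_and]
    · have : x.v.1.testBit i = false := Nat.testBit_lt_two_pow (lt_of_lt_of_le x.v.2
        (Nat.pow_le_pow_right (by norm_num) (by omega)))
      simp [hi, this]
  · show (x.v.1 ^^^ (if x.s then 64 else 0)).testBit 6 = x.s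
    have h1 : x.v.1.testBit 6 = false := Nat.testBit_lt_two_pow x.v.2
    rw [Nat.testBit_xor, h1]
    cases x.s <;> decide

theorem dec_surj (x : XG BB 6) : ∃ a < 128, dec a = x := ⟨enc x, enc_lt x, dec_enc x⟩

end Cfsg.Agent.Held.Ext
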