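import Mathlib
import Cfsg.Agent.Held.ExtCode
import Cfsg.Agent.Co2Type.Quad
import Cfsg.Agent.ClassificationK.LargeSymplectic

/-!
# Coordinates in `2₊^(1+6).L₃(2)` (S1659 from S1716, part 1)

`Crd z Q E y w t T`: `Q` is a large extraspecial subgroup of `C(z)` of order `2^7`, coordinatised by `E`, and
`C(z) = Q · {yⁱ wᵏ, yⁱ wᵏ t yʲ}`, the elements `y`, `w`, `t` acting on `Q/⟨z⟩` by the packed maps `Y6`, `W6`, `T`.
-/

set_option autoImplicit false

namespace Cfsg.Agent.Held.Ext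

open Cfsg.Agent.Co2Type.Quad

/-- `t yʲ`, or `1` for `j = 7` -/
def tty {G : Type*} [Group G] (t y : G) (j : ℕ) : G := if j = 7 then 1 else t * y ^ j

/-- `c` acts on the masks by the packed map `M` -/
def VA {G : Type*} [Group G] (E : ℕ → G) (c : G) (M : ℕ) : Prop :=
  ∀ a < 128, c * E a = E (ap7 M a) * c ∨ c * E a = E (ap7 M a ^^^ 64) * c

/-- coordinates -/
structure Crd {G : Type*} [Group G] (z : G) (Q : Subgroup G) (E : ℕ → G) (y w t : G) (T : ℕ) :
    Prop where
  large : Large Q z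
  E64 : E 64 = z
  mul : ∀ a < 128, ∀ b < 128, E a * E b = E (mulQ a b)
  inj : ∀ a < 128, ∀ b < 128, E a = E b → a = b
  mem : ∀ g, g ∈ Q ↔ ∃ a < 128, E a = g
  yz : y * z = z * y
  wz : w * z = z * w
  tz : t * z = z * t
  y7 : y ^ 7 = 1
  w3 : w ^ 3 = 1
  wy : w * y = y ^ 2 * w
  yE : ∀ a < 128, y * E a = E (ap7 Y6 a) * y
  wE : ∀ a < 128, w * E a = E (ap7 W6 a) * w
  tE : VA E t T
  full : ∀ c, c * z = z * c → ∃ i < 7, ∃ k < 3, ∃ j < 8, ∃ u < 128,
    c = E u * (y ^ i * (w ^ k * tty t y j))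
  card : Nat.card (Subgroup.centralizer ({z} : Set G)) = 21504

/-- the case in which both `W₁` and `W₂` are invariant; `t` normalises both complements, so it acts exactly by
`T0`, and `⟨z, y, w, t⟩ / ⟨z⟩ = L₃(2)` -/
structure Crd0 {G : Type*} [Group G] (z : G) (Q : Subgroup G) (E : ℕ → G) (y w t : G) : Prop
    extends Crd z Q E y w t T0 where
  tE0 : ∀ a < 128, t * E a = E (ap7 T0 a) * t
  t2 : t * t = 1 ∨ t * t = z
  tw : t * w = w ^ 2 * t
  ty : t * y * t⁻¹ = y⁻¹ * t * y⁻¹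

section

variable {G : Type*} [Group G] {z : G} {Q : Subgroup G} {E : ℕ → G} {y w t : G} {T : ℕ}

theorem mulQ_self_inv : ∀ a : Fin 128, mulQ a.1 (invQ a.1) = 0 := by decide +kernel

theorem mulQ_zero_zero : mulQ 0 0 = 0 := by decide

theorem Crd.E0 (h : Crd z Q E y w t T) : E 0 = 1 := by
  have h1 := h.mul 0 (by norm_num) 0 (by norm_num)
  rw [mulQ_zero_zero] at h1
  exact mul_eq_left.mp h1

theorem Crd.inv (h : Crd z Q E y w t T) {a : ℕ} (ha : a < 128) : (E a)⁻¹ = E (invQ a) := by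
  rw [inv_eq_iff_mul_eq_one, h.mul a ha _ (invQ_lt ha), mulQ_self_inv ⟨a, ha⟩, h.E0]

theorem Crd.E_mem (h : Crd z Q E y w t T) {a : ℕ} (ha : a < 128) : E a ∈ Q :=
  (h.mem _).2 ⟨a, ha, rfl⟩

theorem Crd.Ez (h : Crd z Q E y w t T) {a : ℕ} (ha : a < 128) : E a * z = z * E a :=
  h.large.comm_z _ (h.E_mem ha)

theorem mulQ_64 : ∀ a : Fin 128, mulQ a.1 64 = a.1 ^^^ 64 ∧ mulQ 64 a.1 = a.1 ^^^ 64 := by
  decide +kernel

theorem Crd.E_xor (h : Crd z Q E y w t T) {a : ℕ} (ha : a < 128) : E (a ^^^ 64) = E a * z := by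
  rw [← (mulQ_64 ⟨a, ha⟩).1, ← h.mul a ha 64 (by norm_num), h.E64]

theorem xor64_lt {a : ℕ} (ha : a < 128) : a ^^^ 64 < 128 :=
  Nat.xor_lt_two_pow (n := 7) ha (by norm_num)

/-- commuting codes -/
theorem Crd.comm_iff (h : Crd z Q E y w t T) {a b : ℕ} (ha : a < 128) (hb : b < 128) :
    E a * E b = E b * E a ↔ mulQ a b = mulQ b a := by
  rw [h.mul a ha b hb, h.mul b hb a ha]
  exact ⟨h.inj _ (mulQ_lt ha hb) _ (mulQ_lt hb ha), fun e => by rw [e]⟩

theorem Crd.eq_one_iff (h : Crd z Q E y w t T) {a : ℕ} (ha : a < 128) : E a = 1 ↔ a = 0 := by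
  constructor
  · intro h1
    exact h.inj a ha 0 (by norm_num) (h1.trans h.E0.symm)
  · rintro rfl; exact h.E0

theorem Crd.eq_z_iff (h : Crd z Q E y w t T) {a : ℕ} (ha : a < 128) : E a = z ↔ a = 64 := by
  constructor
  · intro h1
    exact h.inj a ha 64 (by norm_num) (h1.trans h.E64.symm)
  · rintro rfl; exact h.E64

theorem Crd.sq_iff (h : Crd z Q E y w t T) {a : ℕ} (ha : a < 128) : E a * E a = 1 ↔ mulQ a a = 0 := by
  rw [h.mul a ha a ha]
  exact h.eq_one_iff (mulQ_lt ha ha)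

theorem Crd.finQ (h : Crd z Q E y w t T) : Nat.card Q = 128 := by
  have hb : Function.Bijective (fun a : Fin 128 => (⟨E a.1, h.E_mem a.2⟩ : Q)) := by
    constructor
    · intro a b hab
      exact Fin.ext (h.inj _ a.2 _ b.2 (congrArg Subtype.val hab))
    · rintro ⟨g, hg⟩
      obtain ⟨a, ha, rfl⟩ := (h.mem g).1 hg
      exact ⟨⟨a, ha⟩, rfl⟩
  rw [← Nat.card_congr (Equiv.ofBijective _ hb), Nat.card_eq_fintype_card, Fintype.card_fin]

/-! ### actions -/

theorem VA.of_exact {M : ℕ} {c : G} (h : ∀ a < 128, c * E a = E (ap7 M a) * c) : VA E c M :=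
  fun a ha => Or.inl (h a ha)

theorem ap7_xor64 (M : ℕ) {a : ℕ} (ha : a < 128) : ap7 M (a ^^^ 64) = ap7 M a ^^^ 64 := by
  have h1 : ∀ x : Fin 128, (x.1 ^^^ 64) % 64 = x.1 % 64 ∧
      ((x.1 ^^^ 64) / 64 % 2 * 64) = (x.1 / 64 % 2 * 64) ^^^ 64 := by decide +kernel
  obtain ⟨h2, h3⟩ := h1 ⟨a, ha⟩
  simp only at h2 h3
  unfold ap7
  rw [h3, ← ap_mod M (a ^^^ 64), h2, ap_mod, Nat.xor_assoc]

theorem VA.mul {c d : G} {M N : ℕ} (hc : VA E c M) (hd : VA E d N) :
    VA E (c * d) (comp6 M N) := by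
  intro a ha
  rw [ap7_comp6]
  have hcz : ∀ b, b < 128 → (c * E (b ^^^ 64) = E (ap7 M b) * c ∨
      c * E (b ^^^ 64) = E (ap7 M b ^^^ 64) * c) := by
    intro b hb
    rcases hc (b ^^^ 64) (xor64_lt hb) with h1 | h1
    · right; rw [h1, ap7_xor64 M hb]
    · left
      rw [h1, ap7_xor64 M hb, Nat.xor_assoc, Nat.xor_self, Nat.xor_zero]
  rcases hd a ha with h1 | h1
  · rcases hc (ap7 N a) (ap7_lt N a) with h2 | h2
    · left; rw [mul_assoc, h1, ← mul_assoc, h2, mul_assoc]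
    · right; rw [mul_assoc, h1, ← mul_assoc, h2, mul_assoc]
  · rcases hcz (ap7 N a) (ap7_lt N a) with h2 | h2
    · left; rw [mul_assoc, h1, ← mul_assoc, h2, mul_assoc]
    · right; rw [mul_assoc, h1, ← mul_assoc, h2, mul_assoc]

theorem VA.one : VA E (1 : G) I6 := by
  intro a ha
  left
  rw [ap7_I6 ⟨a, ha⟩, one_mul, mul_one]

/-- `Q` acts trivially on the masks -/
theorem Crd.VA_mem (h : Crd z Q E y w t T) {g : G} (hg : g ∈ Q) : VA E g I6 := by
  intro a ha
  rw [ap7_I6 ⟨a, ha⟩]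
  rcases h.large.comm g hg (E a) (h.E_mem ha) with h1 | h1
  · exact Or.inl h1
  · right
    rw [h.E_xor ha, h1, mul_assoc, mul_assoc, h.large.comm_z g hg]

theorem comp6_I6_left {M : ℕ} (hM : M < 64 ^ 6) : comp6 I6 M = M := by
  unfold comp6
  have h : ∀ x : ℕ, ap I6 (x % 64) = x % 64 := fun x => ap_I6 ⟨x % 64, Nat.mod_lt _ (by norm_num)⟩
  rw [h, h, h, h, h, h]
  unfold mk6
  norm_num at hM
  omega

theorem comp6_lt (M N : ℕ) : comp6 M N < 64 ^ 6 := by
  unfold comp6 mk6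
  have h0 := ap_lt M (N % 64)
  have h1 := ap_lt M (N / 64 % 64)
  have h2 := ap_lt M (N / 4096 % 64)
  have h3 := ap_lt M (N / 262144 % 64)
  have h4 := ap_lt M (N / 16777216 % 64)
  have h5 := ap_lt M (N / 1073741824 % 64)
  norm_num
  omega

theorem VA.congr {c : G} {M N : ℕ} (h : VA E c M) (hMN : ∀ a, ap7 M a = ap7 N a) : VA E c N := by
  intro a ha
  rw [← hMN]; exact h a ha

theorem ap7_I6_all (a : ℕ) (ha : a < 128) : ap7 I6 a = a := ap7_I6 ⟨a, ha⟩

theorem VA.pow {c : G} {M : ℕ} (hc : VA E c M) (n : ℕ) :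
    VA E (c ^ n) (pw M n) := by
  induction n with
  | zero => rw [pow_zero]; exact VA.one
  | succ n ih => rw [pow_succ']; exact VA.mul hc ih

theorem Crd.VA_tty (h : Crd z Q E y w t T) (j : ℕ) : VA E (tty t y j) (tt6 T j) := by
  unfold tty tt6
  split
  · exact VA.one
  · exact VA.mul h.tE (VA.pow (VA.of_exact h.yE) j)

theorem Crd.VA_nf (h : Crd z Q E y w t T) (i k j : ℕ) :
    VA E (y ^ i * (w ^ k * tty t y j)) (nf6 T i k j) :=
  VA.mul (VA.pow (VA.of_exact h.yE) i)
    (VA.mul (VA.pow (VA.of_exact h.wE) k) (h.VA_tty j))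

theorem nf6_lt (i k j : ℕ) : nf6 T i k j < 64 ^ 6 := comp6_lt _ _

/-- every element of `C(z)` acts by one of the 168 packed maps, trivially iff it is in `Q` -/
theorem Crd.exists_VA (h : Crd z Q E y w t T) (c : G) (hc : c * z = z * c) :
    ∃ i < 7, ∃ k < 3, ∃ j < 8, ∃ u < 128, c = E u * (y ^ i * (w ^ k * tty t y j)) ∧
      VA E c (nf6 T i k j) := by
  obtain ⟨i, hi, k, hk, j, hj, u, hu, rfl⟩ := h.full c hc
  refine ⟨i, hi, k, hk, j, hj, u, hu, rfl, ?_⟩
  have h1 := VA.mul (h.VA_mem (h.E_mem hu)) (h.VA_nf i k j)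
  rwa [comp6_I6_left (nf6_lt i k j)] at h1

theorem Crd.tty_z (h : Crd z Q E y w t T) (j : ℕ) : tty t y j * z = z * tty t y j := by
  unfold tty
  split
  · simp
  · have h1 : Commute (y ^ j) z := (show Commute y z from h.yz).pow_left j
    exact (show Commute t z from h.tz).mul_left h1

theorem Crd.nf_z (h : Crd z Q E y w t T) (i k j : ℕ) :
    (y ^ i * (w ^ k * tty t y j)) * z = z * (y ^ i * (w ^ k * tty t y j)) :=
  ((show Commute y z from h.yz).pow_left i).mul_left
    (((show Commute w z from h.wz).pow_left k).mul_left (h.tty_z j))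

/-- the two possible actions of an element on the masks agree -/
theorem Crd.VA_unique (h : Crd z Q E y w t T) {c : G} {M N : ℕ} (hM : VA E c M) (hN : VA E c N)
    (a : ℕ) (ha : a < 64) : ap M a = ap N a := by
  have h128 : a < 128 := by omega
  have key : ∀ x y' : ℕ, x < 128 → y' < 128 → E x * c = E y' * c → x = y' := by
    intro x y' hx hy hxy
    exact h.inj x hx y' hy (mul_right_cancel hxy)
  have e1 : ∀ K, ap7 K a = ap K a := by
    intro K
    unfold ap7
    rw [show a / 64 % 2 = 0 by omega]; simp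
  have l1 := ap_lt M a
  have l2 := ap_lt N a
  have hx : ∀ x : Fin 64, ∀ y' : Fin 64, x.1 ≠ y'.1 ^^^ 64 := by decide +kernel
  rcases hM a h128 with h1 | h1 <;> rcases hN a h128 with h2 | h2 <;>
    rw [e1] at h1 h2 <;> rw [h1] at h2
  · exact key _ _ (by omega) (by omega) h2
  · exact absurd (key _ _ (by omega) (xor64_lt (by omega)) h2) (hx ⟨_, l1⟩ ⟨_, l2⟩)
  · exact absurd (key _ _ (xor64_lt (by omega)) (by omega) h2).symm (hx ⟨_, l2⟩ ⟨_, l1⟩)
  · have := key _ _ (xor64_lt (by omega)) (xor64_lt (by omega)) h2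
    have h3 := congrArg (fun x => x ^^^ 64) this
    simpa [Nat.xor_assoc] using h3

/-! ### conjugation -/

theorem Crd.conj (h : Crd z Q E y w t T) (g : G) :
    Crd (g * z * g⁻¹) (Q.map (MulAut.conj g).toMonoidHom) (fun a => g * E a * g⁻¹)
      (g * y * g⁻¹) (g * w * g⁻¹) (g * t * g⁻¹) T where
  large := h.large.conj g
  E64 := by show g * E 64 * g⁻¹ = _; rw [h.E64]
  mul a ha b hb := by
    show g * E a * g⁻¹ * (g * E b * g⁻¹) = g * E (mulQ a b) * g⁻¹
    rw [← h.mul a ha b hb]; group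
  inj a ha b hb hab := by
    apply h.inj a ha b hb
    have h1 : g * E a * g⁻¹ = g * E b * g⁻¹ := hab
    simpa using h1
  mem x := by
    constructor
    · rintro ⟨q, hq, rfl⟩
      obtain ⟨a, ha, rfl⟩ := (h.mem q).1 hq
      exact ⟨a, ha, rfl⟩
    · rintro ⟨a, ha, rfl⟩
      exact ⟨E a, h.E_mem ha, rfl⟩
  yz := by
    calc g * y * g⁻¹ * (g * z * g⁻¹) = g * (y * z) * g⁻¹ := by group
      _ = g * (z * y) * g⁻¹ := by rw [h.yz]
      _ = _ := by group
  wz := by
    calc g * w * g⁻¹ * (g * z * g⁻¹) = g * (w * z) * g⁻¹ := by group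
      _ = g * (z * w) * g⁻¹ := by rw [h.wz]
      _ = _ := by group
  tz := by
    calc g * t * g⁻¹ * (g * z * g⁻¹) = g * (t * z) * g⁻¹ := by group
      _ = g * (z * t) * g⁻¹ := by rw [h.tz]
      _ = _ := by group
  y7 := by rw [conj_pow, h.y7]; group
  w3 := by rw [conj_pow, h.w3]; group
  wy := by
    rw [conj_pow]
    calc g * w * g⁻¹ * (g * y * g⁻¹) = g * (w * y) * g⁻¹ := by group
      _ = g * (y ^ 2 * w) * g⁻¹ := by rw [h.wy]
      _ = _ := by group
  yE a ha := by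
    calc g * y * g⁻¹ * (g * E a * g⁻¹) = g * (y * E a) * g⁻¹ := by group
      _ = g * (E (ap7 Y6 a) * y) * g⁻¹ := by rw [h.yE a ha]
      _ = _ := by group
  wE a ha := by
    calc g * w * g⁻¹ * (g * E a * g⁻¹) = g * (w * E a) * g⁻¹ := by group
      _ = g * (E (ap7 W6 a) * w) * g⁻¹ := by rw [h.wE a ha]
      _ = _ := by group
  tE a ha := by
    rcases h.tE a ha with h1 | h1
    · left
      calc g * t * g⁻¹ * (g * E a * g⁻¹) = g * (t * E a) * g⁻¹ := by group
        _ = g * (E (ap7 T a) * t) * g⁻¹ := by rw [h1]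
        _ = _ := by group
    · right
      calc g * t * g⁻¹ * (g * E a * g⁻¹) = g * (t * E a) * g⁻¹ := by group
        _ = g * (E (ap7 T a ^^^ 64) * t) * g⁻¹ := by rw [h1]
        _ = _ := by group
  full c hc := by
    have h1 : (g⁻¹ * c * g) * z = z * (g⁻¹ * c * g) := by
      calc (g⁻¹ * c * g) * z = g⁻¹ * (c * (g * z * g⁻¹)) * g := by group
        _ = g⁻¹ * ((g * z * g⁻¹) * c) * g := by rw [hc]
        _ = _ := by group
    obtain ⟨i, hi, k, hk, j, hj, u, hu, h2⟩ := h.full _ h1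
    refine ⟨i, hi, k, hk, j, hj, u, hu, ?_⟩
    have h3 : c = g * (E u * (y ^ i * (w ^ k * tty t y j))) * g⁻¹ := by
      rw [← h2]; group
    rw [h3, conj_pow, conj_pow]
    have h4 : tty (g * t * g⁻¹) (g * y * g⁻¹) j = g * tty t y j * g⁻¹ := by
      unfold tty
      split
      · group
      · rw [conj_pow]; group
    rw [h4]; group
  card := by
    rw [← h.card]
    have h1 : Subgroup.centralizer ({g * z * g⁻¹} : Set G) =
        (Subgroup.centralizer ({z} : Set G)).map (MulAut.conj g).toMonoidHom := by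
      ext c
      simp only [Subgroup.mem_map, Subgroup.mem_centralizer_singleton_iff]
      constructor
      · intro hc
        refine ⟨g⁻¹ * c * g, ?_, ?_⟩
        · calc (g⁻¹ * c * g) * z = g⁻¹ * (c * (g * z * g⁻¹)) * g := by group
            _ = g⁻¹ * ((g * z * g⁻¹) * c) * g := by rw [hc]
            _ = _ := by group
        · show g * (g⁻¹ * c * g) * g⁻¹ = c
          group
      · rintro ⟨x, hx, rfl⟩
        show g * x * g⁻¹ * (g * z * g⁻¹) = g * z * g⁻¹ * (g * x * g⁻¹)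
        calc g * x * g⁻¹ * (g * z * g⁻¹) = g * (x * z) * g⁻¹ := by group
          _ = g * (z * x) * g⁻¹ := by rw [hx]
          _ = _ := by group
    rw [h1]
    exact Nat.card_congr (Subgroup.equivMapOfInjective _ _ (MulAut.conj g).injective).toEquiv.symm

/-- the elementwise data used in the fusion argument -/
theorem Crd.data (h : Crd z Q E y w t T) :
    Cfsg.Agent.ClassificationK.LargeSymplectic.Data Q z where
  sqz := h.large.z_sq
  norm c hc x hx := h.large.conj_mem c hc x hx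
  cent c hc := by
    refine h.large.self c ?_ ?_
    · have := hc z h.large.z_mem
      have h2 : z * c = c * z := by
        rw [mul_inv_eq_iff_eq_mul] at this; exact this
      exact h2.symm
    · intro x hx
      have := hc x hx
      rw [mul_inv_eq_iff_eq_mul] at this
      exact this.symm
  mem := h.large.z_mem
  com x hx := h.large.comm_z x hx
  comm x hx y' hy := by
    rcases h.large.comm x hx y' hy with h1 | h1
    · left; rw [h1]; group
    · right
      have hzx : z * x⁻¹ = x⁻¹ * z := by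
        rw [eq_inv_mul_iff_mul_eq, ← mul_assoc, h.large.comm_z x hx, mul_assoc, mul_inv_cancel,
          mul_one]
      rw [h1, mul_assoc, hzx, ← mul_assoc, mul_assoc y' x, mul_inv_cancel, mul_one]
      exact h.large.comm_z y' hy
  sq x hx := h.large.sq x hx
  cen x hx hc _ := by
    refine h.large.cent x hx ?_
    intro y' hy
    have := hc y' hy
    rw [mul_inv_eq_iff_eq_mul] at this
    exact this.symm

end

end Cfsg.Agent.Held.Ext
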