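import Mathlib

/-!
# The two totally singular modules for an element of order seven (S1659 from S1716)

`V` of order 64 with a nondegenerate quadratic form `q` and polar form `b`, `φ` a fixed point free isometry of
order seven, `ω φ = φ² ω`.
-/

set_option autoImplicit false

namespace Cfsg.Agent.Held.Ext

variable {V : Type*} [AddCommGroup V]

/-- hypotheses -/
structure VHyp (b : V → V → ZMod 2) (q : V → ZMod 2) (φ ω : V → V) : Prop where
  h2 : ∀ v : V, v + v = 0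
  badd : ∀ u v w, b (u + v) w = b u w + b v w
  bcomm : ∀ u v, b u v = b v u
  bnd : ∀ v, (∀ w, b v w = 0) → v = 0
  qadd : ∀ u v, q (u + v) = q u + q v + b u v
  φadd : ∀ u v, φ (u + v) = φ u + φ v
  ωadd : ∀ u v, ω (u + v) = ω u + ω v
  φ7 : ∀ v, φ (φ (φ (φ (φ (φ (φ v)))))) = v
  ωφ : ∀ v, ω (φ v) = φ (φ (ω v))
  ωinj : ∀ v, ω v = 0 → v = 0
  qφ : ∀ v, q (φ v) = q v
  bω : ∀ u v, b (ω u) (ω v) = b u v

variable {b : V → V → ZMod 2} {q : V → ZMod 2} {φ ω : V → V}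

namespace VHyp

theorem baddr (h : VHyp b q φ ω) (u v w : V) : b u (v + w) = b u v + b u w := by
  rw [h.bcomm, h.badd, h.bcomm v, h.bcomm w]

theorem bφ (h : VHyp b q φ ω) (u v : V) : b (φ u) (φ v) = b u v := by
  have h1 := h.qadd (φ u) (φ v)
  rw [← h.φadd, h.qφ, h.qφ, h.qφ, h.qadd] at h1
  exact (add_left_cancel h1).symm

theorem φzero (h : VHyp b q φ ω) : φ 0 = 0 := by
  have := h.φadd 0 0
  simpa using this

theorem φinj (h : VHyp b q φ ω) {u v : V} (huv : φ u = φ v) : u = v := by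
  rw [← h.φ7 u, ← h.φ7 v, huv]

/-- cancellation in characteristic two -/
theorem eq_of_add (h : VHyp b q φ ω) {u v : V} (huv : u + v = 0) : u = v := by
  have := h.h2 v
  rw [← this] at huv
  exact add_right_cancel huv

/-- the norm -/
def N (φ : V → V) (v : V) : V :=
  v + φ v + φ (φ v) + φ (φ (φ v)) + φ (φ (φ (φ v))) + φ (φ (φ (φ (φ v)))) +
      φ (φ (φ (φ (φ (φ v)))))

theorem φN (h : VHyp b q φ ω) (v : V) : φ (N φ v) = N φ v := by
  unfold N
  simp only [h.φadd, h.φ7]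
  abel

theorem N_add (h : VHyp b q φ ω) (u v : V) : N φ (u + v) = N φ u + N φ v := by
  unfold N
  simp only [h.φadd]
  abel

theorem N_φ (h : VHyp b q φ ω) (v : V) : N φ (φ v) = N φ v := by
  unfold N
  simp only [h.φ7]
  abel

theorem N_fixed (h : VHyp b q φ ω) {v : V} (hv : φ v = v) : N φ v = v := by
  unfold N
  simp only [hv]
  have := h.h2 v
  calc v + v + v + v + v + v + v = (v + v) + (v + v) + (v + v) + v := by abel
    _ = v := by rw [this]; simp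

/-- membership in the first module -/
def F1 (φ : V → V) (v : V) : Prop := φ (φ (φ v)) = v + φ v
/-- membership in the second module -/
def F2 (φ : V → V) (v : V) : Prop := φ (φ (φ v)) = v + φ (φ v)

theorem iso1 (h : VHyp b q φ ω) {u v : V} (hu : F1 φ u) (hv : F1 φ v) : b u v = 0 := by
  have e1 : b u (φ (φ (φ v))) = b u v + b u (φ v) := by rw [hv, h.baddr]
  have e3 : b u (φ (φ (φ (φ v)))) = b u (φ v) + b u (φ (φ v)) := by
    rw [hv, h.φadd, h.baddr]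
  have e2 : b u v = b u (φ (φ (φ v))) + b u (φ (φ v)) := by
    have : b (φ (φ (φ u))) (φ (φ (φ v))) = b u (φ (φ (φ v))) + b (φ u) (φ (φ (φ v))) := by
      rw [show φ (φ (φ u)) = u + φ u from hu, h.badd]
    rw [h.bφ, h.bφ, h.bφ, h.bφ] at this
    exact this
  have e4 : b u (φ v) = b u (φ (φ (φ (φ v)))) + b u (φ (φ (φ v))) := by
    have : b (φ (φ (φ u))) (φ (φ (φ (φ v)))) =
        b u (φ (φ (φ (φ v)))) + b (φ u) (φ (φ (φ (φ v)))) := by
      rw [show φ (φ (φ u)) = u + φ u from hu, h.badd]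
    rw [h.bφ, h.bφ, h.bφ, h.bφ] at this
    exact this
  revert e1 e2 e3 e4
  generalize b u v = c0
  generalize b u (φ v) = c1
  generalize b u (φ (φ v)) = c2
  generalize b u (φ (φ (φ v))) = c3
  generalize b u (φ (φ (φ (φ v)))) = c4
  revert c0 c1 c2 c3 c4
  decide

theorem iso2 (h : VHyp b q φ ω) {u v : V} (hu : F2 φ u) (hv : F2 φ v) : b u v = 0 := by
  have e1 : b u (φ (φ (φ v))) = b u v + b u (φ (φ v)) := by rw [hv, h.baddr]
  have e3 : b u (φ (φ (φ (φ v)))) = b u (φ v) + b u (φ (φ (φ v))) := by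
    have : φ (φ (φ (φ v))) = φ v + φ (φ (φ v)) := by
      rw [← h.φadd]; exact congrArg φ hv
    rw [this, h.baddr]
  have e2 : b u v = b u (φ (φ (φ v))) + b u (φ v) := by
    have : b (φ (φ (φ u))) (φ (φ (φ v))) = b u (φ (φ (φ v))) + b (φ (φ u)) (φ (φ (φ v))) := by
      rw [show φ (φ (φ u)) = u + φ (φ u) from hu, h.badd]
    rw [h.bφ, h.bφ, h.bφ, h.bφ, h.bφ] at this
    exact this
  have e4 : b u (φ v) = b u (φ (φ (φ (φ v)))) + b u (φ (φ v)) := by
    have : b (φ (φ (φ u))) (φ (φ (φ (φ v)))) =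
        b u (φ (φ (φ (φ v)))) + b (φ (φ u)) (φ (φ (φ (φ v)))) := by
      rw [show φ (φ (φ u)) = u + φ (φ u) from hu, h.badd]
    rw [h.bφ, h.bφ, h.bφ, h.bφ, h.bφ] at this
    exact this
  revert e1 e2 e3 e4
  generalize b u v = c0
  generalize b u (φ v) = c1
  generalize b u (φ (φ v)) = c2
  generalize b u (φ (φ (φ v))) = c3
  generalize b u (φ (φ (φ (φ v)))) = c4
  revert c0 c1 c2 c3 c4
  decide

theorem F1φ (h : VHyp b q φ ω) {v : V} (hv : F1 φ v) : F1 φ (φ v) := by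
  show φ (φ (φ (φ v))) = φ v + φ (φ v)
  rw [← h.φadd]; exact congrArg φ hv

theorem F2φ (h : VHyp b q φ ω) {v : V} (hv : F2 φ v) : F2 φ (φ v) := by
  show φ (φ (φ (φ v))) = φ v + φ (φ (φ v))
  rw [← h.φadd]; exact congrArg φ hv

theorem q1 (h : VHyp b q φ ω) {v : V} (hv : F1 φ v) : q v = 0 := by
  have h1 : q (φ (φ (φ v))) = q v + q (φ v) + b v (φ v) := by
    rw [show φ (φ (φ v)) = v + φ v from hv, h.qadd]
  rw [h.qφ, h.qφ, h.qφ, h.iso1 hv (h.F1φ hv)] at h1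
  revert h1
  generalize q v = c
  revert c
  decide

theorem q2 (h : VHyp b q φ ω) {v : V} (hv : F2 φ v) : q v = 0 := by
  have h1 : q (φ (φ (φ v))) = q v + q (φ (φ v)) + b v (φ (φ v)) := by
    rw [show φ (φ (φ v)) = v + φ (φ v) from hv, h.qadd]
  rw [h.qφ, h.qφ, h.qφ, h.iso2 hv (h.F2φ (h.F2φ hv))] at h1
  revert h1
  generalize q v = c
  revert c
  decide

theorem swap_aux {r A B : V} (hA : A + A = 0) (hr : r = A + B) : B = r + A := by
  rw [hr]
  calc B = (A + A) + B := by rw [hA, zero_add]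
    _ = A + B + A := by abel

theorem F1ω (h : VHyp b q φ ω) {v : V} (hv : F1 φ v) : F1 φ (ω v) := by
  have h1 : ω (φ (φ (φ v))) = ω v + ω (φ v) := by
    rw [show φ (φ (φ v)) = v + φ v from hv, h.ωadd]
  simp only [h.ωφ] at h1
  have h2 := congrArg φ h1
  rw [h.φ7, h.φadd] at h2
  exact swap_aux (h.h2 _) h2

theorem F2ω (h : VHyp b q φ ω) {v : V} (hv : F2 φ v) : F2 φ (ω v) := by
  have h1 : ω (φ (φ (φ v))) = ω v + ω (φ (φ v)) := by
    rw [show φ (φ (φ v)) = v + φ (φ v) from hv, h.ωadd]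
  simp only [h.ωφ] at h1
  -- φ^6 r = r + φ^4 r
  have h2 := congrArg (fun x => φ (φ (φ x))) h1
  simp only [h.φadd] at h2
  rw [h.φ7 (φ (φ (ω v))), h.φ7] at h2
  have h3 := swap_aux (r := φ (φ (ω v))) (A := φ (φ (φ (ω v)))) (B := ω v) (h.h2 _) h2
  exact swap_aux (h.h2 _) (h3.trans (add_comm _ _) |>.trans (add_comm _ _))

theorem dec1 (h : VHyp b q φ ω) (v : V) : F1 φ (v + φ v + φ (φ v) + φ (φ (φ (φ v)))) := by
  show φ (φ (φ (v + φ v + φ (φ v) + φ (φ (φ (φ v)))))) = _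
  simp only [h.φadd, h.φ7]
  generalize φ (φ (φ (φ (φ v)))) = a5
  generalize φ (φ (φ (φ v))) = a4
  generalize φ (φ (φ v)) = a3
  have h1 := h.h2 (φ v)
  have h2 := h.h2 (φ (φ v))
  generalize φ (φ v) = a2 at *
  generalize φ v = a1 at *
  symm
  have h4 := h.h2 a4
  calc v + a1 + a2 + a4 + (a1 + a2 + a3 + a5) = (a1 + a1) + (a2 + a2) + (a3 + a4 + a5 + v) := by
        abel
    _ = a3 + a4 + a5 + v := by rw [h1, h2, zero_add, zero_add]

theorem dec2 (h : VHyp b q φ ω) {v : V} (hN : N φ v = 0) :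
    F2 φ (φ v + φ (φ v) + φ (φ (φ (φ v)))) := by
  show φ (φ (φ (φ v + φ (φ v) + φ (φ (φ (φ v)))))) = _
  unfold N at hN
  simp only [h.φadd, h.φ7]
  have h4 := h.h2 (φ (φ (φ (φ v))))
  generalize φ (φ (φ (φ (φ (φ v))))) = a6 at *
  generalize φ (φ (φ (φ (φ v)))) = a5 at *
  generalize φ (φ (φ (φ v))) = a4 at *
  generalize φ (φ (φ v)) = a3 at *
  generalize φ (φ v) = a2 at *
  generalize φ v = a1 at *
  apply h.eq_of_add
  calc a4 + a5 + v + (a1 + a2 + a4 + (a3 + a4 + a6)) =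
      (v + a1 + a2 + a3 + a4 + a5 + a6) + (a4 + a4) := by abel
    _ = 0 := by rw [hN, h4, zero_add]

theorem dec_add (h : VHyp b q φ ω) (v : V) :
    v = (v + φ v + φ (φ v) + φ (φ (φ (φ v)))) + (φ v + φ (φ v) + φ (φ (φ (φ v)))) := by
  have h1 := h.h2 (φ v)
  have h2 := h.h2 (φ (φ v))
  have h4 := h.h2 (φ (φ (φ (φ v))))
  generalize φ (φ (φ (φ v))) = a4 at *
  generalize φ (φ v) = a2 at *
  generalize φ v = a1 at *
  symm
  calc v + a1 + a2 + a4 + (a1 + a2 + a4) = v + (a1 + a1) + (a2 + a2) + (a4 + a4) := by abel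
    _ = v := by rw [h1, h2, h4]; simp

theorem F1ne (h : VHyp b q φ ω) {v : V} (hv : F1 φ v) (hf : φ v = v) : v = 0 := by
  have h1 : φ (φ (φ v)) = v + φ v := hv
  rw [hf, hf, hf, h.h2] at h1
  exact h1

theorem inter_zero (h : VHyp b q φ ω) {v : V} (h1 : F1 φ v) (h2 : F2 φ v) : v = 0 := by
  have h3 : v + φ v = v + φ (φ v) := (show φ (φ (φ v)) = v + φ v from h1).symm.trans h2
  have h4 := add_left_cancel h3
  exact h.F1ne h1 (h.φinj h4).symm

theorem F2ne (h : VHyp b q φ ω) {v : V} (hv : F2 φ v) (hf : φ v = v) : v = 0 := by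
  have h1 : φ (φ (φ v)) = v + φ (φ v) := hv
  rw [hf, hf, hf, h.h2] at h1
  exact h1

theorem add1 (h : VHyp b q φ ω) {u v : V} (hu : F1 φ u) (hv : F1 φ v) : F1 φ (u + v) := by
  show φ (φ (φ (u + v))) = _
  rw [h.φadd, h.φadd, h.φadd, show φ (φ (φ u)) = u + φ u from hu,
    show φ (φ (φ v)) = v + φ v from hv]
  abel

theorem add2 (h : VHyp b q φ ω) {u v : V} (hu : F2 φ u) (hv : F2 φ v) : F2 φ (u + v) := by
  show φ (φ (φ (u + v))) = _
  rw [h.φadd, h.φadd, h.φadd, show φ (φ (φ u)) = u + φ (φ u) from hu,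
    show φ (φ (φ v)) = v + φ (φ v) from hv]
  abel

theorem F1z (h : VHyp b q φ ω) : F1 φ 0 := by
  show φ (φ (φ 0)) = _; simp [h.φzero]

theorem F2z (h : VHyp b q φ ω) : F2 φ 0 := by
  show φ (φ (φ 0)) = _; simp [h.φzero]

theorem F1it (h : VHyp b q φ ω) {v : V} (hv : F1 φ v) (k : ℕ) : F1 φ (φ^[k] v) := by
  induction k with
  | zero => exact hv
  | succ k ih => rw [Function.iterate_succ_apply']; exact h.F1φ ih

theorem F2it (h : VHyp b q φ ω) {v : V} (hv : F2 φ v) (k : ℕ) : F2 φ (φ^[k] v) := by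
  induction k with
  | zero => exact hv
  | succ k ih => rw [Function.iterate_succ_apply']; exact h.F2φ ih

theorem bit (h : VHyp b q φ ω) (u v : V) (k : ℕ) : b (φ^[k] u) (φ^[k] v) = b u v := by
  induction k with
  | zero => rfl
  | succ k ih => rw [Function.iterate_succ_apply', Function.iterate_succ_apply', h.bφ, ih]

theorem it7 (h : VHyp b q φ ω) (v : V) : φ^[7] v = v := h.φ7 v

theorem it_mod (h : VHyp b q φ ω) (v : V) (k : ℕ) : φ^[k % 7] v = φ^[k] v := by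
  have h1 : ∀ m, φ^[7 * m] v = v := by
    intro m
    induction m with
    | zero => rfl
    | succ m ih => rw [Nat.mul_succ, Function.iterate_add_apply, h.it7, ih]
  conv_rhs => rw [← Nat.mod_add_div k 7, Function.iterate_add_apply, h1]

theorem it_ω (h : VHyp b q φ ω) (v : V) (k : ℕ) : ω (φ^[k] v) = φ^[2 * k] (ω v) := by
  induction k with
  | zero => rfl
  | succ k ih =>
    rw [Function.iterate_succ_apply', h.ωφ, ih, Nat.mul_succ, Nat.add_comm,
      Function.iterate_add_apply]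
    rfl

theorem it_inj (h : VHyp b q φ ω) {v : V} (hv : φ v ≠ v) {i j : ℕ} (hi : i < 7) (hj : j < 7)
    (hij : φ^[i] v = φ^[j] v) : i = j := by
  have h1 : Function.IsPeriodicPt φ 7 v := h.it7 v
  have h2 : ¬ Function.IsFixedPt φ v := fun e => hv e
  have : Fact (Nat.Prime 7) := ⟨by norm_num⟩
  have h3 : Function.minimalPeriod φ v = 7 := Function.minimalPeriod_eq_prime h1 h2
  exact (Function.iterate_injOn_Iio_minimalPeriod (f := φ) (x := v)) (by rw [h3]; exact hi)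
    (by rw [h3]; exact hj) hij

theorem it_ne (h : VHyp b q φ ω) {v : V} (hv : v ≠ 0) (k : ℕ) : φ^[k] v ≠ 0 := by
  induction k with
  | zero => exact hv
  | succ k ih =>
    rw [Function.iterate_succ_apply']
    intro e
    apply ih
    apply h.φinj
    rw [e, h.φzero]

/-- the elements `0`, `φᵏ v` -/
def orb (φ : V → V) (v : V) : Option (Fin 7) → V
  | none => 0
  | some k => φ^[k.1] v

theorem orb_inj (h : VHyp b q φ ω) {v : V} (hv : φ v ≠ v) : Function.Injective (orb φ v) := by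
  have hv0 : v ≠ 0 := by rintro rfl; exact hv h.φzero
  rintro (_ | i) (_ | j) hij
  · rfl
  · exact absurd hij.symm (h.it_ne hv0 _)
  · exact absurd hij (h.it_ne hv0 _)
  · exact congrArg some (Fin.ext (h.it_inj hv i.2 j.2 hij))

theorem orb_F1 (h : VHyp b q φ ω) {v : V} (hv : F1 φ v) (a : Option (Fin 7)) : F1 φ (orb φ v a) := by
  rcases a with _ | k
  · exact h.F1z
  · exact h.F1it hv _

theorem orb_F2 (h : VHyp b q φ ω) {v : V} (hv : F2 φ v) (a : Option (Fin 7)) : F2 φ (orb φ v a) := by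
  rcases a with _ | k
  · exact h.F2z
  · exact h.F2it hv _

/-- both modules are single orbits -/
theorem orbits (h : VHyp b q φ ω) [Finite V] (hcard : Nat.card V = 64) {s t : V} (hs : F1 φ s)
    (ht : F2 φ t) (hs0 : s ≠ 0) (ht0 : t ≠ 0) (v : V) :
    ∃ a c : Option (Fin 7), v = orb φ s a + orb φ t c := by
  let F : Option (Fin 7) × Option (Fin 7) → V := fun p => orb φ s p.1 + orb φ t p.2
  have hF : Function.Injective F := by
    rintro ⟨a, c⟩ ⟨a', c'⟩ hh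
    have h1 : orb φ s a + orb φ t c = orb φ s a' + orb φ t c' := hh
    have h2 : orb φ s a + orb φ s a' = orb φ t c + orb φ t c' := by
      apply h.eq_of_add
      calc orb φ s a + orb φ s a' + (orb φ t c + orb φ t c') =
          (orb φ s a + orb φ t c) + (orb φ s a' + orb φ t c') := by abel
        _ = 0 := by rw [h1]; exact h.h2 _
    have h3 : orb φ s a + orb φ s a' = 0 :=
      h.inter_zero (h.add1 (h.orb_F1 hs a) (h.orb_F1 hs a'))
        (by rw [h2]; exact h.add2 (h.orb_F2 ht c) (h.orb_F2 ht c'))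
    have h4 : orb φ t c + orb φ t c' = 0 := by rw [← h2]; exact h3
    have h5 := h.orb_inj (fun e => hs0 (h.F1ne hs e)) (h.eq_of_add h3)
    have h6 := h.orb_inj (fun e => ht0 (h.F2ne ht e)) (h.eq_of_add h4)
    rw [h5, h6]
  have hc : Nat.card (Option (Fin 7) × Option (Fin 7)) = Nat.card V := by
    rw [hcard, Nat.card_eq_fintype_card]; decide
  have hb : Function.Bijective F := (Nat.bijective_iff_injective_and_card F).2 ⟨hF, hc⟩
  obtain ⟨⟨a, c⟩, hac⟩ := hb.2 v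
  exact ⟨a, c, hac.symm⟩

theorem orbit1 (h : VHyp b q φ ω) [Finite V] (hcard : Nat.card V = 64) {s t : V} (hs : F1 φ s)
    (ht : F2 φ t) (hs0 : s ≠ 0) (ht0 : t ≠ 0) {v : V} (hv : F1 φ v) (hv0 : v ≠ 0) :
    ∃ k < 7, v = φ^[k] s := by
  obtain ⟨a, c, hac⟩ := h.orbits hcard hs ht hs0 ht0 v
  have h1 : orb φ t c = v + orb φ s a := by
    rw [hac]
    calc orb φ t c = (orb φ s a + orb φ s a) + orb φ t c := by rw [h.h2, zero_add]
      _ = _ := by abel
  have h2 : orb φ t c = 0 := h.inter_zero (by rw [h1]; exact h.add1 hv (h.orb_F1 hs a))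
    (h.orb_F2 ht c)
  rw [h2, add_zero] at hac
  rcases a with _ | k
  · exact absurd hac hv0
  · exact ⟨k.1, k.2, hac⟩

theorem orbit2 (h : VHyp b q φ ω) [Finite V] (hcard : Nat.card V = 64) {s t : V} (hs : F1 φ s)
    (ht : F2 φ t) (hs0 : s ≠ 0) (ht0 : t ≠ 0) {v : V} (hv : F2 φ v) (hv0 : v ≠ 0) :
    ∃ k < 7, v = φ^[k] t := by
  obtain ⟨a, c, hac⟩ := h.orbits hcard hs ht hs0 ht0 v
  have h1 : orb φ s a = v + orb φ t c := by
    rw [hac]
    calc orb φ s a = orb φ s a + (orb φ t c + orb φ t c) := by rw [h.h2, add_zero]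
      _ = _ := by abel
  have h2 : orb φ s a = 0 := h.inter_zero (h.orb_F1 hs a)
    (by rw [h1]; exact h.add2 hv (h.orb_F2 ht c))
  rw [h2, zero_add] at hac
  rcases c with _ | k
  · exact absurd hac hv0
  · exact ⟨k.1, k.2, hac⟩

theorem b0 (h : VHyp b q φ ω) (v : V) : b 0 v = 0 := by
  have := h.badd 0 0 v
  simpa using this

theorem b_N (h : VHyp b q φ ω) (u v : V) : b u (N φ v) = b (N φ u) v := by
  have e : ∀ a c : V, b a (φ c) = b (φ (φ (φ (φ (φ (φ a)))))) c := by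
    intro a c
    rw [← h.bφ (φ (φ (φ (φ (φ (φ a)))))) c, h.φ7]
  unfold N
  simp only [h.badd, h.baddr, e, h.φ7]
  ring

/-- a pair of vectors of the two modules with `b s t = 1` -/
theorem exists_pair (h : VHyp b q φ ω) (hne : ∃ v, φ v ≠ v) :
    ∃ s t, F1 φ s ∧ F2 φ t ∧ b s t ≠ 0 := by
  have hproj : ∀ x, N φ (x + N φ x) = 0 := by
    intro x
    rw [h.N_add, h.N_fixed (h.φN x), h.h2]
  obtain ⟨v, hv⟩ := hne
  have hr0 : v + φ v ≠ 0 := fun e => hv (h.eq_of_add e).symm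
  have hN : N φ (v + φ v) = 0 := by rw [h.N_add, h.N_φ, h.h2]
  obtain ⟨r1, r2, hr1, hr2, hre⟩ : ∃ u1 u2, F1 φ u1 ∧ F2 φ u2 ∧ v + φ v = u1 + u2 :=
    ⟨_, _, h.dec1 _, h.dec2 hN, h.dec_add _⟩
  have hN1 : ∀ r, F1 φ r → N φ r = 0 := fun r hr => h.F1ne (by
    unfold N
    exact h.add1 (h.add1 (h.add1 (h.add1 (h.add1 (h.add1 hr (h.F1φ hr)) (h.F1φ (h.F1φ hr)))
      (h.F1φ (h.F1φ (h.F1φ hr)))) (h.F1φ (h.F1φ (h.F1φ (h.F1φ hr)))))
      (h.F1φ (h.F1φ (h.F1φ (h.F1φ (h.F1φ hr))))))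
      (h.F1φ (h.F1φ (h.F1φ (h.F1φ (h.F1φ (h.F1φ hr))))))) (h.φN r)
  have hN2 : ∀ r, F2 φ r → N φ r = 0 := fun r hr => h.F2ne (by
    unfold N
    exact h.add2 (h.add2 (h.add2 (h.add2 (h.add2 (h.add2 hr (h.F2φ hr)) (h.F2φ (h.F2φ hr)))
      (h.F2φ (h.F2φ (h.F2φ hr)))) (h.F2φ (h.F2φ (h.F2φ (h.F2φ hr)))))
      (h.F2φ (h.F2φ (h.F2φ (h.F2φ (h.F2φ hr))))))
      (h.F2φ (h.F2φ (h.F2φ (h.F2φ (h.F2φ (h.F2φ hr))))))) (h.φN r)
  have hb : ∀ r, N φ r = 0 → ∀ x, b r (x + N φ x) = b r x := by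
    intro r hr x
    rw [h.baddr, h.b_N, hr, h.b0, add_zero]
  have hnd : ∀ r, r ≠ 0 → ∃ x, b r x ≠ 0 := by
    intro r hr
    by_contra hcon
    push Not at hcon
    exact hr (h.bnd r hcon)
  by_cases h10 : r1 = 0
  · have h20 : r2 ≠ 0 := by
      rintro rfl
      rw [h10, add_zero] at hre
      exact hr0 hre
    obtain ⟨x, hx⟩ := hnd r2 h20
    rw [← hb r2 (hN2 r2 hr2) x] at hx
    refine ⟨_, r2, h.dec1 (x + N φ x), hr2, ?_⟩
    intro he
    apply hx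
    rw [h.dec_add (x + N φ x), h.baddr, h.iso2 hr2 (h.dec2 (hproj x)), add_zero, h.bcomm]
    exact he
  · obtain ⟨x, hx⟩ := hnd r1 h10
    rw [← hb r1 (hN1 r1 hr1) x] at hx
    refine ⟨r1, _, hr1, h.dec2 (hproj x), ?_⟩
    intro he
    apply hx
    rw [h.dec_add (x + N φ x), h.baddr, h.iso1 hr1 (h.dec1 _), zero_add]
    exact he

/-- `φ` has no fixed points -/
theorem fpf (h : VHyp b q φ ω) [Finite V] (hcard : Nat.card V = 64) (hne : ∃ v, φ v ≠ v) {c : V}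
    (hc : φ c = c) : c = 0 := by
  obtain ⟨s, t, hs, ht, hst⟩ := h.exists_pair hne
  have hs0 : s ≠ 0 := by rintro rfl; exact hst (h.b0 t)
  have ht0 : t ≠ 0 := by rintro rfl; exact hst ((h.bcomm _ _).trans (h.b0 s))
  obtain ⟨a, a', hac⟩ := h.orbits hcard hs ht hs0 ht0 c
  have h1 := h.orb_F1 hs a
  have h2 := h.orb_F2 ht a'
  generalize orb φ s a = u1 at *
  generalize orb φ t a' = u2 at *
  have h3 : u1 + φ u1 = u2 + φ u2 := by
    apply h.eq_of_add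
    calc u1 + φ u1 + (u2 + φ u2) = (u1 + u2) + (φ u1 + φ u2) := by abel
      _ = c + φ c := by rw [← h.φadd, ← hac]
      _ = 0 := by rw [hc, h.h2]
  have h4 : u1 + φ u1 = 0 := h.inter_zero (h.add1 h1 (h.F1φ h1))
    (by rw [h3]; exact h.add2 h2 (h.F2φ h2))
  have h5 : u2 + φ u2 = 0 := by rw [← h3]; exact h4
  have h6 := h.F1ne h1 (h.eq_of_add h4).symm
  have h7 := h.F2ne h2 (h.eq_of_add h5).symm
  rw [hac, h6, h7, add_zero]

/-- the normalised vectors -/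
theorem exists_vectors (h : VHyp b q φ ω) [Finite V] (hcard : Nat.card V = 64)
    (hne : ∃ v, φ v ≠ v) :
    ∃ v v' : V, F1 φ v ∧ F2 φ v' ∧ ω v = v ∧ ω v' = v' ∧ b v v' = 1 ∧ b v (φ v') = 1 ∧
      b v (φ (φ v')) = 1 ∧ b (φ v) v' = 0 ∧ b (φ (φ v)) v' = 0 := by
  obtain ⟨s, t, hs, ht, hst⟩ := h.exists_pair hne
  have b0 := h.b0
  have hs0 : s ≠ 0 := by rintro rfl; exact hst (b0 t)
  have ht0 : t ≠ 0 := by rintro rfl; exact hst ((h.bcomm _ _).trans (b0 s))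
  have hω : ∀ w, w ≠ 0 → ω w ≠ 0 := fun w hw e => hw (h.ωinj w e)
  obtain ⟨k, hk, hks⟩ := h.orbit1 hcard hs ht hs0 ht0 (h.F1ω hs) (hω s hs0)
  obtain ⟨l, hl, hlt⟩ := h.orbit2 hcard hs ht hs0 ht0 (h.F2ω ht) (hω t ht0)
  have hfix : ∀ (r : V) (m : ℕ), ω r = φ^[m] r → ω (φ^[6 * m] r) = φ^[6 * m] r := by
    intro r m hm
    rw [h.it_ω, hm, ← Function.iterate_add_apply]
    have e1 := h.it_mod r (2 * (6 * m) + m)
    have e2 := h.it_mod r (6 * m)
    have e3 : (2 * (6 * m) + m) % 7 = 6 * m % 7 := by omega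
    rw [← e1, ← e2, e3]
  have hv1 : F1 φ (φ^[6 * k] s) := h.F1it hs _
  have hv2 : F2 φ (φ^[6 * l] t) := h.F2it ht _
  have hw1 := hfix s k hks
  have hw2 := hfix t l hlt
  have hn1 : φ^[6 * k] s ≠ 0 := h.it_ne hs0 _
  have hn2 : φ^[6 * l] t ≠ 0 := h.it_ne ht0 _
  obtain ⟨a, ha, hsa⟩ := h.orbit1 hcard hv1 hv2 hn1 hn2 hs hs0
  obtain ⟨c, hc, htc⟩ := h.orbit2 hcard hv1 hv2 hn1 hn2 ht ht0
  generalize φ^[6 * k] s = v at *
  generalize φ^[6 * l] t = v' at *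
  have hvv : ∃ j < 7, b v (φ^[j] v') ≠ 0 := by
    refine ⟨(c + 7 - a) % 7, Nat.mod_lt _ (by norm_num), ?_⟩
    rw [h.it_mod, ← h.bit _ _ a, ← Function.iterate_add_apply, ← h.it_mod _ (a + _),
      show (a + (c + 7 - a)) % 7 = c by omega, ← hsa, ← htc]
    exact hst
  refine ⟨v, v', hv1, hv2, hw1, hw2, ?_⟩
  have r1 : b v (φ v') = b v (φ (φ v')) := by
    have := h.bω v (φ v')
    rw [hw1, h.ωφ, hw2] at this
    exact this.symm
  have r2 : b v (φ (φ v')) = b v (φ (φ (φ (φ v')))) := by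
    have := h.bω v (φ (φ v'))
    rw [hw1, h.ωφ, h.ωφ, hw2] at this
    exact this.symm
  have r3 : b v (φ (φ (φ v'))) = b v v' + b v (φ (φ v')) := by rw [hv2, h.baddr]
  have r4 : b v (φ (φ (φ (φ v')))) = b v (φ v') + b v (φ (φ (φ v'))) := by
    rw [show φ (φ (φ (φ v'))) = φ v' + φ (φ (φ v')) by rw [← h.φadd]; exact congrArg φ hv2,
      h.baddr]
  have r5 : b v (φ (φ (φ (φ (φ v'))))) = b v (φ (φ v')) + b v (φ (φ (φ (φ v')))) := by
    have := h.F2φ (h.F2φ hv2)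
    rw [show φ (φ (φ (φ (φ v')))) = φ (φ v') + φ (φ (φ (φ v'))) from this, h.baddr]
  have r6 : b v (φ (φ (φ (φ (φ (φ v')))))) =
      b v (φ (φ (φ v'))) + b v (φ (φ (φ (φ (φ v'))))) := by
    have := h.F2φ (h.F2φ (h.F2φ hv2))
    rw [show φ (φ (φ (φ (φ (φ v'))))) = φ (φ (φ v')) + φ (φ (φ (φ (φ v')))) from this, h.baddr]
  have r7 : b (φ v) v' = b v (φ (φ (φ (φ (φ (φ v')))))) := by
    rw [← h.bφ v, h.φ7]
  have r8 : b (φ (φ v)) v' = b v (φ (φ (φ (φ (φ v'))))) := by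
    rw [← h.bφ v, ← h.bφ (φ v), h.φ7]
  obtain ⟨j, hj, hj0⟩ := hvv
  have hj' : b v v' ≠ 0 ∨ b v (φ v') ≠ 0 ∨ b v (φ (φ v')) ≠ 0 ∨ b v (φ (φ (φ v'))) ≠ 0 ∨
      b v (φ (φ (φ (φ v')))) ≠ 0 ∨ b v (φ (φ (φ (φ (φ v'))))) ≠ 0 ∨
      b v (φ (φ (φ (φ (φ (φ v')))))) ≠ 0 := by
    interval_cases j
    · exact Or.inl hj0
    · exact Or.inr (Or.inl hj0)
    · exact Or.inr (Or.inr (Or.inl hj0))
    · exact Or.inr (Or.inr (Or.inr (Or.inl hj0)))
    · exact Or.inr (Or.inr (Or.inr (Or.inr (Or.inl hj0))))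
    · exact Or.inr (Or.inr (Or.inr (Or.inr (Or.inr (Or.inl hj0)))))
    · exact Or.inr (Or.inr (Or.inr (Or.inr (Or.inr (Or.inr hj0)))))
  rw [r7, r8]
  clear hsa htc hs ht hst hj0 hks hlt r7 r8
  revert hj' r1 r2 r3 r4 r5 r6
  generalize b v v' = c0
  generalize b v (φ v') = c1
  generalize b v (φ (φ v')) = c2
  generalize b v (φ (φ (φ v'))) = c3
  generalize b v (φ (φ (φ (φ v')))) = c4
  generalize b v (φ (φ (φ (φ (φ v'))))) = c5
  generalize b v (φ (φ (φ (φ (φ (φ v')))))) = c6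
  intro r1 r2 r3 r4 r5 r6 hj'
  subst r3
  subst r4
  subst r5
  subst r6
  revert c0 c1 c2
  decide

end VHyp

end Cfsg.Agent.Held.Ext
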