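import Mathlib
import Cfsg.Agent.Held.ExtCrd
import Cfsg.Agent.Held.ExtVec

/-!
# Coordinates of the extraspecial group alone (S1659 from S1716)
-/

set_option autoImplicit false

namespace Cfsg.Agent.Held.Ext

open Cfsg.Agent.Co2Type.Quad

/-- action of an automorphism given by the codes `I i` of the images of the generators -/
def ev (I : ℕ → ℕ) (a : ℕ) : ℕ :=
  mulQ (a % 2 * I 0) (mulQ (a / 2 % 2 * I 1) (mulQ (a / 4 % 2 * I 2) (mulQ (a / 8 % 2 * I 3)
    (mulQ (a / 16 % 2 * I 4) (mulQ (a / 32 % 2 * I 5) (a / 64 % 2 * 64))))))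

/-- coordinates of `Q` -/
structure Cod {G : Type*} [Group G] (z : G) (Q : Subgroup G) (E : ℕ → G) : Prop where
  large : Large Q z
  E64 : E 64 = z
  mul : ∀ a < 128, ∀ b < 128, E a * E b = E (mulQ a b)
  inj : ∀ a < 128, ∀ b < 128, E a = E b → a = b
  mem : ∀ g, g ∈ Q ↔ ∃ a < 128, E a = g

section

variable {G : Type*} [Group G] {z : G} {Q : Subgroup G} {E : ℕ → G}

theorem Crd.cod {y w t : G} {T : ℕ} (h : Crd z Q E y w t T) : Cod z Q E :=
  ⟨h.large, h.E64, h.mul, h.inj, h.mem⟩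

theorem Cod.E0 (h : Cod z Q E) : E 0 = 1 := by
  have h1 := h.mul 0 (by norm_num) 0 (by norm_num)
  rw [mulQ_zero_zero] at h1
  exact mul_eq_left.mp h1

theorem Cod.E_mem (h : Cod z Q E) {a : ℕ} (ha : a < 128) : E a ∈ Q :=
  (h.mem _).2 ⟨a, ha, rfl⟩

theorem Cod.E_xor (h : Cod z Q E) {a : ℕ} (ha : a < 128) : E (a ^^^ 64) = E a * z := by
  rw [← (mulQ_64 ⟨a, ha⟩).1, ← h.mul a ha 64 (by norm_num), h.E64]

theorem bit_lt {x m : ℕ} (hm : m < 128) : x % 2 * m < 128 := by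
  rcases Nat.mod_two_eq_zero_or_one x with h1 | h1 <;> rw [h1] <;> omega

theorem ev_lt {I : ℕ → ℕ} (hI : ∀ i < 6, I i < 128) (a : ℕ) : ev I a < 128 := by
  unfold ev
  refine mulQ_lt (bit_lt (hI 0 (by norm_num))) (mulQ_lt (bit_lt (hI 1 (by norm_num)))
    (mulQ_lt (bit_lt (hI 2 (by norm_num))) (mulQ_lt (bit_lt (hI 3 (by norm_num)))
    (mulQ_lt (bit_lt (hI 4 (by norm_num))) (mulQ_lt (bit_lt (hI 5 (by norm_num)))
    (bit_lt (by norm_num)))))))

theorem bits_eq : ∀ a : Fin 128, ev (fun i => 2 ^ i) a.1 = a.1 := by decide +kernel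

theorem Cod.conj_ev (h : Cod z Q E) {c : G} (hc : c * z = z * c) {I : ℕ → ℕ}
    (hI : ∀ i < 6, I i < 128) (hcI : ∀ i < 6, c * E (2 ^ i) = E (I i) * c) :
    ∀ a < 128, c * E a = E (ev I a) * c := by
  intro a ha
  have h0 : ∀ i < 6, ∀ x : ℕ, c * E (x % 2 * 2 ^ i) = E (x % 2 * I i) * c := by
    intro i hi x
    rcases Nat.mod_two_eq_zero_or_one x with h1 | h1 <;> rw [h1]
    · rw [zero_mul, zero_mul, h.E0]; group
    · rw [one_mul, one_mul]; exact hcI i hi
  have hz : ∀ x : ℕ, c * E (x % 2 * 64) = E (x % 2 * 64) * c := by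
    intro x
    rcases Nat.mod_two_eq_zero_or_one x with h1 | h1 <;> rw [h1]
    · rw [zero_mul, h.E0]; group
    · rw [one_mul, h.E64]; exact hc
  have step : ∀ p q p' q' : ℕ, p < 128 → q < 128 → p' < 128 → q' < 128 → c * E p = E p' * c →
      c * E q = E q' * c → c * E (mulQ p q) = E (mulQ p' q') * c := by
    intro p q p' q' hp hq hp' hq' h1 h2
    rw [← h.mul p hp q hq, ← h.mul p' hp' q' hq', ← mul_assoc, h1, mul_assoc, h2, mul_assoc]
  have hp : ∀ i < 6, (2 : ℕ) ^ i < 128 := by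
    intro i hi
    calc (2 : ℕ) ^ i ≤ 2 ^ 6 := Nat.pow_le_pow_right (by norm_num) (by omega)
      _ < 128 := by norm_num
  have L : ∀ {p q : ℕ}, p < 128 → q < 128 → mulQ p q < 128 := fun hp hq => mulQ_lt hp hq
  have B : ∀ i < 6, ∀ x : ℕ, x % 2 * 2 ^ i < 128 := fun i hi x => bit_lt (hp i hi)
  have C : ∀ i < 6, ∀ x : ℕ, x % 2 * I i < 128 := fun i hi x => bit_lt (hI i hi)
  have Z : ∀ x : ℕ, x % 2 * 64 < 128 := fun x => bit_lt (by norm_num)
  have key : c * E (ev (fun i => 2 ^ i) a) = E (ev I a) * c := by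
    unfold ev
    refine step _ _ _ _ (B 0 (by norm_num) _) ?_ (C 0 (by norm_num) _) ?_ (h0 0 (by norm_num) _) ?_
    · exact L (B 1 (by norm_num) _) (L (B 2 (by norm_num) _) (L (B 3 (by norm_num) _)
        (L (B 4 (by norm_num) _) (L (B 5 (by norm_num) _) (Z _)))))
    · exact L (C 1 (by norm_num) _) (L (C 2 (by norm_num) _) (L (C 3 (by norm_num) _)
        (L (C 4 (by norm_num) _) (L (C 5 (by norm_num) _) (Z _)))))
    refine step _ _ _ _ (B 1 (by norm_num) _) ?_ (C 1 (by norm_num) _) ?_ (h0 1 (by norm_num) _) ?_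
    · exact L (B 2 (by norm_num) _) (L (B 3 (by norm_num) _)
        (L (B 4 (by norm_num) _) (L (B 5 (by norm_num) _) (Z _))))
    · exact L (C 2 (by norm_num) _) (L (C 3 (by norm_num) _)
        (L (C 4 (by norm_num) _) (L (C 5 (by norm_num) _) (Z _))))
    refine step _ _ _ _ (B 2 (by norm_num) _) ?_ (C 2 (by norm_num) _) ?_ (h0 2 (by norm_num) _) ?_
    · exact L (B 3 (by norm_num) _) (L (B 4 (by norm_num) _) (L (B 5 (by norm_num) _) (Z _)))
    · exact L (C 3 (by norm_num) _) (L (C 4 (by norm_num) _) (L (C 5 (by norm_num) _) (Z _)))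
    refine step _ _ _ _ (B 3 (by norm_num) _) ?_ (C 3 (by norm_num) _) ?_ (h0 3 (by norm_num) _) ?_
    · exact L (B 4 (by norm_num) _) (L (B 5 (by norm_num) _) (Z _))
    · exact L (C 4 (by norm_num) _) (L (C 5 (by norm_num) _) (Z _))
    refine step _ _ _ _ (B 4 (by norm_num) _) ?_ (C 4 (by norm_num) _) ?_ (h0 4 (by norm_num) _) ?_
    · exact L (B 5 (by norm_num) _) (Z _)
    · exact L (C 5 (by norm_num) _) (Z _)
    exact step _ _ _ _ (B 5 (by norm_num) _) (Z _) (C 5 (by norm_num) _) (Z _)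
      (h0 5 (by norm_num) _) (hz _)
  rwa [bits_eq ⟨a, ha⟩] at key

theorem bit_mul_mod (x m : ℕ) : x % 2 * m % 64 = x % 2 * (m % 64) := by
  rcases Nat.mod_two_eq_zero_or_one x with h1 | h1 <;> rw [h1]
  · simp
  · rw [one_mul, one_mul]

/-- the mask of `ev I a` -/
theorem ev_mod (I : ℕ → ℕ) (a : ℕ) : ev I a % 64 =
    ap (mk6 (I 0 % 64) (I 1 % 64) (I 2 % 64) (I 3 % 64) (I 4 % 64) (I 5 % 64)) a := by
  have hm : ∀ x : ℕ, x % 64 < 64 := fun x => Nat.mod_lt _ (by norm_num)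
  rw [ap_mk6 (hm _) (hm _) (hm _) (hm _) (hm _) (hm _)]
  unfold ev
  rw [mulQ_mod, mulQ_mod, mulQ_mod, mulQ_mod, mulQ_mod, mulQ_mod]
  rw [bit_mul_mod, bit_mul_mod, bit_mul_mod, bit_mul_mod, bit_mul_mod, bit_mul_mod, bit_mul_mod]
  simp only [Nat.mod_self, mul_zero, Nat.xor_zero, Nat.xor_assoc]

/-- two codes with the same mask -/
theorem eq_or_xor {a b : ℕ} (ha : a < 128) (hb : b < 128) (hab : a % 64 = b % 64) :
    a = b ∨ a = b ^^^ 64 := by
  have h : ∀ x : Fin 64, x.1 ^^^ 64 = x.1 + 64 ∧ (x.1 + 64) ^^^ 64 = x.1 := by decide +kernel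
  rcases Nat.lt_or_ge a 64 with h1 | h1 <;> rcases Nat.lt_or_ge b 64 with h2 | h2
  · left; omega
  · right
    have := (h ⟨b - 64, by omega⟩).2
    simp only at this
    rw [show b - 64 + 64 = b by omega] at this
    rw [this]; omega
  · right
    have := (h ⟨b, h2⟩).1
    simp only at this
    rw [this]; omega
  · left; omega

/-- every element of `C(z)` acts on the codes through `ev` -/
theorem Cod.exists_ev (h : Cod z Q E) {c : G} (hc : c * z = z * c) :
    ∃ I : ℕ → ℕ, (∀ i, I i < 128) ∧ ∀ a < 128, c * E a = E (ev I a) * c := by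
  have h1 : ∀ i : ℕ, ∃ m < 128, i < 6 → c * E (2 ^ i) = E m * c := by
    intro i
    by_cases hi : i < 6
    · have hp : (2 : ℕ) ^ i < 128 := by
        calc (2 : ℕ) ^ i ≤ 2 ^ 6 := Nat.pow_le_pow_right (by norm_num) (by omega)
          _ < 128 := by norm_num
      obtain ⟨m, hm, hme⟩ := (h.mem _).1 (h.large.conj_mem c hc _ (h.E_mem hp))
      exact ⟨m, hm, fun _ => by rw [hme]; group⟩
    · exact ⟨0, by norm_num, fun h => absurd h hi⟩
  choose I hI hcI using h1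
  exact ⟨I, hI, h.conj_ev hc (fun i _ => hI i) (fun i hi => hcI i hi)⟩

/-- the mask action of an element given by `ev` -/
theorem VA_of_ev {c : G} {I : ℕ → ℕ} (hI : ∀ i, I i < 128)
    (hc : ∀ a < 128, c * E a = E (ev I a) * c) :
    VA E c (mk6 (I 0 % 64) (I 1 % 64) (I 2 % 64) (I 3 % 64) (I 4 % 64) (I 5 % 64)) := by
  intro a ha
  have h1 : ev I a % 64 =
      ap7 (mk6 (I 0 % 64) (I 1 % 64) (I 2 % 64) (I 3 % 64) (I 4 % 64) (I 5 % 64)) a % 64 := by
    rw [ap7_mod]; exact ev_mod I a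
  rcases eq_or_xor (ev_lt (fun i _ => hI i) a) (ap7_lt _ a) h1 with h2 | h2
  · left; rw [hc a ha, h2]
  · right; rw [hc a ha, h2]

theorem Cod.VA_unique (h : Cod z Q E) {c : G} {M N : ℕ} (hM : VA E c M) (hN : VA E c N)
    (a : ℕ) (ha : a < 64) : ap M a = ap N a := by
  have h128 : a < 128 := by omega
  have key : ∀ x y' : ℕ, x < 128 → y' < 128 → E x * c = E y' * c → x = y' := by
    intro x y' hx hy hxy
    exact h.inj x hx y' hy (mul_right_cancel hxy)
  have e1 : ∀ K, ap7 K a = ap K a := by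
    intro K
    unfold ap7
    rw [show a / 64 % 2 = 0 by omega]; simp
  have l1 := ap_lt M a
  have l2 := ap_lt N a
  have hx : ∀ x : Fin 64, ∀ y' : Fin 64, x.1 ≠ y'.1 ^^^ 64 := by decide +kernel
  rcases hM a h128 with h1 | h1 <;> rcases hN a h128 with h2 | h2 <;>
    rw [e1] at h1 h2 <;> rw [h1] at h2
  · exact key _ _ (by omega) (by omega) h2
  · exact absurd (key _ _ (by omega) (xor64_lt (by omega)) h2) (hx ⟨_, l1⟩ ⟨_, l2⟩)
  · exact absurd (key _ _ (xor64_lt (by omega)) (by omega) h2).symm (hx ⟨_, l2⟩ ⟨_, l1⟩)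
  · have := key _ _ (xor64_lt (by omega)) (xor64_lt (by omega)) h2
    have h3 := congrArg (fun x => x ^^^ 64) this
    simpa [Nat.xor_assoc] using h3

/-- `Q` acts trivially on the masks -/
theorem Cod.VA_mem (h : Cod z Q E) {g : G} (hg : g ∈ Q) : VA E g I6 := by
  intro a ha
  rw [ap7_I6 ⟨a, ha⟩]
  rcases h.large.comm g hg (E a) (h.E_mem ha) with h1 | h1
  · exact Or.inl h1
  · right
    rw [h.E_xor ha, h1, mul_assoc, mul_assoc, h.large.comm_z g hg]

end

end Cfsg.Agent.Held.Ext
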