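import Mathlib
import Cfsg.Agent.Held.ExtCrd

/-!
# The non-split extension `2₊^(1+6) · L₃(2)` does not occur (S1659 from S1716, part P3)
-/

set_option autoImplicit false

namespace Cfsg.Agent.Held.ExtTwist

open Cfsg.Agent.Held.Ext Cfsg.Agent.Co2Type.Quad

/-! ### searching -/

/-- search -/
def srch (p : ℕ → Bool) : ℕ → Bool
  | 0 => false
  | n + 1 => p n || srch p n

theorem srch_iff {p : ℕ → Bool} {n : ℕ} : srch p n = true ↔ ∃ m < n, p m = true := by
  induction n with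
  | zero => simp [srch]
  | succ n ih =>
    rw [srch, Bool.or_eq_true, ih]
    constructor
    · rintro (h | ⟨m, hm, h⟩)
      · exact ⟨n, Nat.lt_succ_self n, h⟩
      · exact ⟨m, Nat.lt_succ_of_lt hm, h⟩
    · rintro ⟨m, hm, h⟩
      rcases Nat.lt_succ_iff_lt_or_eq.1 hm with h1 | h1
      · exact Or.inr ⟨m, h1, h⟩
      · left; rw [← h1]; exact h

/-- all -/
def alln (p : ℕ → Bool) : ℕ → Bool
  | 0 => true
  | n + 1 => p n && alln p n

theorem alln_iff {p : ℕ → Bool} {n : ℕ} : alln p n = true ↔ ∀ m < n, p m = true := by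
  induction n with
  | zero => simp [alln]
  | succ n ih =>
    rw [alln, Bool.and_eq_true, ih]
    constructor
    · rintro ⟨h1, h2⟩ m hm
      rcases Nat.lt_succ_iff_lt_or_eq.1 hm with h3 | h3
      · exact h2 m h3
      · rw [h3]; exact h1
    · intro h
      exact ⟨h n (Nat.lt_succ_self n), fun m hm => h m (Nat.lt_succ_of_lt hm)⟩

/-- implication -/
def imp (a b : Bool) : Bool := cond a b true

theorem imp_iff {a b : Bool} : imp a b = true ↔ (a = true → b = true) := by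
  cases a <;> cases b <;> simp [imp]

/-! ### finite checks -/

/-- the `n`-th normal form -/
def nfi (n : ℕ) : ℕ := nf6 T0 (n / 24) (n / 8 % 3) (n % 8)

theorem nfi_eq {i k j : ℕ} (hi : i < 7) (hk : k < 3) (hj : j < 8) :
    24 * i + 8 * k + j < 168 ∧ nfi (24 * i + 8 * k + j) = nf6 T0 i k j := by
  refine ⟨by omega, ?_⟩
  unfold nfi
  have e1 : (24 * i + 8 * k + j) / 24 = i := by omega
  have e2 : (24 * i + 8 * k + j) / 8 % 3 = k := by omega
  have e3 : (24 * i + 8 * k + j) % 8 = j := by omega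
  rw [e1, e2, e3]

theorem chk_cW : ∀ i : Fin 7, ∀ k : Fin 3, ∀ j : Fin 8,
    Nat.beq (comp6 (nf6 T0 i k j) W6) (comp6 W6 (nf6 T0 i k j)) = true → i = 0 ∧ j = 7 := by
  decide +kernel

theorem chk_I6 : ∀ i : Fin 7, ∀ k : Fin 3, ∀ j : Fin 8, Nat.beq (nf6 T0 i k j) I6 = true →
    i = 0 ∧ k = 0 ∧ j = 7 := by
  decide +kernel

theorem chk_u : ∀ x : Fin 128, (x.1 % 64 = 1 ∨ x.1 % 64 = 8) → ∀ u : Fin 128, ap7 W6 u.1 = u.1 →
    mulQ u.1 x.1 = mulQ x.1 u.1 → mulQ u.1 u.1 = 0 ∧ ap7 T0 u.1 = u.1 := by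
  decide +kernel

theorem chk_fix : ∀ x : Fin 128, (x.1 % 64 = 1 ∨ x.1 % 64 = 8) → ap7 W6 x.1 = x.1 ∧ ap7 T0 x.1 = x.1 := by
  decide +kernel

theorem chk_orb : ∀ x : Fin 128, x.1 % 64 ≠ 0 → (x.1 % 64 < 8 ∨ x.1 % 8 = 0) →
    ∃ i : Fin 7, ap7 (pw Y6 i) x.1 % 64 = 1 ∨ ap7 (pw Y6 i) x.1 % 64 = 8 := by
  decide +kernel

theorem chk_conj : alln (fun n => imp (Nat.beq (comp6 (nfi n) (nfi n)) I6 && !(Nat.beq (nfi n) I6))
    (srch (fun m => Nat.beq (comp6 (nfi m) (nfi n)) (comp6 T0 (nfi m))) 168)) 168 = true := by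
  decide +kernel

/-- the elements of `[Q, t]` -/
def inL (x : ℕ) : Bool :=
  Nat.beq (x % 64) 0 || Nat.beq (x % 64) 6 || Nat.beq (x % 64) 40 || Nat.beq (x % 64) 46

theorem chk_a : alln (fun u => imp (Nat.beq (mulQ u (ap7 T0 u)) 64)
    (alln (fun x => imp (inL x) (Nat.beq (mulQ x u) (mulQ u (ap7 T0 x)) &&
      srch (fun v => Nat.beq (mulQ (mulQ v u) (ap7 T0 (invQ v))) (mulQ x u)) 128)) 128)) 128 =
    true := by
  decide +kernel

/-- the involution test -/
def isInv (M : ℕ) : Bool := Nat.beq (comp6 M M) I6 && !(Nat.beq M I6)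

/-- the 21 involutions -/
def invE : List ℕ := [35301368065, 60400091521, 17718861953, 26050834566, 34642882689, 43220222085,
  34498167233, 34764505223, 34634481730, 17731440769, 51814351174, 35167150343, 43354439811,
  35175535044, 8866771265, 51810156933, 9537867969, 35043414148, 34638688322, 26443014275,
  60267970753]

/-- membership -/
def memE (M : ℕ) : List ℕ → Bool
  | [] => false
  | a :: l => Nat.beq a M || memE M l

theorem memE_iff {M : ℕ} {l : List ℕ} : memE M l = true ↔ M ∈ l := by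
  induction l with
  | nil => simp [memE]
  | cons a l ih =>
    rw [memE, Bool.or_eq_true, ih, List.mem_cons]
    constructor
    · rintro (h | h)
      · left; exact (Nat.eq_of_beq_eq_true h).symm
      · right; exact h
    · rintro (h | h)
      · left; rw [h]; exact Nat.beq_refl _
      · right; exact h

theorem chk_inv : alln (fun n => imp (isInv (nfi n)) (memE (nfi n) invE)) 168 = true := by
  decide +kernel

/-- all elements of a list -/
def allL (p : ℕ → Bool) : List ℕ → Bool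
  | [] => true
  | a :: l => p a && allL p l

theorem allL_iff {p : ℕ → Bool} {l : List ℕ} : allL p l = true ↔ ∀ m ∈ l, p m = true := by
  induction l with
  | nil => simp [allL]
  | cons a l ih =>
    rw [allL, Bool.and_eq_true, ih]
    simp

/-- commuting -/
def cmt (M N : ℕ) : Bool := Nat.beq (comp6 M N) (comp6 N M)

theorem chk_tri : allL (fun M => allL (fun N => imp (cmt M N && !(Nat.beq M N))
    (allL (fun K => imp (cmt M K && cmt N K)
      (Nat.beq K M || Nat.beq K N || Nat.beq K (comp6 M N))) invE)) invE) invE = true := by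
  decide +kernel

/-! ### packed maps -/

theorem ap_basis (M : ℕ) : ap M 1 = M % 64 ∧ ap M 2 = M / 64 % 64 ∧ ap M 4 = M / 4096 % 64 ∧
    ap M 8 = M / 262144 % 64 ∧ ap M 16 = M / 16777216 % 64 ∧ ap M 32 = M / 1073741824 % 64 := by
  refine ⟨?_, ?_, ?_, ?_, ?_, ?_⟩ <;> unfold ap <;> norm_num

theorem packed_ext {M N : ℕ} (hM : M < 64 ^ 6) (hN : N < 64 ^ 6)
    (h : ∀ a < 64, ap M a = ap N a) : M = N := by
  obtain ⟨m0, m1, m2, m3, m4, m5⟩ := ap_basis M
  obtain ⟨n0, n1, n2, n3, n4, n5⟩ := ap_basis N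
  have h0 := h 1 (by norm_num)
  have h1 := h 2 (by norm_num)
  have h2 := h 4 (by norm_num)
  have h3 := h 8 (by norm_num)
  have h4 := h 16 (by norm_num)
  have h5 := h 32 (by norm_num)
  rw [m0, n0] at h0
  rw [m1, n1] at h1
  rw [m2, n2] at h2
  rw [m3, n3] at h3
  rw [m4, n4] at h4
  rw [m5, n5] at h5
  norm_num at hM hN
  omega

section

variable {G : Type*} [Group G] {z : G} {Q : Subgroup G} {E : ℕ → G} {y w t : G} {T : ℕ}

theorem VA_eq (h : Crd z Q E y w t T) {c : G} {M N : ℕ} (hM : VA E c M) (hN : VA E c N)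
    (lM : M < 64 ^ 6) (lN : N < 64 ^ 6) : M = N :=
  packed_ext lM lN (fun a ha => h.VA_unique hM hN a ha)

theorem I6_lt : I6 < 64 ^ 6 := by decide

theorem nf_zero (E : ℕ → G) (y w t : G) (u : ℕ) :
    E u * (y ^ 0 * (w ^ 0 * tty t y 7)) = E u := by
  unfold tty
  simp

/-- elements acting trivially are in `Q` -/
theorem mem_of_trivial (h : Crd z Q E y w t T0) {c : G} (hc : c * z = z * c) (h1 : VA E c I6) :
    c ∈ Q := by
  obtain ⟨i, hi, k, hk, j, hj, u, hu, e, hv⟩ := h.exists_VA c hc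
  have h2 := VA_eq h hv h1 (nf6_lt i k j) I6_lt
  obtain ⟨h3, h4, h5⟩ := chk_I6 ⟨i, hi⟩ ⟨k, hk⟩ ⟨j, hj⟩ (by rw [h2]; exact Nat.beq_refl _)
  have h3' : i = 0 := congrArg Fin.val h3
  have h4' : k = 0 := congrArg Fin.val h4
  have h5' : j = 7 := congrArg Fin.val h5
  rw [h3', h4', h5', nf_zero E y w t] at e
  rw [e]
  exact h.E_mem hu

theorem VA_inv (h : Crd z Q E y w t T) {c d : G} {M N : ℕ} (hc : VA E c M) (hd : VA E d N)
    (hcd : c * d = 1) : comp6 M N = I6 :=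
  VA_eq h (by have := VA.mul hc hd; rwa [hcd] at this) VA.one (comp6_lt _ _) I6_lt

/-! ### Sylow -/

theorem conj_of_card {G : Type*} [Group G] [Finite G] {p : ℕ} [Fact p.Prime]
    (H K₁ K₂ : Subgroup G) (h1 : K₁ ≤ H) (h2 : K₂ ≤ H) (c1 : Nat.card K₁ = p)
    (c2 : Nat.card K₂ = p) (hp : ¬ p ^ 2 ∣ Nat.card H) :
    ∃ g ∈ H, ∀ x ∈ K₁, g * x * g⁻¹ ∈ K₂ := by
  have hpos : Nat.card H ≠ 0 := Nat.card_pos.ne'
  have hf : (Nat.card H).factorization p = 1 := by
    apply le_antisymm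
    · by_contra hcon
      exact hp ((Nat.Prime.pow_dvd_iff_le_factorization Fact.out hpos).2 (by omega))
    · apply (Nat.Prime.pow_dvd_iff_le_factorization Fact.out hpos).1
      rw [pow_one, ← c1]
      exact Subgroup.card_dvd_of_le h1
  have e : ∀ K : Subgroup G, K ≤ H → Nat.card K = p → Nat.card (K.subgroupOf H) =
      p ^ (Nat.card H).factorization p := by
    intro K hK hc
    rw [hf, pow_one, ← hc]
    exact Nat.card_congr (Subgroup.subgroupOfEquivOfLe hK).toEquiv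
  let P₁ := Sylow.ofCard (K₁.subgroupOf H) (e K₁ h1 c1)
  let P₂ := Sylow.ofCard (K₂.subgroupOf H) (e K₂ h2 c2)
  obtain ⟨g, hg⟩ := MulAction.exists_smul_eq H P₁ P₂
  refine ⟨g, g.2, ?_⟩
  intro x hx
  have hx' : (⟨x, h1 hx⟩ : H) ∈ (P₁ : Subgroup H) := hx
  have h3 : g * ⟨x, h1 hx⟩ * g⁻¹ ∈ (P₂ : Subgroup H) := by
    rw [← hg, Sylow.coe_subgroup_smul]
    exact ⟨⟨x, h1 hx⟩, hx', rfl⟩
  exact h3

/-! ### Step (A1) -/

theorem mem_zpowers_three {w v : G} (hw : w ^ 3 = 1) (hv : v ∈ Subgroup.zpowers w) :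
    v = 1 ∨ v = w ∨ v = w⁻¹ := by
  obtain ⟨n, rfl⟩ := Subgroup.mem_zpowers_iff.1 hv
  have h1 : w ^ n = w ^ (n % 3) := by
    conv_lhs => rw [← Int.emod_add_mul_ediv n 3]
    rw [zpow_add, zpow_mul]
    have : w ^ (3 : ℤ) = 1 := by exact_mod_cast hw
    rw [this, one_zpow, mul_one]
  have h2 : n % 3 = 0 ∨ n % 3 = 1 ∨ n % 3 = 2 := by omega
  rcases h2 with h2 | h2 | h2 <;> rw [h1, h2]
  · left; simp
  · right; left; simp
  · right; right
    rw [eq_inv_iff_mul_eq_one]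
    have : w ^ (2 : ℤ) * w = w ^ 3 := by
      rw [show (2 : ℤ) = ((2 : ℕ) : ℤ) by norm_num, zpow_natCast]
      exact (pow_succ w 2).symm
    rw [this, hw]

theorem w_ne_one (h : Crd z Q E y w t T) : w ≠ 1 := by
  intro e
  have h1 := h.wE 2 (by norm_num)
  rw [e, one_mul, mul_one] at h1
  have h2 := h.inj 2 (by norm_num) _ (ap7_lt _ _) h1
  exact absurd h2 (by decide)

theorem z_ne_one (h : Crd z Q E y w t T) : z ≠ 1 := h.large.z_ne

/-- case (A1) -/
theorem caseA1 [Finite G] (h : Crd0 z Q E y w t) (ht : t * t = z) {x : ℕ} (hx : x < 128)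
    (hx1 : x % 64 = 1 ∨ x % 64 = 8) (g : G) (hg : g * z * g⁻¹ = E x) : False := by
  obtain ⟨fw, ft⟩ := chk_fix ⟨x, hx⟩ hx1
  simp only at fw ft
  have wa : w * E x = E x * w := by rw [h.wE x hx, fw]
  have ta : t * E x = E x * t := by rw [h.tE0 x hx, ft]
  have haz : E x ≠ z := by
    intro e
    have := (h.eq_z_iff hx).1 e
    subst this
    omega
  have ha1 : E x ≠ 1 := by
    intro e
    have := (h.eq_one_iff hx).1 e
    subst this
    omega
  have hin : g * z * g⁻¹ ∈ Q := hg ▸ h.E_mem hx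
  have hne : g * z * g⁻¹ ≠ z := hg ▸ haz
  obtain ⟨-, hmain⟩ := Cfsg.Agent.ClassificationK.LargeSymplectic.main h.data hne hin
  rw [hg] at hmain
  obtain ⟨r, -, hrz, hra⟩ := hmain (E x) (Subgroup.subset_closure (by simp)) z
    (Subgroup.subset_closure (by simp)) ha1 h.large.z_ne haz
  -- the Sylow argument in `H = C(z) ∩ C(a)`
  obtain ⟨a, ha⟩ : ∃ a, a = E x := ⟨_, rfl⟩
  rw [← ha] at wa ta haz hrz hra
  let H : Subgroup G := Subgroup.centralizer {z} ⊓ Subgroup.centralizer {a}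
  have memH : ∀ c, c ∈ H ↔ c * z = z * c ∧ c * a = a * c := by
    intro c
    rw [Subgroup.mem_inf, Subgroup.mem_centralizer_singleton_iff,
      Subgroup.mem_centralizer_singleton_iff]
  have hwH : w ∈ H := (memH w).2 ⟨h.wz, wa⟩
  have hrH : r * w * r⁻¹ ∈ H := by
    rw [memH]
    constructor
    · rw [← hra]
      calc r * w * r⁻¹ * (r * a * r⁻¹) = r * (w * a) * r⁻¹ := by group
        _ = r * (a * w) * r⁻¹ := by rw [wa]
        _ = _ := by group
    · rw [← hrz]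
      calc r * w * r⁻¹ * (r * z * r⁻¹) = r * (w * z) * r⁻¹ := by group
        _ = r * (z * w) * r⁻¹ := by rw [h.wz]
        _ = _ := by group
  have ow : orderOf w = 3 := by
    have hp : Fact (Nat.Prime 3) := ⟨Nat.prime_three⟩
    exact orderOf_eq_prime h.w3 (w_ne_one h.toCrd)
  have ow' : orderOf (r * w * r⁻¹) = 3 := by
    have hp : Fact (Nat.Prime 3) := ⟨Nat.prime_three⟩
    refine orderOf_eq_prime ?_ ?_
    · rw [conj_pow, h.w3]; group
    · intro e
      apply w_ne_one h.toCrd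
      have h1 : w = r⁻¹ * (r * w * r⁻¹) * r := by group
      rw [h1, e]; group
  have hp : Fact (Nat.Prime 3) := ⟨Nat.prime_three⟩
  obtain ⟨s, hs, hsw⟩ := conj_of_card H (Subgroup.zpowers (r * w * r⁻¹)) (Subgroup.zpowers w)
    (by rw [Subgroup.zpowers_le]; exact hrH) (by rw [Subgroup.zpowers_le]; exact hwH)
    (by rw [Nat.card_zpowers, ow']) (by rw [Nat.card_zpowers, ow]) (by
      intro h9
      have h1 : Nat.card H ∣ 21504 := by
        rw [← h.card]; exact Subgroup.card_dvd_of_le inf_le_left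
      have h2 := dvd_trans h9 h1
      norm_num at h2)
  obtain ⟨hsz, hsa⟩ := (memH s).1 hs
  obtain ⟨x', hx'⟩ : ∃ x', x' = s * r := ⟨_, rfl⟩
  have hx'z : x' * z * x'⁻¹ = a := by
    calc x' * z * x'⁻¹ = s * (r * z * r⁻¹) * s⁻¹ := by rw [hx']; group
      _ = s * a * s⁻¹ := by rw [hrz]
      _ = a := by rw [hsa]; group
  have hx'a : x' * a * x'⁻¹ = z := by
    calc x' * a * x'⁻¹ = s * (r * a * r⁻¹) * s⁻¹ := by rw [hx']; group
      _ = s * z * s⁻¹ := by rw [hra]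
      _ = z := by rw [hsz]; group
  have hvz : x' * w * x'⁻¹ ∈ Subgroup.zpowers w := by
    have := hsw _ (Subgroup.mem_zpowers (r * w * r⁻¹))
    have e : x' * w * x'⁻¹ = s * (r * w * r⁻¹) * s⁻¹ := by rw [hx']; group
    rw [e]; exact this
  -- `t` inverts `w`
  have hwinv : w ^ 2 = w⁻¹ := by
    rw [eq_inv_iff_mul_eq_one, ← pow_succ]; exact h.w3
  have htw : t * w * t⁻¹ = w⁻¹ := by rw [h.tw, hwinv]; group
  obtain ⟨c, hc⟩ : ∃ c, c = x' * t * x'⁻¹ := ⟨_, rfl⟩
  have hcv : c * (x' * w * x'⁻¹) * c⁻¹ = (x' * w * x'⁻¹)⁻¹ := by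
    calc c * (x' * w * x'⁻¹) * c⁻¹ = x' * (t * w * t⁻¹) * x'⁻¹ := by rw [hc]; group
      _ = x' * w⁻¹ * x'⁻¹ := by rw [htw]
      _ = _ := by group
  have hcw : c * w * c⁻¹ = w⁻¹ := by
    rcases mem_zpowers_three h.w3 hvz with e | e | e
    · exfalso
      apply w_ne_one h.toCrd
      have h1 : w = x'⁻¹ * (x' * w * x'⁻¹) * x' := by group
      rw [h1, e]; group
    · rw [e] at hcv; exact hcv
    · rw [e, inv_inv] at hcv
      calc c * w * c⁻¹ = (c * w⁻¹ * c⁻¹)⁻¹ := by group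
        _ = w⁻¹ := by rw [hcv]
  have hcz : c * z = z * c := by
    rw [← hx'a, hc]
    calc x' * t * x'⁻¹ * (x' * a * x'⁻¹) = x' * (t * a) * x'⁻¹ := by group
      _ = x' * (a * t) * x'⁻¹ := by rw [ta]
      _ = _ := by group
  have hca : c * a = a * c := by
    rw [← hx'z, hc]
    calc x' * t * x'⁻¹ * (x' * z * x'⁻¹) = x' * (t * z) * x'⁻¹ := by group
      _ = x' * (z * t) * x'⁻¹ := by rw [h.tz]
      _ = _ := by group
  have hcc : c * c = a := by
    calc c * c = x' * (t * t) * x'⁻¹ := by rw [hc]; group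
      _ = a := by rw [ht, hx'z]
  -- `d = c t⁻¹` centralises `w`
  obtain ⟨d, hd⟩ : ∃ d, d = c * t⁻¹ := ⟨_, rfl⟩
  have hcd : c = d * t := by rw [hd]; group
  have hdw : d * w = w * d := by
    have h1 : t⁻¹ * w * t = w⁻¹ := by
      have : t⁻¹ * (t * w * t⁻¹)⁻¹ * t = w⁻¹ := by group
      rw [htw, inv_inv] at this
      exact this
    have h2 : d * w * d⁻¹ = w := by
      calc d * w * d⁻¹ = c * (t⁻¹ * w * t) * c⁻¹ := by rw [hd]; group
        _ = (c * w * c⁻¹)⁻¹ := by rw [h1]; group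
        _ = w := by rw [hcw, inv_inv]
    exact mul_inv_eq_iff_eq_mul.1 h2
  have hdz : d * z = z * d := by
    have h1 : t⁻¹ * z = z * t⁻¹ := by
      rw [inv_mul_eq_iff_eq_mul, ← mul_assoc, h.tz]; group
    rw [hd, mul_assoc, h1, ← mul_assoc, hcz]; group
  have hda : d * a = a * d := by
    have h1 : t⁻¹ * a = a * t⁻¹ := by
      rw [inv_mul_eq_iff_eq_mul, ← mul_assoc, ta]; group
    rw [hd, mul_assoc, h1, ← mul_assoc, hca]; group
  obtain ⟨i, hi, k, hk, j, hj, u, hu, e, hv⟩ := h.exists_VA d hdz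
  have hcomp : comp6 (nf6 T0 i k j) W6 = comp6 W6 (nf6 T0 i k j) := by
    refine VA_eq h.toCrd (VA.mul hv (VA.of_exact h.wE)) ?_ (comp6_lt _ _) (comp6_lt _ _)
    rw [hdw]
    exact VA.mul (VA.of_exact h.wE) hv
  obtain ⟨h3, h5⟩ := chk_cW ⟨i, hi⟩ ⟨k, hk⟩ ⟨j, hj⟩ (by
    show Nat.beq (comp6 (nf6 T0 i k j) W6) (comp6 W6 (nf6 T0 i k j)) = true
    rw [hcomp]; exact Nat.beq_refl _)
  have h3' : i = 0 := congrArg Fin.val h3
  have h5' : j = 7 := congrArg Fin.val h5
  have hdk : d = E u * w ^ k := by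
    rw [e, h3', h5']
    unfold tty
    simp
  obtain ⟨W, hW⟩ : ∃ W, W = w ^ k := ⟨_, rfl⟩
  rw [← hW] at hdk
  have hWw : W * w = w * W := by rw [hW]; exact (Commute.pow_self w k)
  have hWa : W * a = a * W := by rw [hW]; exact ((show Commute w a from wa).pow_left k)
  have huw : E u * w = w * E u := by
    have h1 : E u * W * w = w * (E u * W) := by rw [← hdk]; exact hdw
    rw [mul_assoc, hWw, ← mul_assoc, ← mul_assoc] at h1
    exact mul_right_cancel h1
  have hua : E u * a = a * E u := by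
    have h1 : E u * W * a = a * (E u * W) := by rw [← hdk]; exact hda
    rw [mul_assoc, hWa, ← mul_assoc, ← mul_assoc] at h1
    exact mul_right_cancel h1
  have hfu : ap7 W6 u = u := by
    rw [h.wE u hu] at huw
    exact (h.inj u hu _ (ap7_lt _ _) (mul_right_cancel huw)).symm
  have hmu : mulQ u x = mulQ x u := by
    rw [ha] at hua
    exact (h.comm_iff hu hx).1 hua
  obtain ⟨h6, h7⟩ := chk_u ⟨x, hx⟩ hx1 ⟨u, hu⟩ hfu hmu
  simp only at h6 h7
  have hEE : E u * E u = 1 := (h.sq_iff hu).2 h6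
  have htu : t * E u = E u * t := by rw [h.tE0 u hu, h7]
  have htW : t * W = W⁻¹ * t := by
    have h1 : t * W * t⁻¹ = W⁻¹ := by
      rw [hW, ← conj_pow, htw, inv_pow]
    exact mul_inv_eq_iff_eq_mul.1 h1
  have hWu : W * E u = E u * W := by rw [hW]; exact ((show Commute w (E u) from huw.symm).pow_left k)
  apply haz
  calc a = c * c := hcc.symm
    _ = E u * W * t * (E u * W * t) := by rw [hcd, hdk]
    _ = E u * W * (t * E u) * W * t := by group
    _ = E u * W * (E u * t) * W * t := by rw [htu]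
    _ = E u * (W * E u) * (t * W) * t := by group
    _ = E u * (E u * W) * (W⁻¹ * t) * t := by rw [hWu, htW]
    _ = (E u * E u) * (t * t) := by group
    _ = z := by rw [hEE, ht, one_mul]

/-! ### Step (B) -/

theorem exists_nfi (h : Crd z Q E y w t T0) {c : G} (hc : c * z = z * c) :
    ∃ n < 168, VA E c (nfi n) := by
  obtain ⟨i, hi, k, hk, j, hj, u, hu, e, hv⟩ := h.exists_VA c hc
  obtain ⟨h1, h2⟩ := nfi_eq hi hk hj
  exact ⟨_, h1, by rw [h2]; exact hv⟩

theorem exists_of_nfi (h : Crd z Q E y w t T0) (n : ℕ) :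
    ∃ c : G, c * z = z * c ∧ VA E c (nfi n) := by
  unfold nfi
  exact ⟨_, h.nf_z _ _ _, h.VA_nf _ _ _⟩

theorem nfi_lt (n : ℕ) : nfi n < 64 ^ 6 := nf6_lt _ _ _

/-- The elements `E x`, `x ∈ L`, do not intersect every conjugate of `Q` they normalise trivially. -/
theorem exists_inter (h : Crd z Q E y w t T0) (D : Fin 3 → G) (hz : ∀ i, D i * z = z * D i)
    (hsq : ∀ i, D i * D i = 1) (hcm : ∀ i j, D i * D j = D j * D i)
    (h0 : D 0 ∉ Q) (h1 : D 1 ∉ Q) (h01 : D 0 * D 1 ∉ Q) (h2 : D 2 ∉ Q) (h02 : D 0 * D 2 ∉ Q)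
    (h12 : D 1 * D 2 ∉ Q) (h012 : D 0 * D 1 * D 2 ∉ Q) : False := by
  have hex : ∀ i, ∃ M ∈ invE, VA E (D i) M ∧ M < 64 ^ 6 := by
    intro i
    obtain ⟨n, hn, hv⟩ := exists_nfi h (hz i)
    refine ⟨nfi n, ?_, hv, nfi_lt n⟩
    have h3 := imp_iff.1 (alln_iff.1 chk_inv n hn)
    apply memE_iff.1
    apply h3
    unfold isInv
    rw [Bool.and_eq_true]
    constructor
    · have := VA_inv h hv hv (hsq i)
      rw [this]; exact Nat.beq_refl _
    · rw [Bool.not_eq_true']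
      by_contra hcon
      have h4 : nfi n = I6 := Nat.eq_of_beq_eq_true (by simpa using hcon)
      rw [h4] at hv
      have h5 := mem_of_trivial h (hz i) hv
      fin_cases i
      · exact h0 h5
      · exact h1 h5
      · exact h2 h5
  obtain ⟨M, hM, vM, lM⟩ := hex 0
  obtain ⟨N, hN, vN, lN⟩ := hex 1
  obtain ⟨K, hK, vK, lK⟩ := hex 2
  have hcomm : ∀ {c d : G} {A B : ℕ}, VA E c A → VA E d B → c * d = d * c → cmt A B = true := by
    intro c d A B hA hB hcd
    unfold cmt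
    have : comp6 A B = comp6 B A := by
      refine VA_eq h (VA.mul hA hB) ?_ (comp6_lt _ _) (comp6_lt _ _)
      rw [hcd]; exact VA.mul hB hA
    rw [this]; exact Nat.beq_refl _
  have htriv : ∀ {c d : G} {A : ℕ}, c * z = z * c → d * z = z * d → d * d = 1 → VA E c A → VA E d A →
      c * d ∈ Q := by
    intro c d A hcz hdz hdd hc hd
    apply mem_of_trivial h
    · rw [mul_assoc, hdz, ← mul_assoc, hcz, mul_assoc]
    · have h3 := VA.mul hc hd
      rwa [VA_inv h hd hd hdd] at h3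
  have h3 := allL_iff.1 (allL_iff.1 chk_tri M hM) N hN
  rw [imp_iff, Bool.and_eq_true, Bool.not_eq_true'] at h3
  have h4 := h3 ⟨hcomm vM vN (hcm 0 1), by
    by_contra hcon
    have h5 : M = N := Nat.eq_of_beq_eq_true (by simpa using hcon)
    subst h5
    exact h01 (htriv (hz 0) (hz 1) (hsq 1) vM vN)⟩
  have h5 := allL_iff.1 h4 K hK
  rw [imp_iff, Bool.and_eq_true] at h5
  have h6 := h5 ⟨hcomm vM vK (hcm 0 2), hcomm vN vK (hcm 1 2)⟩
  rw [Bool.or_eq_true, Bool.or_eq_true] at h6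
  rcases h6 with (h6 | h6) | h6
  · have h7 : K = M := Nat.eq_of_beq_eq_true h6
    subst h7
    exact h02 (htriv (hz 0) (hz 2) (hsq 2) vM vK)
  · have h7 : K = N := Nat.eq_of_beq_eq_true h6
    subst h7
    exact h12 (htriv (hz 1) (hz 2) (hsq 2) vN vK)
  · have h7 : K = comp6 M N := Nat.eq_of_beq_eq_true h6
    have h8 : (D 0 * D 1) * z = z * (D 0 * D 1) := by
      rw [mul_assoc, hz 1, ← mul_assoc, hz 0, mul_assoc]
    refine h012 (htriv h8 (hz 2) (hsq 2) (VA.mul vM vN) ?_)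
    rw [← h7]; exact vK

/-- Step (B). -/
theorem caseB (h : Crd0 z Q E y w t) (ht : t * t = z)
    (hQ : ∀ g : G, g * z * g⁻¹ ∈ Q → g * z * g⁻¹ = z) (g : G)
    (hg : (g * z * g⁻¹) * z = z * (g * z * g⁻¹)) : g * z * g⁻¹ = z := by
  by_contra hne
  -- normalise the action of `a`
  obtain ⟨a₀, ha₀⟩ : ∃ a₀, a₀ = g * z * g⁻¹ := ⟨_, rfl⟩
  rw [← ha₀] at hg hne
  have ha₀Q : a₀ ∉ Q := by
    intro hin
    rw [ha₀] at hin hne
    exact hne (hQ g hin)
  have ha₀2 : a₀ * a₀ = 1 := by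
    calc a₀ * a₀ = g * (z * z) * g⁻¹ := by rw [ha₀]; group
      _ = 1 := by rw [h.large.z_sq]; group
  obtain ⟨n, hn, hv⟩ := exists_nfi h.toCrd hg
  have h1 := imp_iff.1 (alln_iff.1 chk_conj n hn) (by
    rw [Bool.and_eq_true]
    constructor
    · rw [VA_inv h.toCrd hv hv ha₀2]; exact Nat.beq_refl _
    · rw [Bool.not_eq_true']
      by_contra hcon
      have h4 : nfi n = I6 := Nat.eq_of_beq_eq_true (by simpa using hcon)
      rw [h4] at hv
      exact ha₀Q (mem_of_trivial h.toCrd hg hv))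
  obtain ⟨m, hm, h2⟩ := srch_iff.1 h1
  have h3 : comp6 (nfi m) (nfi n) = comp6 T0 (nfi m) := Nat.eq_of_beq_eq_true h2
  obtain ⟨c, hcz, hcv⟩ := exists_of_nfi h.toCrd m
  obtain ⟨a, ha⟩ : ∃ a, a = c * a₀ * c⁻¹ := ⟨_, rfl⟩
  have haz : a * z = z * a := by
    have h5 : c⁻¹ * z = z * c⁻¹ := by
      rw [inv_mul_eq_iff_eq_mul, ← mul_assoc, hcz]; group
    rw [ha, mul_assoc, h5, ← mul_assoc, mul_assoc c a₀ z, hg, ← mul_assoc, hcz]; group
  have haQ : a ∉ Q := by
    intro hin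
    have h5 : c⁻¹ * z = z * c⁻¹ := by
      rw [inv_mul_eq_iff_eq_mul, ← mul_assoc, hcz]; group
    have h6 := h.large.conj_mem c⁻¹ h5 a hin
    apply ha₀Q
    have : c⁻¹ * a * c⁻¹⁻¹ = a₀ := by rw [ha]; group
    rwa [this] at h6
  have haa : a * a = 1 := by
    calc a * a = c * (a₀ * a₀) * c⁻¹ := by rw [ha]; group
      _ = 1 := by rw [ha₀2]; group
  -- `a = E u * t`
  have hac : a * t⁻¹ ∈ Q := by
    have h5 : t⁻¹ * z = z * t⁻¹ := by
      rw [inv_mul_eq_iff_eq_mul, ← mul_assoc, h.tz]; group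
    have h6 : a * t⁻¹ * z = z * (a * t⁻¹) := by
      rw [mul_assoc, h5, ← mul_assoc, haz]; group
    obtain ⟨l, hl, hlv⟩ := exists_nfi h.toCrd haz
    -- the action of `a` is `T0`
    have h7 : comp6 (nfi l) (nfi m) = comp6 T0 (nfi m) := by
      have h8 : a * c = c * a₀ := by rw [ha]; group
      have h9 := VA.mul hlv hcv
      rw [h8] at h9
      rw [← h3]
      exact VA_eq h.toCrd h9 (VA.mul hcv hv) (comp6_lt _ _) (comp6_lt _ _)
    apply mem_of_trivial h.toCrd h6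
    obtain ⟨l', hl', hlv'⟩ := exists_nfi h.toCrd h6
    -- use `a = (a t⁻¹) t`
    have h10 : comp6 (nfi l') T0 = nfi l := by
      have h11 := VA.mul hlv' (VA.of_exact h.tE0)
      have h12 : a * t⁻¹ * t = a := by group
      rw [h12] at h11
      exact VA_eq h.toCrd h11 hlv (comp6_lt _ _) (nfi_lt l)
    -- invert `c` and `t`
    obtain ⟨m', hm', hmv'⟩ := exists_nfi h.toCrd (c := c⁻¹) (by
      rw [inv_mul_eq_iff_eq_mul, ← mul_assoc, hcz]; group)
    have h13 : VA E a T0 := by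
      have h14 := VA.mul (VA.mul hlv hcv) hmv'
      have h15 : a * c * c⁻¹ = a := by group
      rw [h15] at h14
      have h16 : VA E c⁻¹ (nfi m') := hmv'
      have h17 := VA_inv h.toCrd hcv hmv' (mul_inv_cancel c)
      rw [h7] at h14
      refine h14.congr ?_
      intro b
      rw [ap7_comp6, ap7_comp6, ← ap7_comp6 (nfi m) (nfi m'), h17]
      have h18 : ∀ b : ℕ, ap7 T0 (ap7 I6 b) = ap7 T0 b := by
        intro b
        rw [← ap7_comp6]
        have h19 : comp6 T0 I6 = T0 := by decide +kernel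
        rw [h19]
      exact h18 b
    obtain ⟨l'', hl'', hlv''⟩ := exists_nfi h.toCrd (c := t⁻¹) h5
    have h20 := VA.mul h13 hlv''
    have h21 : comp6 T0 (nfi l'') = I6 := VA_inv h.toCrd (VA.of_exact h.tE0) hlv'' (mul_inv_cancel t)
    rwa [h21] at h20
  obtain ⟨u, hu, hue⟩ := (h.mem _).1 hac
  have hau : a = E u * t := by rw [hue]; group
  -- the condition on `u`
  have hcond : mulQ u (ap7 T0 u) = 64 := by
    have h5 : E u * E (ap7 T0 u) = z := by
      have h6 : E u * t * (E u * t) = 1 := by rw [← hau]; exact haa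
      have h7 : E u * t * (E u * t) = E u * E (ap7 T0 u) * z := by
        calc E u * t * (E u * t) = E u * (t * E u) * t := by group
          _ = E u * (E (ap7 T0 u) * t) * t := by rw [h.tE0 u hu]
          _ = E u * E (ap7 T0 u) * (t * t) := by group
          _ = _ := by rw [ht]
      rw [h7] at h6
      rw [eq_inv_of_mul_eq_one_left h6, h.large.z_inv]
    rw [h.mul u hu _ (ap7_lt _ _)] at h5
    exact (h.eq_z_iff (mulQ_lt hu (ap7_lt _ _))).1 h5
  have hchk := imp_iff.1 (alln_iff.1 chk_a u hu) (by rw [hcond]; rfl)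
  have hfacts : ∀ x < 128, inL x = true → E x * a = a * E x ∧ ∃ v < 128, E v * a * (E v)⁻¹ = E x * a := by
    intro x hx hxL
    have h5 := imp_iff.1 (alln_iff.1 hchk x hx) hxL
    rw [Bool.and_eq_true] at h5
    obtain ⟨h6, h7⟩ := h5
    have h6' : mulQ x u = mulQ u (ap7 T0 x) := Nat.eq_of_beq_eq_true h6
    constructor
    · rw [hau]
      calc E x * (E u * t) = (E x * E u) * t := by group
        _ = E u * (E (ap7 T0 x) * t) := by
          rw [h.mul x hx u hu, h6', ← h.mul u hu _ (ap7_lt _ _)]; group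
        _ = E u * (t * E x) := by rw [h.tE0 x hx]
        _ = _ := by group
    · obtain ⟨v, hv1, hv2⟩ := srch_iff.1 h7
      have hv3 : mulQ (mulQ v u) (ap7 T0 (invQ v)) = mulQ x u := Nat.eq_of_beq_eq_true hv2
      refine ⟨v, hv1, ?_⟩
      rw [hau, h.inv hv1]
      calc E v * (E u * t) * E (invQ v) = E v * E u * (t * E (invQ v)) := by group
        _ = E v * E u * (E (ap7 T0 (invQ v)) * t) := by rw [h.tE0 _ (invQ_lt hv1)]
        _ = (E v * E u) * E (ap7 T0 (invQ v)) * t := by group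
        _ = E (mulQ (mulQ v u) (ap7 T0 (invQ v))) * t := by
          rw [h.mul v hv1 u hu, h.mul _ (mulQ_lt hv1 hu) _ (ap7_lt _ _)]
        _ = E x * E u * t := by rw [hv3, h.mul x hx u hu]
        _ = _ := by group
  -- the conjugate coordinates
  obtain ⟨g', hg'⟩ : ∃ g', g' = c * g := ⟨_, rfl⟩
  have hag : a = g' * z * g'⁻¹ := by rw [ha, ha₀, hg']; group
  have h' := h.toCrd.conj g'
  rw [← hag] at h'
  have hnot : ∀ x < 128, inL x = true → x ≠ 0 →
      E x ∉ Q.map (MulAut.conj g').toMonoidHom := by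
    intro x hx hxL hx0 hmem
    obtain ⟨-, v, hv1, hv2⟩ := hfacts x hx hxL
    have h5 : E x * a ∈ Q.map (MulAut.conj g').toMonoidHom :=
      Subgroup.mul_mem _ hmem h'.large.z_mem
    obtain ⟨q, hq, hqe⟩ := h5
    have h6 : g' * q * g'⁻¹ = E x * a := hqe
    have h7 : (g'⁻¹ * E v * g') * z * (g'⁻¹ * E v * g')⁻¹ = q := by
      calc (g'⁻¹ * E v * g') * z * (g'⁻¹ * E v * g')⁻¹
          = g'⁻¹ * (E v * (g' * z * g'⁻¹) * (E v)⁻¹) * g' := by group
        _ = g'⁻¹ * (g' * q * g'⁻¹) * g' := by rw [← hag, hv2, h6]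
        _ = q := by group
    have h8 := hQ (g'⁻¹ * E v * g') (by rw [h7]; exact hq)
    rw [h7] at h8
    rw [h8, ← hag] at h6
    have h9 : E x = 1 := (mul_eq_right.1 h6.symm)
    exact hx0 ((h.eq_one_iff hx).1 h9)
  have hprod : ∀ x < 128, ∀ x' < 128, inL (mulQ x x') = true → mulQ x x' ≠ 0 →
      E x * E x' ∉ Q.map (MulAut.conj g').toMonoidHom := by
    intro x hx x' hx' h5 h6
    rw [h.mul x hx x' hx']
    exact hnot _ (mulQ_lt hx hx') h5 h6
  refine exists_inter h' ![E 6, E 40, E 64] ?_ ?_ ?_ ?_ ?_ ?_ ?_ ?_ ?_ ?_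
  · intro i
    fin_cases i
    · exact (hfacts 6 (by norm_num) rfl).1
    · exact (hfacts 40 (by norm_num) rfl).1
    · exact (hfacts 64 (by norm_num) rfl).1
  · intro i
    fin_cases i
    · exact (h.sq_iff (by norm_num)).2 (by decide)
    · exact (h.sq_iff (by norm_num)).2 (by decide)
    · exact (h.sq_iff (by norm_num)).2 (by decide)
  · intro i j
    fin_cases i <;> fin_cases j <;>
      exact (h.comm_iff (by norm_num) (by norm_num)).2 (by decide)
  · exact hnot 6 (by norm_num) rfl (by norm_num)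
  · exact hnot 40 (by norm_num) rfl (by norm_num)
  · exact hprod 6 (by norm_num) 40 (by norm_num) (by decide) (by decide)
  · exact hnot 64 (by norm_num) rfl (by norm_num)
  · exact hprod 6 (by norm_num) 64 (by norm_num) (by decide) (by decide)
  · exact hprod 40 (by norm_num) 64 (by norm_num) (by decide) (by decide)
  · show E 6 * E 40 * E 64 ∉ _
    rw [h.mul 6 (by norm_num) 40 (by norm_num)]
    exact hprod _ (mulQ_lt (by norm_num) (by norm_num)) 64 (by norm_num) (by decide) (by decide)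

/-! ### Step (A) -/

theorem y_pow (h : Crd z Q E y w t T) (n : ℕ) {a : ℕ} (ha : a < 128) :
    y ^ n * E a = E (ap7 (pw Y6 n) a) * y ^ n := by
  induction n with
  | zero =>
    rw [pow_zero, one_mul, mul_one]
    show E a = E (ap7 I6 a)
    rw [ap7_I6_all a ha]
  | succ n ih =>
    rw [pow_succ', mul_assoc, ih, ← mul_assoc, h.yE _ (ap7_lt _ _), mul_assoc]
    show E (ap7 Y6 (ap7 (pw Y6 n) a)) * _ = E (ap7 (comp6 Y6 (pw Y6 n)) a) * _
    rw [ap7_comp6]

/-- the condition of the star lemma -/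
def stc (M m : ℕ) : Bool :=
  Nat.beq (ap M m) m && srch (fun i => Nat.beq (ap M i ^^^ i) m) 64

theorem chk_A2 : alln (fun m => imp (Nat.beq (mulQ m m) 0 && !(Nat.beq (m % 8) 0) &&
    !(Nat.beq (m / 8) 0)) (allL (fun M => imp (stc M m) (allL (fun N => imp (stc N m) (Nat.beq M N))
      invE)) invE)) 64 = true := by
  decide +kernel

theorem chk_sq : alln (fun x => imp (Nat.beq (mulQ x x) 0)
    (Nat.beq (mulQ (x % 64) (x % 64)) 0)) 128 = true := by
  decide +kernel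

theorem mem_invE {M i k j : ℕ} (hi : i < 7) (hk : k < 3) (hj : j < 8) (e : M = nf6 T0 i k j)
    (hM : M ≠ I6) (h2 : ∀ a < 64, ap M (ap M a) = a) : M ∈ invE := by
  obtain ⟨h3, h4⟩ := nfi_eq hi hk hj
  have h5 := imp_iff.1 (alln_iff.1 chk_inv _ h3)
  rw [h4, ← e] at h5
  apply memE_iff.1
  apply h5
  unfold isInv
  rw [Bool.and_eq_true]
  constructor
  · have : comp6 M M = I6 := by
      apply packed_ext (comp6_lt _ _) I6_lt
      intro a ha
      rw [ap_comp6, h2 a ha, ap_I6 ⟨a, ha⟩]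
    rw [this]; exact Nat.beq_refl _
  · rw [Bool.not_eq_true']
    by_contra hcon
    exact hM (Nat.eq_of_beq_eq_true (by simpa using hcon))

/-- the contradiction in case (A2) -/
theorem caseA2 {x₀ M N : ℕ} (hx : x₀ < 128) (hsq : mulQ x₀ x₀ = 0) (h8 : x₀ % 8 ≠ 0)
    (h64 : 8 ≤ x₀ % 64) (hM : M ∈ invE) (hN : N ∈ invE) (hMx : ap M x₀ = x₀ % 64)
    (hNx : ap N x₀ = x₀ % 64) (hMi : ∃ i < 64, ap M i ^^^ i = x₀ % 64)
    (hNi : ∃ i < 64, ap N i ^^^ i = x₀ % 64) : M = N := by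
  have h0 : Nat.beq (mulQ (x₀ % 64) (x₀ % 64)) 0 = true := by
    apply imp_iff.1 (alln_iff.1 chk_sq x₀ hx)
    rw [hsq]; rfl
  have hbeq : ∀ {a b : ℕ}, a ≠ b → Nat.beq a b = false := by
    intro a b hab
    by_contra hcon
    exact hab (Nat.eq_of_beq_eq_true (by simpa using hcon))
  have h1 := imp_iff.1 (alln_iff.1 chk_A2 (x₀ % 64) (Nat.mod_lt _ (by norm_num))) (by
    rw [Bool.and_eq_true, Bool.and_eq_true, h0, hbeq (show x₀ % 64 % 8 ≠ 0 by omega),
      hbeq (show x₀ % 64 / 8 ≠ 0 by omega)]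
    exact ⟨⟨rfl, rfl⟩, rfl⟩)
  have hst : ∀ {K : ℕ}, ap K x₀ = x₀ % 64 → (∃ i < 64, ap K i ^^^ i = x₀ % 64) →
      stc K (x₀ % 64) = true := by
    intro K h2 h3
    unfold stc
    rw [Bool.and_eq_true, ap_mod, h2]
    refine ⟨Nat.beq_refl _, srch_iff.2 ?_⟩
    obtain ⟨i, hi, h4⟩ := h3
    exact ⟨i, hi, by rw [h4]; exact Nat.beq_refl _⟩
  have h2 := imp_iff.1 (allL_iff.1 h1 M hM) (hst hMx hMi)
  have h3 := imp_iff.1 (allL_iff.1 h2 N hN) (hst hNx hNi)
  exact Nat.eq_of_beq_eq_true h3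

/-- Step (A), given the conclusion of the star lemma. -/
theorem caseA [Finite G] (h : Crd0 z Q E y w t) (ht : t * t = z)
    (hstar : ∀ (g : G) (x₀ : ℕ), x₀ < 128 → g * z * g⁻¹ = E x₀ → x₀ ≠ 64 →
      ∃ M ∈ invE, ∃ N ∈ invE, M ≠ N ∧ ap M x₀ = x₀ % 64 ∧ ap N x₀ = x₀ % 64 ∧
        (∃ i < 64, ap M i ^^^ i = x₀ % 64) ∧ (∃ i < 64, ap N i ^^^ i = x₀ % 64))
    (g : G) (hg : g * z * g⁻¹ ∈ Q) : g * z * g⁻¹ = z := by
  obtain ⟨x₀, hx, hxe⟩ := (h.mem _).1 hg
  by_contra hne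
  have h64 : x₀ ≠ 64 := by
    rintro rfl
    rw [h.E64] at hxe
    exact hne hxe.symm
  have h0 : x₀ ≠ 0 := by
    rintro rfl
    rw [h.E0] at hxe
    apply h.large.z_ne
    have : z = g⁻¹ * (g * z * g⁻¹) * g := by group
    rw [this, ← hxe]; group
  have hsq : mulQ x₀ x₀ = 0 := by
    apply (h.sq_iff hx).1
    rw [hxe]
    calc g * z * g⁻¹ * (g * z * g⁻¹) = g * (z * z) * g⁻¹ := by group
      _ = 1 := by rw [h.large.z_sq]; group
  by_cases hW : x₀ % 64 < 8 ∨ x₀ % 8 = 0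
  · obtain ⟨i, hi⟩ := chk_orb ⟨x₀, hx⟩ (by simp only; omega) hW
    refine caseA1 h ht (ap7_lt _ _) hi (y ^ (i : ℕ) * g) ?_
    calc y ^ (i : ℕ) * g * z * (y ^ (i : ℕ) * g)⁻¹ = y ^ (i : ℕ) * (g * z * g⁻¹) * (y ^ (i : ℕ))⁻¹ := by
          group
      _ = y ^ (i : ℕ) * E x₀ * (y ^ (i : ℕ))⁻¹ := by rw [hxe]
      _ = E (ap7 (pw Y6 i) x₀) := by rw [y_pow h.toCrd _ hx]; group
  · push Not at hW
    obtain ⟨M, hM, N, hN, hMN, h1, h2, h3, h4⟩ := hstar g x₀ hx hxe.symm h64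
    exact hMN (caseA2 hx hsq hW.2 hW.1 hM hN h1 h2 h3 h4)

/-- The conclusion, given the star lemma. -/
theorem no_twist' [Finite G] (h : Crd0 z Q E y w t) (ht : t * t = z)
    (hstar : ∀ (g : G) (x₀ : ℕ), x₀ < 128 → g * z * g⁻¹ = E x₀ → x₀ ≠ 64 →
      ∃ M ∈ invE, ∃ N ∈ invE, M ≠ N ∧ ap M x₀ = x₀ % 64 ∧ ap N x₀ = x₀ % 64 ∧
        (∃ i < 64, ap M i ^^^ i = x₀ % 64) ∧ (∃ i < 64, ap N i ^^^ i = x₀ % 64))
    (g : G) (hg : (g * z * g⁻¹) * z = z * (g * z * g⁻¹)) : g * z * g⁻¹ = z :=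
  caseB h ht (caseA h ht hstar) g hg

end

end Cfsg.Agent.Held.ExtTwist
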