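import Mathlib
import Cfsg.Agent.Held.ExtTwist
import Cfsg.Agent.Held.ExtCod
import Cfsg.Agent.Held.ExtList

/-!
# Case `T1`: finite checks (S1659 from S1716, part P2a)
-/

set_option autoImplicit false

namespace Cfsg.Agent.Held.ExtCaseOne

open Cfsg.Agent.Held.Ext Cfsg.Agent.Held.ExtTwist

/-- the `n`-th normal form for `T1` -/
def nf1 (n : ℕ) : ℕ := nf6 T1 (n / 24) (n / 8 % 3) (n % 8)

theorem nf1_eq {i k j : ℕ} (hi : i < 7) (hk : k < 3) (hj : j < 8) :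
    24 * i + 8 * k + j < 168 ∧ nf1 (24 * i + 8 * k + j) = nf6 T1 i k j := by
  refine ⟨by omega, ?_⟩
  unfold nf1
  have e1 : (24 * i + 8 * k + j) / 24 = i := by omega
  have e2 : (24 * i + 8 * k + j) / 8 % 3 = k := by omega
  have e3 : (24 * i + 8 * k + j) % 8 = j := by omega
  rw [e1, e2, e3]

theorem nf1_lt (n : ℕ) : nf1 n < 64 ^ 6 := nf6_lt _ _ _

/-! ### the checks -/

theorem chk1_b : alln (fun n => imp (isInv (nf1 n)) (alln (fun x =>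
    imp (Nat.ble 8 x && Nat.beq (qf x) 0 && Nat.beq (ap (nf1 n) x) x)
      (alln (fun i => !(Nat.beq (ap (nf1 n) i ^^^ i) x)) 64)) 64)) 168 = true := by decide +kernel

theorem chk2_b : alln (fun m0 => imp (Nat.ble 1 m0) (alln (fun m =>
    imp (Nat.ble 8 m && Nat.beq (qf m) 0)
    (srch (fun n => Nat.beq (ap (nf1 n) m0) m0 &&
      (Nat.beq (bl m (ap (nf1 n) m)) 1 || Nat.beq (bl m m0) 1)) 168)) 64)) 8 = true := by
  decide +kernel

theorem chkE_b : alln (fun n => alln (fun x => Nat.ble (ap (nf1 n) x) 7) 8) 168 = true := by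
  decide +kernel

theorem chkC_b : alln (fun n => imp (isInv (nf1 n))
    (srch (fun m => Nat.beq (comp6 (nf1 m) (nf1 n)) (comp6 T1 (nf1 m))) 168)) 168 = true := by
  decide +kernel

/-- images of the generators with signs `s` -/
def Ims (s : ℕ) : ℕ → ℕ
  | 0 => 1 ^^^ (s % 2 * 64)
  | 1 => 4 ^^^ (s / 2 % 2 * 64)
  | 2 => 2 ^^^ (s / 4 % 2 * 64)
  | 3 => 8 ^^^ (s / 8 % 2 * 64)
  | 4 => 58 ^^^ (s / 16 % 2 * 64)
  | 5 => 38 ^^^ (s / 32 % 2 * 64)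
  | _ => 0

/-- fixed codes -/
def fixd (s x : ℕ) : Bool := Nat.beq (ev (Ims s) x) x

/-- the sign pattern of an involution -/
def okinv (s : ℕ) : Bool := alln (fun i => Nat.beq (ev (Ims s) (ev (Ims s) (2 ^ i))) (2 ^ i)) 6

/-- counting -/
def cntn (p : ℕ → Bool) : ℕ → ℕ
  | 0 => 0
  | n + 1 => (cond (p n) 1 0) + cntn p n

theorem cntn_eq (p : ℕ → Bool) (n : ℕ) :
    cntn p n = ((Finset.range n).filter (fun x => p x = true)).card := by
  induction n with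
  | zero => simp [cntn]
  | succ n ih =>
    rw [cntn, Finset.range_add_one, Finset.filter_insert, ih]
    cases h : p n
    · simp
    · simp [add_comm]

theorem chk3a_b : alln (fun s => imp (okinv s) (Nat.beq (cntn (fixd s) 128) 16)) 64 = true := by
  decide +kernel

theorem chk3b_b : alln (fun s => imp (okinv s) (alln (fun x =>
    imp (fixd s x && Nat.beq (mulQ x x) 0 && Nat.ble 1 (x % 64))
    ((Nat.ble (x % 64) 7 && srch (fun v => Nat.beq (mulQ v (ev (Ims s) (invQ v))) x) 128) ||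
      srch (fun y => fixd s y && !(Nat.beq (mulQ x y) (mulQ y x))) 128)) 128)) 64 = true := by
  decide +kernel

/-! ### the checks, unfolded -/

theorem beq_iff {a b : ℕ} : Nat.beq a b = true ↔ a = b :=
  ⟨Nat.eq_of_beq_eq_true, fun h => by rw [h]; exact Nat.beq_refl b⟩

theorem ble_iff {a b : ℕ} : Nat.ble a b = true ↔ a ≤ b :=
  ⟨Nat.le_of_ble_eq_true, Nat.ble_eq_true_of_le⟩

theorem isInv_iff {M : ℕ} : isInv M = true ↔ comp6 M M = I6 ∧ M ≠ I6 := by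
  unfold isInv
  rw [Bool.and_eq_true, beq_iff]
  constructor
  · rintro ⟨h1, h2⟩
    refine ⟨h1, fun h => ?_⟩
    rw [h] at h2
    exact absurd h2 (by decide)
  · rintro ⟨h1, h2⟩
    refine ⟨h1, ?_⟩
    cases h : Nat.beq M I6
    · rfl
    · exact absurd (beq_iff.1 h) h2

theorem chk1 {n x i : ℕ} (hn : n < 168) (hinv : comp6 (nf1 n) (nf1 n) = I6) (hne : nf1 n ≠ I6)
    (hx : x < 64) (h8 : 8 ≤ x) (hq : qf x = 0) (hf : ap (nf1 n) x = x) (hi : i < 64) :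
    ap (nf1 n) i ^^^ i ≠ x := by
  have h1 := imp_iff.1 (alln_iff.1 chk1_b n hn) (isInv_iff.2 ⟨hinv, hne⟩)
  have h2 := imp_iff.1 (alln_iff.1 h1 x hx) (by
    rw [Bool.and_eq_true, Bool.and_eq_true]
    exact ⟨⟨ble_iff.2 h8, beq_iff.2 hq⟩, beq_iff.2 hf⟩)
  have h3 := alln_iff.1 h2 i hi
  intro h4
  rw [beq_iff.2 h4] at h3
  exact absurd h3 (by decide)

theorem chk2 {m0 m : ℕ} (h0 : 1 ≤ m0) (h0' : m0 < 8) (h8 : 8 ≤ m) (hm : m < 64) (hq : qf m = 0) :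
    ∃ n < 168, ap (nf1 n) m0 = m0 ∧ (bl m (ap (nf1 n) m) = 1 ∨ bl m m0 = 1) := by
  have h1 := imp_iff.1 (alln_iff.1 chk2_b m0 h0') (ble_iff.2 h0)
  have h2 := imp_iff.1 (alln_iff.1 h1 m hm) (by
    rw [Bool.and_eq_true]
    exact ⟨ble_iff.2 h8, beq_iff.2 hq⟩)
  obtain ⟨n, hn, h3⟩ := srch_iff.1 h2
  rw [Bool.and_eq_true, Bool.or_eq_true] at h3
  refine ⟨n, hn, beq_iff.1 h3.1, ?_⟩
  rcases h3.2 with h4 | h4
  · exact Or.inl (beq_iff.1 h4)
  · exact Or.inr (beq_iff.1 h4)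

theorem chkE {n x : ℕ} (hn : n < 168) (hx : x < 8) : ap (nf1 n) x < 8 := by
  have h1 := alln_iff.1 (alln_iff.1 chkE_b n hn) x hx
  have := ble_iff.1 h1
  omega

theorem chkC {n : ℕ} (hn : n < 168) (hinv : comp6 (nf1 n) (nf1 n) = I6) (hne : nf1 n ≠ I6) :
    ∃ m < 168, comp6 (nf1 m) (nf1 n) = comp6 T1 (nf1 m) := by
  have h1 := imp_iff.1 (alln_iff.1 chkC_b n hn) (isInv_iff.2 ⟨hinv, hne⟩)
  obtain ⟨m, hm, h2⟩ := srch_iff.1 h1
  exact ⟨m, hm, beq_iff.1 h2⟩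

theorem chk3a {s : ℕ} (hs : s < 64) (hok : okinv s = true) :
    ((Finset.range 128).filter (fun x => ev (Ims s) x = x)).card = 16 := by
  have h1 := beq_iff.1 (imp_iff.1 (alln_iff.1 chk3a_b s hs) hok)
  rw [cntn_eq] at h1
  rw [← h1]
  congr 1
  apply Finset.filter_congr
  intro x _
  exact beq_iff.symm

theorem chk3b {s x : ℕ} (hs : s < 64) (hok : okinv s = true) (hx : x < 128)
    (hf : ev (Ims s) x = x) (hsq : mulQ x x = 0) (hne : x % 64 ≠ 0)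
    (hc : ∀ y < 128, ev (Ims s) y = y → mulQ x y = mulQ y x) :
    x % 64 < 8 ∧ ∃ v < 128, mulQ v (ev (Ims s) (invQ v)) = x := by
  have h1 := imp_iff.1 (alln_iff.1 chk3b_b s hs) hok
  have h2 := imp_iff.1 (alln_iff.1 h1 x hx) (by
    rw [Bool.and_eq_true, Bool.and_eq_true]
    exact ⟨⟨beq_iff.2 hf, beq_iff.2 hsq⟩, ble_iff.2 (by omega)⟩)
  rw [Bool.or_eq_true] at h2
  rcases h2 with h3 | h3
  · rw [Bool.and_eq_true] at h3
    have h4 := ble_iff.1 h3.1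
    obtain ⟨v, hv, h5⟩ := srch_iff.1 h3.2
    exact ⟨by omega, v, hv, beq_iff.1 h5⟩
  · exfalso
    obtain ⟨y, hy, h4⟩ := srch_iff.1 h3
    rw [Bool.and_eq_true] at h4
    have h5 := hc y hy (beq_iff.1 h4.1)
    rw [beq_iff.2 h5] at h4
    exact absurd h4.2 (by decide)

theorem okinv_iff {s : ℕ} :
    okinv s = true ↔ ∀ i < 6, ev (Ims s) (ev (Ims s) (2 ^ i)) = 2 ^ i := by
  unfold okinv
  rw [alln_iff]
  exact ⟨fun h i hi => beq_iff.1 (h i hi), fun h i hi => beq_iff.2 (h i hi)⟩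

/-! ### small checks -/

theorem chk_EE : ∀ x : Fin 128, x.1 % 64 < 8 → mulQ x.1 x.1 = 0 := by decide +kernel

theorem chk_orb : ∀ x : Fin 8, 1 ≤ x.1 → ∀ y : Fin 8, 1 ≤ y.1 →
    ∃ i : Fin 7, ap (pw Y6 i.1) x.1 = y.1 := by decide +kernel

theorem chk_fus : ∀ x : Fin 128, 1 ≤ x.1 % 64 → ∃ v : Fin 128,
    mulQ v.1 x.1 = mulQ (x.1 ^^^ 64) v.1 := by decide +kernel

theorem chk_self : ∀ x : Fin 128, 8 ≤ x.1 % 64 → ∃ v : Fin 8, mulQ v.1 x.1 ≠ mulQ x.1 v.1 := by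
  decide +kernel

theorem chk_sq : ∀ x : Fin 128, mulQ x.1 x.1 = 0 → qf (x.1 % 64) = 0 := by decide +kernel

theorem nf1_triv : ∀ i : Fin 7, ∀ k : Fin 3, ∀ j : Fin 8, Nat.beq (nf6 T1 i k j) I6 = true →
    i = 0 ∧ k = 0 ∧ j = 7 := by decide +kernel

theorem T1_vals : ap T1 1 = 1 ∧ ap T1 2 = 4 ∧ ap T1 4 = 2 ∧ ap T1 8 = 8 ∧ ap T1 16 = 58 ∧
    ap T1 32 = 38 := by decide +kernel

theorem T1_nf : T1 = nf1 0 := by decide +kernel

end Cfsg.Agent.Held.ExtCaseOne
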