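import Cfsg.Agent.Held.ExtCrd
import Cfsg.Agent.Lib.ClassTwoDuality

/-!
# The STAR lemma (S1659 from S1716)

If `z^g = E x0 ≠ z` lies in `Q`, then `P = Q^g` meets `Q` in an elementary abelian group of order 16.
-/

set_option autoImplicit false

namespace Cfsg.Agent.Held.Ext

open Cfsg.Agent.Co2Type.Quad
open scoped commutatorElement

/-! ### abstract lemmas -/

section abstract_lemmas

variable {G : Type*} [Group G]

/-- duality in an extraspecial group of order `2^7` -/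
theorem card_dual [Finite G] {Q : Subgroup G} {z : G} (h : Large Q z) (hQ : Nat.card Q = 128)
    (H : Subgroup G) (hHQ : H ≤ Q) (hz : z ∈ H) :
    Nat.card (Q ⊓ Subgroup.centralizer (H : Set G) : Subgroup G) * Nat.card H = 256 := by
  have hc : commutator Q ≤ Subgroup.center Q := by
    rw [commutator_def, Subgroup.commutator_le]
    intro x _ y _
    have h1 := h.comm_mem y x
    have h2 : ⁅x, y⁆ = x * y * x⁻¹ * y⁻¹ := commutatorElement_def x y
    have h3 := h.comm_mem x⁻¹ y⁻¹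
    have h4 : (x⁻¹ * y⁻¹)⁻¹ * (y⁻¹ * x⁻¹) = y * x * (y⁻¹ * x⁻¹) := by group
    rw [h4] at h3
    have h5 := inv_mem h3
    have h6 : (y * x * (y⁻¹ * x⁻¹))⁻¹ = x * y * x⁻¹ * y⁻¹ := by group
    rw [h2, ← h6]; exact h5
  have hcc : Nat.card (Subgroup.center Q) = 2 := h.card_center
  have hcyc : IsCyclic (Subgroup.center Q) := by
    have : Fact (Nat.Prime 2) := ⟨Nat.prime_two⟩
    exact isCyclic_of_prime_card hcc
  have hH : Subgroup.center Q ≤ H.subgroupOf Q := by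
    intro x hx
    rw [Subgroup.mem_subgroupOf]
    rcases h.mem_center.1 hx with h1 | h1
    · rw [h1]; exact one_mem _
    · rw [h1]; exact hz
  have key := Lib.ClassTwoDuality.card_centralizer_mul_card hc hcyc (H.subgroupOf Q) hH
  rw [hcc, hQ] at key
  have e1 : Nat.card (H.subgroupOf Q) = Nat.card H :=
    Nat.card_congr (Subgroup.subgroupOfEquivOfLe hHQ).toEquiv
  have e2 : Nat.card (Subgroup.centralizer ((H.subgroupOf Q : Subgroup Q) : Set Q)) =
      Nat.card (Q ⊓ Subgroup.centralizer (H : Set G) : Subgroup G) := by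
    have h1 : Subgroup.centralizer ((H.subgroupOf Q : Subgroup Q) : Set Q) =
        (Q ⊓ Subgroup.centralizer (H : Set G) : Subgroup G).subgroupOf Q := by
      ext x
      rw [Subgroup.mem_subgroupOf, Subgroup.mem_inf, Subgroup.mem_centralizer_iff,
        Subgroup.mem_centralizer_iff]
      constructor
      · intro hx
        refine ⟨x.2, fun k hk => ?_⟩
        have := hx ⟨k, hHQ hk⟩ (Subgroup.mem_subgroupOf.2 hk)
        exact congrArg Subtype.val this
      · rintro ⟨_, hx⟩ k hk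
        exact Subtype.ext (hx k (Subgroup.mem_subgroupOf.1 hk))
    rw [h1]
    exact Nat.card_congr (Subgroup.subgroupOfEquivOfLe inf_le_left).toEquiv
  rw [e1, e2] at key
  exact key

/-- centralisers of elements have index at most two -/
theorem card_half [Finite G] {P : Subgroup G} {a u : G} (h : Large P a) (hu : u ∈ P) :
    Nat.card P ≤ 2 * Nat.card (P ⊓ Subgroup.centralizer ({u} : Set G) : Subgroup G) := by
  classical
  set R := (P ⊓ Subgroup.centralizer ({u} : Set G) : Subgroup G) with hR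
  have hmem : ∀ p, p ∈ R ↔ p ∈ P ∧ p * u = u * p := by
    intro p; rw [hR, Subgroup.mem_inf, Subgroup.mem_centralizer_singleton_iff]
  by_cases hall : ∀ p ∈ P, p * u = u * p
  · have : P ≤ R := fun p hp => (hmem p).2 ⟨hp, hall p hp⟩
    have h1 := Subgroup.card_le_of_le this
    omega
  · push Not at hall
    obtain ⟨p0, hp0, hne⟩ := hall
    have e0 := (h.comm p0 hp0 u hu).resolve_left hne
    let f : P → R × Bool := fun p =>
      if hp : (p : G) ∈ R then (⟨p, hp⟩, false)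
      else (⟨(p : G) * p0, by
        rw [hmem]
        refine ⟨P.mul_mem p.2 hp0, ?_⟩
        have h1 : ¬ ((p : G) * u = u * p) := fun h2 => hp ((hmem _).2 ⟨p.2, h2⟩)
        have e1 := (h.comm p p.2 u hu).resolve_left h1
        calc (p : G) * p0 * u = p * (u * p0 * a) := by rw [mul_assoc, e0]
          _ = (p * u) * p0 * a := by group
          _ = u * p * a * p0 * a := by rw [e1]
          _ = u * p * (a * p0) * a := by group
          _ = u * p * (p0 * a) * a := by rw [← h.comm_z p0 hp0]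
          _ = u * (p * p0) * (a * a) := by group
          _ = u * (p * p0) := by rw [h.z_sq, mul_one]⟩, true)
    have hf : Function.Injective f := by
      intro p q hpq
      simp only [f] at hpq
      split_ifs at hpq with h1 h2 h2
      · have := congrArg (fun x => (x.1 : G)) hpq
        exact Subtype.ext this
      · exact absurd (congrArg Prod.snd hpq) (by simp)
      · exact absurd (congrArg Prod.snd hpq) (by simp)
      · have := congrArg (fun x => (x.1 : G)) hpq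
        exact Subtype.ext (mul_right_cancel this)
    calc Nat.card P ≤ Nat.card (R × Bool) := Nat.card_le_card_of_injective f hf
      _ = 2 * Nat.card R := by
        rw [Nat.card_prod, Nat.card_eq_fintype_card (α := Bool), Fintype.card_bool, mul_comm]

/-- elementary abelian `2`-subgroups of a group of order 168 with an element of order 4 -/
theorem card_le_four {K : Type*} [Group K] [Finite K] (hK : Nat.card K = 168) (c : K)
    (h4 : c ^ 4 = 1) (h2 : c ^ 2 ≠ 1) (S : Subgroup K) (hS : ∀ s ∈ S, s * s = 1) :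
    Nat.card S ≤ 4 := by
  have hp : Fact (Nat.Prime 2) := ⟨Nat.prime_two⟩
  have hS2 : IsPGroup 2 S := by
    intro s
    refine ⟨1, ?_⟩
    rw [pow_one, pow_two]
    exact Subtype.ext (hS s s.2)
  obtain ⟨n, hn⟩ := (IsPGroup.iff_card).1 hS2
  have hdvd : 2 ^ n ∣ 168 := by rw [← hn, ← hK]; exact Subgroup.card_subgroup_dvd_card S
  have hn3 : n ≤ 3 := by
    by_contra h
    have h1 : 2 ^ 4 ∣ 168 := (pow_dvd_pow 2 (by omega)).trans hdvd
    norm_num at h1
  rcases Nat.lt_or_ge n 3 with h | h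
  · rw [hn]
    calc 2 ^ n ≤ 2 ^ 2 := Nat.pow_le_pow_right (by norm_num) (by omega)
      _ = 4 := by norm_num
  · exfalso
    have hn' : n = 3 := le_antisymm hn3 h
    subst hn'
    -- `S` is a Sylow subgroup
    have hcop : ¬ 2 ∣ S.index := by
      have h5 := S.card_mul_index
      rw [hn, hK] at h5
      intro h6
      obtain ⟨m, hm⟩ := h6
      rw [hm] at h5
      omega
    let P := hS2.toSylow hcop
    have hcP : IsPGroup 2 (Subgroup.zpowers c) := by
      apply IsPGroup.of_card (n := 2)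
      rw [Nat.card_zpowers]
      have h7 : orderOf c ∣ 2 ^ 2 := orderOf_dvd_of_pow_eq_one h4
      obtain ⟨m, hm, hm'⟩ := (Nat.dvd_prime_pow Nat.prime_two).1 h7
      interval_cases m
      · exfalso; apply h2
        rw [pow_zero, orderOf_eq_one_iff] at hm'
        rw [hm', one_pow]
      · exfalso; apply h2
        rw [pow_one] at hm'
        rw [← hm', pow_orderOf_eq_one]
      · exact hm'
    obtain ⟨T, hT⟩ := hcP.exists_le_sylow
    obtain ⟨g, hg⟩ := MulAction.exists_smul_eq K T P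
    have hc : c ∈ T := hT (Subgroup.mem_zpowers c)
    have h8 : g * c * g⁻¹ ∈ (g • T : Sylow 2 K) := by
      have : g * c * g⁻¹ = (MulAut.conj g) c := rfl
      rw [this]
      exact Subgroup.smul_mem_pointwise_smul _ _ _ hc
    rw [hg] at h8
    have h9 : g * c * g⁻¹ ∈ S := h8
    have h10 := hS _ h9
    apply h2
    have h11 : g * c * g⁻¹ * (g * c * g⁻¹) = g * c ^ 2 * g⁻¹ := by rw [pow_two]; group
    rw [h11] at h10
    calc c ^ 2 = g⁻¹ * (g * c ^ 2 * g⁻¹) * g := by group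
      _ = 1 := by rw [h10]; group

end abstract_lemmas

/-! ### finite checks -/

theorem nf6_triv0 : ∀ i : Fin 7, ∀ k : Fin 3, ∀ j : Fin 8,
    (ap (nf6 T0 i k j) 1 = 1 ∧ ap (nf6 T0 i k j) 2 = 2 ∧ ap (nf6 T0 i k j) 4 = 4) →
      i.1 = 0 ∧ k.1 = 0 ∧ j.1 = 7 := by
  decide +kernel

theorem nf6_triv1 : ∀ i : Fin 7, ∀ k : Fin 3, ∀ j : Fin 8,
    (ap (nf6 T1 i k j) 1 = 1 ∧ ap (nf6 T1 i k j) 2 = 2 ∧ ap (nf6 T1 i k j) 4 = 4) →
      i.1 = 0 ∧ k.1 = 0 ∧ j.1 = 7 := by
  decide +kernel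

theorem ord4_0 : comp6 (comp6 (nf6 T0 0 0 3) (nf6 T0 0 0 3)) (comp6 (nf6 T0 0 0 3) (nf6 T0 0 0 3)) = I6
    ∧ ap (comp6 (nf6 T0 0 0 3) (nf6 T0 0 0 3)) 1 ≠ 1 := by decide +kernel

theorem ord4_1 : comp6 (comp6 (nf6 T1 0 0 3) (nf6 T1 0 0 3)) (comp6 (nf6 T1 0 0 3) (nf6 T1 0 0 3)) = I6
    ∧ ap (comp6 (nf6 T1 0 0 3) (nf6 T1 0 0 3)) 1 ≠ 1 := by decide +kernel

section

variable {G : Type*} [Group G] {z : G} {Q : Subgroup G} {E : ℕ → G} {y w t : G} {T : ℕ}

/-- an element of `C(z)` acting trivially on the masks is in `Q` -/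
theorem Crd.mem_of_trivial (h : Crd z Q E y w t T) (hT : T = T0 ∨ T = T1) {c : G} (hc : c * z = z * c)
    (htr : ∀ N, VA E c N → ∀ a < 64, ap N a = a) : c ∈ Q := by
  obtain ⟨i, hi, k, hk, j, hj, u, hu, hcu, hVA⟩ := h.exists_VA c hc
  have h1 := htr _ hVA 1 (by norm_num)
  have h2 := htr _ hVA 2 (by norm_num)
  have h4 := htr _ hVA 4 (by norm_num)
  have key : i = 0 ∧ k = 0 ∧ j = 7 := by
    rcases hT with rfl | rfl
    · exact nf6_triv0 ⟨i, hi⟩ ⟨k, hk⟩ ⟨j, hj⟩ ⟨h1, h2, h4⟩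
    · exact nf6_triv1 ⟨i, hi⟩ ⟨k, hk⟩ ⟨j, hj⟩ ⟨h1, h2, h4⟩
  obtain ⟨rfl, rfl, rfl⟩ := key
  rw [hcu]
  unfold tty
  simpa using h.E_mem hu

theorem Crd.ne_of_not_mem (h : Crd z Q E y w t T) {c : G} {M : ℕ} (hM : VA E c M)
    (hT : T = T0 ∨ T = T1) (hc : c * z = z * c) (hcQ : c ∉ Q) : M ≠ I6 := by
  rintro rfl
  apply hcQ
  apply h.mem_of_trivial hT hc
  intro N hN a ha
  rw [← h.VA_unique hM hN a ha]
  exact ap_I6 ⟨a, ha⟩

/-- an element of order 4 modulo `Q` -/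
theorem Crd.exists_ord4 (h : Crd z Q E y w t T) (hT : T = T0 ∨ T = T1) :
    ∃ c : G, c * z = z * c ∧ c ^ 2 ∉ Q ∧ c ^ 4 ∈ Q := by
  set c := y ^ 0 * (w ^ 0 * tty t y 3) with hc
  have hcz : c * z = z * c := h.nf_z 0 0 3
  have hVA : VA E c (nf6 T 0 0 3) := h.VA_nf 0 0 3
  have hcz2 : (c ^ 2) * z = z * c ^ 2 := (show Commute c z from hcz).pow_left 2
  have hcz4 : (c ^ 4) * z = z * c ^ 4 := (show Commute c z from hcz).pow_left 4
  have hVA2 : VA E (c ^ 2) (comp6 (nf6 T 0 0 3) (nf6 T 0 0 3)) := by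
    rw [pow_two]; exact VA.mul hVA hVA
  have hVA4 : VA E (c ^ 4) (comp6 (comp6 (nf6 T 0 0 3) (nf6 T 0 0 3))
      (comp6 (nf6 T 0 0 3) (nf6 T 0 0 3))) := by
    rw [show c ^ 4 = c ^ 2 * c ^ 2 by rw [← pow_add]]; exact VA.mul hVA2 hVA2
  have hnum : comp6 (comp6 (nf6 T 0 0 3) (nf6 T 0 0 3)) (comp6 (nf6 T 0 0 3) (nf6 T 0 0 3)) = I6
      ∧ ap (comp6 (nf6 T 0 0 3) (nf6 T 0 0 3)) 1 ≠ 1 := by
    rcases hT with rfl | rfl
    · exact ord4_0
    · exact ord4_1
  refine ⟨c, hcz, ?_, ?_⟩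
  · intro hmem
    have h1 := h.VA_unique hVA2 (h.VA_mem hmem) 1 (by norm_num)
    apply hnum.2
    rw [h1]; exact ap_I6 ⟨1, by norm_num⟩
  · apply h.mem_of_trivial hT hcz4
    intro N hN a ha
    rw [hnum.1] at hVA4
    rw [← h.VA_unique hVA4 hN a ha]
    exact ap_I6 ⟨a, ha⟩

/-- the quotient: elementary abelian sections of `C(z)/Q` have order at most 4; `S` is a subgroup of `C(z)` -/
theorem Crd.card_section [Finite G] (h : Crd z Q E y w t T) (hT : T = T0 ∨ T = T1) (R : Subgroup G)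
    (hRz : ∀ r ∈ R, r * z = z * r) (hR2 : ∀ r ∈ R, r * r ∈ Q) :
    Nat.card R ≤ 4 * Nat.card (R ⊓ Q : Subgroup G) ∧
      (Nat.card R = 4 * Nat.card (R ⊓ Q : Subgroup G) →
        ∃ r1 ∈ R, ∃ r2 ∈ R, r1 ∉ Q ∧ r2 ∉ Q ∧ r1⁻¹ * r2 ∉ Q ∧ r1 * r2 ∉ Q) := by
  set C := Subgroup.centralizer ({z} : Set G) with hC
  have hQC : Q ≤ C := fun x hx => Subgroup.mem_centralizer_singleton_iff.2 (h.large.comm_z x hx)
  have hRC : R ≤ C := fun x hx => Subgroup.mem_centralizer_singleton_iff.2 (hRz x hx)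
  have hN : (Q.subgroupOf C).Normal := by
    constructor
    intro n hn g
    rw [Subgroup.mem_subgroupOf] at hn ⊢
    exact h.large.conj_mem g (Subgroup.mem_centralizer_singleton_iff.1 g.2) n hn
  have hcardN : Nat.card (Q.subgroupOf C) = 128 := by
    rw [Nat.card_congr (Subgroup.subgroupOfEquivOfLe hQC).toEquiv, h.finQ]
  have hK : Nat.card (C ⧸ Q.subgroupOf C) = 168 := by
    have h1 := Subgroup.card_eq_card_quotient_mul_card_subgroup (Q.subgroupOf C)
    rw [h.card, hcardN] at h1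
    omega
  let π : C →* C ⧸ Q.subgroupOf C := QuotientGroup.mk' (Q.subgroupOf C)
  let ι : R →* C := Subgroup.inclusion hRC
  let f : R →* C ⧸ Q.subgroupOf C := π.comp ι
  have hker : ∀ r : R, f r = 1 ↔ (r : G) ∈ Q := by
    intro r
    show (QuotientGroup.mk' (Q.subgroupOf C)) (ι r) = 1 ↔ _
    rw [QuotientGroup.mk'_apply, QuotientGroup.eq_one_iff, Subgroup.mem_subgroupOf]
    rfl
  have hkercard : Nat.card f.ker = Nat.card (R ⊓ Q : Subgroup G) := by
    have h1 : f.ker = (R ⊓ Q : Subgroup G).subgroupOf R := by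
      ext r
      rw [MonoidHom.mem_ker, hker, Subgroup.mem_subgroupOf, Subgroup.mem_inf]
      exact ⟨fun h => ⟨r.2, h⟩, fun h => h.2⟩
    rw [h1]
    exact Nat.card_congr (Subgroup.subgroupOfEquivOfLe inf_le_left).toEquiv
  have hcardR : Nat.card R = Nat.card f.range * Nat.card (R ⊓ Q : Subgroup G) := by
    rw [Subgroup.card_eq_card_quotient_mul_card_subgroup f.ker, hkercard,
      Nat.card_congr (QuotientGroup.quotientKerEquivRange f).toEquiv]
  obtain ⟨c, hcz, hc2, hc4⟩ := h.exists_ord4 hT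
  have hexp : ∀ s ∈ f.range, s * s = 1 := by
    rintro _ ⟨r, rfl⟩
    rw [← map_mul, hker]
    exact hR2 r r.2
  have h4 : Nat.card f.range ≤ 4 := by
    apply card_le_four hK (π ⟨c, Subgroup.mem_centralizer_singleton_iff.2 hcz⟩) _ _ f.range hexp
    · rw [← map_pow]
      show (QuotientGroup.mk' (Q.subgroupOf C)) _ = 1
      rw [QuotientGroup.mk'_apply, QuotientGroup.eq_one_iff, Subgroup.mem_subgroupOf]
      exact hc4
    · rw [← map_pow]
      show (QuotientGroup.mk' (Q.subgroupOf C)) _ ≠ 1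
      rw [QuotientGroup.mk'_apply, Ne, QuotientGroup.eq_one_iff, Subgroup.mem_subgroupOf]
      exact hc2
  refine ⟨by rw [hcardR]; exact Nat.mul_le_mul_right _ h4, ?_⟩
  intro heq
  have h5 : Nat.card f.range = 4 := by
    rw [hcardR] at heq
    exact Nat.eq_of_mul_eq_mul_right Nat.card_pos heq
  -- three nontrivial elements
  obtain ⟨s1, hs1, hs1'⟩ : ∃ s ∈ f.range, s ≠ 1 := by
    by_contra hcon
    push Not at hcon
    have : f.range = ⊥ := (Subgroup.eq_bot_iff_forall _).2 hcon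
    rw [this, Subgroup.card_bot] at h5
    norm_num at h5
  obtain ⟨s2, hs2, hs2', hs12⟩ : ∃ s ∈ f.range, s ≠ 1 ∧ s ≠ s1 := by
    by_contra hcon
    push Not at hcon
    have hsub : (f.range : Set (C ⧸ Q.subgroupOf C)) ⊆ {1, s1} := by
      intro s hs
      by_cases h6 : s = 1
      · exact Or.inl h6
      · exact Or.inr (hcon s hs h6)
    have h7 : Nat.card f.range ≤ 2 := by
      rw [← SetLike.coe_sort_coe, Nat.card_coe_set_eq]
      exact (Set.ncard_le_ncard hsub (Set.toFinite _)).trans (Set.ncard_insert_le _ _ |>.trans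
        (by rw [Set.ncard_singleton]))
    omega
  obtain ⟨r1, hr1⟩ := hs1
  obtain ⟨r2, hr2⟩ := hs2
  refine ⟨r1, r1.2, r2, r2.2, ?_, ?_, ?_, ?_⟩
  · rw [← hker, hr1]; exact hs1'
  · rw [← hker, hr2]; exact hs2'
  · have : ((r1 : G)⁻¹ * r2) = ((r1⁻¹ * r2 : R) : G) := rfl
    rw [this, ← hker, map_mul, map_inv, hr1, hr2, inv_mul_eq_one]
    exact hs12.symm
  · have : ((r1 : G) * r2) = ((r1 * r2 : R) : G) := rfl
    rw [this, ← hker, map_mul, hr1, hr2]
    intro h6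
    apply hs12
    have h7 := hexp s1 ⟨r1, hr1⟩
    exact mul_left_cancel (h6.trans h7.symm)


theorem xor64_mod : ∀ a : Fin 128, (a.1 ^^^ 64) % 64 = a.1 % 64 := by decide +kernel

/-- reading off the action on masks -/
theorem Crd.VA_read (h : Crd z Q E y w t T) {c : G} {M : ℕ} (hM : VA E c M) {a b : ℕ}
    (ha : a < 128) (hb : b < 128) (hab : c * E a = E b * c) : ap M a = b % 64 := by
  have key : ∀ x, x < 128 → c * E a = E x * c → b = x := by
    intro x hx hxy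
    rw [hab] at hxy
    exact h.inj b hb x hx (mul_right_cancel hxy)
  rcases hM a ha with h1 | h1
  · rw [key _ (ap7_lt M a) h1, ap7_mod]
  · rw [key _ (xor64_lt (ap7_lt M a)) h1, xor64_mod ⟨_, ap7_lt M a⟩, ap7_mod]

/-- elements acting by the same involution are congruent modulo `Q` -/
theorem Crd.mem_of_same (h : Crd z Q E y w t T) (hT : T = T0 ∨ T = T1) {r s : G} {M : ℕ}
    (hr : r * z = z * r) (hs : s * z = z * s) (hrM : VA E r M) (hsM : VA E s M)
    (hM : ∀ a < 64, ap M (ap M a) = a) : r⁻¹ * s ∈ Q := by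
  apply h.mem_of_trivial hT
  · exact (Commute.inv_left (show Commute r z from hr)).mul_left (show Commute s z from hs)
  · intro N hN a ha
    have h1 := VA.mul hrM hN
    rw [mul_inv_cancel_left] at h1
    have h2 := h.VA_unique h1 hsM a ha
    rw [ap_comp6] at h2
    rw [← hM _ (ap_lt N a), h2, hM a ha]

theorem map_conj_eq {a b : G} (hL : Large Q z) (hab : a * z * a⁻¹ = b * z * b⁻¹) :
    Q.map (MulAut.conj a).toMonoidHom = Q.map (MulAut.conj b).toMonoidHom := by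
  have key : ∀ a b : G, a * z * a⁻¹ = b * z * b⁻¹ →
      Q.map (MulAut.conj a).toMonoidHom ≤ Q.map (MulAut.conj b).toMonoidHom := by
    rintro a b hab _ ⟨q, hq, rfl⟩
    refine ⟨(b⁻¹ * a) * q * (b⁻¹ * a)⁻¹, hL.conj_mem _ ?_ q hq, ?_⟩
    · calc b⁻¹ * a * z = b⁻¹ * (a * z * a⁻¹) * a := by group
        _ = b⁻¹ * (b * z * b⁻¹) * a := by rw [hab]
        _ = z * (b⁻¹ * a) := by group
    · show b * ((b⁻¹ * a) * q * (b⁻¹ * a)⁻¹) * b⁻¹ = a * q * a⁻¹
      group
  exact le_antisymm (key a b hab) (key b a hab.symm)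

/-- the conclusion for one element of `R ∖ Q` -/
def Good (x0 M : ℕ) : Prop :=
  M ≠ I6 ∧ (∀ a < 64, ap M (ap M a) = a) ∧ ap M x0 = x0 % 64 ∧ ∃ i < 64, ap M i ^^^ i = x0 % 64

/-- **the STAR lemma** -/
theorem star [Finite G] (h : Crd z Q E y w t T) (hT : T = T0 ∨ T = T1) (g : G) (x0 : ℕ)
    (hx0 : x0 < 128) (hg : g * z * g⁻¹ = E x0) (hne : x0 ≠ 64) :
    ∃ P : Subgroup G, P = Q.map (MulAut.conj g).toMonoidHom ∧ z ∈ P ∧
      (∃ x : G, x * z * x⁻¹ = E x0 ∧ x * E x0 * x⁻¹ = z ∧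
        Q.map (MulAut.conj x).toMonoidHom = P ∧ P.map (MulAut.conj x).toMonoidHom = Q) ∧
      Nat.card (P ⊓ Q : Subgroup G) = 16 ∧
      (∀ a ∈ P ⊓ Q, a * a = 1) ∧
      (∀ a ∈ P ⊓ Q, ∀ b ∈ P ⊓ Q, a * b = b * a) ∧
      ∃ i1 < 7, ∃ k1 < 3, ∃ j1 < 8, ∃ i2 < 7, ∃ k2 < 3, ∃ j2 < 8, ∃ i3 < 7, ∃ k3 < 3, ∃ j3 < 8,
        nf6 T i1 k1 j1 ≠ nf6 T i2 k2 j2 ∧ nf6 T i1 k1 j1 ≠ nf6 T i3 k3 j3 ∧
        nf6 T i2 k2 j2 ≠ nf6 T i3 k3 j3 ∧
        Good x0 (nf6 T i1 k1 j1) ∧ Good x0 (nf6 T i2 k2 j2) ∧ Good x0 (nf6 T i3 k3 j3) := by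
  obtain ⟨a, ha⟩ : ∃ a, a = E x0 := ⟨_, rfl⟩
  have haz : a ≠ z := by rw [ha, Ne, h.eq_z_iff hx0]; exact hne
  have haQ : a ∈ Q := by rw [ha]; exact h.E_mem hx0
  have hga : g * z * g⁻¹ = a := hg.trans ha.symm
  have ha1 : a ≠ 1 := by
    rw [← hga]; exact (h.large.conj g).z_ne
  obtain ⟨hzP0, hx⟩ := Cfsg.Agent.ClassificationK.LargeSymplectic.main h.data (g := g)
    (by rw [hga]; exact haz) (by rw [hga]; exact haQ)
  obtain ⟨x, -, hx1, hx2⟩ := hx a (Subgroup.subset_closure (by right; exact hga.symm)) z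
    (Subgroup.subset_closure (by left; rfl)) ha1 h.large.z_ne haz
  rw [hga] at hx2
  have LP0 := h.large.conj g
  rw [hga] at LP0
  obtain ⟨P, hP⟩ : ∃ P, P = Q.map (MulAut.conj g).toMonoidHom := ⟨_, rfl⟩
  rw [← hP] at LP0 hzP0
  have LP : Large P a := LP0
  have hPx : Q.map (MulAut.conj x).toMonoidHom = P := by
    rw [hP]
    apply map_conj_eq h.large
    rw [hx1, hga]
  have hQx : P.map (MulAut.conj x).toMonoidHom = Q := by
    rw [← hPx, Subgroup.map_map]
    have e1 : (MulAut.conj x).toMonoidHom.comp (MulAut.conj x).toMonoidHom =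
        (MulAut.conj (x * x)).toMonoidHom := by
      ext q
      show x * (x * q * x⁻¹) * x⁻¹ = x * x * q * (x * x)⁻¹
      group
    have e2 : Q.map (MulAut.conj (1 : G)).toMonoidHom = Q := by
      rw [map_one]
      exact Subgroup.map_id Q
    rw [e1]
    refine Eq.trans (map_conj_eq h.large ?_) e2
    calc x * x * z * (x * x)⁻¹ = x * (x * z * x⁻¹) * x⁻¹ := by group
      _ = z := by rw [hx1, hx2]
      _ = 1 * z * 1⁻¹ := by group
  have hcardP : Nat.card P = 128 := by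
    rw [hP, ← h.finQ]
    exact Nat.card_congr (Subgroup.equivMapOfInjective _ _ (MulAut.conj g).injective).toEquiv.symm
  -- the intersection
  have hsq : ∀ b ∈ P ⊓ Q, b * b = 1 := by
    intro b hb
    rcases h.large.sq b hb.2 with h1 | h1
    · exact h1
    · rcases LP.sq b hb.1 with h2 | h2
      · exact h2
      · exact absurd (h2.symm.trans h1) haz
  have hab : ∀ b ∈ P ⊓ Q, ∀ c ∈ P ⊓ Q, b * c = c * b := by
    intro b hb c hc
    rcases h.large.comm b hb.2 c hc.2 with h1 | h1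
    · exact h1
    · rcases LP.comm b hb.1 c hc.1 with h2 | h2
      · exact h2
      · exact absurd (mul_left_cancel (h2.symm.trans h1)) haz
  have hzI : z ∈ P ⊓ Q := ⟨hzP0, h.large.z_mem⟩
  have haI : a ∈ P ⊓ Q := ⟨LP.z_mem, haQ⟩
  have hle16 : Nat.card (P ⊓ Q : Subgroup G) ≤ 16 := by
    have h1 := card_dual h.large h.finQ (P ⊓ Q) inf_le_right hzI
    have h2 : (P ⊓ Q : Subgroup G) ≤ Q ⊓ Subgroup.centralizer ((P ⊓ Q : Subgroup G) : Set G) := by
      intro b hb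
      refine Subgroup.mem_inf.2 ⟨hb.2, Subgroup.mem_centralizer_iff.2 ?_⟩
      intro c hc
      exact hab c hc b hb
    have h3 := Subgroup.card_le_of_le h2
    nlinarith
  obtain ⟨R, hR⟩ : ∃ R, R = P ⊓ Subgroup.centralizer ({z} : Set G) := ⟨_, rfl⟩
  have hRmem : ∀ r, r ∈ R ↔ r ∈ P ∧ r * z = z * r := by
    intro r; rw [hR, Subgroup.mem_inf, Subgroup.mem_centralizer_singleton_iff]
  have hRcard := card_half LP hzP0
  rw [hcardP, ← hR] at hRcard
  have hRQ : (R ⊓ Q : Subgroup G) = P ⊓ Q := by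
    ext r
    rw [Subgroup.mem_inf, hRmem, Subgroup.mem_inf]
    exact ⟨fun h1 => ⟨h1.1.1, h1.2⟩, fun h1 => ⟨⟨h1.1, h.large.comm_z r h1.2⟩, h1.2⟩⟩
  have hRsq : ∀ r ∈ R, r * r ∈ Q := by
    intro r hr
    rcases LP.sq r ((hRmem r).1 hr).1 with h1 | h1
    · rw [h1]; exact one_mem _
    · rw [h1]; exact haQ
  obtain ⟨hR4, hReq⟩ := h.card_section hT R (fun r hr => ((hRmem r).1 hr).2) hRsq
  rw [hRQ] at hR4 hReq
  have hI16 : Nat.card (P ⊓ Q : Subgroup G) = 16 := by omega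
  obtain ⟨r1, hr1, r2, hr2, hr1Q, hr2Q, hr12, hr12'⟩ := hReq (by omega)
  -- centraliser of the intersection in `P`
  have hCP : P ⊓ Subgroup.centralizer ((P ⊓ Q : Subgroup G) : Set G) ≤ P ⊓ Q := by
    have h1 := card_dual LP hcardP (P ⊓ Q) inf_le_left haI
    have h2 : (P ⊓ Q : Subgroup G) ≤ P ⊓ Subgroup.centralizer ((P ⊓ Q : Subgroup G) : Set G) := by
      intro b hb
      refine Subgroup.mem_inf.2 ⟨hb.1, Subgroup.mem_centralizer_iff.2 ?_⟩
      intro c hc
      exact hab c hc b hb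
    rw [hI16] at h1
    have h3 : Nat.card (P ⊓ Subgroup.centralizer ((P ⊓ Q : Subgroup G) : Set G) : Subgroup G) ≤
        Nat.card (P ⊓ Q : Subgroup G) := by omega
    exact (Subgroup.eq_of_le_of_card_ge h2 h3).ge
  have key : ∀ r ∈ R, r ∉ Q → ∃ i < 7, ∃ k < 3, ∃ j < 8, VA E r (nf6 T i k j) ∧
      Good x0 (nf6 T i k j) := by
    intro r hr hrQ
    obtain ⟨hrP, hrz⟩ := (hRmem r).1 hr
    obtain ⟨i, hi, k, hk, j, hj, u, hu, -, hVA⟩ := h.exists_VA r hrz
    refine ⟨i, hi, k, hk, j, hj, hVA, h.ne_of_not_mem hVA hT hrz hrQ, ?_, ?_, ?_⟩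
    · intro b hb
      have h1 := h.VA_unique (VA.mul hVA hVA) (h.VA_mem (hRsq r hr)) b hb
      rw [ap_comp6, ap_I6 ⟨b, hb⟩] at h1
      exact h1
    · apply h.VA_read hVA hx0 hx0
      rw [← ha]; exact LP.comm_z r hrP
    · have h1 : ∃ b ∈ P ⊓ Q, r * b ≠ b * r := by
        by_contra hcon
        push Not at hcon
        apply hrQ
        refine (hCP (Subgroup.mem_inf.2 ⟨hrP, Subgroup.mem_centralizer_iff.2 ?_⟩)).2
        intro c hc
        exact (hcon c hc).symm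
      obtain ⟨b, hb, hbr⟩ := h1
      have h2 := (LP.comm r hrP b hb.1).resolve_left hbr
      obtain ⟨b0, hb0, hbE⟩ := (h.mem b).1 hb.2
      have h3 : r * E b0 = E (mulQ b0 x0) * r := by
        rw [← h.mul b0 hb0 x0 hx0, hbE, ← ha, h2, mul_assoc, mul_assoc, LP.comm_z r hrP]
      have h4 := h.VA_read hVA hb0 (mulQ_lt hb0 hx0) h3
      rw [mulQ_mod] at h4
      refine ⟨b0 % 64, Nat.mod_lt _ (by norm_num), ?_⟩
      rw [ap_mod, h4, Nat.xor_comm (b0 % 64), Nat.xor_assoc, Nat.xor_self, Nat.xor_zero]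
  have hr3 : r1 * r2 ∈ R := mul_mem hr1 hr2
  have z1 := ((hRmem _).1 hr1).2
  have z2 := ((hRmem _).1 hr2).2
  have z3 := ((hRmem _).1 hr3).2
  obtain ⟨i1, hi1, k1, hk1, j1, hj1, V1, g1⟩ := key r1 hr1 hr1Q
  obtain ⟨i2, hi2, k2, hk2, j2, hj2, V2, g2⟩ := key r2 hr2 hr2Q
  obtain ⟨i3, hi3, k3, hk3, j3, hj3, V3, g3⟩ := key (r1 * r2) hr3 hr12'
  refine ⟨P, hP, hzP0, ⟨x, hx1.trans ha, by rw [← ha]; exact hx2, hPx, hQx⟩, hI16, hsq, hab,
    i1, hi1, k1, hk1, j1, hj1, i2, hi2, k2, hk2, j2, hj2, i3, hi3, k3, hk3, j3, hj3,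
    ?_, ?_, ?_, g1, g2, g3⟩
  · intro he
    rw [← he] at V2
    exact hr12 (h.mem_of_same hT z1 z2 V1 V2 g1.2.1)
  · intro he
    rw [← he] at V3
    have h1 := h.mem_of_same hT z1 z3 V1 V3 g1.2.1
    rw [inv_mul_cancel_left] at h1
    exact hr2Q h1
  · intro he
    rw [← he] at V3
    have h1 := h.mem_of_same hT z2 z3 V2 V3 g2.2.1
    apply hr1Q
    have h2 := h.large.conj_mem r2 z2 _ h1
    have h3 : r2 * (r2⁻¹ * (r1 * r2)) * r2⁻¹ = r1 := by group
    rwa [h3] at h2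

end

end Cfsg.Agent.Held.Ext
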