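import Mathlib
import Cfsg.Agent.Held.ExtStar
import Cfsg.Agent.Held.ExtCaseOneChk

/-!
# Case `T1`: the elementary abelian subgroup of order 16 (S1659 from S1716, part P2a)
-/

set_option autoImplicit false

namespace Cfsg.Agent.Held.ExtCaseOne

open Cfsg.Agent.Held.Ext Cfsg.Agent.Held.ExtTwist Cfsg.Agent.Co2Type.Quad

variable {G : Type*} [Group G] {z : G} {Q : Subgroup G} {E : ℕ → G} {y w t : G}

theorem xor_lt8 {a b : ℕ} (ha : a < 8) (hb : b < 8) : a ^^^ b < 8 :=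
  Nat.xor_lt_two_pow (n := 3) ha hb

/-- the subgroup of order 16 -/
def EE (h : Crd z Q E y w t T1) : Subgroup G where
  carrier := {g | ∃ x < 128, x % 64 < 8 ∧ E x = g}
  mul_mem' := by
    rintro _ _ ⟨a, ha, ha', rfl⟩ ⟨b, hb, hb', rfl⟩
    refine ⟨mulQ a b, mulQ_lt ha hb, ?_, (h.mul a ha b hb).symm⟩
    rw [mulQ_mod]
    exact xor_lt8 ha' hb'
  one_mem' := ⟨0, by norm_num, by norm_num, h.E0⟩
  inv_mem' := by
    rintro _ ⟨a, ha, ha', rfl⟩
    refine ⟨a, ha, ha', ?_⟩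
    have h1 := (h.sq_iff ha).2 (chk_EE ⟨a, ha⟩ ha')
    exact (inv_eq_of_mul_eq_one_left h1).symm

theorem mem_EE (h : Crd z Q E y w t T1) {g : G} :
    g ∈ EE h ↔ ∃ x < 128, x % 64 < 8 ∧ E x = g := Iff.rfl

theorem E_mem_EE (h : Crd z Q E y w t T1) {x : ℕ} (hx : x < 128) : E x ∈ EE h ↔ x % 64 < 8 := by
  rw [mem_EE]
  constructor
  · rintro ⟨a, ha, ha', hax⟩
    rw [← h.inj a ha x hx hax]; exact ha'
  · intro hx'; exact ⟨x, hx, hx', rfl⟩

theorem EE_le (h : Crd z Q E y w t T1) : EE h ≤ Q := by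
  rintro _ ⟨x, hx, _, rfl⟩
  exact h.E_mem hx

theorem z_mem_EE (h : Crd z Q E y w t T1) : z ∈ EE h := ⟨64, by norm_num, by norm_num, h.E64⟩

theorem EE_sq (h : Crd z Q E y w t T1) : ∀ a ∈ EE h, a * a = 1 := by
  rintro _ ⟨x, hx, hx', rfl⟩
  exact (h.sq_iff hx).2 (chk_EE ⟨x, hx⟩ hx')

theorem card_EE (h : Crd z Q E y w t T1) : Nat.card (EE h) = 16 := by
  have hc : ∀ n : Fin 16, n.1 % 8 + 64 * (n.1 / 8) < 128 ∧ (n.1 % 8 + 64 * (n.1 / 8)) % 64 < 8 := by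
    decide +kernel
  have hb : Function.Bijective
      (fun n : Fin 16 => (⟨E (n.1 % 8 + 64 * (n.1 / 8)), _, (hc n).1, (hc n).2, rfl⟩ : EE h)) := by
    constructor
    · intro a b hab
      have h1 := h.inj _ (hc a).1 _ (hc b).1 (congrArg Subtype.val hab)
      apply Fin.ext
      have := a.2
      have := b.2
      omega
    · rintro ⟨_, x, hx, hx', rfl⟩
      refine ⟨⟨x % 8 + 8 * (x / 64), by omega⟩, ?_⟩
      apply Subtype.ext
      show E ((x % 8 + 8 * (x / 64)) % 8 + 64 * ((x % 8 + 8 * (x / 64)) / 8)) = E x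
      congr 1
      omega
  rw [← Nat.card_congr (Equiv.ofBijective _ hb), Nat.card_eq_fintype_card, Fintype.card_fin]

theorem EE_conj (h : Crd z Q E y w t T1) (g : G) :
    EE (h.conj g) = (EE h).map (MulAut.conj g).toMonoidHom := by
  ext a
  constructor
  · rintro ⟨x, hx, hx', rfl⟩
    exact ⟨E x, ⟨x, hx, hx', rfl⟩, rfl⟩
  · rintro ⟨_, ⟨x, hx, hx', rfl⟩, rfl⟩
    exact ⟨x, hx, hx', rfl⟩

theorem exists_nf1 (h : Crd z Q E y w t T1) {c : G} (hc : c * z = z * c) :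
    ∃ n < 168, VA E c (nf1 n) := by
  obtain ⟨i, hi, k, hk, j, hj, u, hu, -, hVA⟩ := h.exists_VA c hc
  obtain ⟨h1, h2⟩ := nf1_eq hi hk hj
  exact ⟨_, h1, by rw [h2]; exact hVA⟩

theorem exists_of_nf1 (h : Crd z Q E y w t T1) (n : ℕ) :
    ∃ c : G, c * z = z * c ∧ VA E c (nf1 n) :=
  ⟨_, h.nf_z _ _ _, h.VA_nf (n / 24) (n / 8 % 3) (n % 8)⟩

/-- the image of a code under an element with known mask action -/
theorem VA_image (h : Crd z Q E y w t T1) {c : G} {M : ℕ} (hM : VA E c M) {x : ℕ} (hx : x < 128) :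
    ∃ x' < 128, x' % 64 = ap M x ∧ c * E x * c⁻¹ = E x' := by
  rcases hM x hx with h1 | h1
  · exact ⟨_, ap7_lt M x, ap7_mod M x, by rw [h1]; group⟩
  · refine ⟨_, xor64_lt (ap7_lt M x), ?_, by rw [h1]; group⟩
    rw [xor64_mod ⟨_, ap7_lt M x⟩, ap7_mod]

theorem conj_mem_EE (h : Crd z Q E y w t T1) {c : G} (hc : c * z = z * c) {a : G} (ha : a ∈ EE h) :
    c * a * c⁻¹ ∈ EE h := by
  obtain ⟨x, hx, hx', rfl⟩ := ha
  obtain ⟨n, hn, hVA⟩ := exists_nf1 h hc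
  obtain ⟨x', hx1, hx2, hx3⟩ := VA_image h hVA hx
  rw [hx3, E_mem_EE h hx1, hx2, ← ap_mod]
  exact chkE hn hx'

theorem map_EE_of_comm [Finite G] (h : Crd z Q E y w t T1) {c : G} (hc : c * z = z * c) :
    (EE h).map (MulAut.conj c).toMonoidHom = EE h := by
  apply Subgroup.eq_of_le_of_card_ge
  · rintro _ ⟨a, ha, rfl⟩
    exact conj_mem_EE h hc ha
  · exact (Nat.card_congr
      (Subgroup.equivMapOfInjective (EE h) _ (MulAut.conj c).injective).toEquiv).le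

/-- (1) -/
theorem conj_mem_EE_of_mem [Finite G] (h : Crd z Q E y w t T1) {g : G} (hg : g * z * g⁻¹ ∈ Q) :
    g * z * g⁻¹ ∈ EE h := by
  obtain ⟨x0, hx0, hE⟩ := (h.mem _).1 hg
  rw [← hE, E_mem_EE h hx0]
  by_contra hge
  have hne : x0 ≠ 64 := by rintro rfl; exact hge (by norm_num)
  obtain ⟨P, hP, hzP, -, -, -, -, i1, hi1, k1, hk1, j1, hj1, i2, hi2, k2, hk2, j2, hj2, i3, hi3, k3,
    hk3, j3, hj3, -, -, -, hgood, -, -⟩ := star h (Or.inr rfl) g x0 hx0 hE.symm hne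
  obtain ⟨hMne, hMinv, hMx, i, hi, hMi⟩ := hgood
  obtain ⟨hn, hneq⟩ := nf1_eq hi1 hk1 hj1
  rw [← hneq] at hMne hMinv hMx hMi
  have hsq : qf (x0 % 64) = 0 := by
    apply chk_sq ⟨x0, hx0⟩
    rw [← h.sq_iff hx0, hE]
    calc g * z * g⁻¹ * (g * z * g⁻¹) = g * (z * z) * g⁻¹ := by group
      _ = 1 := by rw [h.large.z_sq]; group
  refine chk1 hn ?_ hMne (Nat.mod_lt x0 (by norm_num)) (by omega) hsq (by rw [ap_mod]; exact hMx)
    hi hMi
  apply ExtTwist.packed_ext (comp6_lt _ _) I6_lt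
  intro a ha
  rw [ap_comp6, hMinv a ha, ap_I6 ⟨a, ha⟩]

/-- (2a) -/
theorem isConj_of_mem_EE [Finite G] (h : Crd z Q E y w t T1) {g : G} (hg : g * z * g⁻¹ ∈ Q)
    (hne : g * z * g⁻¹ ≠ z) : ∀ x ∈ EE h, x ≠ 1 → IsConj z x := by
  obtain ⟨x0, hx0, hx0', hE⟩ := conj_mem_EE_of_mem h hg
  have hx64 : x0 ≠ 64 := by
    rintro rfl; exact hne (by rw [← hE, h.E64])
  have hx0n : x0 ≠ 0 := by
    rintro rfl
    rw [h.E0] at hE
    apply h.large.z_ne
    calc z = g⁻¹ * (g * z * g⁻¹) * g := by group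
      _ = 1 := by rw [← hE]; group
  have hconj0 : IsConj z (E x0) := isConj_iff.2 ⟨g, hE.symm⟩
  rintro _ ⟨x, hx, hx', rfl⟩ hx1
  by_cases h64 : x = 64
  · rw [h64, h.E64]
  have hx0'' : x ≠ 0 := by rintro rfl; exact hx1 h.E0
  obtain ⟨i, hi⟩ := chk_orb ⟨x0 % 64, hx0'⟩ (by show 1 ≤ x0 % 64; omega) ⟨x % 64, hx'⟩
    (by show 1 ≤ x % 64; omega)
  simp only at hi
  obtain ⟨x', hx1', hx2, hx3⟩ := VA_image h (VA.pow (VA.of_exact h.yE) i.1) hx0
  have hconj1 : IsConj z (E x') := hconj0.trans (isConj_iff.2 ⟨_, hx3⟩)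
  rw [← ap_mod, hi] at hx2
  rcases eq_or_xor hx hx1' hx2.symm with h1 | h1
  · rw [h1]; exact hconj1
  · obtain ⟨v, hv⟩ := chk_fus ⟨x', hx1'⟩ (by show 1 ≤ x' % 64; omega)
    simp only at hv
    refine hconj1.trans (isConj_iff.2 ⟨E v.1, ?_⟩)
    rw [h.mul _ v.2 _ hx1', hv, ← h.mul _ (xor64_lt hx1') _ v.2, h1]
    group

theorem bl_comm {a b : ℕ} (hab : mulQ a b = mulQ b a) : bl (a % 64) (b % 64) = 0 := by
  have h1 : beta a b = beta b a := by
    have h2 := congrArg (fun x => x.testBit 6) hab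
    simp only [mulQ_testBit] at h2
    have h3 : (beta a b).testBit 0 = (beta b a).testBit 0 := by
      revert h2
      cases a.testBit 6 <;> cases b.testBit 6 <;> cases (beta a b).testBit 0 <;>
        cases (beta b a).testBit 0 <;> simp
    rcases beta_cases a b with h4 | h4 <;> rcases beta_cases b a with h5 | h5 <;>
      rw [h4, h5] at h3 ⊢ <;> simp at h3
  unfold bl
  rw [beta_mod, beta_mod, h1, Nat.xor_self]

/-- (2b) -/
theorem map_EE [Finite G] (h : Crd z Q E y w t T1) {g : G} (hg : g * z * g⁻¹ ∈ EE h) :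
    (EE h).map (MulAut.conj g).toMonoidHom = EE h := by
  obtain ⟨x0, hx0, hx0', hE⟩ := hg
  by_cases h64 : x0 = 64
  · apply map_EE_of_comm h
    rw [h64, h.E64] at hE
    calc g * z = g * z * g⁻¹ * g := by group
      _ = z * g := by rw [← hE]
  have hx0n : x0 ≠ 0 := by
    rintro rfl
    rw [h.E0] at hE
    apply h.large.z_ne
    calc z = g⁻¹ * (g * z * g⁻¹) * g := by group
      _ = 1 := by rw [← hE]; group
  obtain ⟨P, hP, hzP, ⟨x, hxz, hxE, hxQ, hxP⟩, hcard, hsq, hcomm, -⟩ :=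
    star h (Or.inr rfl) g x0 hx0 hE.symm h64
  have LP : Large P (E x0) := by
    have := h.large.conj g
    rw [← hE, ← hP] at this
    exact this
  have hE0I : E x0 ∈ P ⊓ Q := ⟨LP.z_mem, h.E_mem hx0⟩
  -- `I ≤ EE`
  have hI : P ⊓ Q ≤ EE h := by
    intro b hb
    obtain ⟨m, hm, rfl⟩ := (h.mem b).1 hb.2
    rw [E_mem_EE h hm]
    by_contra hge
    have hq : qf (m % 64) = 0 := chk_sq ⟨m, hm⟩ ((h.sq_iff hm).1 (hsq _ hb))
    obtain ⟨n, hn, hfix, hbl⟩ := chk2 (m0 := x0 % 64) (m := m % 64) (by omega) hx0' (by omega)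
      (Nat.mod_lt _ (by norm_num)) hq
    rcases hbl with hbl | hbl
    · obtain ⟨c, hc, hVA⟩ := exists_of_nf1 h n
      obtain ⟨x', hx1', hx2, hx3⟩ := VA_image h hVA hx0
      rw [← ap_mod, hfix] at hx2
      -- adjust
      obtain ⟨c', hc', hVA', hcE⟩ : ∃ c' : G, c' * z = z * c' ∧ VA E c' (nf1 n) ∧
          c' * E x0 * c'⁻¹ = E x0 := by
        rcases eq_or_xor hx1' hx0 hx2 with h1 | h1
        · exact ⟨c, hc, hVA, by rw [hx3, h1]⟩
        · obtain ⟨v, hv⟩ := chk_fus ⟨x0, hx0⟩ (by show 1 ≤ x0 % 64; omega)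
          simp only at hv
          have h2 : E v.1 * E x0 = E x' * E v.1 := by
            rw [h.mul _ v.2 _ hx0, hv, ← h.mul _ (xor64_lt hx0) _ v.2, h1]
          have hvz : (E v.1)⁻¹ * z = z * (E v.1)⁻¹ :=
            h.large.comm_z _ (Q.inv_mem (h.E_mem v.2))
          refine ⟨(E v.1)⁻¹ * c, ?_, ?_, ?_⟩
          · rw [mul_assoc, hc, ← mul_assoc, hvz, mul_assoc]
          · have h3 := VA.mul (h.VA_mem (Q.inv_mem (h.E_mem v.2))) hVA
            rwa [comp6_I6_left (nf1_lt n)] at h3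
          · calc (E v.1)⁻¹ * c * E x0 * ((E v.1)⁻¹ * c)⁻¹
                = (E v.1)⁻¹ * (c * E x0 * c⁻¹) * E v.1 := by group
              _ = (E v.1)⁻¹ * (E x' * E v.1) := by rw [hx3, mul_assoc]
              _ = E x0 := by rw [← h2]; group
      have hcP : c' * E m * c'⁻¹ ∈ P := by
        apply LP.conj_mem c' _ _ hb.1
        calc c' * E x0 = c' * E x0 * c'⁻¹ * c' := by group
          _ = E x0 * c' := by rw [hcE]
      have hcQ : c' * E m * c'⁻¹ ∈ Q := h.large.conj_mem c' hc' _ hb.2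
      have h5 := hcomm _ hb _ ⟨hcP, hcQ⟩
      obtain ⟨m', hm1', hm2, hm3⟩ := VA_image h hVA' hm
      rw [hm3, h.comm_iff hm hm1'] at h5
      have h6 := bl_comm h5
      rw [hm2, ← ap_mod, hbl] at h6
      exact one_ne_zero h6
    · have h5 := hcomm _ hb _ hE0I
      rw [h.comm_iff hm hx0] at h5
      have h6 := bl_comm h5
      rw [hbl] at h6
      exact one_ne_zero h6
  have hIE : P ⊓ Q = EE h := by
    apply Subgroup.eq_of_le_of_card_ge hI
    rw [card_EE, hcard]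
  have hxI : (EE h).map (MulAut.conj x).toMonoidHom = EE h := by
    rw [← hIE, Subgroup.map_inf _ _ _ (MulAut.conj x).injective, hxP, hxQ, inf_comm]
  have hgx : (x⁻¹ * g) * z = z * (x⁻¹ * g) := by
    calc (x⁻¹ * g) * z = x⁻¹ * (g * z * g⁻¹) * g := by group
      _ = x⁻¹ * (x * z * x⁻¹) * g := by rw [← hE, hxz]
      _ = z * (x⁻¹ * g) := by group
  have h7 := map_EE_of_comm h hgx
  have h8 : (MulAut.conj g).toMonoidHom =
      (MulAut.conj x).toMonoidHom.comp (MulAut.conj (x⁻¹ * g)).toMonoidHom := by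
    ext q
    show g * q * g⁻¹ = x * (x⁻¹ * g * q * (x⁻¹ * g)⁻¹) * x⁻¹
    group
  rw [h8, ← Subgroup.map_map, h7, hxI]

end Cfsg.Agent.Held.ExtCaseOne
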