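import Mathlib
import Cfsg.Agent.Held.ExtCaseOneA

/-!
# Case `T1`: no conjugate of `z` in `C(z) ∖ Q` (S1659 from S1716, part P2a)
-/

set_option autoImplicit false

namespace Cfsg.Agent.Held.ExtCaseOne

open Cfsg.Agent.Held.Ext Cfsg.Agent.Held.ExtTwist Cfsg.Agent.Co2Type.Quad

variable {G : Type*} [Group G] {z : G} {Q : Subgroup G} {E : ℕ → G} {y w t : G}

/-- `C(a)/P` has order 168 -/
theorem card_quot [Finite G] {T : ℕ} (h : Crd z Q E y w t T)
    (_hN : (Q.subgroupOf (Subgroup.centralizer ({z} : Set G))).Normal) :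
    Nat.card (Subgroup.centralizer ({z} : Set G) ⧸
      Q.subgroupOf (Subgroup.centralizer ({z} : Set G))) = 168 := by
  have hQC : Q ≤ Subgroup.centralizer ({z} : Set G) :=
    fun x hx => Subgroup.mem_centralizer_singleton_iff.2 (h.large.comm_z x hx)
  have hcardN : Nat.card (Q.subgroupOf (Subgroup.centralizer ({z} : Set G))) = 128 := by
    rw [Nat.card_congr (Subgroup.subgroupOfEquivOfLe hQC).toEquiv, h.finQ]
  have h1 := Subgroup.card_eq_card_quotient_mul_card_subgroup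
    (Q.subgroupOf (Subgroup.centralizer ({z} : Set G)))
  rw [h.card, hcardN] at h1
  omega

theorem normal_sub {T : ℕ} (h : Crd z Q E y w t T) :
    (Q.subgroupOf (Subgroup.centralizer ({z} : Set G))).Normal := by
  constructor
  intro n hn g
  rw [Subgroup.mem_subgroupOf] at hn ⊢
  exact h.large.conj_mem g (Subgroup.mem_centralizer_singleton_iff.1 g.2) n hn

/-- a subgroup of `C(z)` of order 16 meets `Q` -/
theorem inter_ne_bot [Finite G] {T : ℕ} (h : Crd z Q E y w t T) (K : Subgroup G)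
    (hK : Nat.card K = 16) (hKz : ∀ k ∈ K, k * z = z * k) : ∃ d ∈ K, d ∈ Q ∧ d ≠ 1 := by
  by_contra hcon
  push Not at hcon
  have hN := normal_sub h
  have hKC : K ≤ Subgroup.centralizer ({z} : Set G) :=
    fun x hx => Subgroup.mem_centralizer_singleton_iff.2 (hKz x hx)
  let f : K →* (Subgroup.centralizer ({z} : Set G) ⧸
      Q.subgroupOf (Subgroup.centralizer ({z} : Set G))) :=
    (QuotientGroup.mk' _).comp (Subgroup.inclusion hKC)
  have hf : Function.Injective f := by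
    rw [injective_iff_map_eq_one]
    intro k hk
    have h1 : (QuotientGroup.mk' (Q.subgroupOf (Subgroup.centralizer ({z} : Set G))))
        (Subgroup.inclusion hKC k) = 1 := hk
    rw [QuotientGroup.mk'_apply, QuotientGroup.eq_one_iff, Subgroup.mem_subgroupOf] at h1
    exact Subtype.ext (hcon k k.2 h1)
  have h2 := Subgroup.card_dvd_of_injective f hf
  rw [hK, card_quot h hN] at h2
  norm_num at h2

/-- the sign pattern of an element acting as `T1` -/
theorem exists_sign (h : Crd z Q E y w t T1) {a : G} (ha : a * z = z * a) (haa : a * a = 1)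
    (hVA : VA E a T1) : ∃ s < 64, okinv s = true ∧ ∀ x < 128, a * E x = E (ev (Ims s) x) * a := by
  obtain ⟨I, hI, haI⟩ := h.cod.exists_ev ha
  have hVA' := VA_of_ev hI haI
  have hm : ∀ x : ℕ, x % 64 < 64 := fun x => Nat.mod_lt _ (by norm_num)
  have hap : ∀ a < 64, ap (mk6 (I 0 % 64) (I 1 % 64) (I 2 % 64) (I 3 % 64) (I 4 % 64) (I 5 % 64)) a =
      ap T1 a := fun a ha => h.VA_unique hVA' hVA a ha
  obtain ⟨v0, v1, v2, v3, v4, v5⟩ := T1_vals
  have e0 := hap 1 (by norm_num)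
  have e1 := hap 2 (by norm_num)
  have e2 := hap 4 (by norm_num)
  have e3 := hap 8 (by norm_num)
  have e4 := hap 16 (by norm_num)
  have e5 := hap 32 (by norm_num)
  rw [ap_mk6 (hm _) (hm _) (hm _) (hm _) (hm _) (hm _)] at e0 e1 e2 e3 e4 e5
  rw [v0] at e0
  rw [v1] at e1
  rw [v2] at e2
  rw [v3] at e3
  rw [v4] at e4
  rw [v5] at e5
  norm_num at e0 e1 e2 e3 e4 e5
  have hx64 : ∀ b : Fin 64, ∀ e : Fin 2, b.1 ^^^ (e.1 * 64) = b.1 + 64 * e.1 := by decide +kernel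
  have key : ∀ i, ∀ b : ℕ, b < 64 → I i % 64 = b → b ^^^ (I i / 64 % 2 * 64) = I i := by
    intro i b hb hib
    have h1 := hx64 ⟨b, hb⟩ ⟨I i / 64 % 2, Nat.mod_lt _ (by norm_num)⟩
    simp only at h1
    rw [h1]
    have := hI i
    omega
  set s := I 0 / 64 + 2 * (I 1 / 64) + 4 * (I 2 / 64) + 8 * (I 3 / 64) + 16 * (I 4 / 64) +
    32 * (I 5 / 64) with hs
  have h0 := hI 0
  have h1 := hI 1
  have h2 := hI 2
  have h3 := hI 3
  have h4 := hI 4
  have h5 := hI 5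
  have hs64 : s < 64 := by omega
  have i0 : Ims s 0 = I 0 := by
    show 1 ^^^ (s % 2 * 64) = I 0
    rw [show s % 2 = I 0 / 64 % 2 by omega]
    exact key 0 1 (by norm_num) e0
  have i1 : Ims s 1 = I 1 := by
    show 4 ^^^ (s / 2 % 2 * 64) = I 1
    rw [show s / 2 % 2 = I 1 / 64 % 2 by omega]
    exact key 1 4 (by norm_num) e1
  have i2 : Ims s 2 = I 2 := by
    show 2 ^^^ (s / 4 % 2 * 64) = I 2
    rw [show s / 4 % 2 = I 2 / 64 % 2 by omega]
    exact key 2 2 (by norm_num) e2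
  have i3 : Ims s 3 = I 3 := by
    show 8 ^^^ (s / 8 % 2 * 64) = I 3
    rw [show s / 8 % 2 = I 3 / 64 % 2 by omega]
    exact key 3 8 (by norm_num) e3
  have i4 : Ims s 4 = I 4 := by
    show 58 ^^^ (s / 16 % 2 * 64) = I 4
    rw [show s / 16 % 2 = I 4 / 64 % 2 by omega]
    exact key 4 58 (by norm_num) e4
  have i5 : Ims s 5 = I 5 := by
    show 38 ^^^ (s / 32 % 2 * 64) = I 5
    rw [show s / 32 % 2 = I 5 / 64 % 2 by omega]
    exact key 5 38 (by norm_num) e5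
  have hev : ∀ x, ev (Ims s) x = ev I x := by
    intro x
    unfold ev
    rw [i0, i1, i2, i3, i4, i5]
  have hIs : ∀ i < 6, Ims s i < 128 := by
    intro i hi
    interval_cases i
    · rw [i0]; exact hI 0
    · rw [i1]; exact hI 1
    · rw [i2]; exact hI 2
    · rw [i3]; exact hI 3
    · rw [i4]; exact hI 4
    · rw [i5]; exact hI 5
  have haI' : ∀ x < 128, a * E x = E (ev (Ims s) x) * a := by
    intro x hx; rw [hev]; exact haI x hx
  refine ⟨s, hs64, ?_, haI'⟩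
  rw [okinv_iff]
  intro i hi
  have hp : (2 : ℕ) ^ i < 128 := by
    calc (2 : ℕ) ^ i ≤ 2 ^ 6 := Nat.pow_le_pow_right (by norm_num) (by omega)
      _ < 128 := by norm_num
  have h6 := ev_lt hIs (2 ^ i)
  have h7 := ev_lt hIs (ev (Ims s) (2 ^ i))
  apply h.inj _ h7 _ hp
  have h8 : a * (a * E (2 ^ i)) = E (ev (Ims s) (ev (Ims s) (2 ^ i))) * (a * a) := by
    rw [haI' _ hp, ← mul_assoc, haI' _ h6, mul_assoc]
  rw [haa, mul_one, ← mul_assoc, haa, one_mul] at h8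
  exact h8.symm

/-- the analysis of `D = Q ⊓ P`, when `a` acts as `T1` -/
theorem inter_T1 [Finite G] (h : Crd z Q E y w t T1) {g : G}
    (ha : (g * z * g⁻¹) * z = z * (g * z * g⁻¹)) (hVA : VA E (g * z * g⁻¹) T1)
    (hzP : z ∉ Q.map (MulAut.conj g).toMonoidHom) :
    (∃ d ∈ Q, d ∈ Q.map (MulAut.conj g).toMonoidHom ∧ d ≠ 1) ∧
    ∀ d ∈ Q, d ∈ Q.map (MulAut.conj g).toMonoidHom → d ≠ 1 →
      d ∈ EE h ∧ IsConj (g * z * g⁻¹) (d * (g * z * g⁻¹)) := by
  obtain ⟨a, hadef⟩ : ∃ a, a = g * z * g⁻¹ := ⟨_, rfl⟩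
  have h' := h.conj g
  obtain ⟨P, hP⟩ : ∃ P, P = Q.map (MulAut.conj g).toMonoidHom := ⟨_, rfl⟩
  rw [← hadef, ← hP] at h'
  rw [← hadef] at ha hVA ⊢
  rw [← hP] at hzP ⊢
  have haa : a * a = 1 := h'.large.z_sq
  obtain ⟨s, hs, hok, hev⟩ := exists_sign h ha haa hVA
  -- the centraliser of `a` in `Q`
  let K : Subgroup G := Q ⊓ Subgroup.centralizer ({a} : Set G)
  have hmemK : ∀ k, k ∈ K ↔ k ∈ Q ∧ k * a = a * k := by
    intro k; rw [Subgroup.mem_inf, Subgroup.mem_centralizer_singleton_iff]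
  have hfix : ∀ x < 128, (a * E x = E x * a ↔ ev (Ims s) x = x) := by
    intro x hx
    rw [hev x hx]
    constructor
    · intro h1
      have h2 := mul_right_cancel h1
      have h3 : ev (Ims s) x < 128 := by
        apply ev_lt
        intro i hi
        have hb : ∀ b : Fin 64, ∀ e : Fin 2, b.1 ^^^ (e.1 * 64) < 128 := by decide +kernel
        have hh : ∀ (b : ℕ) (c : ℕ), b < 64 → b ^^^ (c % 2 * 64) < 128 := fun b c hb' =>
          hb ⟨b, hb'⟩ ⟨c % 2, Nat.mod_lt _ (by norm_num)⟩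
        interval_cases i <;> exact hh _ _ (by norm_num)
      exact h.inj _ h3 _ hx h2
    · intro h1; rw [h1]
  have hcardK : Nat.card K = 16 := by
    have hb : Function.Bijective
        (fun x : ((Finset.range 128).filter (fun x => ev (Ims s) x = x)) =>
          (⟨E x.1, (hmemK _).2 ⟨h.E_mem (Finset.mem_range.1 (Finset.mem_filter.1 x.2).1),
            ((hfix _ (Finset.mem_range.1 (Finset.mem_filter.1 x.2).1)).2
              (Finset.mem_filter.1 x.2).2).symm⟩⟩ : K)) := by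
      constructor
      · rintro ⟨x, hx⟩ ⟨y', hy⟩ hxy
        have h1 := h.inj _ (Finset.mem_range.1 (Finset.mem_filter.1 hx).1) _
          (Finset.mem_range.1 (Finset.mem_filter.1 hy).1) (congrArg Subtype.val hxy)
        exact Subtype.ext h1
      · rintro ⟨k, hk⟩
        obtain ⟨hkQ, hka⟩ := (hmemK k).1 hk
        obtain ⟨x, hx, rfl⟩ := (h.mem k).1 hkQ
        exact ⟨⟨x, Finset.mem_filter.2 ⟨Finset.mem_range.2 hx, (hfix x hx).1 hka.symm⟩⟩, rfl⟩
    rw [← Nat.card_congr (Equiv.ofBijective _ hb), Nat.card_eq_fintype_card, Fintype.card_coe]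
    exact chk3a hs hok
  -- `[D, K] = 1`
  have hDK : ∀ d ∈ Q, d ∈ P → ∀ k ∈ K, k * d = d * k := by
    intro d hdQ hdP k hk
    obtain ⟨hkQ, hka⟩ := (hmemK k).1 hk
    rcases h.large.comm k hkQ d hdQ with h1 | h1
    · exact h1
    · exfalso
      apply hzP
      have h2 : k * d * k⁻¹ ∈ P := h'.large.conj_mem k hka d hdP
      have h3 : d⁻¹ * (k * d * k⁻¹) = z := by
        rw [h1]
        calc d⁻¹ * (d * k * z * k⁻¹) = k * z * k⁻¹ := by group
          _ = z := by rw [h.large.comm_z k hkQ]; group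
      rw [← h3]
      exact P.mul_mem (P.inv_mem hdP) h2
  have hDsq : ∀ d ∈ Q, d ∈ P → d * d = 1 := by
    intro d hdQ hdP
    rcases h.large.sq d hdQ with h1 | h1
    · exact h1
    · exfalso
      apply hzP
      rw [← h1]
      exact P.mul_mem hdP hdP
  constructor
  · obtain ⟨d, hdK, hdP, hd1⟩ := inter_ne_bot h' K hcardK (fun k hk => ((hmemK k).1 hk).2)
    exact ⟨d, ((hmemK d).1 hdK).1, hdP, hd1⟩
  · intro d hdQ hdP hd1
    obtain ⟨x, hx, hxd⟩ := (h.mem d).1 hdQ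
    have hda : d * a = a * d := h'.large.comm_z d hdP
    have hfx : ev (Ims s) x = x := (hfix x hx).1 (by rw [hxd]; exact hda.symm)
    have hxx : mulQ x x = 0 := (h.sq_iff hx).1 (by rw [hxd]; exact hDsq d hdQ hdP)
    have hne : x % 64 ≠ 0 := by
      intro h0
      rcases Nat.lt_or_ge x 64 with h1 | h1
      · have : x = 0 := by omega
        rw [this, h.E0] at hxd
        exact hd1 hxd.symm
      · have : x = 64 := by omega
        rw [this, h.E64] at hxd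
        exact hzP (by rw [hxd]; exact hdP)
    obtain ⟨h1, v, hv, h2⟩ := chk3b hs hok hx hfx hxx hne (by
      intro k hk hfk
      rw [← h.comm_iff hx hk, hxd]
      exact (hDK d hdQ hdP (E k) ((hmemK _).2 ⟨h.E_mem hk, ((hfix k hk).2 hfk).symm⟩)).symm)
    refine ⟨?_, ?_⟩
    · rw [← hxd, E_mem_EE h hx]; exact h1
    · rw [isConj_iff]
      refine ⟨E v, ?_⟩
      have h3 : a * E (invQ v) = E (ev (Ims s) (invQ v)) * a := hev _ (invQ_lt hv)
      have h4 : ev (Ims s) (invQ v) < 128 := by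
        apply ev_lt
        intro i hi
        have hb : ∀ b : Fin 64, ∀ e : Fin 2, b.1 ^^^ (e.1 * 64) < 128 := by decide +kernel
        have hh : ∀ (b : ℕ) (c : ℕ), b < 64 → b ^^^ (c % 2 * 64) < 128 := fun b c hb' =>
          hb ⟨b, hb'⟩ ⟨c % 2, Nat.mod_lt _ (by norm_num)⟩
        interval_cases i <;> exact hh _ _ (by norm_num)
      calc E v * a * (E v)⁻¹ = E v * (a * E (invQ v)) := by rw [h.inv hv, mul_assoc]
        _ = E v * E (ev (Ims s) (invQ v)) * a := by rw [h3, mul_assoc]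
        _ = d * a := by rw [h.mul v hv _ h4, h2, hxd]

/-- the same without the assumption on the mask action -/
theorem inter [Finite G] (h : Crd z Q E y w t T1) {g : G}
    (ha : (g * z * g⁻¹) * z = z * (g * z * g⁻¹)) (haQ : g * z * g⁻¹ ∉ Q)
    (hzP : z ∉ Q.map (MulAut.conj g).toMonoidHom) :
    (∃ d ∈ Q, d ∈ Q.map (MulAut.conj g).toMonoidHom ∧ d ≠ 1) ∧
    ∀ d ∈ Q, d ∈ Q.map (MulAut.conj g).toMonoidHom → d ≠ 1 →
      d ∈ EE h ∧ IsConj (g * z * g⁻¹) (d * (g * z * g⁻¹)) := by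
  obtain ⟨n, hn, hVA⟩ := exists_nf1 h ha
  have haa : g * z * g⁻¹ * (g * z * g⁻¹) = 1 := (h.large.conj g).z_sq
  have hinv : comp6 (nf1 n) (nf1 n) = I6 := ExtTwist.VA_inv h hVA hVA haa
  have hne : nf1 n ≠ I6 := h.ne_of_not_mem hVA (Or.inr rfl) ha haQ
  obtain ⟨m, hm, hcm⟩ := chkC hn hinv hne
  obtain ⟨c, hc, hcVA⟩ := exists_of_nf1 h m
  -- the action of `c a c⁻¹`
  have hcz' : c⁻¹ * z = z * c⁻¹ := by
    calc c⁻¹ * z = c⁻¹ * (z * c) * c⁻¹ := by group
      _ = c⁻¹ * (c * z) * c⁻¹ := by rw [hc]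
      _ = z * c⁻¹ := by group
  obtain ⟨m', hm', hcVA'⟩ := exists_nf1 h hcz'
  have e1 : (c * g) * z * (c * g)⁻¹ = c * (g * z * g⁻¹) * c⁻¹ := by group
  have hVAc : VA E ((c * g) * z * (c * g)⁻¹) T1 := by
    rw [e1]
    have h1 := VA.mul (VA.mul hcVA hVA) hcVA'
    rw [hcm] at h1
    apply VA.congr h1
    intro x
    rw [ap7_comp6, ap7_comp6, ← ap7_comp6 (nf1 m) (nf1 m')]
    have h2 : comp6 (nf1 m) (nf1 m') = I6 := ExtTwist.VA_inv h hcVA hcVA' (mul_inv_cancel c)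
    rw [h2]
    unfold ap7
    have h3 : ap I6 x = x % 64 := by
      rw [← ap_mod]; exact ap_I6 ⟨x % 64, Nat.mod_lt _ (by norm_num)⟩
    rw [h3]
    have h4 : ((x % 64) ^^^ (x / 64 % 2 * 64)) % 64 = x % 64 := xor_64_mod (Nat.mod_lt _ (by norm_num)) _
    have h5 : ((x % 64) ^^^ (x / 64 % 2 * 64)) / 64 % 2 = x / 64 % 2 :=
      xor_64_div (Nat.mod_lt _ (by norm_num)) _
    rw [h5, ← ap_mod T1 ((x % 64) ^^^ _), h4, ap_mod]
  have hac : ((c * g) * z * (c * g)⁻¹) * z = z * ((c * g) * z * (c * g)⁻¹) := by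
    rw [e1]
    calc c * (g * z * g⁻¹) * c⁻¹ * z = c * (g * z * g⁻¹) * (c⁻¹ * z) := by group
      _ = c * ((g * z * g⁻¹) * z) * c⁻¹ := by rw [hcz']; group
      _ = (c * z) * (g * z * g⁻¹) * c⁻¹ := by rw [ha]; group
      _ = z * (c * (g * z * g⁻¹) * c⁻¹) := by rw [hc]; group
  have hmem : ∀ d, d ∈ Q.map (MulAut.conj g).toMonoidHom ↔
      c * d * c⁻¹ ∈ Q.map (MulAut.conj (c * g)).toMonoidHom := by
    intro d
    constructor
    · rintro ⟨q, hq, rfl⟩
      refine ⟨q, hq, ?_⟩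
      show c * g * q * (c * g)⁻¹ = c * (g * q * g⁻¹) * c⁻¹
      group
    · rintro ⟨q, hq, hqd⟩
      refine ⟨q, hq, ?_⟩
      have h1 : c * g * q * (c * g)⁻¹ = c * d * c⁻¹ := hqd
      show g * q * g⁻¹ = d
      calc g * q * g⁻¹ = c⁻¹ * (c * g * q * (c * g)⁻¹) * c := by group
        _ = d := by rw [h1]; group
  have hczc : c * z * c⁻¹ = z := by rw [hc]; group
  have hzP' : z ∉ Q.map (MulAut.conj (c * g)).toMonoidHom := by
    intro h1
    rw [← hczc] at h1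
    exact hzP ((hmem z).2 h1)
  obtain ⟨⟨d, hdQ, hdP, hd1⟩, hall⟩ := inter_T1 h hac hVAc hzP'
  have hback : ∀ x, c * (c⁻¹ * x * c) * c⁻¹ = x := by intro x; group
  constructor
  · refine ⟨c⁻¹ * d * c, ?_, ?_, ?_⟩
    · have := h.large.conj_mem c⁻¹ hcz' d hdQ
      rwa [inv_inv] at this
    · rw [hmem, hback]; exact hdP
    · intro h1
      apply hd1
      rw [← hback d, h1]; group
  · intro d' hd'Q hd'P hd'1
    obtain ⟨h1, h2⟩ := hall (c * d' * c⁻¹) (h.large.conj_mem c hc d' hd'Q) ((hmem d').1 hd'P) (by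
      intro h1
      apply hd'1
      calc d' = c⁻¹ * (c * d' * c⁻¹) * c := by group
        _ = 1 := by rw [h1]; group)
    refine ⟨?_, ?_⟩
    · have h3 := conj_mem_EE h hcz' h1
      have h4 : c⁻¹ * (c * d' * c⁻¹) * c⁻¹⁻¹ = d' := by group
      rwa [h4] at h3
    · rw [e1] at h2
      have h5 : IsConj (g * z * g⁻¹) (c * (g * z * g⁻¹) * c⁻¹) := isConj_iff.2 ⟨c, rfl⟩
      have h6 : IsConj (c * d' * c⁻¹ * (c * (g * z * g⁻¹) * c⁻¹)) (d' * (g * z * g⁻¹)) :=
        isConj_iff.2 ⟨c⁻¹, by group⟩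
      exact (h5.trans h2).trans h6

/-- (3) -/
theorem mem_of_comm [Finite G] (h : Crd z Q E y w t T1) {g : G}
    (ha : (g * z * g⁻¹) * z = z * (g * z * g⁻¹)) : g * z * g⁻¹ ∈ Q := by
  by_contra haQ
  obtain ⟨a, hadef⟩ : ∃ a, a = g * z * g⁻¹ := ⟨_, rfl⟩
  obtain ⟨P, hP⟩ : ∃ P, P = Q.map (MulAut.conj g).toMonoidHom := ⟨_, rfl⟩
  have h' := h.conj g
  have hback : P.map (MulAut.conj g⁻¹).toMonoidHom = Q := by
    rw [hP, Subgroup.map_map]
    have : (MulAut.conj g⁻¹).toMonoidHom.comp (MulAut.conj g).toMonoidHom = MonoidHom.id G := by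
      ext q
      show g⁻¹ * (g * q * g⁻¹) * g⁻¹⁻¹ = q
      group
    rw [this, Subgroup.map_id]
  have hz' : g⁻¹ * (g * z * g⁻¹) * g⁻¹⁻¹ = z := by group
  have hne : a ≠ z := by
    intro h1
    apply haQ
    rw [← hadef, h1]; exact h.large.z_mem
  have hzP : z ∉ Q.map (MulAut.conj g).toMonoidHom := by
    intro hz
    have := (Cfsg.Agent.ClassificationK.LargeSymplectic.main h'.data (g := g⁻¹)
      (by rw [hz', ← hadef]; exact hne.symm) (by rw [hz']; exact hz)).1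
    rw [← hP, hback] at this
    exact haQ this
  obtain ⟨⟨d, hdQ, hdP, hd1⟩, hall⟩ := inter h ha haQ hzP
  have hd := hall d hdQ hdP hd1
  -- the symmetric statement
  have ha' : (g⁻¹ * (g * z * g⁻¹) * g⁻¹⁻¹) * (g * z * g⁻¹) =
      (g * z * g⁻¹) * (g⁻¹ * (g * z * g⁻¹) * g⁻¹⁻¹) := by rw [hz']; exact ha.symm
  have hd' := (inter h' ha' (by rw [hz']; exact hzP) (by rw [← hP, hback]; exact haQ)).2 d hdP
    (by rw [← hP, hback]; exact hdQ) hd1
  by_cases hB : ∃ k : G, k * z * k⁻¹ ∈ Q ∧ k * z * k⁻¹ ≠ z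
  · obtain ⟨k, hkQ, hkne⟩ := hB
    have h1 := isConj_of_mem_EE h hkQ hkne d hd.1 hd1
    obtain ⟨l, hl⟩ := isConj_iff.1 h1
    have h2 : (EE h).map (MulAut.conj l).toMonoidHom = EE h := map_EE h (by rw [hl]; exact hd.1)
    have h3 : (l * g⁻¹) * (g * z * g⁻¹) * (l * g⁻¹)⁻¹ = d := by rw [← hl]; group
    have h4 : (EE h').map (MulAut.conj (l * g⁻¹)).toMonoidHom = EE h' :=
      map_EE h' (by rw [h3]; exact hd'.1)
    have h5 : (EE h').map (MulAut.conj (l * g⁻¹)).toMonoidHom =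
        (EE h).map (MulAut.conj l).toMonoidHom := by
      rw [EE_conj h g, Subgroup.map_map]
      congr 1
      ext q
      show l * g⁻¹ * (g * q * g⁻¹) * (l * g⁻¹)⁻¹ = l * q * l⁻¹
      group
    apply haQ
    apply EE_le h
    rw [← h2, ← h5, h4]
    exact z_mem_EE h'
  · push Not at hB
    obtain ⟨l, hl⟩ := isConj_iff.1 ((isConj_iff.2 ⟨g, rfl⟩ : IsConj z (g * z * g⁻¹)).trans hd.2)
    -- `d * a` lies in `P`
    have h1 : d * (g * z * g⁻¹) ∈ Q.map (MulAut.conj g).toMonoidHom :=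
      Subgroup.mul_mem _ hdP h'.large.z_mem
    have h2 : g⁻¹ * (d * (g * z * g⁻¹)) * g ∈ Q := by
      rw [← hback, hP]
      refine ⟨_, h1, ?_⟩
      show g⁻¹ * _ * g⁻¹⁻¹ = _
      rw [inv_inv]
    have h3 : (g⁻¹ * l) * z * (g⁻¹ * l)⁻¹ = g⁻¹ * (d * (g * z * g⁻¹)) * g := by
      rw [← hl]; group
    have h4 := hB (g⁻¹ * l) (by rw [h3]; exact h2)
    rw [h3] at h4
    apply hd1
    have h5 : d * (g * z * g⁻¹) = g * z * g⁻¹ := by
      calc d * (g * z * g⁻¹) = g * (g⁻¹ * (d * (g * z * g⁻¹)) * g) * g⁻¹ := by group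
        _ = g * z * g⁻¹ := by rw [h4]
    exact mul_eq_right.1 h5

end Cfsg.Agent.Held.ExtCaseOne
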