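import Mathlib
import Cfsg.Agent.Held.AffineCaseZ

/-!
# A simple group with an isolated involution is abelian (S1659 from S1716)
-/

set_option autoImplicit false

namespace Cfsg.Agent.Held.ExtIsol

open Cfsg

/-- no isolated involutions in nonabelian simple groups -/
theorem not_isolated {G : Type*} [Group G] [Finite G] [IsSimpleGroup G]
    (hna : ∃ a b : G, a * b ≠ b * a) {z : G} (hz1 : z ≠ 1) (hzz : z * z = 1)
    (hiso : ∀ g : G, (g * z * g⁻¹) * z = z * (g * z * g⁻¹) → g * z * g⁻¹ = z) : False := by
  have hord : orderOf z = 2 := orderOf_eq_prime (by rw [pow_two]; exact hzz) hz1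
  have hv : IsIsolatedInvolution z := ⟨hord, fun g hg => hiso g hg.symm⟩
  have hcomm := AffineCaseZ.zstar G z hv
  have hf : Fact (Nat.Prime 2) := ⟨Nat.prime_two⟩
  have hzp : IsPGroup 2 (Subgroup.zpowers z) := by
    apply IsPGroup.of_card (n := 1)
    rw [Nat.card_zpowers, hord, pow_one]
  obtain ⟨P, hP⟩ := hzp.exists_le_sylow
  have hzP : z ∈ P := hP (Subgroup.mem_zpowers z)
  obtain ⟨N, hN, hodd, hNz⟩ := Cfsg.Agent.S0215.result P z hord hzP
    (fun g hg => Cfsg.Agent.S1180.eq_of_conj_mem_isPGroup z hv P P.isPGroup' hzP g hg)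
  have hcen : ∀ g : G, z * g = g * z := by
    rcases hN.eq_bot_or_eq_top with h1 | h1
    · intro g
      have h2 := hNz g
      rw [h1, Subgroup.mem_bot] at h2
      calc z * g = (z * g * z⁻¹ * g⁻¹) * g * z := by group
        _ = g * z := by rw [h2, one_mul]
    · exfalso
      rw [h1, Subgroup.card_top] at hodd
      have : 2 ∣ Nat.card G := by rw [← hord]; exact orderOf_dvd_natCard z
      exact (Nat.not_even_iff_odd.mpr hodd) (even_iff_two_dvd.mpr this)
  have hctop : Subgroup.center G = ⊤ := by
    rcases (inferInstance : (Subgroup.center G).Normal).eq_bot_or_eq_top with h1 | h1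
    · exfalso
      have : z ∈ Subgroup.center G := Subgroup.mem_center_iff.2 (fun g => (hcen g).symm)
      rw [h1, Subgroup.mem_bot] at this
      exact hz1 this
    · exact h1
  obtain ⟨a, b, hab⟩ := hna
  apply hab
  have : a ∈ Subgroup.center G := by rw [hctop]; trivial
  exact ((Subgroup.mem_center_iff.1 this) b).symm

end Cfsg.Agent.Held.ExtIsol
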