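import Mathlib
import Cfsg.Agent.TwoFusion.StronglyEmbeddedBasic

/-!
# The abstract TI lemma (S1659 from S1716, case `T1`)
-/

set_option autoImplicit false

namespace Cfsg.Agent.Held.ExtTI

open Subgroup

/-- Two involutions with product of even order. -/
theorem dihedral_even {G : Type*} [Group G] [Finite G] (a b : G) (ha : a * a = 1) (hb : b * b = 1)
    (hab : ¬ Odd (orderOf (a * b))) : ∃ s : G, s * s = 1 ∧ s ≠ 1 ∧ s * a = a * s ∧ s * b = b * s ∧
      ((IsConj a (a * s) ∧ IsConj b (b * s)) ∨ (IsConj b (a * s) ∧ IsConj a (b * s))) := by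
  rw [Nat.not_odd_iff_even] at hab
  obtain ⟨k, hk⟩ := hab
  have hpos : 0 < orderOf (a * b) := orderOf_pos _
  have hai : a⁻¹ = a := inv_eq_of_mul_eq_one_right ha
  have hbi : b⁻¹ = b := inv_eq_of_mul_eq_one_right hb
  set w := a * b with hw
  have hkpos : 0 < k := by omega
  have hzz : w ^ k * w ^ k = 1 := by rw [← pow_add, ← hk]; exact pow_orderOf_eq_one w
  have hz1 : w ^ k ≠ 1 := by
    intro h
    have := orderOf_dvd_of_pow_eq_one h
    have := Nat.le_of_dvd hkpos this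
    omega
  have hzi : (w ^ k)⁻¹ = w ^ k := inv_eq_of_mul_eq_one_right hzz
  have hwi : w⁻¹ = b * a := by rw [hw, _root_.mul_inv_rev, hai, hbi]
  -- `a wⁿ = w⁻ⁿ a`, `b wⁿ = w⁻ⁿ b`
  have haw : ∀ n : ℕ, a * w ^ n = (w ^ n)⁻¹ * a := by
    intro n
    have h1 : SemiconjBy a w w⁻¹ := by
      show a * w = w⁻¹ * a
      rw [hwi, hw, ← mul_assoc, ha, mul_assoc, ha, one_mul, mul_one]
    have h2 := h1.pow_right n
    rw [inv_pow] at h2
    exact h2
  have hbw : ∀ n : ℕ, b * w ^ n = (w ^ n)⁻¹ * b := by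
    intro n
    have h1 : SemiconjBy b w w⁻¹ := by
      show b * w = w⁻¹ * b
      rw [hwi, hw, ← mul_assoc]
    have h2 := h1.pow_right n
    rw [inv_pow] at h2
    exact h2
  refine ⟨w ^ k, hzz, hz1, ?_, ?_, ?_⟩
  · rw [haw, hzi]
  · rw [hbw, hzi]
  · rcases Nat.even_or_odd k with ⟨j, hj⟩ | ⟨j, hj⟩
    · left
      constructor
      · rw [isConj_iff]
        refine ⟨(w ^ j)⁻¹, ?_⟩
        rw [inv_inv, ← haw, mul_assoc, ← pow_add, ← hj]
      · rw [isConj_iff]
        refine ⟨(w ^ j)⁻¹, ?_⟩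
        rw [inv_inv, ← hbw, mul_assoc, ← pow_add, ← hj]
    · right
      constructor
      · rw [isConj_iff]
        refine ⟨(w ^ j)⁻¹, ?_⟩
        have e1 : a * w ^ k = (a * w ^ j) * w * w ^ j := by
          rw [mul_assoc, mul_assoc, ← pow_succ', ← pow_add]
          congr 2; omega
        rw [inv_inv, e1, haw]
        have e2 : a * w = b := by rw [hw, ← mul_assoc, ha, one_mul]
        rw [mul_assoc (w ^ j)⁻¹ a w, e2]
      · rw [isConj_iff]
        refine ⟨(w ^ (j + 1))⁻¹, ?_⟩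
        have e2 : a * w = b := by rw [hw, ← mul_assoc, ha, one_mul]
        rw [inv_inv, ← haw, mul_assoc, ← pow_add, show j + 1 + (j + 1) = k + 1 by omega, pow_succ',
          ← mul_assoc, e2]

section main

variable {G : Type*} [Group G] [Finite G]

/-- the conjugate subgroup -/
def T (A : Subgroup G) (g : G) : Subgroup G := A.map (MulAut.conj g).toMonoidHom

omit [Finite G] in
theorem mem_T {A : Subgroup G} {g x : G} : x ∈ T A g ↔ g⁻¹ * x * g ∈ A := by
  constructor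
  · rintro ⟨a, ha, rfl⟩
    have : g⁻¹ * (g * a * g⁻¹) * g = a := by group
    show g⁻¹ * (g * a * g⁻¹) * g ∈ A
    rwa [this]
  · intro h
    refine ⟨_, h, ?_⟩
    show g * (g⁻¹ * x * g) * g⁻¹ = x
    group

omit [Finite G] in
theorem T_mul (A : Subgroup G) (g h : G) : T A (g * h) = T (T A h) g := by
  ext x
  rw [mem_T, mem_T, mem_T]
  have : (g * h)⁻¹ * x * (g * h) = h⁻¹ * (g⁻¹ * x * g) * h := by group
  rw [this]

omit [Finite G] in
theorem T_inj {A B : Subgroup G} {g : G} (h : T A g = T B g) : A = B := by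
  ext x
  have h1 : g * x * g⁻¹ ∈ T A g ↔ g * x * g⁻¹ ∈ T B g := by rw [h]
  rw [mem_T, mem_T] at h1
  have e : g⁻¹ * (g * x * g⁻¹) * g = x := by group
  rwa [e] at h1

/-- the hypotheses -/
structure Hy (z : G) (A Q : Subgroup G) : Prop where
  hz1 : z ≠ 1
  hzz : z * z = 1
  hzA : z ∈ A
  hAQ : A ≤ Q
  hsq : ∀ x ∈ A, x * x = 1
  hcard : Nat.card A = 16
  hconj : ∀ x ∈ A, x ≠ 1 → IsConj z x
  hnorm : ∀ g, g * z * g⁻¹ ∈ A → T A g = A
  hC : ∀ x, IsConj z x → x * z = z * x → x ∈ A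
  hcomm : ∀ u ∈ Q, ∀ a ∈ A, u * a * u⁻¹ = a ∨ u * a * u⁻¹ = a * z
  hself : ∀ u ∈ Q, (∀ a ∈ A, u * a = a * u) → u ∈ A

namespace Hy

variable {z : G} {A Q : Subgroup G} (h : Hy z A Q)

include h

omit [Finite G] in
theorem T_eq {g g' : G} (hx : g' * z * g'⁻¹ ∈ T A g) : T A g' = T A g := by
  rw [mem_T] at hx
  have h1 := h.hnorm (g⁻¹ * g') (by
    have : g⁻¹ * g' * z * (g⁻¹ * g')⁻¹ = g⁻¹ * (g' * z * g'⁻¹) * g := by group
    rwa [this])
  have h2 : T A (g * (g⁻¹ * g')) = T A g := by rw [T_mul, h1]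
  rwa [mul_inv_cancel_left] at h2

omit [Finite G] in
theorem mem_T_self (g : G) : g * z * g⁻¹ ∈ T A g := by
  rw [mem_T]
  have : g⁻¹ * (g * z * g⁻¹) * g = z := by group
  rw [this]; exact h.hzA

omit [Finite G] in
theorem conj_T {g x : G} (hx : x ∈ T A g) (h1 : x ≠ 1) : IsConj z x := by
  rw [mem_T] at hx
  have h2 := h.hconj _ hx (by
    intro e
    apply h1
    calc x = g * (g⁻¹ * x * g) * g⁻¹ := by group
      _ = 1 := by rw [e]; group)
  refine h2.trans ?_
  rw [isConj_iff]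
  exact ⟨g, by group⟩

omit [Finite G] in
/-- TI -/
theorem ti {g g' x : G} (h1 : x ∈ T A g) (h2 : x ∈ T A g') (hx : x ≠ 1) : T A g = T A g' := by
  obtain ⟨k, hk⟩ := isConj_iff.1 (h.conj_T h1 hx)
  rw [← hk] at h1 h2
  rw [← h.T_eq h1, h.T_eq h2]

omit [Finite G] in
theorem hC' {g x : G} (hx : IsConj z x) (hc : x * (g * z * g⁻¹) = (g * z * g⁻¹) * x) :
    x ∈ T A g := by
  rw [mem_T]
  apply h.hC
  · refine hx.trans ?_
    rw [isConj_iff]
    exact ⟨g⁻¹, by group⟩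
  · calc g⁻¹ * x * g * z = g⁻¹ * (x * (g * z * g⁻¹)) * g := by group
      _ = g⁻¹ * ((g * z * g⁻¹) * x) * g := by rw [hc]
      _ = z * (g⁻¹ * x * g) := by group

omit [Finite G] in
theorem conj_sq (g : G) : (g * z * g⁻¹) * (g * z * g⁻¹) = 1 := by
  calc (g * z * g⁻¹) * (g * z * g⁻¹) = g * (z * z) * g⁻¹ := by group
    _ = 1 := by rw [h.hzz]; group

/-- (i) -/
theorem odd_mul {g g' : G} (hT : T A g ≠ T A g') : Odd (orderOf ((g * z * g⁻¹) * (g' * z * g'⁻¹))) := by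
  by_contra hodd
  obtain ⟨s, -, hs1, hsa, hsb, hcj⟩ := dihedral_even _ _ (h.conj_sq g) (h.conj_sq g') hodd
  have ha : IsConj z (g * z * g⁻¹) := isConj_iff.2 ⟨g, rfl⟩
  have hb : IsConj z (g' * z * g'⁻¹) := isConj_iff.2 ⟨g', rfl⟩
  have hac : IsConj z (g * z * g⁻¹ * s) ∧ IsConj z (g' * z * g'⁻¹ * s) := by
    rcases hcj with ⟨h1, h2⟩ | ⟨h1, h2⟩
    · exact ⟨ha.trans h1, hb.trans h2⟩
    · exact ⟨hb.trans h1, ha.trans h2⟩
  have m1 : g * z * g⁻¹ * s ∈ T A g := h.hC' hac.1 (by rw [mul_assoc, hsa, mul_assoc])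
  have m2 : g' * z * g'⁻¹ * s ∈ T A g' := h.hC' hac.2 (by rw [mul_assoc, hsb, mul_assoc])
  have n1 : s ∈ T A g := ((T A g).mul_mem_cancel_left (h.mem_T_self g)).1 m1
  have n2 : s ∈ T A g' := ((T A g').mul_mem_cancel_left (h.mem_T_self g')).1 m2
  exact hT (h.ti n1 n2 hs1)

omit [Finite G] in
theorem comm_A {x y : G} (hx : x ∈ A) (hy : y ∈ A) : x * y = y * x := by
  have h3 := h.hsq _ (A.mul_mem hx hy)
  have h4 : x⁻¹ = x := inv_eq_of_mul_eq_one_right (h.hsq x hx)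
  have h5 : y⁻¹ = y := inv_eq_of_mul_eq_one_right (h.hsq y hy)
  have h6 : x * y = (x * y)⁻¹ := (inv_eq_of_mul_eq_one_right h3).symm
  rw [h6, _root_.mul_inv_rev, h4, h5]

omit [Finite G] in
theorem zQ {v : G} (hv : v ∈ Q) : v * z = z * v := by
  rcases h.hcomm v hv z h.hzA with h1 | h1
  · rw [mul_inv_eq_iff_eq_mul] at h1; exact h1
  · rw [h.hzz] at h1
    exfalso
    apply h.hz1
    calc z = v⁻¹ * (v * z * v⁻¹) * v := by group
      _ = 1 := by rw [h1]; group

/-- at least two nontrivial fixed points in a normalised conjugate -/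
theorem exists_two {v g : G} (hv2 : v * v = 1) (hn : ∀ x ∈ T A g, v * x * v⁻¹ ∈ T A g) :
    ∃ c c' : G, c ∈ T A g ∧ c' ∈ T A g ∧ c ≠ 1 ∧ c' ≠ 1 ∧ c ≠ c' ∧ v * c = c * v ∧ v * c' = c' * v := by
  have hcomm : ∀ x ∈ T A g, ∀ y ∈ T A g, x * y = y * x := by
    intro x hx y hy
    rw [mem_T] at hx hy
    have := h.comm_A hx hy
    calc x * y = g * ((g⁻¹ * x * g) * (g⁻¹ * y * g)) * g⁻¹ := by group
      _ = g * ((g⁻¹ * y * g) * (g⁻¹ * x * g)) * g⁻¹ := by rw [this]
      _ = y * x := by group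
  have hsq : ∀ x ∈ T A g, x * x = 1 := by
    intro x hx
    rw [mem_T] at hx
    calc x * x = g * ((g⁻¹ * x * g) * (g⁻¹ * x * g)) * g⁻¹ := by group
      _ = 1 := by rw [h.hsq _ hx]; group
  have hcard : Nat.card (T A g) = 16 := by
    rw [← h.hcard]
    exact (Nat.card_congr (A.equivMapOfInjective (MulAut.conj g).toMonoidHom
      (MulAut.conj g).injective).toEquiv).symm
  have hvi : v⁻¹ = v := inv_eq_of_mul_eq_one_right hv2
  let φ : T A g →* T A g :=
    { toFun := fun x => ⟨(x : G) * (v * x * v⁻¹), (T A g).mul_mem x.2 (hn x x.2)⟩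
      map_one' := by
        apply Subtype.ext
        show (1 : G) * (v * 1 * v⁻¹) = 1
        group
      map_mul' := by
        rintro ⟨x, hx⟩ ⟨y, hy⟩
        apply Subtype.ext
        show x * y * (v * (x * y) * v⁻¹) = x * (v * x * v⁻¹) * (y * (v * y * v⁻¹))
        have h1 := hcomm y hy (v * x * v⁻¹) (hn x hx)
        calc x * y * (v * (x * y) * v⁻¹) = x * (y * (v * x * v⁻¹)) * (v * y * v⁻¹) := by group
          _ = x * ((v * x * v⁻¹) * y) * (v * y * v⁻¹) := by rw [h1]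
          _ = _ := by group }
  have hker : ∀ x : T A g, x ∈ φ.ker → v * x = x * v := by
    intro x hx
    have h1 : (x : G) * (v * x * v⁻¹) = 1 := congrArg Subtype.val (MonoidHom.mem_ker.1 hx)
    have h2 : v * (x : G) * v⁻¹ = x := by
      have h3 := eq_inv_of_mul_eq_one_right h1
      rw [h3]
      exact inv_eq_of_mul_eq_one_right (hsq x x.2)
    rw [mul_inv_eq_iff_eq_mul] at h2
    exact h2
  have hrk : φ.range ≤ φ.ker := by
    rintro _ ⟨x, rfl⟩
    rw [MonoidHom.mem_ker]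
    apply Subtype.ext
    show (x : G) * (v * x * v⁻¹) * (v * ((x : G) * (v * x * v⁻¹)) * v⁻¹) = 1
    have h1 : v * ((x : G) * (v * x * v⁻¹)) * v⁻¹ = (v * x * v⁻¹) * x := by
      calc v * ((x : G) * (v * x * v⁻¹)) * v⁻¹ = (v * x * v⁻¹) * ((v * v) * x * (v * v)⁻¹) := by group
        _ = _ := by rw [hv2]; group
    rw [h1, ← hcomm x x.2 (v * x * v⁻¹) (hn x x.2)]
    exact hsq _ ((T A g).mul_mem x.2 (hn x x.2))
  have hc1 : Nat.card (T A g) = Nat.card φ.range * Nat.card φ.ker := by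
    rw [Subgroup.card_eq_card_quotient_mul_card_subgroup φ.ker,
      Nat.card_congr (QuotientGroup.quotientKerEquivRange φ).toEquiv]
  have hc2 : Nat.card φ.range ≤ Nat.card φ.ker := Subgroup.card_le_of_le hrk
  have hc3 : 4 ≤ Nat.card φ.ker := by
    by_contra hcon
    have h1 : Nat.card φ.ker ≤ 3 := by omega
    have h2 := Nat.mul_le_mul (hc2.trans h1) h1
    omega
  have hfin : Finite φ.ker := inferInstance
  obtain ⟨c, hc, hc'⟩ := Set.exists_mem_notMem_of_ncard_lt_ncard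
    (s := {(1 : T A g)}) (t := (φ.ker : Set (T A g))) (by
      rw [Set.ncard_singleton, ← Nat.card_coe_set_eq]
      show 1 < Nat.card φ.ker
      omega)
  obtain ⟨d, hd, hd'⟩ := Set.exists_mem_notMem_of_ncard_lt_ncard
    (s := {(1 : T A g), c}) (t := (φ.ker : Set (T A g))) (by
      refine lt_of_le_of_lt (Set.ncard_insert_le _ _) ?_
      rw [Set.ncard_singleton, ← Nat.card_coe_set_eq]
      show 1 + 1 < Nat.card φ.ker
      omega)
  simp only [Set.mem_singleton_iff] at hc'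
  simp only [Set.mem_insert_iff, Set.mem_singleton_iff, not_or] at hd'
  exact ⟨c, d, c.2, d.2, fun e => hc' (Subtype.ext e), fun e => hd'.1 (Subtype.ext e),
    fun e => hd'.2 (Subtype.ext e.symm), hker c hc, hker d hd⟩

/-- the element `v` acts on the conjugate with values in `{x, x c}` -/
theorem act_c {v g c : G} (hv : v ∈ Q) (hT : T A g ≠ A) (hc : c ∈ T A g) (hc1 : c ≠ 1)
    (hvc : v * c = c * v) : ∃ r : G, v * r = r * v ∧ T A r = T A g ∧ r * z * r⁻¹ = c := by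
  obtain ⟨k, hk⟩ := isConj_iff.1 (h.conj_T hc hc1)
  have hTk : T A k = T A g := h.T_eq (by rw [hk]; exact hc)
  have hT1 : T A (1 : G) = A := h.hnorm 1 (by simpa using h.hzA)
  have hodd := h.odd_mul (g := 1) (g' := k) (by rw [hT1, hTk]; exact fun e => hT e.symm)
  rw [hk] at hodd
  have e1 : (1 : G) * z * (1 : G)⁻¹ = z := by group
  rw [e1] at hodd
  have oz : orderOf z = 2 := orderOf_eq_prime (by rw [pow_two, h.hzz]) h.hz1
  have oc : orderOf c = 2 := orderOf_eq_prime (by rw [pow_two, ← hk, h.conj_sq]) hc1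
  obtain ⟨r, hr, -, hr1, -⟩ :=
    Cfsg.Agent.TwoFusion.StronglyEmbeddedBasic.exists_swap z c oz oc hodd
  refine ⟨r, ?_, ?_, hr1⟩
  · have : closure ({z, c} : Set G) ≤ centralizer {v} := by
      rw [closure_le]
      rintro x (rfl | rfl)
      · exact mem_centralizer_singleton_iff.2 (h.zQ hv).symm
      · exact mem_centralizer_singleton_iff.2 hvc.symm
    exact (mem_centralizer_singleton_iff.1 (this hr)).symm
  · exact h.T_eq (by rw [hr1]; exact hc)

/-- (ii) -/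
theorem not_normalizes {v g : G} (hv : v ∈ Q) (hv2 : v * v = 1) (hvA : v ∉ A) (hT : T A g ≠ A)
    (hn : ∀ x ∈ T A g, v * x * v⁻¹ ∈ T A g) : False := by
  obtain ⟨c, c', hc, hc', hc1, hc1', hne, hvc, hvc'⟩ := h.exists_two hv2 hn
  obtain ⟨r, hr, hrT, hrz⟩ := h.act_c hv hT hc hc1 hvc
  obtain ⟨r', hr', hrT', hrz'⟩ := h.act_c hv hT hc' hc1' hvc'
  -- `v x v⁻¹ ∈ {x, x c}`
  have key : ∀ {r c : G}, v * r = r * v → T A r = T A g → r * z * r⁻¹ = c → ∀ x ∈ T A g,
      v * x * v⁻¹ = x ∨ v * x * v⁻¹ = x * c := by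
    intro r c hr hrT hrz x hx
    rw [← hrT, mem_T] at hx
    have e1 : v * x * v⁻¹ = r * (v * (r⁻¹ * x * r) * v⁻¹) * r⁻¹ := by
      have e2 : r * v = v * r := hr.symm
      have e3 : v⁻¹ * r⁻¹ = r⁻¹ * v⁻¹ := by
        rw [← _root_.mul_inv_rev, ← _root_.mul_inv_rev, hr]
      calc v * x * v⁻¹ = (v * r) * (r⁻¹ * x * r) * (r⁻¹ * v⁻¹) := by group
        _ = (r * v) * (r⁻¹ * x * r) * (v⁻¹ * r⁻¹) := by rw [hr, e3]
        _ = _ := by group
    rcases h.hcomm v hv _ hx with h1 | h1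
    · left; rw [e1, h1]; group
    · right; rw [e1, h1, ← hrz]; group
  have hcent : ∀ x ∈ T A g, v * x * v⁻¹ = x := by
    intro x hx
    rcases key hr hrT hrz x hx with h1 | h1
    · exact h1
    · rcases key hr' hrT' hrz' x hx with h2 | h2
      · exact h2
      · exfalso
        rw [h1] at h2
        exact hne (mul_left_cancel h2)
  apply hvA
  apply h.hself v hv
  intro a ha
  have h1 : r * a * r⁻¹ ∈ T A g := by
    rw [← hrT, mem_T]
    have : r⁻¹ * (r * a * r⁻¹) * r = a := by group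
    rwa [this]
  have h2 := hcent _ h1
  have e3 : r⁻¹ * v = v * r⁻¹ := by
    rw [inv_mul_eq_iff_eq_mul, ← mul_assoc, ← hr, mul_assoc, mul_inv_cancel, mul_one]
  calc v * a = v * (r⁻¹ * (r * a * r⁻¹) * r) := by group
    _ = (v * r⁻¹) * (r * a * r⁻¹) * r := by group
    _ = (r⁻¹ * v) * (r * a * r⁻¹) * r := by rw [e3]
    _ = r⁻¹ * (v * (r * a * r⁻¹) * v⁻¹) * (v * r) := by group
    _ = r⁻¹ * (r * a * r⁻¹) * (r * v) := by rw [h2, hr]
    _ = a * v := by group

omit [Finite G] in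
/-- an element commuting with a conjugate `s` of `z` in `T g` normalises `T g` -/
theorem normalizes_of_comm {v g s : G} (hs : s ∈ T A g) (hs1 : s ≠ 1) (hc : v * s = s * v) :
    ∀ x ∈ T A g, v * x * v⁻¹ ∈ T A g := by
  obtain ⟨k, hk⟩ := isConj_iff.1 (h.conj_T hs hs1)
  have hTk : T A k = T A g := h.T_eq (by rw [hk]; exact hs)
  have e1 : v * k * z * (v * k)⁻¹ = s := by
    calc v * k * z * (v * k)⁻¹ = v * (k * z * k⁻¹) * v⁻¹ := by group
      _ = s := by rw [hk, hc]; group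
  have h1 : T A (v * k) = T A g := h.T_eq (by rw [e1]; exact hs)
  intro x hx
  rw [← h1, T_mul, mem_T, hTk]
  have : v⁻¹ * (v * x * v⁻¹) * v = x := by group
  rwa [this]

/-- (iii) -/
theorem all_mem {u : G} (hu : u ∈ Q) (hu2 : u * u = 1) (huA : u ∉ A) (g : G) :
    g * z * g⁻¹ ∈ A := by
  by_contra hb
  have hT : T A g ≠ A := fun e => hb (by rw [← e]; exact h.mem_T_self g)
  have hbz : IsConj z (g * z * g⁻¹) := isConj_iff.2 ⟨g, rfl⟩
  have hu1 : u ≠ 1 := fun e => huA (e ▸ A.one_mem)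
  have hb1 : g * z * g⁻¹ ≠ 1 := by
    intro e
    apply h.hz1
    calc z = g⁻¹ * (g * z * g⁻¹) * g := by group
      _ = 1 := by rw [e]; group
  by_cases hodd : Odd (orderOf (u * (g * z * g⁻¹)))
  · have ou : orderOf u = 2 := orderOf_eq_prime (by rw [pow_two, hu2]) hu1
    have ob : orderOf (g * z * g⁻¹) = 2 := orderOf_eq_prime (by rw [pow_two, h.conj_sq]) hb1
    obtain ⟨r, -, -, hr1, -⟩ :=
      Cfsg.Agent.TwoFusion.StronglyEmbeddedBasic.exists_swap u _ ou ob hodd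
    have h1 : IsConj u (g * z * g⁻¹) := isConj_iff.2 ⟨r, hr1⟩
    exact huA (h.hC u (hbz.trans h1.symm) (h.zQ hu))
  · obtain ⟨s, hs2, hs1, hsu, hsb, hcj⟩ := dihedral_even _ _ hu2 (h.conj_sq g) hodd
    rcases hcj with ⟨-, h2⟩ | ⟨h1, -⟩
    · have m1 : g * z * g⁻¹ * s ∈ T A g :=
        h.hC' (hbz.trans h2) (by rw [mul_assoc, hsb, mul_assoc])
      have n1 : s ∈ T A g := ((T A g).mul_mem_cancel_left (h.mem_T_self g)).1 m1
      exact h.not_normalizes hu hu2 huA hT (h.normalizes_of_comm n1 hs1 hsu.symm)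
    · -- `u s ~ b`
      have h3 : IsConj z (u * s) := hbz.trans h1
      obtain ⟨k, hk⟩ := isConj_iff.1 h3
      have hus1 : u * s ≠ 1 := by
        intro e
        apply h.hz1
        calc z = k⁻¹ * (k * z * k⁻¹) * k := by group
          _ = 1 := by rw [hk, e]; group
      have m1 : u * s ∈ T A k := by rw [← hk]; exact h.mem_T_self k
      have hTk : T A k = A := by
        by_contra hne
        exact h.not_normalizes hu hu2 huA hne
          (h.normalizes_of_comm m1 hus1 (by rw [mul_assoc, hsu]))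
      rw [hTk] at m1
      have hsQ : s ∈ Q := (Q.mul_mem_cancel_left hu).1 (h.hAQ m1)
      have hsA : s ∉ A := fun hs => huA ((A.mul_mem_cancel_right hs).1 m1)
      exact h.not_normalizes hsQ hs2 hsA hT
        (h.normalizes_of_comm (h.mem_T_self g) hb1 hsb)

end Hy

end main

/-- The abstract TI lemma. -/
theorem ti_case {G : Type*} [Group G] [Finite G] [IsSimpleGroup G] (hna : ∃ a b : G, a * b ≠ b * a)
    (z : G) (A Q : Subgroup G) (hz1 : z ≠ 1) (hzz : z * z = 1) (hzA : z ∈ A) (hAQ : A ≤ Q)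
    (hsq : ∀ x ∈ A, x * x = 1) (hcard : Nat.card A = 16) (hconj : ∀ x ∈ A, x ≠ 1 → IsConj z x)
    (hnorm : ∀ g, g * z * g⁻¹ ∈ A → A.map (MulAut.conj g).toMonoidHom = A)
    (hC : ∀ x, IsConj z x → x * z = z * x → x ∈ A)
    (hcomm : ∀ u ∈ Q, ∀ a ∈ A, u * a * u⁻¹ = a ∨ u * a * u⁻¹ = a * z)
    (hself : ∀ u ∈ Q, (∀ a ∈ A, u * a = a * u) → u ∈ A)
    (u : G) (hu : u ∈ Q) (hu2 : u * u = 1) (huA : u ∉ A) : False := by
  have h : Hy z A Q := ⟨hz1, hzz, hzA, hAQ, hsq, hcard, hconj, hnorm, hC, hcomm, hself⟩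
  have hall := h.all_mem hu hu2 huA
  have hle : normalClosure ({z} : Set G) ≤ A := by
    rw [normalClosure, closure_le]
    intro x hx
    obtain ⟨a, ha, hax⟩ := Group.mem_conjugatesOfSet_iff.1 hx
    rw [Set.mem_singleton_iff.1 ha] at hax
    obtain ⟨g, rfl⟩ := isConj_iff.1 hax
    exact hall g
  have hne : normalClosure ({z} : Set G) ≠ ⊥ := by
    intro e
    have : z ∈ normalClosure ({z} : Set G) := subset_normalClosure rfl
    rw [e, mem_bot] at this
    exact hz1 this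
  have htop := (Subgroup.Normal.eq_bot_or_eq_top
    (inferInstance : (normalClosure ({z} : Set G)).Normal)).resolve_left hne
  obtain ⟨a, b, hab⟩ := hna
  have ha : a ∈ A := hle (htop ▸ mem_top a)
  have hb : b ∈ A := hle (htop ▸ mem_top b)
  exact hab (h.comm_A ha hb)

end Cfsg.Agent.Held.ExtTI
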