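import Mathlib
import Cfsg.Agent.Held.ExtCaseOneB
import Cfsg.Agent.Held.ExtIsol
import Cfsg.Agent.Held.ExtTI

/-!
# Case `T1` does not occur in simple groups (S1659 from S1716, part P2)
-/

set_option autoImplicit false

namespace Cfsg.Agent.Held.ExtCaseOne

open Cfsg.Agent.Held.Ext

/-- the case in which only one of the two maximal totally singular subspaces is invariant does not occur -/
theorem case_one {G : Type*} [Group G] [Finite G] [IsSimpleGroup G]
    (hna : ∃ a b : G, a * b ≠ b * a) {z : G} {Q : Subgroup G} {E : ℕ → G} {y w t : G}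
    (h : Crd z Q E y w t T1) : False := by
  by_cases hB : ∃ k : G, k * z * k⁻¹ ∈ Q ∧ k * z * k⁻¹ ≠ z
  · obtain ⟨k, hkQ, hkne⟩ := hB
    have h8 : mulQ 8 8 = 0 := by decide
    refine ExtTI.ti_case hna z (EE h) Q h.large.z_ne h.large.z_sq (z_mem_EE h) (EE_le h) (EE_sq h)
      (card_EE h) (isConj_of_mem_EE h hkQ hkne) (fun g hg => map_EE h hg) ?_ ?_ ?_ (E 8)
      (h.E_mem (by norm_num)) ((h.sq_iff (by norm_num)).2 h8) ?_
    · intro x hx hxz
      obtain ⟨g, rfl⟩ := isConj_iff.1 hx
      exact conj_mem_EE_of_mem h (mem_of_comm h hxz)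
    · intro u hu a ha
      rcases h.large.comm u hu a (EE_le h ha) with h1 | h1
      · left; rw [h1]; group
      · right
        have h2 : z * u⁻¹ = u⁻¹ * z := (h.large.comm_z _ (Q.inv_mem hu)).symm
        rw [h1, mul_assoc, h2]; group
    · intro u hu hcom
      obtain ⟨x, hx, rfl⟩ := (h.mem u).1 hu
      rw [E_mem_EE h hx]
      by_contra hge
      obtain ⟨v, hv⟩ := chk_self ⟨x, hx⟩ (by show 8 ≤ x % 64; omega)
      apply hv
      have hv128 : v.1 < 128 := by have := v.2; omega
      rw [← h.comm_iff hv128 hx]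
      exact (hcom (E v.1) ((E_mem_EE h hv128).2 (by have := v.2; omega))).symm
    · rw [E_mem_EE h (by norm_num)]
      norm_num
  · push Not at hB
    exact ExtIsol.not_isolated hna h.large.z_ne h.large.z_sq
      (fun g hg => hB g (mem_of_comm h hg))

end Cfsg.Agent.Held.ExtCaseOne
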