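import Mathlib
import Cfsg.Agent.Held.ExtCrd
import Cfsg.Agent.SporadicRecognition.HeldHyp
import Cfsg.Agent.Held.HeldCardLe

/-!
# The split case of `2₊^(1+6).L₃(2)`: the centralizer is the model (S1659 from S1716, part P4)
-/

set_option autoImplicit false

namespace Cfsg.Agent.Held.ExtIso

open Matrix Cfsg.Agent.Held.Ext Cfsg.Agent.SporadicRecognition.HeldModel Cfsg.Agent.Lib.F2Mat

/-- The relations between the coordinates. -/
structure Rel {K : Type*} [Group K] (E : ℕ → K) (y w t : K) : Prop where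
  mul : ∀ a < 128, ∀ b < 128, E a * E b = E (mulQ a b)
  E0 : E 0 = 1
  y7 : y ^ 7 = 1
  w3 : w ^ 3 = 1
  t2 : t * t = 1
  wy : w * y = y ^ 2 * w
  tw : t * w = w ^ 2 * t
  ty : t * y * t = y ^ 6 * t * y ^ 6
  yE : ∀ a < 128, y * E a = E (ap7 Y6 a) * y
  wE : ∀ a < 128, w * E a = E (ap7 W6 a) * w
  tE : ∀ a < 128, t * E a = E (ap7 T0 a) * t

namespace Rel

variable {K : Type*} [Group K] {E : ℕ → K} {y w t : K} (h : Rel E y w t)

include h

theorem ypow (n : ℕ) : y ^ n = y ^ (n % 7) := by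
  conv_lhs => rw [← Nat.div_add_mod n 7, pow_add, pow_mul, h.y7, one_pow, one_mul]

theorem wpow (n : ℕ) : w ^ n = w ^ (n % 3) := by
  conv_lhs => rw [← Nat.div_add_mod n 3, pow_add, pow_mul, h.w3, one_pow, one_mul]

theorem wyn (n : ℕ) : w * y ^ n = y ^ (2 * n) * w := by
  induction n with
  | zero => simp
  | succ n ih =>
    rw [pow_succ, ← mul_assoc, ih, mul_assoc, h.wy, ← mul_assoc, ← pow_add]
    congr 1

theorem wnyn (k n : ℕ) : w ^ k * y ^ n = y ^ (2 ^ k * n) * w ^ k := by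
  induction k generalizing n with
  | zero => simp
  | succ k ih =>
    rw [pow_succ, mul_assoc, h.wyn, ← mul_assoc, ih, mul_assoc, ← pow_succ]
    congr 2
    ring

/-- `y^n w = w y^(4n)` -/
theorem ynw (n : ℕ) : y ^ n * w = w * y ^ (4 * n) := by
  rw [h.wyn, h.ypow n, h.ypow (2 * (4 * n))]
  congr 2
  omega

theorem ynwn (k n : ℕ) : y ^ n * w ^ k = w ^ k * y ^ (4 ^ k * n) := by
  induction k generalizing n with
  | zero => simp
  | succ k ih =>
    rw [pow_succ, ← mul_assoc, ih, mul_assoc, h.ynw, ← mul_assoc]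
    congr 2
    ring

theorem twn (k : ℕ) : t * w ^ k = w ^ (2 * k) * t := by
  induction k with
  | zero => simp
  | succ k ih =>
    rw [pow_succ, ← mul_assoc, ih, mul_assoc, h.tw, ← mul_assoc, ← pow_add]
    congr 1

theorem tt (x : K) : t * (t * x) = x := by rw [← mul_assoc, h.t2, one_mul]

theorem wnt (k : ℕ) : w ^ k * t = t * w ^ (2 * k) := by
  rw [h.twn, h.wpow k, h.wpow (2 * (2 * k))]
  congr 2
  omega

theorem T1 : t * y ^ 1 * t = y ^ 6 * w ^ 0 * t * y ^ 6 := by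
  rw [pow_one, pow_zero, mul_one]; exact h.ty

/-- conjugation of a relation by `w` -/
theorem step {i α β γ : ℕ} (hi : t * y ^ i * t = y ^ α * w ^ β * t * y ^ γ) :
    t * y ^ (4 * i) * t = y ^ (2 * α) * w ^ (β + 2) * t * y ^ (2 * γ) := by
  have e1 : w * (t * y ^ i * t) * w ^ 2 = t * y ^ (4 * i) * t := by
    calc w * (t * y ^ i * t) * w ^ 2 = (w ^ 1 * t) * y ^ i * (t * w ^ 2) := by
          rw [pow_one]; simp only [mul_assoc]
      _ = (t * w ^ 2) * y ^ i * (t * w ^ 2) :=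
          congrArg (fun x => x * y ^ i * (t * w ^ 2)) (h.wnt 1)
      _ = (t * w ^ 2) * y ^ i * (w ^ 4 * t) :=
          congrArg (fun x => (t * w ^ 2) * y ^ i * x) (h.twn 2)
      _ = t * (w ^ 2 * y ^ i) * w ^ 4 * t := by simp only [mul_assoc]
      _ = t * y ^ (2 ^ 2 * i) * (w ^ 2 * w ^ 4) * t := by
          rw [h.wnyn]; simp only [mul_assoc]
      _ = t * y ^ (4 * i) * t := by
          rw [← pow_add, h.wpow (2 + 4)]; norm_num
  have e2 : w * (y ^ α * w ^ β * t * y ^ γ) * w ^ 2 =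
      y ^ (2 * α) * w ^ (β + 2) * t * y ^ (2 * γ) := by
    calc w * (y ^ α * w ^ β * t * y ^ γ) * w ^ 2
        = (w * y ^ α) * w ^ β * t * (y ^ γ * w ^ 2) := by simp only [mul_assoc]
      _ = y ^ (2 * α) * w ^ (1 + β) * (t * w ^ 2) * y ^ (4 ^ 2 * γ) := by
          rw [h.wyn, h.ynwn, pow_add, pow_one]; simp only [mul_assoc]
      _ = y ^ (2 * α) * w ^ (1 + β + 2 * 2) * t * y ^ (4 ^ 2 * γ) := by
          rw [h.twn, pow_add w (1 + β) (2 * 2)]; simp only [mul_assoc]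
      _ = y ^ (2 * α) * w ^ (β + 2) * t * y ^ (2 * γ) := by
          have a1 : (1 + β + 2 * 2) % 3 = (β + 2) % 3 := by omega
          have a2 : (4 ^ 2 * γ) % 7 = (2 * γ) % 7 := by norm_num; omega
          rw [h.wpow (1 + β + 2 * 2), h.wpow (β + 2), h.ypow (4 ^ 2 * γ), h.ypow (2 * γ), a1, a2]
  rw [← e1, hi, e2]

/-- inversion of a relation -/
theorem stepInv {i α β γ : ℕ} (hi : t * y ^ i * t = y ^ α * w ^ β * t * y ^ γ) :
    t * y ^ (6 * i) * t = y ^ (6 * γ) * w ^ β * t * y ^ (6 * α) := by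
  have hyi : ∀ n : ℕ, (y ^ n)⁻¹ = y ^ (6 * n) := by
    intro n
    rw [inv_eq_iff_mul_eq_one, ← pow_add, h.ypow]
    have : (n + 6 * n) % 7 = 0 := by omega
    rw [this, pow_zero]
  have hwi : ∀ n : ℕ, (w ^ n)⁻¹ = w ^ (2 * n) := by
    intro n
    rw [inv_eq_iff_mul_eq_one, ← pow_add, h.wpow]
    have : (n + 2 * n) % 3 = 0 := by omega
    rw [this, pow_zero]
  have hti : t⁻¹ = t := inv_eq_of_mul_eq_one_right h.t2
  have e := congrArg (fun x => x⁻¹) hi
  simp only [_root_.mul_inv_rev, hyi, hwi, hti] at e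
  rw [mul_assoc t, e, ← mul_assoc t, h.twn, h.wpow (2 * (2 * β)), h.wpow β]
  have : 2 * (2 * β) % 3 = β % 3 := by omega
  rw [this]
  simp only [mul_assoc]

theorem T4 : t * y ^ 4 * t = y ^ 12 * w ^ 2 * t * y ^ 12 := h.step h.T1
theorem T2 : t * y ^ 16 * t = y ^ 24 * w ^ 4 * t * y ^ 24 := h.step h.T4

/-- `t yⁱ t` in normal form -/
theorem tyt (i : ℕ) : (t * y ^ i * t = 1) ∨ ∃ α β γ : ℕ, t * y ^ i * t = y ^ α * w ^ β * t * y ^ γ := by
  have key : ∀ n α β γ : ℕ, n % 7 = i % 7 → t * y ^ n * t = y ^ α * w ^ β * t * y ^ γ →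
      (t * y ^ i * t = 1) ∨ ∃ α β γ : ℕ, t * y ^ i * t = y ^ α * w ^ β * t * y ^ γ := by
    intro n α β γ hn hr
    refine Or.inr ⟨α, β, γ, ?_⟩
    rw [h.ypow i, ← hn, ← h.ypow]; exact hr
  have hi : i % 7 = 0 ∨ i % 7 = 1 ∨ i % 7 = 2 ∨ i % 7 = 3 ∨ i % 7 = 4 ∨ i % 7 = 5 ∨ i % 7 = 6 := by
    omega
  rcases hi with hi | hi | hi | hi | hi | hi | hi
  · left; rw [h.ypow, hi, pow_zero, mul_one, h.t2]
  · exact key _ _ _ _ (by rw [hi]) h.T1
  · exact key _ _ _ _ (by rw [hi]) h.T2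
  · exact key _ _ _ _ (by rw [hi]) (h.stepInv h.T4)
  · exact key _ _ _ _ (by rw [hi]) h.T4
  · exact key _ _ _ _ (by rw [hi]) (h.stepInv h.T2)
  · exact key _ _ _ _ (by rw [hi]) (h.stepInv h.T1)

omit h in
/-- elements in normal form -/
def S (E : ℕ → K) (y w t : K) : Set K :=
  {g | ∃ a < 128, ∃ i k : ℕ, g = E a * (y ^ i * w ^ k) ∨ ∃ j, g = E a * (y ^ i * (w ^ k * (t * y ^ j)))}

theorem S_E {b : ℕ} (hb : b < 128) {g : K} (hg : g ∈ S E y w t) : E b * g ∈ S E y w t := by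
  obtain ⟨a, ha, i, k, hg⟩ := hg
  refine ⟨mulQ b a, mulQ_lt hb ha, i, k, ?_⟩
  rcases hg with rfl | ⟨j, rfl⟩
  · left; rw [← mul_assoc, h.mul b hb a ha]
  · right; exact ⟨j, by rw [← mul_assoc, h.mul b hb a ha]⟩

theorem S_y {g : K} (hg : g ∈ S E y w t) : y * g ∈ S E y w t := by
  obtain ⟨a, ha, i, k, hg⟩ := hg
  refine ⟨ap7 Y6 a, ap7_lt _ _, i + 1, k, ?_⟩
  rcases hg with rfl | ⟨j, rfl⟩
  · left; rw [← mul_assoc, h.yE a ha, pow_succ']; simp only [mul_assoc]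
  · right; exact ⟨j, by rw [← mul_assoc, h.yE a ha, pow_succ']; simp only [mul_assoc]⟩

theorem S_w {g : K} (hg : g ∈ S E y w t) : w * g ∈ S E y w t := by
  obtain ⟨a, ha, i, k, hg⟩ := hg
  refine ⟨ap7 W6 a, ap7_lt _ _, 2 * i, k + 1, ?_⟩
  rcases hg with rfl | ⟨j, rfl⟩
  · left
    calc w * (E a * (y ^ i * w ^ k)) = w * E a * (y ^ i * w ^ k) := by rw [mul_assoc]
      _ = E (ap7 W6 a) * ((w * y ^ i) * w ^ k) := by rw [h.wE a ha]; simp only [mul_assoc]
      _ = _ := by rw [h.wyn, pow_succ' w k]; simp only [mul_assoc]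
  · right
    refine ⟨j, ?_⟩
    calc w * (E a * (y ^ i * (w ^ k * (t * y ^ j)))) =
          w * E a * (y ^ i * (w ^ k * (t * y ^ j))) := by rw [mul_assoc]
      _ = E (ap7 W6 a) * ((w * y ^ i) * (w ^ k * (t * y ^ j))) := by
          rw [h.wE a ha]; simp only [mul_assoc]
      _ = _ := by rw [h.wyn, pow_succ' w k]; simp only [mul_assoc]

theorem S_t {g : K} (hg : g ∈ S E y w t) : t * g ∈ S E y w t := by
  obtain ⟨a, ha, i, k, hg⟩ := hg
  have hE : ∀ x : K, t * (E a * x) = E (ap7 T0 a) * (t * x) := by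
    intro x
    rw [← mul_assoc, h.tE a ha, mul_assoc]
  rcases hg with rfl | ⟨j, rfl⟩
  · refine ⟨ap7 T0 a, ap7_lt _ _, 0, 2 * k, Or.inr ⟨4 ^ k * i, ?_⟩⟩
    rw [hE, h.ynwn, ← mul_assoc t, h.twn, pow_zero, one_mul, mul_assoc]
  · have e : t * (y ^ i * (w ^ k * (t * y ^ j))) = (t * y ^ i * t) * (w ^ (2 * k) * y ^ j) := by
      rw [← mul_assoc (w ^ k), h.wnt]
      simp only [mul_assoc]
    rcases h.tyt i with h1 | ⟨α, β, γ, h1⟩
    · refine ⟨ap7 T0 a, ap7_lt _ _, 2 ^ (2 * k) * j, 2 * k, Or.inl ?_⟩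
      rw [hE, e, h1, one_mul, h.wnyn]
    · refine ⟨ap7 T0 a, ap7_lt _ _, α, β + 2 * (2 * k), Or.inr ⟨4 ^ (2 * k) * γ + j, ?_⟩⟩
      rw [hE, e, h1]
      congr 1
      calc y ^ α * w ^ β * t * y ^ γ * (w ^ (2 * k) * y ^ j)
          = y ^ α * w ^ β * t * (y ^ γ * w ^ (2 * k)) * y ^ j := by simp only [mul_assoc]
        _ = y ^ α * w ^ β * (t * w ^ (2 * k)) * y ^ (4 ^ (2 * k) * γ) * y ^ j := by
            rw [h.ynwn (2 * k) γ]; simp only [mul_assoc]
        _ = _ := by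
            rw [h.twn, pow_add w, pow_add y]; simp only [mul_assoc]

theorem one_mem : (1 : K) ∈ S E y w t :=
  ⟨0, by norm_num, 0, 0, Or.inl (by rw [h.E0]; simp)⟩

theorem S_ypow (n : ℕ) {g : K} (hg : g ∈ S E y w t) : y ^ n * g ∈ S E y w t := by
  induction n with
  | zero => simpa using hg
  | succ n ih => rw [pow_succ', mul_assoc]; exact h.S_y ih

theorem S_wpow (n : ℕ) {g : K} (hg : g ∈ S E y w t) : w ^ n * g ∈ S E y w t := by
  induction n with
  | zero => simpa using hg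
  | succ n ih => rw [pow_succ', mul_assoc]; exact h.S_w ih

theorem S_mul {x g : K} (hx : x ∈ S E y w t) (hg : g ∈ S E y w t) : x * g ∈ S E y w t := by
  obtain ⟨a, ha, i, k, hx⟩ := hx
  rcases hx with rfl | ⟨j, rfl⟩
  · rw [mul_assoc, mul_assoc]
    exact h.S_E ha (h.S_ypow i (h.S_wpow k hg))
  · rw [mul_assoc, mul_assoc, mul_assoc, mul_assoc]
    exact h.S_E ha (h.S_ypow i (h.S_wpow k (h.S_t (h.S_ypow j hg))))

theorem Einv {a : ℕ} (ha : a < 128) : (E a)⁻¹ = E (invQ a) := by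
  rw [inv_eq_iff_mul_eq_one, h.mul a ha _ (invQ_lt ha), mulQ_self_inv ⟨a, ha⟩, h.E0]

theorem yinv (n : ℕ) : (y ^ n)⁻¹ = y ^ (6 * n) := by
  rw [inv_eq_iff_mul_eq_one, ← pow_add, h.ypow]
  have : (n + 6 * n) % 7 = 0 := by omega
  rw [this, pow_zero]

theorem winv (n : ℕ) : (w ^ n)⁻¹ = w ^ (2 * n) := by
  rw [inv_eq_iff_mul_eq_one, ← pow_add, h.wpow]
  have : (n + 2 * n) % 3 = 0 := by omega
  rw [this, pow_zero]

theorem S_inv {x : K} (hx : x ∈ S E y w t) : x⁻¹ ∈ S E y w t := by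
  obtain ⟨a, ha, i, k, hx⟩ := hx
  have hti : t⁻¹ = t := inv_eq_of_mul_eq_one_right h.t2
  have hE : (E a)⁻¹ ∈ S E y w t := by
    rw [h.Einv ha, ← mul_one (E (invQ a))]
    exact h.S_E (invQ_lt ha) h.one_mem
  rcases hx with rfl | ⟨j, rfl⟩
  · rw [_root_.mul_inv_rev, _root_.mul_inv_rev, h.yinv, h.winv, mul_assoc]
    exact h.S_wpow _ (h.S_ypow _ hE)
  · rw [_root_.mul_inv_rev, _root_.mul_inv_rev, _root_.mul_inv_rev, _root_.mul_inv_rev, h.yinv, h.yinv,
      h.winv, hti, mul_assoc, mul_assoc, mul_assoc]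
    exact h.S_ypow _ (h.S_t (h.S_wpow _ (h.S_ypow _ hE)))

omit h in
/-- the subgroup of elements in normal form -/
def grp (h : Rel E y w t) : Subgroup K where
  carrier := S E y w t
  one_mem' := h.one_mem
  mul_mem' := fun hx hg => h.S_mul hx hg
  inv_mem' := fun hx => h.S_inv hx

/-- restricted normal form -/
theorem nf {g : K} (hg : g ∈ S E y w t) : ∃ a < 128, ∃ i < 7, ∃ k < 3, ∃ j < 8,
    g = E a * (y ^ i * (w ^ k * tty t y j)) := by
  obtain ⟨a, ha, i, k, hg⟩ := hg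
  refine ⟨a, ha, i % 7, Nat.mod_lt _ (by norm_num), k % 3, Nat.mod_lt _ (by norm_num), ?_⟩
  rw [← h.ypow, ← h.wpow]
  rcases hg with rfl | ⟨j, rfl⟩
  · refine ⟨7, by norm_num, ?_⟩
    rw [tty, if_pos rfl, mul_one]
  · refine ⟨j % 7, by omega, ?_⟩
    have hj : j % 7 ≠ 7 := by omega
    rw [tty, if_neg hj, ← h.ypow]

omit h in
theorem mem_nf (h : Rel E y w t) {a : ℕ} (ha : a < 128) (i k j : ℕ) :
    E a * (y ^ i * (w ^ k * tty t y j)) ∈ h.grp := by
  refine ⟨a, ha, i, k, ?_⟩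
  unfold tty
  split
  · left; rw [mul_one]
  · right; exact ⟨j, rfl⟩

end Rel

/-! ### the split case gives the relations -/

theorem rel_of_crd {G : Type*} [Group G] {z : G} {Q : Subgroup G} {E : ℕ → G} {y w t : G}
    (h : Crd0 z Q E y w t) (ht : t * t = 1) : Rel E y w t where
  mul := h.mul
  E0 := h.toCrd.E0
  y7 := h.y7
  w3 := h.w3
  t2 := ht
  wy := h.wy
  tw := h.tw
  ty := by
    have hti : t⁻¹ = t := inv_eq_of_mul_eq_one_right ht
    have hyi : y⁻¹ = y ^ 6 := inv_eq_of_mul_eq_one_right (by rw [← pow_succ', h.y7])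
    have := h.ty
    rw [hti, hyi] at this
    exact this
  yE := h.yE
  wE := h.wE
  tE := h.tE0

/-! ### the model -/

/-- code of `Em a` -/
def eN (a : ℕ) : ℕ :=
  17043521 ^^^ (a % 2 * 512) ^^^ (a / 2 % 2 * 16384) ^^^ (a / 4 % 2 * 524288) ^^^ (a / 8 % 2 * 2) ^^^
    (a / 16 % 2 * 6) ^^^ (a / 32 % 2 * 14) ^^^ (a / 64 % 2 * 16)

theorem em_inv : ∀ a : Fin 128, Nat.beq (mul 5 (eN a.1) (eN (invQ a.1))) (one 5) = true := by
  decide +kernel

/-- the extraspecial group in the model -/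
def Em (a : ℕ) : L5 := if h : a < 128 then mk (eN a) (eN (invQ a)) (em_inv ⟨a, h⟩) else 1

theorem eN_lt : ∀ a : Fin 128, Nat.blt (eN a.1) 33554432 = true := by decide +kernel

theorem cd_Em {a : ℕ} (h : a < 128) : cd (Em a) = eN a := by
  unfold Em
  rw [dif_pos h]
  exact cd_mk _ (eN_lt ⟨a, h⟩)

/-- the element of order seven -/
def ym : L5 := mk 16918785 16851137 (by decide +kernel)
/-- the element of order three -/
def wm : L5 := mk 17178689 16920641 (by decide +kernel)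
/-- the involution -/
def tm : L5 := mk 16916545 16916545 (by decide +kernel)

theorem cd_ym : cd ym = 16918785 := cd_mk _ (by decide +kernel)
theorem cd_wm : cd wm = 17178689 := cd_mk _ (by decide +kernel)
theorem cd_tm : cd tm = 16916545 := cd_mk _ (by decide +kernel)

/-- powers of codes -/
def pwN (c : ℕ) : ℕ → ℕ
  | 0 => one 5
  | n + 1 => mul 5 (pwN c n) c

theorem cd_pow (g : L5) (n : ℕ) : cd (g ^ n) = pwN (cd g) n := by
  induction n with
  | zero => rw [pow_zero, cd_one]; rfl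
  | succ n ih => rw [pow_succ, cd_mul, ih]; rfl

theorem chk_mul : ∀ a : Fin 128, ∀ b : Fin 128, mul 5 (eN a.1) (eN b.1) = eN (mulQ a.1 b.1) := by
  decide +kernel

theorem chk_y : ∀ a : Fin 128, mul 5 16918785 (eN a.1) = mul 5 (eN (ap7 Y6 a.1)) 16918785 := by
  decide +kernel
theorem chk_w : ∀ a : Fin 128, mul 5 17178689 (eN a.1) = mul 5 (eN (ap7 W6 a.1)) 17178689 := by
  decide +kernel
theorem chk_t : ∀ a : Fin 128, mul 5 16916545 (eN a.1) =
    mul 5 (eN (ap7 Cfsg.Agent.Held.Ext.T0 a.1)) 16916545 := by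
  decide +kernel

theorem relM : Rel Em ym wm tm where
  mul a ha b hb := cd_inj (by
    rw [cd_mul, cd_Em ha, cd_Em hb, cd_Em (mulQ_lt ha hb)]; exact chk_mul ⟨a, ha⟩ ⟨b, hb⟩)
  E0 := cd_inj (by rw [cd_Em (by norm_num), cd_one]; decide +kernel)
  y7 := cd_inj (by rw [cd_pow, cd_ym, cd_one]; decide +kernel)
  w3 := cd_inj (by rw [cd_pow, cd_wm, cd_one]; decide +kernel)
  t2 := cd_inj (by rw [cd_mul, cd_tm, cd_one]; decide +kernel)
  wy := cd_inj (by rw [cd_mul, cd_mul, cd_pow, cd_ym, cd_wm]; decide +kernel)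
  tw := cd_inj (by rw [cd_mul, cd_mul, cd_pow, cd_tm, cd_wm]; decide +kernel)
  ty := cd_inj (by rw [cd_mul, cd_mul, cd_mul, cd_mul, cd_pow, cd_tm, cd_ym]; decide +kernel)
  yE a ha := cd_inj (by
    rw [cd_mul, cd_mul, cd_Em ha, cd_Em (ap7_lt _ _), cd_ym]; exact chk_y ⟨a, ha⟩)
  wE a ha := cd_inj (by
    rw [cd_mul, cd_mul, cd_Em ha, cd_Em (ap7_lt _ _), cd_wm]; exact chk_w ⟨a, ha⟩)
  tE a ha := cd_inj (by
    rw [cd_mul, cd_mul, cd_Em ha, cd_Em (ap7_lt _ _), cd_tm]; exact chk_t ⟨a, ha⟩)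

/-- the middle block is trivial -/
def midN (c : ℕ) : Bool := Nat.beq (Nat.land c 473536) 266304

/-- code of `t yʲ` -/
def ttN (j : ℕ) : ℕ := if j = 7 then one 5 else mul 5 16916545 (pwN 16918785 j)

theorem cd_tty (j : ℕ) : cd (tty tm ym j) = ttN j := by
  unfold tty ttN
  split
  · exact cd_one
  · rw [cd_mul, cd_pow, cd_tm, cd_ym]

theorem mid_nf : ∀ i : Fin 7, ∀ k : Fin 3, ∀ j : Fin 8,
    midN (mul 5 (pwN 16918785 i.1) (mul 5 (pwN 17178689 k.1) (ttN j.1))) = true →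
      i.1 = 0 ∧ k.1 = 0 ∧ j.1 = 7 := by
  decide +kernel

theorem mid_eN : ∀ a : Fin 128, midN (eN a.1) = true := by decide +kernel

theorem eN_one : ∀ a : Fin 128, eN a.1 = one 5 → a.1 = 0 := by decide +kernel

theorem nf_one {a i k j : ℕ} (ha : a < 128) (hi : i < 7) (hk : k < 3) (hj : j < 8)
    (h : Em a * (ym ^ i * (wm ^ k * tty tm ym j)) = 1) : a = 0 ∧ i = 0 ∧ k = 0 ∧ j = 7 := by
  have h1 : ym ^ i * (wm ^ k * tty tm ym j) = Em (invQ a) := by
    rw [← relM.Einv ha]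
    exact eq_inv_of_mul_eq_one_right h
  have h2 := congrArg cd h1
  rw [cd_mul, cd_mul, cd_pow, cd_pow, cd_tty, cd_ym, cd_wm, cd_Em (invQ_lt ha)] at h2
  have h3 := mid_nf ⟨i, hi⟩ ⟨k, hk⟩ ⟨j, hj⟩ (by
    show midN (mul 5 (pwN 16918785 i) (mul 5 (pwN 17178689 k) (ttN j))) = true
    rw [h2]; exact mid_eN ⟨_, invQ_lt ha⟩)
  obtain ⟨rfl, rfl, rfl⟩ := h3
  refine ⟨?_, rfl, rfl, rfl⟩
  have h4 := congrArg cd h
  rw [cd_mul, cd_Em ha, cd_one] at h4
  have h5 : cd (ym ^ 0 * (wm ^ 0 * tty tm ym 7)) = one 5 := by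
    simp only [pow_zero, one_mul, tty, if_pos]; exact cd_one
  have h6 : Em a = 1 := by
    have : ym ^ 0 * (wm ^ 0 * tty tm ym 7) = 1 := cd_inj (h5.trans cd_one.symm)
    rw [this, mul_one] at h; exact h
  have h7 := congrArg cd h6
  rw [cd_Em ha, cd_one] at h7
  exact eN_one ⟨a, ha⟩ h7

/-! ### products -/

theorem Rel.prod {K K' : Type*} [Group K] [Group K'] {E : ℕ → K} {y w t : K} {E' : ℕ → K'}
    {y' w' t' : K'} (h : Rel E y w t) (h' : Rel E' y' w' t') :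
    Rel (fun a => (E a, E' a)) (y, y') (w, w') (t, t') where
  mul a ha b hb := Prod.ext (h.mul a ha b hb) (h'.mul a ha b hb)
  E0 := Prod.ext h.E0 h'.E0
  y7 := Prod.ext h.y7 h'.y7
  w3 := Prod.ext h.w3 h'.w3
  t2 := Prod.ext h.t2 h'.t2
  wy := Prod.ext h.wy h'.wy
  tw := Prod.ext h.tw h'.tw
  ty := Prod.ext h.ty h'.ty
  yE a ha := Prod.ext (h.yE a ha) (h'.yE a ha)
  wE a ha := Prod.ext (h.wE a ha) (h'.wE a ha)
  tE a ha := Prod.ext (h.tE a ha) (h'.tE a ha)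

theorem tty_prod {K K' : Type*} [Group K] [Group K'] (t y : K) (t' y' : K') (j : ℕ) :
    tty (t, t') (y, y') j = (tty t y j, tty t' y' j) := by
  unfold tty
  split <;> rfl

theorem nf_prod {K K' : Type*} [Group K] [Group K'] {E : ℕ → K} {y w t : K} {E' : ℕ → K'}
    {y' w' t' : K'} (a i k j : ℕ) :
    (fun a => ((E a, E' a) : K × K')) a * ((y, y') ^ i * ((w, w') ^ k * tty (t, t') (y, y') j)) =
      (E a * (y ^ i * (w ^ k * tty t y j)), E' a * (y' ^ i * (w' ^ k * tty t' y' j))) := by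
  rw [tty_prod]; rfl

theorem Rel.card_le {K : Type*} [Group K] {E : ℕ → K} {y w t : K} (h : Rel E y w t) :
    Finite h.grp ∧ Nat.card h.grp ≤ 21504 := by
  have hs : Function.Surjective (fun p : Fin 128 × Fin 7 × Fin 3 × Fin 8 =>
      (⟨E p.1.1 * (y ^ p.2.1.1 * (w ^ p.2.2.1.1 * tty t y p.2.2.2.1)),
        h.mem_nf p.1.2 _ _ _⟩ : h.grp)) := by
    rintro ⟨g, hg⟩
    obtain ⟨a, ha, i, hi, k, hk, j, hj, e⟩ := h.nf hg
    exact ⟨(⟨a, ha⟩, ⟨i, hi⟩, ⟨k, hk⟩, ⟨j, hj⟩), Subtype.ext e.symm⟩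
  refine ⟨Finite.of_surjective _ hs, ?_⟩
  have := Nat.card_le_card_of_surjective _ hs
  simpa using this

section main

variable {G : Type*} [Group G] {z : G} {Q : Subgroup G} {E : ℕ → G} {y w t : G}

/-- **The split case**: the centralizer is the model. -/
theorem iso_CC (h : Crd0 z Q E y w t) (ht : t * t = 1) :
    Nonempty (Subgroup.centralizer ({z} : Set G) ≃* CC) := by
  set R := (rel_of_crd h ht).prod relM with hR
  obtain ⟨hfin, hcard⟩ := R.card_le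
  have hz : ∀ g ∈ R.grp, g.1 ∈ Subgroup.centralizer ({z} : Set G) := by
    intro g hg
    obtain ⟨a, ha, i, -, k, -, j, -, rfl⟩ := R.nf hg
    rw [nf_prod, Subgroup.mem_centralizer_singleton_iff]
    exact (show Commute (E a) z from h.toCrd.Ez ha).mul_left (h.toCrd.nf_z i k j)
  have hEm64 : Em 64 = zz := cd_inj (by rw [cd_Em (by norm_num), cd_zz]; decide +kernel)
  have hzc : ∀ g ∈ R.grp, g.2 ∈ CC := by
    intro g hg
    obtain ⟨a, ha, i, -, k, -, j, -, rfl⟩ := R.nf hg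
    rw [nf_prod]
    have e1 : Em a ∈ CC := by
      rw [mem_CC, ← hEm64, relM.mul a ha 64 (by norm_num), relM.mul 64 (by norm_num) a ha,
        (mulQ_64 ⟨a, ha⟩).1, (mulQ_64 ⟨a, ha⟩).2]
    have e2 : ym ∈ CC := by rw [mem_CC_iff, cd_ym]; decide +kernel
    have e3 : wm ∈ CC := by rw [mem_CC_iff, cd_wm]; decide +kernel
    have e4 : tm ∈ CC := by rw [mem_CC_iff, cd_tm]; decide +kernel
    have e5 : tty tm ym j ∈ CC := by
      unfold tty
      split
      · exact CC.one_mem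
      · exact CC.mul_mem e4 (CC.pow_mem e2 _)
    exact CC.mul_mem e1 (CC.mul_mem (CC.pow_mem e2 _) (CC.mul_mem (CC.pow_mem e3 _) e5))
  let f1 : R.grp →* Subgroup.centralizer ({z} : Set G) :=
    ((MonoidHom.fst G L5).comp R.grp.subtype).codRestrict _ (fun g => hz g.1 g.2)
  let f2 : R.grp →* CC :=
    ((MonoidHom.snd G L5).comp R.grp.subtype).codRestrict _ (fun g => hzc g.1 g.2)
  have s1 : Function.Surjective f1 := by
    rintro ⟨c, hc⟩
    obtain ⟨i, hi, k, hk, j, hj, u, hu, e⟩ := h.full c (Subgroup.mem_centralizer_singleton_iff.1 hc)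
    refine ⟨⟨_, R.mem_nf hu i k j⟩, Subtype.ext ?_⟩
    have e1 := congrArg Prod.fst (nf_prod (E := E) (y := y) (w := w) (t := t) (E' := Em) (y' := ym)
      (w' := wm) (t' := tm) u i k j)
    exact e1.trans e.symm
  have b1 : Function.Bijective f1 := s1.bijective_of_nat_card_le (by rw [h.card]; exact hcard)
  have hcard' : Nat.card R.grp = 21504 := by
    rw [Nat.card_congr (Equiv.ofBijective f1 b1), h.card]
  have i2 : Function.Injective f2 := by
    rw [injective_iff_map_eq_one]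
    rintro ⟨g, hg⟩ hg1
    have hg2 : g.2 = 1 := congrArg Subtype.val hg1
    obtain ⟨a, ha, i, hi, k, hk, j, hj, e⟩ := R.nf hg
    rw [nf_prod] at e
    rw [e] at hg2
    obtain ⟨rfl, rfl, rfl, rfl⟩ := nf_one ha hi hk hj hg2
    apply Subtype.ext
    show g = 1
    rw [e]
    refine Prod.ext ?_ hg2
    show E 0 * (y ^ 0 * (w ^ 0 * tty t y 7)) = 1
    rw [h.toCrd.E0, pow_zero, pow_zero, one_mul, one_mul, one_mul, tty, if_pos rfl]
  have b2 : Function.Bijective f2 := i2.bijective_of_nat_card_le (by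
    rw [hcard']; exact HeldCardLe.card_CC_le)
  exact ⟨(MulEquiv.ofBijective f1 b1).symm.trans (MulEquiv.ofBijective f2 b2)⟩

/-- **P4**: the split case gives the centralizer of a transvection of `SL(5,2)`. -/
theorem iso_of_split (h : Crd0 z Q E y w t) (ht : t * t = 1) (s : L5)
    (hs : (s : Matrix (Fin 5) (Fin 5) (ZMod 2)) = transvection 0 1 1) :
    Nonempty (Subgroup.centralizer ({z} : Set G) ≃* Subgroup.centralizer ({s} : Set L5)) := by
  obtain ⟨e⟩ := iso_CC h ht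
  exact ⟨e.trans (MulEquiv.ofBijective (toCs hs) ⟨toCs_inj hs, toCs_surj hs⟩)⟩

end main

end Cfsg.Agent.Held.ExtIso
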