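import Mathlib
import Cfsg.Agent.Held.ExtCod

/-!
# Normalising the third generator when both modules are invariant (S1659 from S1716)
-/

set_option autoImplicit false

namespace Cfsg.Agent.Held.Ext

open Cfsg.Agent.Co2Type.Quad

/-- images of the generators under `T0` -/
def t0I (i : ℕ) : ℕ := [1, 4, 2, 8, 56, 32].getD i 0

theorem t0I_lt : ∀ i < 6, t0I i < 128 := by decide

theorem codT : ∀ a : Fin 128, ev t0I a.1 = ap7 T0 a.1 := by decide +kernel

/-- the form is nondegenerate -/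
theorem exists_inner : ∀ s : Fin 64, ∃ u : Fin 64, ∀ i : Fin 6,
    mulQ u.1 (t0I i.1 ^^^ (s.1 / 2 ^ i.1 % 2 * 64)) = mulQ (t0I i.1) u.1 := by decide +kernel

theorem relTW : ∀ a : Fin 128, ap7 T0 (ap7 W6 a.1) = ap7 W6 (ap7 W6 (ap7 T0 a.1)) := by
  decide +kernel

theorem relTT : ∀ a : Fin 128, ap7 T0 (ap7 T0 a.1) = a.1 := by decide +kernel

/-- `y t y t = t y⁻¹`, as `y t y t y = t` -/
theorem relTY : ∀ a : Fin 128, ap7 Y6 (ap7 T0 (ap7 Y6 (ap7 T0 (ap7 Y6 a.1)))) = ap7 T0 a.1 := by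
  decide +kernel

theorem bits_sum : ∀ f : Fin 6 → Fin 2, ∃ s : Fin 64, ∀ i : Fin 6, s.1 / 2 ^ i.1 % 2 = (f i).1 := by
  intro f
  have h : ∀ a b c d e g : Fin 2, (a.1 + 2 * b.1 + 4 * c.1 + 8 * d.1 + 16 * e.1 + 32 * g.1) < 64 := by
    intro a b c d e g; omega
  refine ⟨⟨(f 0).1 + 2 * (f 1).1 + 4 * (f 2).1 + 8 * (f 3).1 + 16 * (f 4).1 + 32 * (f 5).1,
    h _ _ _ _ _ _⟩, ?_⟩
  intro i
  have e0 := (f 0).2
  have e1 := (f 1).2
  have e2 := (f 2).2
  have e3 := (f 3).2
  have e4 := (f 4).2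
  have e5 := (f 5).2
  fin_cases i <;> simp <;> omega

section

variable {G : Type*} [Group G] {z : G} {Q : Subgroup G} {E : ℕ → G} {y w t : G}

theorem Crd.exact (h : Crd z Q E y w t T0) : ∃ t' : G, Crd0 z Q E y w t' := by
  have hL := h.large
  have hp : ∀ i < 6, (2 : ℕ) ^ i < 128 := by
    intro i hi
    calc (2 : ℕ) ^ i ≤ 2 ^ 6 := Nat.pow_le_pow_right (by norm_num) (by omega)
      _ < 128 := by norm_num
  have ht0 : ∀ i : Fin 6, ap7 T0 (2 ^ i.1) = t0I i.1 := by decide +kernel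
  -- sign pattern
  have hsg : ∀ i : Fin 6, ∃ s : Fin 2, t * E (2 ^ i.1) = E (t0I i.1 ^^^ (s.1 * 64)) * t := by
    intro i
    rcases h.tE (2 ^ i.1) (hp i.1 i.2) with h1 | h1 <;> rw [ht0] at h1
    · exact ⟨0, by simpa using h1⟩
    · exact ⟨1, by simpa using h1⟩
  choose f hf using hsg
  obtain ⟨s, hs⟩ := bits_sum f
  obtain ⟨u, hu⟩ := exists_inner s
  have hu128 : u.1 < 128 := by have := u.2; omega
  -- the corrected element acts exactly
  have hex : ∀ i < 6, (E u.1 * t) * E (2 ^ i) = E (t0I i) * (E u.1 * t) := by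
    intro i hi
    have h1 := hf ⟨i, hi⟩
    have h2 := hu ⟨i, hi⟩
    rw [hs] at h2
    simp only at h1 h2
    have hlt : t0I i ^^^ ((f ⟨i, hi⟩).1 * 64) < 128 := by
      have h3 : (f ⟨i, hi⟩).1 * 64 < 2 ^ 7 := by have := (f ⟨i, hi⟩).2; omega
      exact Nat.xor_lt_two_pow (n := 7) (t0I_lt i hi) h3
    rw [mul_assoc, h1, ← mul_assoc, h.mul _ hu128 _ hlt, h2, ← h.mul _ (t0I_lt i hi) _ hu128,
      mul_assoc]
  have huz : (E u.1 * t) * z = z * (E u.1 * t) := by
    rw [mul_assoc, h.tz, ← mul_assoc, h.Ez hu128, mul_assoc]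
  have hexact : ∀ a < 128, (E u.1 * t) * E a = E (ap7 T0 a) * (E u.1 * t) := by
    intro a ha
    rw [h.cod.conj_ev huz t0I_lt hex a ha, codT ⟨a, ha⟩]
  -- elements acting trivially are `1` or `z`
  have htriv : ∀ c : G, c * z = z * c → (∀ a < 128, c * E a = E a * c) → c = 1 ∨ c = z := by
    intro c hcz hc
    have h1 : ∀ x ∈ Q, c * x = x * c := by
      intro x hx
      obtain ⟨a, ha, rfl⟩ := (h.mem x).1 hx
      exact hc a ha
    exact hL.cent c (hL.self c hcz h1) h1
  -- full normal form for a modified third generator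
  have hfull : ∀ t' : G, t' * z = z * t' → (∃ v ∈ Q, t = v * t') →
      (∀ a < 128, t' * E a = E (ap7 T0 a) * t') → Crd z Q E y w t' T0 := by
    rintro t' hz' ⟨v, hv, hve⟩ hE'
    refine Crd.mk h.large h.E64 h.mul h.inj h.mem h.yz h.wz hz' h.y7 h.w3 h.wy h.yE h.wE
      (VA.of_exact hE') ?_ h.card
    intro c hc
    obtain ⟨i, hi, k, hk, j, hj, r, hr, rfl⟩ := h.full c hc
    by_cases h7 : j = 7
    · refine ⟨i, hi, k, hk, j, hj, r, hr, ?_⟩
      unfold tty
      rw [if_pos h7, if_pos h7]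
    · have hn : (y ^ i * w ^ k) * z = z * (y ^ i * w ^ k) :=
        (((show Commute y z from h.yz).pow_left i).mul_left
          ((show Commute w z from h.wz).pow_left k)).eq
      have h1 := hL.conj_mem _ hn v hv
      obtain ⟨r', hr', hre⟩ := (h.mem _).1 (Q.mul_mem (h.E_mem hr) h1)
      refine ⟨i, hi, k, hk, j, hj, r', hr', ?_⟩
      rw [hre]
      unfold tty
      rw [if_neg h7, if_neg h7, hve]
      group
  have hinvQ : ∃ v ∈ Q, t = v * (E u.1 * t) :=
    ⟨(E u.1)⁻¹, Q.inv_mem (h.E_mem hu128), by group⟩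
  -- relations
  obtain ⟨t', ht'⟩ : ∃ t', t' = E u.1 * t := ⟨_, rfl⟩
  rw [← ht'] at huz hexact hinvQ
  clear ht'
  have hsq : t' * t' = 1 ∨ t' * t' = z := by
    apply htriv
    · rw [mul_assoc, huz, ← mul_assoc, huz, mul_assoc]
    · intro a ha
      rw [mul_assoc, hexact a ha, ← mul_assoc, hexact _ (ap7_lt _ _), relTT ⟨a, ha⟩, mul_assoc]
  have hti : t'⁻¹ * z = z * t'⁻¹ := (show Commute t' z from huz).inv_left.eq
  have hyi : y⁻¹ * z = z * y⁻¹ := (show Commute y z from h.yz).inv_left.eq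
  have hwi : w⁻¹ * z = z * w⁻¹ := (show Commute w z from h.wz).inv_left.eq
  -- if `c` and `d` act in the same way they differ by `1` or `z`
  have hcmp : ∀ c d : G, c * z = z * c → d * z = z * d → ∀ K : ℕ → ℕ, (∀ a < 128, K a < 128) →
      (∀ a < 128, c * E a = E (K a) * c) → (∀ a < 128, d * E a = E (K a) * d) →
      c = d ∨ c = z * d := by
    intro c d hc hd K hK h1 h2
    have h3 : ∀ a < 128, (d⁻¹ * c) * E a = E a * (d⁻¹ * c) := by
      intro a ha
      have h4 : d⁻¹ * E (K a) = E a * d⁻¹ := by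
        rw [inv_mul_eq_iff_eq_mul, ← mul_assoc, h2 a ha, mul_assoc, mul_inv_cancel, mul_one]
      rw [mul_assoc, h1 a ha, ← mul_assoc, h4, mul_assoc]
    have h5 : (d⁻¹ * c) * z = z * (d⁻¹ * c) :=
      ((show Commute d z from hd).inv_left.mul_left (show Commute c z from hc)).eq
    rcases htriv _ h5 h3 with h6 | h6
    · left; exact (inv_mul_eq_one.1 h6).symm
    · right
      rw [inv_mul_eq_iff_eq_mul] at h6
      rw [h6, hd]
  have hzz := hL.z_sq
  -- `t w = w² t`
  have htw : t' * w = w ^ 2 * t' := by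
    have h1 : t' * w = w ^ 2 * t' ∨ t' * w = z * (w ^ 2 * t') := by
      apply hcmp _ _ _ _ (fun a => ap7 T0 (ap7 W6 a)) (fun a _ => ap7_lt _ _)
      · intro a ha
        rw [mul_assoc, h.wE a ha, ← mul_assoc, hexact _ (ap7_lt _ _), mul_assoc]
      · intro a ha
        rw [mul_assoc, hexact a ha, ← mul_assoc, pow_two, mul_assoc w w, h.wE _ (ap7_lt _ _),
          ← mul_assoc, h.wE _ (ap7_lt _ _), relTW ⟨a, ha⟩]
        simp only [mul_assoc]
      · exact ((show Commute t' z from huz).mul_left (show Commute w z from h.wz)).eq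
      · exact (((show Commute w z from h.wz).pow_left 2).mul_left (show Commute t' z from huz)).eq
    rcases h1 with h1 | h1
    · exact h1
    exfalso
    have h2 : t' * w * t'⁻¹ = z * w ^ 2 := by rw [h1]; group
    have h3 : (t' * w * t'⁻¹) ^ 3 = 1 := by rw [conj_pow, h.w3]; group
    have hc : Commute z (w ^ 2) := ((show Commute w z from h.wz).pow_left 2).symm
    rw [h2, hc.mul_pow, ← pow_mul, mul_comm 2 3, pow_mul, h.w3, one_pow, mul_one] at h3
    have h4 : z ^ 3 = z := by rw [pow_succ, pow_two, hzz, one_mul]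
    rw [h4] at h3
    exact hL.z_ne h3
  -- `y t y t y = t` up to `z`
  have hty : y * (t' * (y * (t' * y))) = t' ∨ y * (t' * (y * (t' * y))) = z * t' := by
    apply hcmp _ _ _ huz (fun a => ap7 T0 a) (fun a _ => ap7_lt _ _)
    · intro a ha
      have e1 : y * (t' * (y * (t' * y))) * E a =
          y * (t' * (y * (t' * (y * E a)))) := by simp only [mul_assoc]
      rw [e1, h.yE a ha, ← mul_assoc t' (E _), hexact _ (ap7_lt _ _), mul_assoc (E _),
        ← mul_assoc y (E _), h.yE _ (ap7_lt _ _), mul_assoc (E _), ← mul_assoc t' (E _),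
        hexact _ (ap7_lt _ _), mul_assoc (E _), ← mul_assoc y (E _), h.yE _ (ap7_lt _ _),
        relTY ⟨a, ha⟩]
      simp only [mul_assoc]
    · exact hexact
    · have c1 : Commute y z := h.yz
      have c2 : Commute t' z := huz
      exact (c1.mul_left (c2.mul_left (c1.mul_left (c2.mul_left c1)))).eq
  have hzi : z⁻¹ = z := hL.z_inv
  -- `t y t⁻¹ = y⁻¹ t y⁻¹` up to `z`
  have hfin : ∀ t'' : G, (t'' * t'' = 1 ∨ t'' * t'' = z) → t'' * z = z * t'' →
      y * (t'' * (y * (t'' * y))) = t'' * (t'' * t'') → t'' * y * t''⁻¹ = y⁻¹ * t'' * y⁻¹ := by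
    intro t'' h2 hz' h3
    have h4 : t'' * (y * (t'' * y)) = y⁻¹ * (t'' * (t'' * t'')) := by
      rw [← h3]; group
    have h5 : t'' * y * (t'' * y) = y⁻¹ * (t'' * (t'' * t'')) := by
      rw [← h4]; simp only [mul_assoc]
    have h6 : t'' * y * t'' = y⁻¹ * (t'' * (t'' * t'')) * y⁻¹ := by
      rw [← h5]; group
    have h7 : t'' * y * t''⁻¹ = (t'' * y * t'') * (t'' * t'')⁻¹ := by group
    rw [h7, h6]
    have h8 : t'' * (t'' * t'') = t'' * t'' * t'' := by rw [mul_assoc]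
    rcases h2 with h2 | h2 <;> rw [h2]
    · simp
    · rw [hzi]
      have hyz' : y⁻¹ * z = z * y⁻¹ := hyi
      calc y⁻¹ * (t'' * z) * y⁻¹ * z = y⁻¹ * t'' * (z * (y⁻¹ * z)) := by group
        _ = y⁻¹ * t'' * (z * (z * y⁻¹)) := by rw [hyz']
        _ = y⁻¹ * t'' * ((z * z) * y⁻¹) := by group
        _ = y⁻¹ * t'' * y⁻¹ := by rw [hzz, one_mul]
  -- choose between `t'` and `z t'`
  have hcase : ∃ t'' : G, t'' * z = z * t'' ∧ (∃ v ∈ Q, t = v * t'') ∧
      (∀ a < 128, t'' * E a = E (ap7 T0 a) * t'') ∧ (t'' * t'' = 1 ∨ t'' * t'' = z) ∧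
      t'' * w = w ^ 2 * t'' ∧ y * (t'' * (y * (t'' * y))) = t'' * (t'' * t'') := by
    obtain ⟨v, hv, hve⟩ := hinvQ
    have hzt_sq : (z * t') * (z * t') = t' * t' := by
      calc (z * t') * (z * t') = z * (t' * z) * t' := by group
        _ = z * (z * t') * t' := by rw [huz]
        _ = (z * z) * (t' * t') := by group
        _ = t' * t' := by rw [hzz, one_mul]
    have hztz : (z * t') * z = z * (z * t') := by rw [mul_assoc, huz]
    have hv2 : t = (v * z) * (z * t') := by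
      calc t = v * t' := hve
        _ = v * (z * z) * t' := by rw [hzz, mul_one]
        _ = _ := by group
    have hztE : ∀ a < 128, (z * t') * E a = E (ap7 T0 a) * (z * t') := by
      intro a ha
      rw [mul_assoc, hexact a ha, ← mul_assoc, ← h.Ez (ap7_lt _ _), mul_assoc]
    have hztw : (z * t') * w = w ^ 2 * (z * t') := by
      rw [mul_assoc, htw, ← mul_assoc, ← ((show Commute w z from h.wz).pow_left 2).eq, mul_assoc]
    have c1 : Commute z y := (show Commute y z from h.yz).symm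
    have c2 : Commute z t' := (show Commute t' z from huz).symm
    have hzty : y * ((z * t') * (y * ((z * t') * y))) = y * (t' * (y * (t' * y))) := by
      calc y * ((z * t') * (y * ((z * t') * y)))
          = y * (z * (t' * (y * z) * (t' * y))) := by group
        _ = y * (z * (t' * (z * y) * (t' * y))) := by rw [h.yz]
        _ = y * (z * ((t' * z) * y * (t' * y))) := by group
        _ = y * (z * ((z * t') * y * (t' * y))) := by rw [huz]
        _ = y * ((z * z) * (t' * (y * (t' * y)))) := by group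
        _ = _ := by rw [hzz, one_mul]
    rcases hsq with h1 | h1 <;> rcases hty with h2 | h2
    · exact ⟨t', huz, ⟨v, hv, hve⟩, hexact, Or.inl h1, htw, by rw [h2, h1, mul_one]⟩
    · refine ⟨z * t', hztz, ⟨v * z, Q.mul_mem hv hL.z_mem, hv2⟩, hztE, Or.inl (hzt_sq.trans h1),
        hztw, ?_⟩
      rw [hzty, h2, hzt_sq, h1, mul_one]
    · refine ⟨z * t', hztz, ⟨v * z, Q.mul_mem hv hL.z_mem, hv2⟩, hztE, Or.inr (hzt_sq.trans h1),
        hztw, ?_⟩
      rw [hzty, h2, hzt_sq, h1, hztz, ← mul_assoc, hzz, one_mul]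
    · refine ⟨t', huz, ⟨v, hv, hve⟩, hexact, Or.inr h1, htw, ?_⟩
      rw [h2, h1, huz]
  obtain ⟨t'', hz'', hv'', hE'', h2'', hw'', hy''⟩ := hcase
  exact ⟨t'', ⟨hfull t'' hz'' hv'' hE'', hE'', h2'', hw'', hfin t'' h2'' hz'' hy''⟩⟩

end

end Cfsg.Agent.Held.Ext
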