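import Mathlib
import Cfsg.Agent.Held.ExtVec
import Cfsg.Agent.Co2Type.Quad

/-!
# Elements of order seven and three in `2^(1+6).L₃(2)` (S1659 from S1716)
-/

set_option autoImplicit false

namespace Cfsg.Agent.Held.Ext

open Cfsg.Agent.Co2Type.Quad

abbrev SL3 : Type := Matrix.SpecialLinearGroup (Fin 3) (ZMod 2)

theorem card_SL_two (n : ℕ) : Nat.card (Matrix.SpecialLinearGroup (Fin n) (ZMod 2)) =
    ∏ i : Fin n, (2 ^ n - 2 ^ (i : ℕ)) := by
  have h1 := Matrix.card_GL_field (𝔽 := ZMod 2) n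
  rw [ZMod.card] at h1
  rw [← h1]
  apply Nat.card_congr
  refine Equiv.ofBijective (fun g => Matrix.SpecialLinearGroup.toGL g) ⟨?_, ?_⟩
  · exact Matrix.SpecialLinearGroup.toGL_injective
  · intro g
    have hd : (g : Matrix (Fin n) (Fin n) (ZMod 2)).det = 1 := by
      have h2 : IsUnit (g : Matrix (Fin n) (Fin n) (ZMod 2)).det :=
        (Matrix.isUnit_iff_isUnit_det _).1 g.isUnit
      have h3 : ∀ x : ZMod 2, IsUnit x → x = 1 := by decide
      exact h3 _ h2
    refine ⟨⟨g, hd⟩, ?_⟩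
    ext i j
    rfl

theorem card_SL3 : Nat.card SL3 = 168 := by
  rw [card_SL_two]; decide

/-- order seven -/
def Ym : SL3 := ⟨!![0, 0, 1; 1, 0, 1; 0, 1, 0], by decide⟩
/-- order three -/
def Wm : SL3 := ⟨!![1, 0, 0; 0, 0, 1; 0, 1, 1], by decide⟩
/-- order two -/
def Tm : SL3 := ⟨!![1, 0, 0; 0, 0, 1; 0, 1, 0], by decide⟩

theorem Ym_seven : Ym ^ 7 = 1 := by decide +kernel
theorem Ym_ne : Ym ≠ 1 := by decide +kernel
theorem Wm_three : Wm ^ 3 = 1 := by decide +kernel
theorem Wm_Ym : Wm * Ym = Ym ^ 2 * Wm := by decide +kernel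
theorem Tm_sq : Tm * Tm = 1 := by decide +kernel
theorem Wm_Tm : Wm * Tm * Wm = Tm := by decide +kernel
theorem YT_three : (Ym * Tm) ^ 3 = 1 := by decide +kernel

/-- `C(z)/Q = L₃(2)` -/
structure LHyp {G : Type*} [Group G] (Q : Subgroup G) (z : G)
    (π : Subgroup.centralizer ({z} : Set G) →* SL3) : Prop where
  large : Large Q z
  card : Nat.card Q = 128
  surj : Function.Surjective π
  ker : ∀ c, π c = 1 ↔ (c : G) ∈ Q

section

variable {G : Type*} [Group G] {z : G} {Q : Subgroup G}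
  {π : Subgroup.centralizer ({z} : Set G) →* SL3}

theorem cz (c : Subgroup.centralizer ({z} : Set G)) : (c : G) * z = z * c :=
  Subgroup.mem_centralizer_singleton_iff.1 c.2

theorem pow_eight (h : Large Q z) {x : G} (hx : x ∈ Q) : x ^ 8 = 1 := by
  have h4 : (x * x) * (x * x) = 1 := by
    rcases h.sq x hx with h1 | h1 <;> rw [h1]
    · simp
    · exact h.z_sq
  calc x ^ 8 = ((x * x) * (x * x)) * ((x * x) * (x * x)) := by
        simp only [pow_succ, pow_zero, one_mul, mul_assoc]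
    _ = 1 := by rw [h4, one_mul]

theorem LHyp.cardV (h : LHyp Q z π) : Nat.card h.large.V = 64 := by
  have h1 := h.large.card_eq
  rw [h.card] at h1
  omega

theorem LHyp.act_eq (h : LHyp Q z π) {c d : Subgroup.centralizer ({z} : Set G)} (hcd : π c = π d) :
    h.large.act c = h.large.act d := by
  have h1 : π (c * d⁻¹) = 1 := by rw [map_mul, map_inv, hcd, mul_inv_cancel]
  have h2 := h.large.act_mem (c * d⁻¹) ((h.ker _).1 h1)
  rw [map_mul, map_inv, mul_inv_eq_one] at h2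
  exact h2

/-- an element of order seven -/
theorem LHyp.exists_y (h : LHyp Q z π) :
    ∃ y : Subgroup.centralizer ({z} : Set G), y ^ 7 = 1 ∧ π y = Ym := by
  obtain ⟨y0, hy0⟩ := h.surj Ym
  have h1 : π (y0 ^ 7) = 1 := by rw [map_pow, hy0, Ym_seven]
  have h2 := pow_eight h.large ((h.ker _).1 h1)
  refine ⟨y0 ^ 8, ?_, ?_⟩
  · apply Subtype.ext
    rw [← pow_mul, mul_comm 8 7, pow_mul]
    exact h2
  · rw [map_pow, hy0, pow_succ, Ym_seven, one_mul]

theorem LHyp.exists_w0 (h : LHyp Q z π) : ∃ w : Subgroup.centralizer ({z} : Set G), π w = Wm :=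
  h.surj Wm

/-- the vector space hypotheses -/
theorem LHyp.vhyp (h : LHyp Q z π) {y w : Subgroup.centralizer ({z} : Set G)} (hy : y ^ 7 = 1)
    (hπ : π (w * y) = π (y * y * w)) :
    VHyp (fun u v => h.large.b u v) h.large.q (fun v => h.large.act y v)
      (fun v => h.large.act w v) where
  h2 := h.large.add_self
  badd u v x := h.large.b0_add_left u v x
  bcomm u v := h.large.b_comm u v
  bnd v hv := h.large.b_nondeg hv
  qadd u v := h.large.q_add' u v
  φadd u v := map_add _ u v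
  ωadd u v := map_add _ u v
  φ7 v := by
    have h1 : h.large.act (y ^ 7) v = v := by rw [hy, map_one]; rfl
    rw [map_pow] at h1
    exact h1
  ωφ v := by
    have h1 := h.act_eq hπ
    rw [map_mul, map_mul, map_mul] at h1
    exact DFunLike.congr_fun h1 v
  ωinj v hv := by
    have : h.large.act w v = h.large.act w 0 := by rw [map_zero]; exact hv
    exact (h.large.act w).injective this
  qφ v := h.large.q_act y v
  bω u v := h.large.b_act w u v

theorem hπ_w {y w : Subgroup.centralizer ({z} : Set G)} (hy : π y = Ym) (hw : π w = Wm) :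
    π (w * y) = π (y * y * w) := by
  rw [map_mul, map_mul, map_mul, hy, hw, Wm_Ym, pow_two]

/-- `y` has no fixed points on `V` -/
theorem LHyp.fpf [Finite G] (h : LHyp Q z π) {y : Subgroup.centralizer ({z} : Set G)}
    (hy : y ^ 7 = 1) (hπ : π y = Ym) {v : h.large.V} (hv : h.large.act y v = v) : v = 0 := by
  obtain ⟨w, hw⟩ := h.exists_w0
  have hV := h.vhyp hy (hπ_w hπ hw)
  have hne : ∃ v, h.large.act y v ≠ v := by
    by_contra hcon
    push Not at hcon
    have h1 : h.large.act y = 1 := by ext v; exact hcon v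
    have h2 := (h.ker y).2 (h.large.mem_of_act y h1)
    rw [hπ] at h2
    exact Ym_ne h2
  exact hV.fpf h.cardV hne hv

/-- elements of order seven in the coset `Q y` are conjugate to `y` under `Q` -/
theorem LHyp.conj_of [Finite G] (h : LHyp Q z π) {y x : Subgroup.centralizer ({z} : Set G)}
    (hy : y ^ 7 = 1) (hf : ∀ v, h.large.act y v = v → v = 0) (hx : x ^ 7 = 1) (hxy : π x = π y) :
    ∃ q : Subgroup.centralizer ({z} : Set G), (q : G) ∈ Q ∧ q * y * q⁻¹ = x := by
  have hL := h.large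
  have hu : ((x * y⁻¹ : Subgroup.centralizer ({z} : Set G)) : G) ∈ Q := by
    rw [← h.ker, map_mul, map_inv, hxy, mul_inv_cancel]
  -- surjectivity of `v ↦ v + y v`
  have hinj : Function.Injective (fun v : hL.V => v + hL.act y v) := by
    intro v v' hvv
    have h1 : v + hL.act y v = v' + hL.act y v' := hvv
    have h2 : hL.act y (v + v') = v + v' := by
      rw [map_add]
      have h3 := hL.add_self v
      have h4 := hL.add_self (hL.act y v')
      calc hL.act y v + hL.act y v' = (v + v) + hL.act y v + hL.act y v' := by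
            rw [h3, zero_add]
        _ = v + (v + hL.act y v) + hL.act y v' := by abel
        _ = v + (v' + hL.act y v') + hL.act y v' := by rw [h1]
        _ = v + v' + (hL.act y v' + hL.act y v') := by abel
        _ = v + v' := by rw [h4, add_zero]
    have h5 := hf _ h2
    have h6 := hL.add_self v'
    rw [← h6] at h5
    exact add_right_cancel h5
  have hsurj : Function.Surjective (fun v : hL.V => v + hL.act y v) :=
    Finite.injective_iff_surjective.1 hinj
  obtain ⟨v, hv⟩ := hsurj (hL.pr ⟨_, hu⟩)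
  obtain ⟨q, rfl⟩ := hL.pr_surjective v
  have hv' : hL.pr q + hL.act y (hL.pr q) = hL.pr ⟨_, hu⟩ := hv
  have hqC : (q : G) ∈ Subgroup.centralizer ({z} : Set G) :=
    Subgroup.mem_centralizer_singleton_iff.2 (hL.comm_z q q.2)
  have hneg : hL.act y (hL.pr q⁻¹) = hL.act y (hL.pr q) := by
    rw [hL.pr_inv, hL.neg_eq]
  have h1 : hL.pr (q * hL.conjQ y q⁻¹) = hL.pr ⟨_, hu⟩ := by
    rw [hL.pr_mul, ← hL.act_pr, hneg, hv']
  have hzy : z * (y : G)⁻¹ = (y : G)⁻¹ * z := by
    rw [eq_inv_mul_iff_mul_eq, ← mul_assoc, cz y, mul_assoc, mul_inv_cancel, mul_one]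
  rw [hL.pr_eq_pr] at h1
  have e1 : ((q * hL.conjQ y q⁻¹ : Q) : G) = q * (y * (q : G)⁻¹ * (y : G)⁻¹) := rfl
  rw [e1] at h1
  have e2 : (((⟨_, hu⟩ : Q)) : G) = x * (y : G)⁻¹ := rfl
  rw [e2] at h1
  refine ⟨⟨q, hqC⟩, q.2, ?_⟩
  rcases h1 with h2 | h2
  · apply Subtype.ext
    show (q : G) * y * (q : G)⁻¹ = x
    calc (q : G) * y * (q : G)⁻¹ = (q * (y * (q : G)⁻¹ * (y : G)⁻¹)) * y := by group
      _ = x * (y : G)⁻¹ * y := by rw [h2]
      _ = x := by group
  · exfalso
    have h3 : (q : G) * y * (q : G)⁻¹ = x * z := by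
      calc (q : G) * y * (q : G)⁻¹ = (q * (y * (q : G)⁻¹ * (y : G)⁻¹)) * y := by group
        _ = x * (y : G)⁻¹ * z * y := by rw [h2]
        _ = x * ((y : G)⁻¹ * z) * y := by group
        _ = x * (z * (y : G)⁻¹) * y := by rw [hzy]
        _ = x * z := by group
    have h4 : ((q : G) * y * (q : G)⁻¹) ^ 7 = 1 := by
      rw [conj_pow]
      have : (y : G) ^ 7 = 1 := congrArg Subtype.val hy
      rw [this]; group
    have hcomm : Commute (x : G) z := cz x
    rw [h3, hcomm.mul_pow] at h4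
    have h5 : (x : G) ^ 7 = 1 := congrArg Subtype.val hx
    have h6 : z ^ 7 = z := by
      calc z ^ 7 = (z * z) * (z * z) * (z * z) * z := by
            simp only [pow_succ, pow_zero, one_mul, mul_assoc]
        _ = z := by rw [hL.z_sq]; simp
    rw [h5, one_mul, h6] at h4
    exact hL.z_ne h4

/-- an element of order three -/
theorem LHyp.exists_w [Finite G] (h : LHyp Q z π) {y : Subgroup.centralizer ({z} : Set G)}
    (hy : y ^ 7 = 1) (hπ : π y = Ym) :
    ∃ w : Subgroup.centralizer ({z} : Set G), w ^ 3 = 1 ∧ π w = Wm ∧ w * y = y ^ 2 * w := by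
  obtain ⟨w0, hw0⟩ := h.exists_w0
  have hy2 : (y ^ 2) ^ 7 = 1 := by rw [← pow_mul, mul_comm, pow_mul, hy, one_pow]
  have hf := fun v => h.fpf hy hπ (v := v)
  have hf2 : ∀ v, h.large.act (y ^ 2) v = v → v = 0 := by
    intro v hv
    apply hf
    have e : y = (y ^ 2) ^ 4 := by
      rw [← pow_mul, pow_succ, hy, one_mul]
    rw [e, map_pow]
    show h.large.act (y ^ 2) (h.large.act (y ^ 2) (h.large.act (y ^ 2) (h.large.act (y ^ 2) v))) = v
    rw [hv, hv, hv, hv]
  have hx : (w0 * y * w0⁻¹) ^ 7 = 1 := by rw [conj_pow, hy]; group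
  have hxy : π (w0 * y * w0⁻¹) = π (y ^ 2) := by
    rw [map_mul, map_mul, map_inv, map_pow, hπ, hw0, Wm_Ym]; group
  obtain ⟨q, hqQ, hq⟩ := h.conj_of hy2 hf2 hx hxy
  -- `w₁ = q⁻¹ w₀`
  have hw1 : (q⁻¹ * w0) * y * (q⁻¹ * w0)⁻¹ = y ^ 2 := by
    calc (q⁻¹ * w0) * y * (q⁻¹ * w0)⁻¹ = q⁻¹ * (w0 * y * w0⁻¹) * q := by group
      _ = y ^ 2 := by rw [← hq]; group
  have hπ1 : π (q⁻¹ * w0) = Wm := by
    rw [map_mul, map_inv, (h.ker q).2 hqQ, hw0]; simp
  generalize q⁻¹ * w0 = w1 at hw1 hπ1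
  have hconj : ∀ n : ℕ, w1 * y ^ n * w1⁻¹ = (y ^ 2) ^ n := by
    intro n; rw [← hw1, conj_pow]
  have hw3 : w1 ^ 3 * y * (w1 ^ 3)⁻¹ = y := by
    calc w1 ^ 3 * y * (w1 ^ 3)⁻¹ = w1 * (w1 * (w1 * y * w1⁻¹) * w1⁻¹) * w1⁻¹ := by
          simp only [pow_succ, pow_zero, one_mul, mul_assoc, mul_inv_rev]
      _ = y := by
        rw [hw1, hconj, ← pow_mul, hconj, ← pow_mul]
        show y ^ (2 * (2 * 2)) = y
        rw [pow_succ, hy, one_mul]
  have hw3Q : ((w1 ^ 3 : Subgroup.centralizer ({z} : Set G)) : G) ∈ Q := by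
    rw [← h.ker, map_pow, hπ1, Wm_three]
  have hw3z : ((w1 ^ 3 : Subgroup.centralizer ({z} : Set G)) : G) = 1 ∨
      ((w1 ^ 3 : Subgroup.centralizer ({z} : Set G)) : G) = z := by
    have h1 : h.large.pr ⟨_, hw3Q⟩ = 0 := by
      apply hf
      rw [h.large.act_pr]
      congr 1
      apply Subtype.ext
      show (y : G) * (w1 ^ 3 : Subgroup.centralizer ({z} : Set G)) * (y : G)⁻¹ = _
      have h2 : y * w1 ^ 3 * y⁻¹ = w1 ^ 3 := by
        have h3 : w1 ^ 3 * y = y * w1 ^ 3 := by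
          calc w1 ^ 3 * y = (w1 ^ 3 * y * (w1 ^ 3)⁻¹) * w1 ^ 3 := by group
            _ = y * w1 ^ 3 := by rw [hw3]
        rw [← h3]; group
      exact congrArg Subtype.val h2
    exact h.large.pr_eq_zero.1 h1
  refine ⟨w1 ^ 4, ?_, ?_, ?_⟩
  · have h4 : (w1 ^ 3) ^ 4 = 1 := by
      apply Subtype.ext
      show ((w1 ^ 3 : Subgroup.centralizer ({z} : Set G)) : G) ^ 4 = 1
      rcases hw3z with h5 | h5 <;> rw [h5]
      · simp
      · calc z ^ 4 = (z * z) * (z * z) := by simp only [pow_succ, pow_zero, one_mul, mul_assoc]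
          _ = 1 := by rw [h.large.z_sq, one_mul]
    rw [← pow_mul, mul_comm, pow_mul, h4]
  · rw [map_pow, hπ1, pow_succ, Wm_three, one_mul]
  · have h5 : w1 ^ 4 * y * (w1 ^ 4)⁻¹ = y ^ 2 := by
      calc w1 ^ 4 * y * (w1 ^ 4)⁻¹ = w1 * (w1 ^ 3 * y * (w1 ^ 3)⁻¹) * w1⁻¹ := by group
        _ = y ^ 2 := by rw [hw3, hw1]
    calc w1 ^ 4 * y = (w1 ^ 4 * y * (w1 ^ 4)⁻¹) * w1 ^ 4 := by group
      _ = y ^ 2 * w1 ^ 4 := by rw [h5]

end

end Cfsg.Agent.Held.Ext
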