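import Mathlib
import Cfsg.Agent.Held.ExtGen
import Cfsg.Agent.Held.ExtCod

/-!
# Existence of coordinates adapted to `y`, `w` (S1659 from S1716)
-/

set_option autoImplicit false

namespace Cfsg.Agent.Held.Ext

open Cfsg.Agent.Co2Type.Quad Cfsg.Agent.LargeExtra.Model Cfsg.Agent.LargeExtra.Pres

section aux

variable {G : Type*} [Group G]

/-- exact fixed point, first module -/
theorem fix1 {z a : G} {F H : MulAut G} (hz1 : z ≠ 1) (hzz : z * z = 1) (hFz : F z = z)
    (haz : a * z = z * a)
    (hHF : ∀ x, H (F x) = F (F (H x))) (ha : a * a = 1)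
    (hR : F (F (F a)) = a * F a) (hc : H a = a ∨ H a = a * z) : H a = a := by
  rcases hc with hc | hc
  · exact hc
  exfalso
  have hFaz : ∀ n : ℕ, (F^[n] a) * z = z * F^[n] a := by
    intro n
    induction n with
    | zero => exact haz
    | succ n ih =>
      rw [Function.iterate_succ_apply']
      have := congrArg F ih
      rwa [map_mul, map_mul, hFz] at this
  have hF6 : F (F (F (F (F (F a))))) = a * F (F a) := by
    have h1 : F a * F a = 1 := by rw [← map_mul, ha, map_one]
    have h2 : F (F (F (F a))) = F a * F (F a) := by rw [hR, map_mul]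
    calc F (F (F (F (F (F a))))) = F (F (F (a * F a))) := by rw [hR]
      _ = F (F (F a)) * F (F (F (F a))) := by rw [map_mul, map_mul, map_mul]
      _ = a * F a * (F a * F (F a)) := by rw [h2, hR]
      _ = a * (F a * F a) * F (F a) := by group
      _ = a * F (F a) := by rw [h1]; group
  have h3 : H (F (F (F a))) = F (F (F (F (F (F a))))) * z := by
    rw [hHF, hHF, hHF, hc]
    simp only [map_mul, hFz]
  have h4 : H (F (F (F a))) = a * z * (F (F a) * z) := by
    rw [hR, map_mul, hHF, hc]
    simp only [map_mul, hFz]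
  rw [h3, hF6] at h4
  have h5 : a * z * (F (F a) * z) = a * F (F a) := by
    have h6 : z * F (F a) = F (F a) * z := (hFaz 2).symm
    calc a * z * (F (F a) * z) = a * (z * F (F a)) * z := by group
      _ = a * (F (F a) * z) * z := by rw [h6]
      _ = a * F (F a) * (z * z) := by group
      _ = a * F (F a) := by rw [hzz, mul_one]
  rw [h5] at h4
  exact hz1 (mul_eq_left.1 h4)

/-- exact fixed point, second module -/
theorem fix2 {z a : G} {F H : MulAut G} (hz1 : z ≠ 1) (hzz : z * z = 1) (hFz : F z = z)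
    (haz : a * z = z * a)
    (hHF : ∀ x, H (F x) = F (F (H x))) (ha : a * a = 1)
    (hR : F (F (F a)) = a * F (F a)) (hc : H a = a ∨ H a = a * z) : H a = a := by
  rcases hc with hc | hc
  · exact hc
  exfalso
  have hFaz : ∀ n : ℕ, (F^[n] a) * z = z * F^[n] a := by
    intro n
    induction n with
    | zero => exact haz
    | succ n ih =>
      rw [Function.iterate_succ_apply']
      have := congrArg F ih
      rwa [map_mul, map_mul, hFz] at this
  have hF5 : F (F (F (F (F a)))) = F (F a) * F (F (F (F a))) := by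
    calc F (F (F (F (F a)))) = F (F (a * F (F a))) := by rw [hR]
      _ = _ := by rw [map_mul, map_mul]
  have hF6 : F (F (F (F (F (F a))))) = a * F (F (F (F a))) := by
    have h1 : F (F a) * F (F a) = 1 := by rw [← map_mul, ← map_mul, ha, map_one, map_one]
    calc F (F (F (F (F (F a))))) = F (F (F (a * F (F a)))) := by rw [hR]
      _ = F (F (F a)) * F (F (F (F (F a)))) := by rw [map_mul, map_mul, map_mul]
      _ = F (F (F a)) * (F (F a) * F (F (F (F a)))) := by rw [hF5]
      _ = a * F (F a) * (F (F a) * F (F (F (F a)))) := by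
        generalize F (F (F (F a))) = u
        rw [hR]
      _ = a * (F (F a) * F (F a)) * F (F (F (F a))) := by group
      _ = a * F (F (F (F a))) := by rw [h1]; group
  have h3 : H (F (F (F a))) = F (F (F (F (F (F a))))) * z := by
    rw [hHF, hHF, hHF, hc]
    simp only [map_mul, hFz]
  have h4 : H (F (F (F a))) = a * z * (F (F (F (F a))) * z) := by
    calc H (F (F (F a))) = H (a * F (F a)) := by rw [hR]
      _ = a * z * (F (F (F (F a))) * z) := by
        rw [map_mul, hHF, hHF, hc]
        simp only [map_mul, hFz]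
  rw [h3, hF6] at h4
  have h5 : a * z * (F (F (F (F a))) * z) = a * F (F (F (F a))) := by
    have h6 : z * F (F (F (F a))) = F (F (F (F a))) * z := (hFaz 4).symm
    calc a * z * (F (F (F (F a))) * z) = a * (z * F (F (F (F a)))) * z := by group
      _ = a * (F (F (F (F a))) * z) * z := by rw [h6]
      _ = a * F (F (F (F a))) * (z * z) := by group
      _ = a * F (F (F (F a))) := by rw [hzz, mul_one]
  rw [h5] at h4
  exact hz1 (mul_eq_left.1 h4)

/-- the six generators -/
def gens (a b : G) (F : MulAut G) : ℕ → G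
  | 0 => a
  | 1 => F a
  | 2 => F (F a)
  | 3 => b
  | 4 => F b
  | 5 => F (F b)
  | _ => 1

end aux

section

variable {G : Type*} [Group G] {z : G} {Q : Subgroup G}
  {π : Subgroup.centralizer ({z} : Set G) →* SL3}

/-- images of a lift -/
theorem pr_conj (hL : Large Q z) (c : Subgroup.centralizer ({z} : Set G)) (x : Q)
    (hx : (c : G) * x * (c : G)⁻¹ ∈ Q) :
    hL.pr ⟨(c : G) * x * (c : G)⁻¹, hx⟩ = hL.act c (hL.pr x) := (hL.act_pr c x).symm

/-- exact lift of a vector of the first module -/
theorem LHyp.lift1 (h : LHyp Q z π) {y w : Subgroup.centralizer ({z} : Set G)}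
    (hwy : w * y = y ^ 2 * w) {v : h.large.V}
    (hv : VHyp.F1 (fun v => h.large.act y v) v) (hω : h.large.act w v = v) (hq : h.large.q v = 0) :
    ∃ a : Q, h.large.pr a = v ∧
      MulAut.conj (y : G) (MulAut.conj (y : G) (MulAut.conj (y : G) a)) =
        a * MulAut.conj (y : G) a ∧ MulAut.conj (w : G) (a : G) = a := by
  have hL := h.large
  obtain ⟨a0, ha0⟩ := hL.pr_surjective v
  have hmem : ∀ (c : Subgroup.centralizer ({z} : Set G)) (x : Q), (c : G) * x * (c : G)⁻¹ ∈ Q :=
    fun c x => hL.conj_mem_cent c x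
  have hFz : MulAut.conj (y : G) z = z := by
    rw [MulAut.conj_apply, cz y]; group
  -- relation modulo `z`
  have hrel : ∀ a : Q, hL.pr a = v →
      MulAut.conj (y : G) (MulAut.conj (y : G) (MulAut.conj (y : G) (a : G))) =
        a * MulAut.conj (y : G) a ∨
      MulAut.conj (y : G) (MulAut.conj (y : G) (MulAut.conj (y : G) (a : G))) =
        a * MulAut.conj (y : G) a * z := by
    intro a ha
    have e : hL.pr (hL.conjQ y (hL.conjQ y (hL.conjQ y a))) = hL.pr (a * hL.conjQ y a) := by
      rw [hL.pr_mul, ← hL.act_pr, ← hL.act_pr, ← hL.act_pr, ha]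
      exact hv
    exact hL.pr_eq_pr.1 e
  obtain ⟨a, ha, hR⟩ : ∃ a : Q, hL.pr a = v ∧
      MulAut.conj (y : G) (MulAut.conj (y : G) (MulAut.conj (y : G) (a : G))) =
        a * MulAut.conj (y : G) a := by
    rcases hrel a0 ha0 with h1 | h1
    · exact ⟨a0, ha0, h1⟩
    · refine ⟨a0 * ⟨z, hL.z_mem⟩, ?_, ?_⟩
      · rw [← ha0, hL.pr_eq_pr]; right; rfl
      · show MulAut.conj (y : G) (MulAut.conj (y : G) (MulAut.conj (y : G) ((a0 : G) * z))) =
          a0 * z * MulAut.conj (y : G) ((a0 : G) * z)
        simp only [map_mul, hFz] at h1 ⊢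
        rw [h1]
        have hc : (a0 : G) * z = z * a0 := hL.comm_z a0 a0.2
        have hc2 : MulAut.conj (y : G) (a0 : G) * z = z * MulAut.conj (y : G) (a0 : G) := by
          have := congrArg (MulAut.conj (y : G)) hc
          rwa [map_mul, map_mul, hFz] at this
        calc (a0 : G) * MulAut.conj (y : G) (a0 : G) * z * z
            = a0 * (MulAut.conj (y : G) (a0 : G) * z) * z := by group
          _ = a0 * (z * MulAut.conj (y : G) (a0 : G)) * z := by rw [hc2]
          _ = a0 * z * (MulAut.conj (y : G) (a0 : G) * z) := by group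
  refine ⟨a, ha, hR, ?_⟩
  have haa : (a : G) * a = 1 := by
    rw [← ha] at hq; exact hL.q_eq_zero.1 hq
  apply fix1 (F := MulAut.conj (y : G)) hL.z_ne hL.z_sq hFz (hL.comm_z a a.2) _ haa hR
  · have e : hL.pr (hL.conjQ w a) = hL.pr a := by rw [← hL.act_pr, ha]; exact hω
    exact hL.pr_eq_pr.1 e
  · intro x
    have hwy' : (w : G) * y = (y : G) ^ 2 * w := congrArg Subtype.val hwy
    simp only [MulAut.conj_apply]
    calc (w : G) * (y * x * (y : G)⁻¹) * (w : G)⁻¹
        = (w * y) * x * ((w : G) * y)⁻¹ := by group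
      _ = ((y : G) ^ 2 * w) * x * ((y : G) ^ 2 * w)⁻¹ := by rw [hwy']
      _ = y * (y * (w * x * (w : G)⁻¹) * (y : G)⁻¹) * (y : G)⁻¹ := by
        simp only [pow_two, mul_inv_rev]; group

/-- exact lift of a vector of the second module -/
theorem LHyp.lift2 (h : LHyp Q z π) {y w : Subgroup.centralizer ({z} : Set G)}
    (hwy : w * y = y ^ 2 * w) {v : h.large.V}
    (hv : VHyp.F2 (fun v => h.large.act y v) v) (hω : h.large.act w v = v) (hq : h.large.q v = 0) :
    ∃ a : Q, h.large.pr a = v ∧
      MulAut.conj (y : G) (MulAut.conj (y : G) (MulAut.conj (y : G) a)) =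
        a * MulAut.conj (y : G) (MulAut.conj (y : G) a) ∧ MulAut.conj (w : G) (a : G) = a := by
  have hL := h.large
  obtain ⟨a0, ha0⟩ := hL.pr_surjective v
  have hFz : MulAut.conj (y : G) z = z := by
    rw [MulAut.conj_apply, cz y]; group
  have hrel : ∀ a : Q, hL.pr a = v →
      MulAut.conj (y : G) (MulAut.conj (y : G) (MulAut.conj (y : G) (a : G))) =
        a * MulAut.conj (y : G) (MulAut.conj (y : G) a) ∨
      MulAut.conj (y : G) (MulAut.conj (y : G) (MulAut.conj (y : G) (a : G))) =
        a * MulAut.conj (y : G) (MulAut.conj (y : G) a) * z := by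
    intro a ha
    have e : hL.pr (hL.conjQ y (hL.conjQ y (hL.conjQ y a))) =
        hL.pr (a * hL.conjQ y (hL.conjQ y a)) := by
      rw [hL.pr_mul, ← hL.act_pr, ← hL.act_pr, ← hL.act_pr, ha]
      exact hv
    exact hL.pr_eq_pr.1 e
  obtain ⟨a, ha, hR⟩ : ∃ a : Q, hL.pr a = v ∧
      MulAut.conj (y : G) (MulAut.conj (y : G) (MulAut.conj (y : G) (a : G))) =
        a * MulAut.conj (y : G) (MulAut.conj (y : G) a) := by
    rcases hrel a0 ha0 with h1 | h1
    · exact ⟨a0, ha0, h1⟩
    · refine ⟨a0 * ⟨z, hL.z_mem⟩, ?_, ?_⟩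
      · rw [← ha0, hL.pr_eq_pr]; right; rfl
      · show MulAut.conj (y : G) (MulAut.conj (y : G) (MulAut.conj (y : G) ((a0 : G) * z))) =
          a0 * z * MulAut.conj (y : G) (MulAut.conj (y : G) ((a0 : G) * z))
        simp only [map_mul, hFz] at h1 ⊢
        rw [h1]
        have hc : (a0 : G) * z = z * a0 := hL.comm_z a0 a0.2
        have hc2 : MulAut.conj (y : G) (MulAut.conj (y : G) (a0 : G)) * z =
            z * MulAut.conj (y : G) (MulAut.conj (y : G) (a0 : G)) := by
          have := congrArg (fun x => MulAut.conj (y : G) (MulAut.conj (y : G) x)) hc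
          simpa only [map_mul, hFz] using this
        generalize MulAut.conj (y : G) (MulAut.conj (y : G) (a0 : G)) = u at hc2
        calc (a0 : G) * u * z * z = a0 * (u * z) * z := by group
          _ = a0 * (z * u) * z := by rw [hc2]
          _ = a0 * z * (u * z) := by group
  refine ⟨a, ha, hR, ?_⟩
  have haa : (a : G) * a = 1 := by
    rw [← ha] at hq; exact hL.q_eq_zero.1 hq
  apply fix2 (F := MulAut.conj (y : G)) hL.z_ne hL.z_sq hFz (hL.comm_z a a.2) _ haa hR
  · have e : hL.pr (hL.conjQ w a) = hL.pr a := by rw [← hL.act_pr, ha]; exact hω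
    exact hL.pr_eq_pr.1 e
  · intro x
    have hwy' : (w : G) * y = (y : G) ^ 2 * w := congrArg Subtype.val hwy
    simp only [MulAut.conj_apply]
    calc (w : G) * (y * x * (y : G)⁻¹) * (w : G)⁻¹
        = (w * y) * x * ((w : G) * y)⁻¹ := by group
      _ = ((y : G) ^ 2 * w) * x * ((y : G) ^ 2 * w)⁻¹ := by rw [hwy']
      _ = y * (y * (w * x * (w : G)⁻¹) * (y : G)⁻¹) * (y : G)⁻¹ := by
        simp only [pow_two, mul_inv_rev]; group

end

end Cfsg.Agent.Held.Ext
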