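import Mathlib
import Cfsg.Agent.Held.ExtCoord

/-!
# Existence of coordinates adapted to `y`, `w`, second part (S1659 from S1716)
-/

set_option autoImplicit false

namespace Cfsg.Agent.Held.Ext

open Cfsg.Agent.Co2Type.Quad Cfsg.Agent.LargeExtra.Model Cfsg.Agent.LargeExtra.Pres

section

variable {G : Type*} [Group G] {z : G} {Q : Subgroup G}

theorem cmrel (hL : Large Q z) (u v : Q) (bit : Bool)
    (hb : hL.b (hL.pr u) (hL.pr v) = if bit then 1 else 0) :
    (u : G) * v = zp z bit * (v * u) := by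
  cases bit
  · have h1 := (hL.b_pr u v).1 hb
    rw [h1]
    show (v : G) * u = 1 * (v * u)
    rw [one_mul]
  · have h1 := (hL.b_pr_one u v).1 hb
    rw [h1]
    show (v : G) * u * z = z * (v * u)
    exact hL.comm_z _ (Q.mul_mem v.2 u.2)

theorem codY : ∀ a : Fin 128, ev (fun i => [2, 4, 3, 16, 32, 40].getD i 0) a.1 = ap7 Y6 a.1 := by
  decide +kernel

theorem codW : ∀ a : Fin 128, ev (fun i => [1, 4, 6, 8, 32, 56].getD i 0) a.1 = ap7 W6 a.1 := by
  decide +kernel

variable {π : Subgroup.centralizer ({z} : Set G) →* SL3}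

theorem LHyp.exists_cod [Finite G] (h : LHyp Q z π) {y w : Subgroup.centralizer ({z} : Set G)}
    (hy : y ^ 7 = 1) (hπy : π y = Ym) (hπw : π w = Wm) (hwy : w * y = y ^ 2 * w) :
    ∃ E : ℕ → G, Cod z Q E ∧ (∀ a < 128, (y : G) * E a = E (ap7 Y6 a) * y) ∧
      (∀ a < 128, (w : G) * E a = E (ap7 W6 a) * w) := by
  have hL := h.large
  have hV := h.vhyp hy (hπ_w hπy hπw)
  have hne : ∃ v, hL.act y v ≠ v := by
    by_contra hcon
    push Not at hcon
    have h1 : hL.act y = 1 := by ext v; exact hcon v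
    have h2 := (h.ker y).2 (hL.mem_of_act y h1)
    rw [hπy] at h2
    exact Ym_ne h2
  obtain ⟨v, v', hv, hv', hωv, hωv', c00, c01, c02, c10, c20⟩ := hV.exists_vectors h.cardV hne
  obtain ⟨a, ha, haR, haw⟩ := h.lift1 hwy hv hωv (hV.q1 hv)
  obtain ⟨b, hb, hbR, hbw⟩ := h.lift2 hwy hv' hωv' (hV.q2 hv')
  set F := MulAut.conj (y : G) with hF
  -- the elements of `Q`
  let a1 : Q := hL.conjQ y a
  let a2 : Q := hL.conjQ y a1
  let b1 : Q := hL.conjQ y b
  let b2 : Q := hL.conjQ y b1
  have pa1 : hL.pr a1 = hL.act y v := by rw [← ha]; exact (hL.act_pr y a).symm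
  have pa2 : hL.pr a2 = hL.act y (hL.act y v) := by rw [← pa1]; exact (hL.act_pr y a1).symm
  have pb1 : hL.pr b1 = hL.act y v' := by rw [← hb]; exact (hL.act_pr y b).symm
  have pb2 : hL.pr b2 = hL.act y (hL.act y v') := by rw [← pb1]; exact (hL.act_pr y b1).symm
  have c11 : hL.b (hL.act y v) (hL.act y v') = 1 := by rw [hL.b_act]; exact c00
  have c12 : hL.b (hL.act y v) (hL.act y (hL.act y v')) = 1 := by rw [hL.b_act]; exact c01
  have c21 : hL.b (hL.act y (hL.act y v)) (hL.act y v') = 0 := by rw [hL.b_act]; exact c10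
  have c22 : hL.b (hL.act y (hL.act y v)) (hL.act y (hL.act y v')) = 1 := by
    rw [hL.b_act, hL.b_act]; exact c00
  have hvφ := hV.F1φ hv
  have hvφφ := hV.F1φ hvφ
  have hvφ' := hV.F2φ hv'
  have hvφφ' := hV.F2φ hvφ'
  have sqQ : ∀ u : Q, hL.q (hL.pr u) = 0 → (u : G) * u = 1 := fun u hu => hL.q_eq_zero.1 hu
  have s0 : (a : G) * a = 1 := sqQ a (by rw [ha]; exact hV.q1 hv)
  have s1 : (a1 : G) * a1 = 1 := sqQ a1 (by rw [pa1]; exact hV.q1 hvφ)
  have s2 : (a2 : G) * a2 = 1 := sqQ a2 (by rw [pa2]; exact hV.q1 hvφφ)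
  have s3 : (b : G) * b = 1 := sqQ b (by rw [hb]; exact hV.q2 hv')
  have s4 : (b1 : G) * b1 = 1 := sqQ b1 (by rw [pb1]; exact hV.q2 hvφ')
  have s5 : (b2 : G) * b2 = 1 := sqQ b2 (by rw [pb2]; exact hV.q2 hvφφ')
  have hR : Rels BB 6 z (gens (a : G) b F) := by
    refine ⟨hL.z_sq, ?_, ?_, ?_⟩
    · intro i hi
      interval_cases i
      · exact hL.comm_z _ a.2
      · exact hL.comm_z _ a1.2
      · exact hL.comm_z _ a2.2
      · exact hL.comm_z _ b.2
      · exact hL.comm_z _ b1.2
      · exact hL.comm_z _ b2.2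
    · intro i hi
      interval_cases i
      · exact s0
      · exact s1
      · exact s2
      · exact s3
      · exact s4
      · exact s5
    · intro i hi j hj
      interval_cases i <;> interval_cases j
      · exact cmrel hL a1 a false (by rw [ha, pa1]; exact hV.iso1 hvφ hv)
      · exact cmrel hL a2 a false (by rw [ha, pa2]; exact hV.iso1 hvφφ hv)
      · exact cmrel hL a2 a1 false (by rw [pa1, pa2]; exact hV.iso1 hvφφ hvφ)
      · exact cmrel hL b a true (by rw [ha, hb, hL.b_comm]; exact c00)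
      · exact cmrel hL b a1 false (by rw [pa1, hb, hL.b_comm]; exact c10)
      · exact cmrel hL b a2 false (by rw [pa2, hb, hL.b_comm]; exact c20)
      · exact cmrel hL b1 a true (by rw [ha, pb1, hL.b_comm]; exact c01)
      · exact cmrel hL b1 a1 true (by rw [pa1, pb1, hL.b_comm]; exact c11)
      · exact cmrel hL b1 a2 false (by rw [pa2, pb1, hL.b_comm]; exact c21)
      · exact cmrel hL b1 b false (by rw [hb, pb1]; exact hV.iso2 hvφ' hv')
      · exact cmrel hL b2 a true (by rw [ha, pb2, hL.b_comm]; exact c02)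
      · exact cmrel hL b2 a1 true (by rw [pa1, pb2, hL.b_comm]; exact c12)
      · exact cmrel hL b2 a2 true (by rw [pa2, pb2, hL.b_comm]; exact c22)
      · exact cmrel hL b2 b false (by rw [hb, pb2]; exact hV.iso2 hvφφ' hv')
      · exact cmrel hL b2 b1 false (by rw [pb1, pb2]; exact hV.iso2 hvφφ' hvφ')
  have hQx : ∀ i < 6, gens (a : G) b F i ∈ Q := by
    intro i hi
    interval_cases i
    · exact a.2
    · exact a1.2
    · exact a2.2
    · exact b.2
    · exact b1.2
    · exact b2.2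
  let f := lift hR tri_BB
  have hfinj : Function.Injective f := lift_injective hR tri_BB nondeg_BB hL.z_ne
  have hfQ : ∀ g, f g ∈ Q := by
    intro g
    have h1 : f.range ≤ Q := by
      rw [MonoidHom.range_eq_map, ← closure_q BB 6, MonoidHom.map_closure, Subgroup.closure_le]
      rintro _ ⟨x, hx, rfl⟩
      rcases hx with rfl | ⟨i, rfl⟩
      · show lift hR tri_BB zz ∈ Q
        rw [lift_zz]; exact hL.z_mem
      · show lift hR tri_BB (q BB 6 i) ∈ Q
        rw [lift_q]; exact hQx _ i.2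
    exact h1 ⟨g, rfl⟩
  have hfsurj : ∀ g ∈ Q, ∃ x, f x = g := by
    have hb : Function.Bijective (fun x : XG BB 6 => (⟨f x, hfQ x⟩ : Q)) := by
      rw [Nat.bijective_iff_injective_and_card]
      refine ⟨fun x x' hxx => hfinj (congrArg Subtype.val hxx), ?_⟩
      rw [card_XG, h.card]; norm_num
    intro g hg
    obtain ⟨x, hx⟩ := hb.2 ⟨g, hg⟩
    exact ⟨x, congrArg Subtype.val hx⟩
  let E : ℕ → G := fun n => f (dec n)
  have hE64 : E 64 = z := by show f (dec 64) = z; rw [dec_64]; exact lift_zz hR tri_BB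
  have hC : Cod z Q E := by
    refine ⟨hL, hE64, ?_, ?_, ?_⟩
    · intro m _ n _
      show f (dec m) * f (dec n) = f (dec (mulQ m n))
      rw [dec_mul, map_mul]
    · intro m hm n hn hmn
      exact dec_inj hm hn (hfinj hmn)
    · intro g
      constructor
      · intro hg
        obtain ⟨x, hx⟩ := hfsurj g hg
        obtain ⟨m, hm, rfl⟩ := dec_surj x
        exact ⟨m, hm, hx⟩
      · rintro ⟨m, _, rfl⟩
        exact hfQ _
  have hgen : ∀ i < 6, E (2 ^ i) = gens (a : G) b F i := by
    intro i hi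
    have h1 : dec (2 ^ i) = q BB 6 ⟨i, hi⟩ := by
      interval_cases i <;> rfl
    show f (dec (2 ^ i)) = _
    rw [h1]
    exact lift_q hR tri_BB ⟨i, hi⟩
  have g0 : E 1 = a := hgen 0 (by norm_num)
  have g1 : E 2 = F a := hgen 1 (by norm_num)
  have g2 : E 4 = F (F a) := hgen 2 (by norm_num)
  have g3 : E 8 = b := hgen 3 (by norm_num)
  have g4 : E 16 = F b := hgen 4 (by norm_num)
  have g5 : E 32 = F (F b) := hgen 5 (by norm_num)
  have m12 : E 3 = a * F a := by
    rw [← g1, ← g0, hC.mul 1 (by norm_num) 2 (by norm_num)]; rfl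
  have m24 : E 6 = F a * F (F a) := by
    rw [← g2, ← g1, hC.mul 2 (by norm_num) 4 (by norm_num)]; rfl
  have m40 : E 40 = b * F (F b) := by
    rw [← g5, ← g3, hC.mul 8 (by norm_num) 32 (by norm_num)]; rfl
  have m56 : E 56 = F b * (b * F (F b)) := by
    rw [← m40, ← g4, hC.mul 16 (by norm_num) 40 (by norm_num)]; rfl
  have hconj : ∀ c x : G, c * x = MulAut.conj c x * c := by
    intro c x; rw [MulAut.conj_apply]; group
  have hHF : ∀ x, MulAut.conj (w : G) (F x) = F (F (MulAut.conj (w : G) x)) := by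
    intro x
    have hwy' : (w : G) * y = (y : G) ^ 2 * w := congrArg Subtype.val hwy
    rw [hF]
    simp only [MulAut.conj_apply]
    calc (w : G) * (y * x * (y : G)⁻¹) * (w : G)⁻¹
        = (w * y) * x * ((w : G) * y)⁻¹ := by group
      _ = ((y : G) ^ 2 * w) * x * ((y : G) ^ 2 * w)⁻¹ := by rw [hwy']
      _ = y * (y * (w * x * (w : G)⁻¹) * (y : G)⁻¹) * (y : G)⁻¹ := by
        simp only [pow_two, mul_inv_rev]; group
  refine ⟨E, hC, ?_, ?_⟩
  · have hI : ∀ i < 6, [2, 4, 3, 16, 32, 40].getD i 0 < 128 := by decide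
    have h1 := hC.conj_ev (cz y) (I := fun i => [2, 4, 3, 16, 32, 40].getD i 0) hI (by
      intro i hi
      rw [hconj, ← hF]
      interval_cases i
      · show F (E 1) * y = E 2 * y
        rw [g0, g1]
      · show F (E 2) * y = E 4 * y
        rw [g1, g2]
      · show F (E 4) * y = E 3 * y
        rw [g2, haR, m12]
      · show F (E 8) * y = E 16 * y
        rw [g3, g4]
      · show F (E 16) * y = E 32 * y
        rw [g4, g5]
      · show F (E 32) * y = E 40 * y
        rw [g5, hbR, m40])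
    intro n hn
    rw [h1 n hn, codY ⟨n, hn⟩]
  · have hI : ∀ i < 6, [1, 4, 6, 8, 32, 56].getD i 0 < 128 := by decide
    have h1 := hC.conj_ev (cz w) (I := fun i => [1, 4, 6, 8, 32, 56].getD i 0) hI (by
      intro i hi
      rw [hconj]
      interval_cases i
      · show MulAut.conj (w : G) (E 1) * w = E 1 * w
        rw [g0, haw]
      · show MulAut.conj (w : G) (E 2) * w = E 4 * w
        rw [g1, hHF, haw, g2]
      · show MulAut.conj (w : G) (E 4) * w = E 6 * w
        rw [g2, hHF, hHF, haw, haR, map_mul, m24]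
      · show MulAut.conj (w : G) (E 8) * w = E 8 * w
        rw [g3, hbw]
      · show MulAut.conj (w : G) (E 16) * w = E 32 * w
        rw [g4, hHF, hbw, g5]
      · show MulAut.conj (w : G) (E 32) * w = E 56 * w
        rw [g5, hHF, hHF, hbw, hbR, map_mul, hbR, m56])
    intro n hn
    rw [h1 n hn, codW ⟨n, hn⟩]

end

end Cfsg.Agent.Held.Ext
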