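import Mathlib
import Cfsg.Agent.Held.ExtCode

/-!
# Finite checks for the dichotomy (S1659 from S1716)
-/

set_option autoImplicit false

namespace Cfsg.Agent.Held.Ext

/-- the candidate determined by the images of `v₀, v₁, v'₀, v'₁` -/
def cand (t0 x1 t0' x' : ℕ) : ℕ :=
  mk6 t0 x1 (ap W6 (ap W6 x1)) t0' x' (ap W6 (ap W6 x'))

/-- `M² = 1` and `(Y M)³ = 1` on the basis -/
def condB (M : ℕ) : Bool :=
  (ap M (ap M 1) == 1 && ap M (ap M 8) == 8 && ap M (ap M 2) == 2 && ap M (ap M 16) == 16 &&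
    ap M (ap M 4) == 4 && ap M (ap M 32) == 32) &&
  (ap Y6 (ap M (ap Y6 (ap M (ap Y6 (ap M 1))))) == 1 &&
    ap Y6 (ap M (ap Y6 (ap M (ap Y6 (ap M 2))))) == 2 &&
    ap Y6 (ap M (ap Y6 (ap M (ap Y6 (ap M 4))))) == 4 &&
    ap Y6 (ap M (ap Y6 (ap M (ap Y6 (ap M 8))))) == 8 &&
    ap Y6 (ap M (ap Y6 (ap M (ap Y6 (ap M 16))))) == 16 &&
    ap Y6 (ap M (ap Y6 (ap M (ap Y6 (ap M 32))))) == 32)

def isT (M : ℕ) : Bool := M == T0 || M == T1 || M == T2

def dichB : Bool :=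
  [1, 8, 9].all fun t0 => [1, 8, 9].all fun t0' =>
    (List.range 64).all fun x1 => (qf x1 != 0) ||
      (List.range 64).all fun x' => (qf x' != 0) || (!condB (cand t0 x1 t0' x')) ||
        isT (cand t0 x1 t0' x')

theorem dichB_true : dichB = true := by decide +kernel

theorem all_range {p : ℕ → Bool} {n : ℕ} (h : (List.range n).all p = true) {i : ℕ} (hi : i < n) :
    p i = true := List.all_eq_true.1 h i (List.mem_range.2 hi)

theorem dich {t0 x1 t0' x' : ℕ} (h0 : t0 = 1 ∨ t0 = 8 ∨ t0 = 9) (h0' : t0' = 1 ∨ t0' = 8 ∨ t0' = 9)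
    (h1 : x1 < 64) (h' : x' < 64) (q1 : qf x1 = 0) (q' : qf x' = 0)
    (hc : condB (cand t0 x1 t0' x') = true) :
    cand t0 x1 t0' x' = T0 ∨ cand t0 x1 t0' x' = T1 ∨ cand t0 x1 t0' x' = T2 := by
  have hm : ∀ s : ℕ, (s = 1 ∨ s = 8 ∨ s = 9) → s ∈ [1, 8, 9] := by
    rintro s (rfl | rfl | rfl) <;> simp
  have h := dichB_true
  unfold dichB at h
  have ha := List.all_eq_true.1 h t0 (hm t0 h0)
  have hb := List.all_eq_true.1 ha t0' (hm t0' h0')
  have hd := all_range hb h1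
  rw [Bool.or_eq_true] at hd
  rcases hd with hd | hd
  · rw [q1] at hd; exact absurd hd (by decide)
  have he := all_range hd h'
  rw [q', hc] at he
  have hf : isT (cand t0 x1 t0' x') = true := by simpa only [bne_self_eq_false, Bool.false_or,
    Bool.not_true] using he
  rw [isT, Bool.or_eq_true, Bool.or_eq_true, beq_iff_eq, beq_iff_eq, beq_iff_eq] at hf
  rcases hf with (hf | hf) | hf
  · exact Or.inl hf
  · exact Or.inr (Or.inl hf)
  · exact Or.inr (Or.inr hf)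

end Cfsg.Agent.Held.Ext
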