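import Mathlib
import Cfsg.Agent.Held.ExtCoord2
import Cfsg.Agent.Held.ExtDich
import Cfsg.Agent.Held.ExtList

/-!
# The three possible actions of the third generator (S1659 from S1716)
-/

set_option autoImplicit false

namespace Cfsg.Agent.Held.Ext

open Cfsg.Agent.Co2Type.Quad

theorem fixW : ∀ x : Fin 64, ap W6 x.1 = x.1 → x.1 = 0 ∨ x.1 = 1 ∨ x.1 = 8 ∨ x.1 = 9 := by
  decide +kernel

theorem W6_three : ∀ x : Fin 64, ap W6 (ap W6 (ap W6 x.1)) = x.1 := by decide +kernel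

theorem ap_I6' {a : ℕ} (ha : a < 64) : ap I6 a = a := ap_I6 ⟨a, ha⟩

section

variable {G : Type*} [Group G] {z : G} {Q : Subgroup G} {E : ℕ → G}

theorem Cod.VA_tty (_h : Cod z Q E) {y t : G} {T : ℕ} (hy : VA E y Y6) (ht : VA E t T) (j : ℕ) :
    VA E (tty t y j) (tt6 T j) := by
  unfold tty tt6
  split
  · exact VA.one
  · exact VA.mul ht (VA.pow hy j)

theorem Cod.VA_nf (h : Cod z Q E) {y w t : G} {T : ℕ} (hy : VA E y Y6) (hw : VA E w W6)
    (ht : VA E t T) (i k j : ℕ) : VA E (y ^ i * (w ^ k * tty t y j)) (nf6 T i k j) :=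
  VA.mul (VA.pow hy i) (VA.mul (VA.pow hw k) (h.VA_tty hy ht j))

variable {π : Subgroup.centralizer ({z} : Set G) →* SL3}

/-- elements with the same image differ by an element of `Q` -/
theorem LHyp.exists_q (h : LHyp Q z π) {c d : Subgroup.centralizer ({z} : Set G)}
    (hcd : π c = π d) : ∃ q ∈ Q, (c : G) = q * d := by
  refine ⟨((c * d⁻¹ : Subgroup.centralizer ({z} : Set G)) : G), ?_, ?_⟩
  · rw [← h.ker, map_mul, map_inv, hcd, mul_inv_cancel]
  · show (c : G) = (c * (d : G)⁻¹) * d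
    group

theorem LHyp.VA_congr (h : LHyp Q z π) (hC : Cod z Q E)
    {c d : Subgroup.centralizer ({z} : Set G)} (hcd : π c = π d) {M N : ℕ} (hM : VA E (c : G) M)
    (hN : VA E (d : G) N) (a : ℕ) (ha : a < 64) : ap M a = ap N a := by
  obtain ⟨q, hq, hqe⟩ := h.exists_q hcd
  rw [hqe] at hM
  have h1 := VA.mul (hC.VA_mem hq) hN
  rw [hC.VA_unique hM h1 a ha, ap_comp6, ap_I6' (ap_lt _ _)]

theorem LHyp.dichotomy (h : LHyp Q z π) (hC : Cod z Q E)
    {y w t : Subgroup.centralizer ({z} : Set G)} (hy : π y = Ym) (hw : π w = Wm) (ht : π t = Tm)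
    (hyE : ∀ a < 128, (y : G) * E a = E (ap7 Y6 a) * y)
    (hwE : ∀ a < 128, (w : G) * E a = E (ap7 W6 a) * w) :
    VA E (t : G) T0 ∨ VA E (t : G) T1 ∨ VA E (t : G) T2 := by
  obtain ⟨I, hI, hev⟩ := hC.exists_ev (cz t)
  have hM := VA_of_ev hI hev
  have hm : ∀ x : ℕ, x % 64 < 64 := fun x => Nat.mod_lt _ (by norm_num)
  have hap := ap_mk6 (hm (I 0)) (hm (I 1)) (hm (I 2)) (hm (I 3)) (hm (I 4)) (hm (I 5))
  set M := mk6 (I 0 % 64) (I 1 % 64) (I 2 % 64) (I 3 % 64) (I 4 % 64) (I 5 % 64) with hMdef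
  have hY : VA E (y : G) Y6 := VA.of_exact hyE
  have hW : VA E (w : G) W6 := VA.of_exact hwE
  -- the relations on masks
  have r1 : ∀ a < 64, ap M (ap M a) = a := by
    intro a ha
    have e : π (t * t) = π 1 := by rw [map_mul, ht, Tm_sq, map_one]
    have := h.VA_congr hC e (VA.mul hM hM) (VA.one (E := E)) a ha
    rwa [ap_comp6, ap_I6' ha] at this
  have r2 : ∀ a < 64, ap W6 (ap M (ap W6 a)) = ap M a := by
    intro a ha
    have e : π (w * (t * w)) = π t := by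
      rw [map_mul, map_mul, ht, hw, ← mul_assoc, Wm_Tm]
    have := h.VA_congr hC e (VA.mul hW (VA.mul hM hW)) hM a ha
    rwa [ap_comp6, ap_comp6] at this
  have r3 : ∀ a < 64, ap Y6 (ap M (ap Y6 (ap M (ap Y6 (ap M a))))) = a := by
    intro a ha
    have e : π ((y * t) * ((y * t) * (y * t))) = π 1 := by
      have h3 := YT_three
      rw [pow_succ, pow_two] at h3
      simp only [map_mul, hy, ht, map_one]
      rw [← mul_assoc (Ym * Tm)]
      exact h3
    have := h.VA_congr hC e (VA.mul (VA.mul hY hM) (VA.mul (VA.mul hY hM) (VA.mul hY hM)))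
      (VA.one (E := E)) a ha
    rw [ap_comp6, ap_comp6, ap_comp6, ap_comp6, ap_comp6, ap_I6' ha] at this
    exact this
  -- the entries
  have e0 : ap M 1 = I 0 % 64 := by rw [hap]; simp
  have e1 : ap M 2 = I 1 % 64 := by rw [hap]; simp
  have e2 : ap M 4 = I 2 % 64 := by rw [hap]; simp
  have e3 : ap M 8 = I 3 % 64 := by rw [hap]; simp
  have e4 : ap M 16 = I 4 % 64 := by rw [hap]; simp
  have e5 : ap M 32 = I 5 % 64 := by rw [hap]; simp
  have w1 : ap W6 1 = 1 := by decide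
  have w2 : ap W6 2 = 4 := by decide
  have w8 : ap W6 8 = 8 := by decide
  have w16 : ap W6 16 = 32 := by decide
  have f0 : I 0 % 64 = 1 ∨ I 0 % 64 = 8 ∨ I 0 % 64 = 9 := by
    have h1 := r2 1 (by norm_num)
    rw [w1, e0] at h1
    rcases fixW ⟨_, hm (I 0)⟩ h1 with h2 | h2 | h2 | h2
    · exfalso
      have h3 := r1 1 (by norm_num)
      rw [e0, show I 0 % 64 = 0 from h2, ap_zero] at h3
      exact absurd h3 (by norm_num)
    · exact Or.inl h2
    · exact Or.inr (Or.inl h2)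
    · exact Or.inr (Or.inr h2)
  have f3 : I 3 % 64 = 1 ∨ I 3 % 64 = 8 ∨ I 3 % 64 = 9 := by
    have h1 := r2 8 (by norm_num)
    rw [w8, e3] at h1
    rcases fixW ⟨_, hm (I 3)⟩ h1 with h2 | h2 | h2 | h2
    · exfalso
      have h3 := r1 8 (by norm_num)
      rw [e3, show I 3 % 64 = 0 from h2, ap_zero] at h3
      exact absurd h3 (by norm_num)
    · exact Or.inl h2
    · exact Or.inr (Or.inl h2)
    · exact Or.inr (Or.inr h2)
  have f2 : I 2 % 64 = ap W6 (ap W6 (I 1 % 64)) := by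
    have h1 := r2 2 (by norm_num)
    rw [w2, e2, e1] at h1
    rw [← h1]
    exact (W6_three ⟨_, hm (I 2)⟩).symm
  have f5 : I 5 % 64 = ap W6 (ap W6 (I 4 % 64)) := by
    have h1 := r2 16 (by norm_num)
    rw [w16, e5, e4] at h1
    rw [← h1]
    exact (W6_three ⟨_, hm (I 5)⟩).symm
  have hcand : M = cand (I 0 % 64) (I 1 % 64) (I 3 % 64) (I 4 % 64) := by
    rw [hMdef, cand, ← f2, ← f5]
  -- the quadratic form
  have hq : ∀ i < 6, qf (2 ^ i) = 0 → qf (I i % 64) = 0 := by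
    intro i hi hqi
    have hp : (2 : ℕ) ^ i < 128 := by
      calc (2 : ℕ) ^ i ≤ 2 ^ 6 := Nat.pow_le_pow_right (by norm_num) (by omega)
        _ < 128 := by norm_num
    have h1 : E (2 ^ i) * E (2 ^ i) = 1 := by
      rw [hC.mul _ hp _ hp]
      have : mulQ (2 ^ i) (2 ^ i) = 0 := by
        unfold mulQ
        unfold qf at hqi
        rw [hqi]; simp
      rw [this, hC.E0]
    have hIe : (t : G) * E (2 ^ i) = E (I i) * t := by
      have h2 := hev (2 ^ i) hp
      have h3 : ev I (2 ^ i) = I i := by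
        have hz1 : ∀ x, mulQ x 0 = x := by
          intro x; unfold mulQ beta; simp [par]
        have hz2 : ∀ x, mulQ 0 x = x := by
          intro x
          unfold mulQ beta
          have : ll 0 = 0 := by decide
          rw [this]; simp [par]
        interval_cases i <;> simp [ev, hz1, hz2]
      rw [h3] at h2; exact h2
    have h2 : E (I i) * E (I i) = 1 := by
      have e : E (I i) = t * E (2 ^ i) * (t : G)⁻¹ := by rw [hIe]; group
      rw [e]
      calc (t : G) * E (2 ^ i) * (t : G)⁻¹ * (t * E (2 ^ i) * (t : G)⁻¹)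
          = t * (E (2 ^ i) * E (2 ^ i)) * (t : G)⁻¹ := by group
        _ = 1 := by rw [h1]; group
    rw [hC.mul _ (hI i) _ (hI i)] at h2
    have h3 : mulQ (I i) (I i) = 0 :=
      hC.inj _ (mulQ_lt (hI i) (hI i)) 0 (by norm_num) (h2.trans hC.E0.symm)
    unfold mulQ at h3
    rw [Nat.xor_self, Nat.zero_xor] at h3
    unfold qf
    rw [beta_mod]
    omega
  have q1 : qf (I 1 % 64) = 0 := hq 1 (by norm_num) (by decide)
  have q4 : qf (I 4 % 64) = 0 := hq 4 (by norm_num) (by decide)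
  have hcB : condB (cand (I 0 % 64) (I 1 % 64) (I 3 % 64) (I 4 % 64)) = true := by
    rw [← hcand]
    unfold condB
    simp only [Bool.and_eq_true, beq_iff_eq]
    refine ⟨⟨⟨⟨⟨⟨r1 1 (by norm_num), r1 8 (by norm_num)⟩, r1 2 (by norm_num)⟩,
      r1 16 (by norm_num)⟩, r1 4 (by norm_num)⟩, r1 32 (by norm_num)⟩,
      ⟨⟨⟨⟨⟨r3 1 (by norm_num), r3 2 (by norm_num)⟩, r3 4 (by norm_num)⟩, r3 8 (by norm_num)⟩,
      r3 16 (by norm_num)⟩, r3 32 (by norm_num)⟩⟩
  rcases dich f0 f3 (hm _) (hm _) q1 q4 hcB with h1 | h1 | h1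
  · left; rw [← h1, ← hcand]; exact hM
  · right; left; rw [← h1, ← hcand]; exact hM
  · right; right; rw [← h1, ← hcand]; exact hM

/-- the order of the centraliser -/
theorem LHyp.card_centralizer [Finite G] (h : LHyp Q z π) :
    Nat.card (Subgroup.centralizer ({z} : Set G)) = 21504 := by
  have h1 : Nat.card π.ker = 128 := by
    rw [← h.card]
    apply Nat.card_congr
    refine ⟨fun c => ⟨(c : Subgroup.centralizer ({z} : Set G)), (h.ker _).1 c.2⟩,
      fun q => ⟨⟨q, Subgroup.mem_centralizer_singleton_iff.2 (h.large.comm_z q q.2)⟩,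
        (h.ker _).2 q.2⟩, fun c => rfl, fun q => rfl⟩
  have h2 : Nat.card (Subgroup.centralizer ({z} : Set G) ⧸ π.ker) = 168 := by
    rw [← card_SL3]
    exact Nat.card_congr (QuotientGroup.quotientKerEquivOfSurjective π h.surj).toEquiv
  rw [Subgroup.card_eq_card_quotient_mul_card_subgroup π.ker, h1, h2]

/-- coordinates exist, with one of the three actions of `t` -/
theorem LHyp.exists_crd3 [Finite G] (h : LHyp Q z π) :
    ∃ (E : ℕ → G) (y w t : G) (T : ℕ), Crd z Q E y w t T ∧ (T = T0 ∨ T = T1 ∨ T = T2) := by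
  obtain ⟨y, hy7, hy⟩ := h.exists_y
  obtain ⟨w, hw3, hw, hwy⟩ := h.exists_w hy7 hy
  obtain ⟨t, ht⟩ := h.surj Tm
  obtain ⟨E, hC, hyE, hwE⟩ := h.exists_cod hy7 hy hw hwy
  have hd := h.dichotomy hC hy hw ht hyE hwE
  obtain ⟨T, hT, hTE⟩ : ∃ T, (T = T0 ∨ T = T1 ∨ T = T2) ∧ VA E (t : G) T := by
    rcases hd with h1 | h1 | h1
    · exact ⟨T0, Or.inl rfl, h1⟩
    · exact ⟨T1, Or.inr (Or.inl rfl), h1⟩
    · exact ⟨T2, Or.inr (Or.inr rfl), h1⟩
  refine ⟨E, y, w, t, T, ?_, hT⟩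
  refine Crd.mk h.large hC.E64 hC.mul hC.inj hC.mem (cz y) (cz w) (cz t)
    (congrArg Subtype.val hy7) (congrArg Subtype.val hw3) (congrArg Subtype.val hwy) hyE hwE
    hTE ?_ h.card_centralizer
  -- the normal form
  let nf : Fin 7 × Fin 3 × Fin 8 → Subgroup.centralizer ({z} : Set G) := fun p =>
    y ^ p.1.1 * (w ^ p.2.1.1 * tty t y p.2.2.1)
  have hnf : ∀ p, ((nf p : Subgroup.centralizer ({z} : Set G)) : G) =
      (y : G) ^ p.1.1 * ((w : G) ^ p.2.1.1 * tty (t : G) (y : G) p.2.2.1) := by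
    intro p
    show ((y ^ p.1.1 * (w ^ p.2.1.1 * tty t y p.2.2.1) : Subgroup.centralizer ({z} : Set G)) : G) = _
    have e : ((tty t y p.2.2.1 : Subgroup.centralizer ({z} : Set G)) : G) =
        tty (t : G) (y : G) p.2.2.1 := by
      unfold tty
      split <;> rfl
    rw [Subgroup.coe_mul, Subgroup.coe_mul, e]; rfl
  have hVA : ∀ p, VA E ((nf p : Subgroup.centralizer ({z} : Set G)) : G)
      (nf6 T p.1.1 p.2.1.1 p.2.2.1) := by
    intro p
    rw [hnf]
    exact hC.VA_nf (VA.of_exact hyE) (VA.of_exact hwE) hTE _ _ _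
  have hinj : Function.Injective (fun p => π (nf p)) := by
    intro p p' hpp
    have h1 := packed_ext (nf6_lt (T := T) p.1.1 p.2.1.1 p.2.2.1)
      (nf6_lt (T := T) p'.1.1 p'.2.1.1 p'.2.2.1) (h.VA_congr hC hpp (hVA p) (hVA p'))
    obtain ⟨h2, h3, h4⟩ := nf_inj hT p.1.2 p.2.1.2 p.2.2.2 p'.1.2 p'.2.1.2 p'.2.2.2 h1
    exact Prod.ext (Fin.ext h2) (Prod.ext (Fin.ext h3) (Fin.ext h4))
  have hbij : Function.Bijective (fun p => π (nf p)) := by
    rw [Nat.bijective_iff_injective_and_card]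
    refine ⟨hinj, ?_⟩
    rw [card_SL3, Nat.card_eq_fintype_card]
    rfl
  intro c hc
  obtain ⟨p, hp⟩ := hbij.2 (π ⟨c, Subgroup.mem_centralizer_singleton_iff.2 hc⟩)
  obtain ⟨q, hq, hqe⟩ := h.exists_q hp.symm
  obtain ⟨u, hu, rfl⟩ := (hC.mem q).1 hq
  refine ⟨p.1.1, p.1.2, p.2.1.1, p.2.1.2, p.2.2.1, p.2.2.2, u, hu, ?_⟩
  rw [← hnf]
  exact hqe

end

end Cfsg.Agent.Held.Ext
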