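import Mathlib
import Cfsg.Agent.Held.ExtDichT

/-!
# Exchanging the two modules (S1659 from S1716)
-/

set_option autoImplicit false

namespace Cfsg.Agent.Held.Ext

open Cfsg.Agent.Co2Type.Quad Cfsg.Agent.LargeExtra.Model Cfsg.Agent.LargeExtra.Pres

/-- images of the generators under the exchange -/
def swI (i : ℕ) : ℕ := [8, 48, 24, 1, 5, 7].getD i 0

/-- the exchange on codes -/
def sw (a : ℕ) : ℕ := ev swI a

theorem swI_lt : ∀ i < 6, swI i < 128 := by decide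

theorem sw_lt (a : ℕ) : sw a < 128 := ev_lt swI_lt a

/-- the exchange as a homomorphism -/
def swX (i : ℕ) : XG BB 6 := dec (swI i)

theorem good_sw : Good BB 6 swX := by decide +kernel

theorem lift_sw : ∀ a : Fin 128, lift good_sw.rels tri_BB (dec a.1) = dec (sw a.1) := by
  decide +kernel

theorem sw_mul {a b : ℕ} (ha : a < 128) (hb : b < 128) : sw (mulQ a b) = mulQ (sw a) (sw b) := by
  apply dec_inj (sw_lt _) (mulQ_lt (sw_lt _) (sw_lt _))
  rw [← lift_sw ⟨_, mulQ_lt ha hb⟩, dec_mul, map_mul, lift_sw ⟨a, ha⟩, lift_sw ⟨b, hb⟩, dec_mul]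

theorem sw_sw : ∀ a : Fin 128, sw (sw a.1) = a.1 := by decide +kernel

theorem sw_Y : ∀ a : Fin 128, ap7 (pw Y6 6) (sw a.1) = sw (ap7 Y6 a.1) := by decide +kernel

theorem sw_W : ∀ a : Fin 128, ap7 W6 (sw a.1) = sw (ap7 W6 a.1) := by decide +kernel

theorem sw_T : ∀ a : Fin 128, ap7 T2 (sw a.1) = sw (ap7 T1 a.1) ∨
    ap7 T2 (sw a.1) = sw (ap7 T1 a.1) ^^^ 64 := by decide +kernel

theorem sw_xor : ∀ a : Fin 128, sw (a.1 ^^^ 64) = sw a.1 ^^^ 64 := by decide +kernel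

theorem sw_64 : sw 64 = 64 := by decide +kernel

section

variable {G : Type*} [Group G] {z : G} {Q : Subgroup G} {E : ℕ → G} {y w t : G}

theorem inv_conj_aux {y x x' : G} (h : y * x' = x * y) : y⁻¹ * x = x' * y⁻¹ := by
  rw [inv_mul_eq_iff_eq_mul, ← mul_assoc, h, mul_assoc, mul_inv_cancel, mul_one]

/-- powers of `Y6` on codes -/
theorem Y6_cycle : ∀ a : Fin 128, ap7 Y6 (ap7 (pw Y6 6) a.1) = a.1 := by decide +kernel

theorem Crd.swap (h : Crd z Q E y w t T2) : Crd z Q (fun a => E (sw a)) y⁻¹ w t T1 := by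
  have hy7 := h.y7
  have hyi : ∀ a < 128, y⁻¹ * E a = E (ap7 (pw Y6 6) a) * y⁻¹ := by
    intro a ha
    apply inv_conj_aux
    rw [h.yE _ (ap7_lt _ _), Y6_cycle ⟨a, ha⟩]
  have hypow : ∀ i : ℕ, i < 7 → y ^ i = y⁻¹ ^ ((7 - i) % 7) := by
    intro i hi
    rcases Nat.eq_zero_or_pos i with h0 | h0
    · subst h0; simp
    · rw [Nat.mod_eq_of_lt (by omega), inv_pow, eq_inv_iff_mul_eq_one, ← pow_add,
        show i + (7 - i) = 7 by omega, hy7]
  refine Crd.mk h.large ?_ ?_ ?_ ?_ ?_ h.wz h.tz ?_ h.w3 ?_ ?_ ?_ ?_ ?_ h.card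
  · show E (sw 64) = z
    rw [sw_64]; exact h.E64
  · intro a ha b hb
    show E (sw a) * E (sw b) = E (sw (mulQ a b))
    rw [sw_mul ha hb, h.mul _ (sw_lt _) _ (sw_lt _)]
  · intro a ha b hb hab
    have h1 := h.inj _ (sw_lt _) _ (sw_lt _) hab
    exact (sw_sw ⟨a, ha⟩).symm.trans ((congrArg sw h1).trans (sw_sw ⟨b, hb⟩))
  · intro g
    rw [h.mem]
    constructor
    · rintro ⟨a, ha, rfl⟩
      exact ⟨sw a, sw_lt _, by show E (sw (sw a)) = _; rw [sw_sw ⟨a, ha⟩]⟩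
    · rintro ⟨a, _, rfl⟩
      exact ⟨sw a, sw_lt _, rfl⟩
  · exact ((show Commute y z from h.yz).inv_left).eq
  · rw [inv_pow, hy7, inv_one]
  · have h1 : w * y⁻¹ = (w * y * w⁻¹)⁻¹ * w := by group
    rw [h1, h.wy]
    group
  · intro a ha
    show y⁻¹ * E (sw a) = E (sw (ap7 Y6 a)) * y⁻¹
    rw [hyi _ (sw_lt _), sw_Y ⟨a, ha⟩]
  · intro a ha
    show w * E (sw a) = E (sw (ap7 W6 a)) * w
    rw [h.wE _ (sw_lt _), sw_W ⟨a, ha⟩]
  · intro a ha
    show t * E (sw a) = E (sw (ap7 T1 a)) * t ∨ t * E (sw a) = E (sw (ap7 T1 a ^^^ 64)) * t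
    rw [sw_xor ⟨_, ap7_lt T1 a⟩]
    have e : ∀ x : ℕ, (x ^^^ 64) ^^^ 64 = x := fun x => by
      rw [Nat.xor_assoc, Nat.xor_self, Nat.xor_zero]
    rcases h.tE _ (sw_lt a) with h1 | h1 <;> rcases sw_T ⟨a, ha⟩ with h2 | h2 <;>
      simp only at h2 <;> rw [h2] at h1
    · exact Or.inl h1
    · exact Or.inr h1
    · exact Or.inr h1
    · rw [e] at h1; exact Or.inl h1
  · intro c hc
    obtain ⟨i, hi, k, hk, j, hj, u, hu, rfl⟩ := h.full c hc
    refine ⟨(7 - i) % 7, Nat.mod_lt _ (by norm_num), k, hk, if j = 7 then 7 else (7 - j) % 7, ?_,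
      sw u, sw_lt _, ?_⟩
    · split <;> omega
    · show _ = E (sw (sw u)) * _
      rw [sw_sw ⟨u, hu⟩, hypow i hi]
      congr 3
      unfold tty
      by_cases h7 : j = 7
      · simp [h7]
      · rw [if_neg h7, if_neg h7, if_neg (by omega), hypow j (by omega)]

end

end Cfsg.Agent.Held.Ext
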