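import Mathlib
import Cfsg.Agent.Held.ExtSwap
import Cfsg.Agent.Held.ExtExact
import Cfsg.Agent.Held.ExtLarge

/-!
# The dichotomy for groups `2₊^(1+6).L₃(2)` (S1659 from S1716)
-/

set_option autoImplicit false

namespace Cfsg.Agent.Held.Ext

open Cfsg.Agent.Co2Type.Quad

section

variable {G : Type*} [Group G] [Finite G] {z : G} {Q : Subgroup G}
  {π : Subgroup.centralizer ({z} : Set G) →* SL3}

/-- the two structures of `C(z)` -/
theorem LHyp.crd_or (h : LHyp Q z π) :
    (∃ (E : ℕ → G) (y w t : G), Crd0 z Q E y w t) ∨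
      ∃ (E : ℕ → G) (y w t : G), Crd z Q E y w t T1 := by
  obtain ⟨E, y, w, t, T, hc, hT⟩ := h.exists_crd3
  rcases hT with rfl | rfl | rfl
  · obtain ⟨t', ht'⟩ := hc.exact
    exact Or.inl ⟨E, y, w, t', ht'⟩
  · exact Or.inr ⟨E, y, w, t, hc⟩
  · exact Or.inr ⟨_, _, _, _, hc.swap⟩

end

/-- from a normal extraspecial subgroup of `C(t)` with quotient `L₃(2)` -/
theorem lhyp_of {G : Type*} [Group G] [Finite G] (t : G) (ht : orderOf t = 2)
    (Q : Subgroup (Subgroup.centralizer ({t} : Set G))) [Q.Normal] (hQ : Cfsg.IsExtraspecial 2 Q)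
    (hcard : Nat.card Q = 2 ^ 7)
    (h2c : Subgroup.centralizer (Q : Set (Subgroup.centralizer ({t} : Set G))) ≤ Q)
    (e : (Subgroup.centralizer ({t} : Set G)) ⧸ Q ≃* SL3) :
    LHyp (Q.map (Subgroup.centralizer ({t} : Set G)).subtype) t
      (e.toMonoidHom.comp (QuotientGroup.mk' Q)) where
  large := large_of_hyp t ht Q hQ h2c
  card := by
    rw [← show Nat.card Q = 128 by rw [hcard]; norm_num]
    exact Nat.card_congr (Subgroup.equivMapOfInjective Q _
      (Subgroup.subtype_injective _)).toEquiv.symm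
  surj := e.surjective.comp (QuotientGroup.mk'_surjective Q)
  ker c := by
    have h1 : (e.toMonoidHom.comp (QuotientGroup.mk' Q)) c = 1 ↔ c ∈ Q := by
      show e (QuotientGroup.mk' Q c) = 1 ↔ _
      rw [map_eq_one_iff e e.injective]
      exact QuotientGroup.eq_one_iff c
    rw [h1]
    constructor
    · intro hc
      exact ⟨c, hc, rfl⟩
    · rintro ⟨x, hx, hxc⟩
      have : x = c := Subtype.ext hxc
      rw [← this]; exact hx

end Cfsg.Agent.Held.Ext
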