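import Cfsg.Agent.Held.ExtTwist
import Cfsg.Agent.Held.ExtStar

/-!
# The non-split extension `2₊^(1+6) · L₃(2)`: `z` is weakly closed in its centralizer (S1659, P3)
-/

set_option autoImplicit false

namespace Cfsg.Agent.Held.Ext

open Cfsg.Agent.Co2Type.Quad

/-- in the non-split case the only conjugate of `z` commuting with `z` is `z` -/
theorem no_twist {G : Type*} [Group G] [Finite G] {z : G} {Q : Subgroup G} {E : ℕ → G} {y w t : G}
    (h : Crd0 z Q E y w t) (ht : t * t = z) (g : G)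
    (hg : (g * z * g⁻¹) * z = z * (g * z * g⁻¹)) : g * z * g⁻¹ = z := by
  refine ExtTwist.no_twist' h ht ?_ g hg
  intro g x₀ hx₀ hgx hne
  obtain ⟨P, -, -, -, -, -, -, i1, hi1, k1, hk1, j1, hj1, i2, hi2, k2, hk2, j2, hj2, -, -, -, -,
    -, -, hne12, -, -, h1, h2, -⟩ := star h.toCrd (Or.inl rfl) g x₀ hx₀ hgx hne
  exact ⟨_, ExtTwist.mem_invE hi1 hk1 hj1 rfl h1.1 h1.2.1, _,
    ExtTwist.mem_invE hi2 hk2 hj2 rfl h2.1 h2.2.1, hne12, h1.2.2.1, h2.2.2.1, h1.2.2.2, h2.2.2.2⟩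

end Cfsg.Agent.Held.Ext
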