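import Mathlib
import Cfsg.Agent.Held.ExtMain
import Cfsg.Agent.Held.ExtCaseOne
import Cfsg.Agent.Held.ExtNoTwist
import Cfsg.Agent.Held.ExtIso

/-!
# Simple groups with an involution centraliser `2₊^(1+6).L₃(2)` (S1659 from S1716)

No hypothesis on the order, on the classes of involutions or on the type of the extraspecial group.
-/

set_option autoImplicit false

namespace Cfsg.Agent.Held.ExtFinal

open Cfsg.Agent.Held.Ext

/-- **the centraliser is that of a transvection in `L₅(2)`** -/
theorem equiv_of_simple {G : Type*} [Group G] [Finite G] [IsSimpleGroup G]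
    (hna : ∃ a b : G, a * b ≠ b * a) (t : G) (ht : orderOf t = 2)
    (Q : Subgroup (Subgroup.centralizer ({t} : Set G))) [Q.Normal] (hQ : Cfsg.IsExtraspecial 2 Q)
    (hcard : Nat.card Q = 2 ^ 7)
    (h2c : Subgroup.centralizer (Q : Set (Subgroup.centralizer ({t} : Set G))) ≤ Q)
    (e : (Subgroup.centralizer ({t} : Set G)) ⧸ Q ≃* Matrix.SpecialLinearGroup (Fin 3) (ZMod 2))
    (s : Matrix.SpecialLinearGroup (Fin 5) (ZMod 2))
    (hs : (s : Matrix (Fin 5) (Fin 5) (ZMod 2)) = Matrix.transvection 0 1 1) :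
    Nonempty (Subgroup.centralizer ({t} : Set G) ≃*
      Subgroup.centralizer ({s} : Set (Matrix.SpecialLinearGroup (Fin 5) (ZMod 2)))) := by
  rcases (lhyp_of t ht Q hQ hcard h2c e).crd_or with ⟨E, y, w, c, h⟩ | ⟨E, y, w, c, h⟩
  · rcases h.t2 with h2 | h2
    · exact ExtIso.iso_of_split h h2 s hs
    · exact (ExtIsol.not_isolated hna h.large.z_ne h.large.z_sq (no_twist h h2)).elim
  · exact (ExtCaseOne.case_one hna h).elim

end Cfsg.Agent.Held.ExtFinal
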