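import Mathlib
import Cfsg.Agent.Held.PFus

/-!
# Fusion of `z` into `O_2(C(z))` for the statements about simple groups
-/

set_option autoImplicit false

namespace Cfsg.Agent.Held.HeldSimple

open Matrix Cfsg.Agent.SporadicRecognition.HeldModel Cfsg.Agent.Lib.F2Mat
open Cfsg.Agent.Held.NoBModel Cfsg.Agent.Held.Pattern Cfsg.Agent.Held.PFus

/-- number of pairs of conjugates of `z` whose product with the element of index `b` is a conjugate
of `z`, for the pattern `{z, d'}` -/
def cnt3 (b : Fin 64) : ℕ :=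
  (Finset.univ.filter fun p : Fin 64 × Fin 64 =>
    ((33 : ℕ).testBit (cl p.1) && ((33 : ℕ).testBit (cl p.2) &&
      (33 : ℕ).testBit (cl (xr (xr p.1 p.2) b)))) = true).card

theorem cnt3_ne : cnt3 4 ≠ cnt3 12 := by decide +kernel

variable {G : Type*} [Group G] {z : G} {ι : CC →* G}

theorem xr_comm3 (a b c : Fin 64) : xr (xr a b) c = xr a (xr b c) :=
  Fin.ext (Nat.xor_assoc _ _ _)

set_option linter.constructorNameAsVariable false in
/-- The pattern `{z, d'}` does not occur. -/
theorem pattern33 [Finite G] (h : Hyp z ι)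
    (hctl : ∀ b : Fin 64, F z ι b → ∃ n : G, n * z * n⁻¹ = ι (vC b) ∧
      ∀ w ∈ im ι V1, n * w * n⁻¹ ∈ im ι V1)
    (hm : ∀ a : Fin 64, F z ι a ↔ (33 : ℕ).testBit (cl a) = true) : False := by
  classical
  have h12 : F z ι 12 := by rw [hm]; decide +kernel
  obtain ⟨n, hn, hV⟩ := hctl 12 h12
  have hex : ∀ a : Fin 64, ∃ b : Fin 64, n * ι (vC a) * n⁻¹ = ι (vC b) := by
    intro a
    obtain ⟨u, hu, h1⟩ := mem_im.1 (hV (ι (vC a)) (mem_im.2 ⟨vC a, ve_mem a, rfl⟩))
    obtain ⟨b, hb⟩ := ve_surj hu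
    refine ⟨b, ?_⟩
    rw [← h1]
    congr 1
    exact (Subtype.ext hb : vC b = u).symm
  choose p hp using hex
  have vinj : ∀ a b : Fin 64, ι (vC a) = ι (vC b) → a = b := by
    intro a b e
    exact ve_inj (congrArg Subtype.val (h.inj e))
  have pinj : Function.Injective p := by
    intro a b e
    apply vinj
    have h1 := hp a
    rw [e, ← hp b] at h1
    exact mul_left_cancel (mul_right_cancel h1)
  have pmul : ∀ a b, p (xr a b) = xr (p a) (p b) := by
    intro a b
    apply vinj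
    rw [← hp, ← vC_mul, ← vC_mul, map_mul, map_mul, ← hp a, ← hp b]
    group
  have pF : ∀ a, F z ι (p a) ↔ F z ι a := by
    intro a
    unfold F
    rw [← hp a]
    constructor
    · intro e
      have := isConj_conj n⁻¹ e
      have e2 : n⁻¹ * (n * ι (vC a) * n⁻¹) * n⁻¹⁻¹ = ι (vC a) := by group
      rwa [e2] at this
    · intro e
      exact isConj_conj n e
  have p4 : p 4 = 12 := by
    apply vinj
    rw [← hp, vC_four, h.map_zz, hn]
  have key : cnt3 4 = cnt3 12 := by
    unfold cnt3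
    apply Finset.card_bij (fun q _ => (p q.1, p q.2))
    · intro q hq
      simp only [Finset.mem_filter, Finset.mem_univ, true_and, Bool.and_eq_true] at hq ⊢
      obtain ⟨h1, h2, h3⟩ := hq
      refine ⟨(hm _).1 ((pF _).2 ((hm _).2 h1)), (hm _).1 ((pF _).2 ((hm _).2 h2)), ?_⟩
      rw [← hm, ← p4, ← pmul, ← pmul, pF, hm]
      exact h3
    · intro q _ q' _ e
      have e1 := pinj (congrArg Prod.fst e)
      have e2 := pinj (congrArg Prod.snd e)
      exact Prod.ext e1 e2
    · intro q hq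
      have hs : Function.Surjective p := Finite.surjective_of_injective pinj
      obtain ⟨a, ha⟩ := hs q.1
      obtain ⟨b, hb⟩ := hs q.2
      simp only [Finset.mem_filter, Finset.mem_univ, true_and, Bool.and_eq_true] at hq
      obtain ⟨h1, h2, h3⟩ := hq
      refine ⟨(a, b), ?_, Prod.ext ha hb⟩
      simp only [Finset.mem_filter, Finset.mem_univ, true_and, Bool.and_eq_true]
      rw [← ha, ← hm, pF, hm] at h1
      rw [← hb, ← hm, pF, hm] at h2
      rw [← ha, ← hb, ← p4, ← pmul, ← pmul, ← hm, pF, hm] at h3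
      exact ⟨h1, h2, h3⟩
  exact cnt3_ne key

/-- If `z` is not fused to `x03` or `x14` then it is the only conjugate of itself in `V1`. -/
theorem only_z [Finite G] (h : Hyp z ι)
    (hctl : ∀ b : Fin 64, F z ι b → ∃ n : G, n * z * n⁻¹ = ι (vC b) ∧
      ∀ w ∈ im ι V1, n * w * n⁻¹ ∈ im ι V1)
    (hb : ¬ IsConj z (ι bC)) (h1 : ¬ IsConj z (ι x03C)) (h2 : ¬ IsConj z (ι x14C))
    {u : CC} (hu : (u : L5) ∈ V1) (hc : IsConj z (ι u)) : ι u = z := by
  obtain ⟨m, hm, hm'⟩ := pattern h hctl (by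
    show ¬ IsConj z (ι (vC 34))
    rw [vC_34]; exact hb)
  have e1 : ¬ F z ι 2 := by
    show ¬ IsConj z (ι (vC 2))
    rw [vC_2]; exact h1
  have e2 : ¬ F z ι 32 := by
    show ¬ IsConj z (ι (vC 32))
    rw [vC_32]; exact h2
  rw [hm] at e1 e2
  have hm1 : m = 1 := by
    rcases hm' with rfl | rfl | rfl | rfl | rfl | rfl
    · rfl
    · exact absurd (by decide +kernel) e1
    · exact absurd (by decide +kernel) e2
    · exact (pattern33 h hctl hm).elim
    · exact absurd (by decide +kernel) e1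
    · exact absurd (by decide +kernel) e1
  subst hm1
  obtain ⟨a, ha⟩ := ve_surj hu
  have e : vC a = u := Subtype.ext ha
  have hF : F z ι a := by
    unfold F; rw [e]; exact hc
  rw [hm] at hF
  have hck : ∀ a : Fin 64, (((1 : Fin 128) : ℕ)).testBit (cl a) = true → a = 4 := by
    decide +kernel
  have h4 := hck a hF
  subst h4
  rw [← e, vC_four, h.map_zz]

/-- In a group in which `z` is not fused to `x03` or `x14`, `z` is isolated in its centraliser. -/
theorem isolated [Finite G] (h : Hyp z ι)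
    (hctl1 : ∀ b : Fin 64, F z ι b → ∃ n : G, n * z * n⁻¹ = ι (vC b) ∧
      ∀ w ∈ im ι V1, n * w * n⁻¹ ∈ im ι V1)
    (hctl2 : ∀ b : Fin 64, F z (ι.comp tauC) b → ∃ n : G, n * z * n⁻¹ = (ι.comp tauC) (vC b) ∧
      ∀ w ∈ im (ι.comp tauC) V1, n * w * n⁻¹ ∈ im (ι.comp tauC) V1)
    (hb : ¬ IsConj z (ι bC))
    (hrep : ∀ u : CC, u * u = 1 → ∃ g : CC, ((g * u * g⁻¹ : CC) : L5) ∈ V1 ∨
      ((g * u * g⁻¹ : CC) : L5) ∈ V2)
    (h1 : ¬ IsConj z (ι x03C)) (h2 : ¬ IsConj z (ι x14C)) :
    ∀ g : G, (g * z * g⁻¹) * z = z * (g * z * g⁻¹) → g * z * g⁻¹ = z := by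
  intro g hg
  have hmem : g * z * g⁻¹ ∈ ι.range := by
    rw [h.range, Subgroup.mem_centralizer_singleton_iff]
    exact hg
  obtain ⟨u, hu⟩ := hmem
  have hc : IsConj z (ι u) := by rw [hu]; exact isConj_iff.2 ⟨g, rfl⟩
  have hzz : z * z = 1 := by
    rw [← h.map_zz, ← map_mul]
    have : zC * zC = 1 := by
      apply Subtype.ext
      apply cd_inj
      show cd (zz * zz) = cd 1
      rw [cd_mul, cd_zz, cd_one]; decide +kernel
    rw [this, map_one]
  have huu : u * u = 1 := by
    apply h.inj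
    rw [map_mul, map_one, hu]
    calc g * z * g⁻¹ * (g * z * g⁻¹) = g * (z * z) * g⁻¹ := by group
      _ = 1 := by rw [hzz]; group
  obtain ⟨c, hcV⟩ := hrep u huu
  have hc2 : IsConj z (ι (c * u * c⁻¹)) := by
    rw [map_mul, map_mul, map_inv]
    exact isConj_conj _ hc
  have key : ι (c * u * c⁻¹) = z := by
    rcases hcV with h3 | h3
    · exact only_z h hctl1 hb h1 h2 h3 hc2
    · have h4 : ((tauC (c * u * c⁻¹) : CC) : L5) ∈ V1 := tau_mem_V1 h3
      have h5 := only_z h.tau hctl2 (by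
        show ¬ IsConj z (ι (tauC bC))
        rw [tauC_bC]; exact hb) (by
        show ¬ IsConj z (ι (tauC x03C))
        rw [tau_x03]; exact h2) (by
        show ¬ IsConj z (ι (tauC x14C))
        rw [tau_x14]; exact h1) h4 (by
        show IsConj z (ι (tauC (tauC (c * u * c⁻¹))))
        rw [tauC_tauC]; exact hc2)
      have h6 : ι (tauC (tauC (c * u * c⁻¹))) = z := h5
      rwa [tauC_tauC] at h6
  rw [map_mul, map_mul, map_inv, hu] at key
  have hcz : ι c * z = z * ι c := by
    have : ι c ∈ ι.range := ⟨c, rfl⟩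
    rw [h.range, Subgroup.mem_centralizer_singleton_iff] at this
    exact this
  have h7 := mul_inv_eq_iff_eq_mul.mp key
  rw [← hcz] at h7
  exact mul_left_cancel h7

end Cfsg.Agent.Held.HeldSimple
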