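import Mathlib
import Cfsg.Agent.Held.HeldSimple
import Cfsg.Agent.SporadicRecognition.HeldEnum
import Cfsg.Agent.Lib.Cores
import Cfsg.Agent.S0215

/-!
# Simple groups with the involution centraliser of `SL(5,2)`
-/

set_option autoImplicit false

namespace Cfsg.Agent.Held.HeldFinish

open Matrix Cfsg.Agent.SporadicRecognition.HeldModel Cfsg.Agent.Lib.F2Mat
open Cfsg.Agent.Held.NoBModel Cfsg.Agent.Held.Pattern Cfsg.Agent.Held.PFus
open Cfsg.Agent.Held.HeldSimple

variable {G : Type*} [Group G] {z : G} {ι : CC →* G}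

theorem QQ_conj {p u : L5} (hp : p ∈ CC) (hu : u ∈ QQ) : p * u * p⁻¹ ∈ QQ := by
  rw [CC_eq] at hp
  rw [QQ, mem_pat] at hu ⊢
  exact conj_pat (P' := PC) _ (by decide) (by decide) hp hu

/-- the image of `QQ` lies in `O_2` of the centraliser -/
theorem mem_pCore (h : Hyp z ι) {u : CC} (hu : (u : L5) ∈ QQ)
    (hm : ι u ∈ Subgroup.centralizer ({z} : Set G)) :
    (⟨ι u, hm⟩ : Subgroup.centralizer ({z} : Set G)) ∈
      Cfsg.pCore 2 (Subgroup.centralizer ({z} : Set G)) := by
  let N : Subgroup (Subgroup.centralizer ({z} : Set G)) := (im ι QQ).subgroupOf _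
  have hN : N.Normal := by
    constructor
    rintro n hn g
    have hg : (g : G) ∈ ι.range := by rw [h.range]; exact g.2
    obtain ⟨c, hc⟩ := hg
    rw [Subgroup.mem_subgroupOf] at hn ⊢
    obtain ⟨q, hq, hq2⟩ := mem_im.1 hn
    rw [mem_im]
    refine ⟨c * q * c⁻¹, QQ_conj c.2 hq, ?_⟩
    rw [map_mul, map_mul, map_inv, hc, hq2]
    rfl
  have hp : IsPGroup 2 N := by
    have h1 : IsPGroup 2 QQ := IsPGroup.of_card (n := 7) (by rw [card_QQ]; norm_num)
    have h2 : IsPGroup 2 (im ι QQ) := by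
      have h3 : IsPGroup 2 (QQ.subgroupOf CC) := h1.comap_subtype
      exact h3.map ι
    exact h2.comap_subtype
  exact Lib.Cores.le_pCore hN hp (by
    rw [Subgroup.mem_subgroupOf, mem_im]
    exact ⟨u, hu, rfl⟩)

theorem T0_le_CC' : im ι T0 ≤ ι.range := by
  intro g hg
  obtain ⟨u, _, rfl⟩ := mem_im.1 hg
  exact ⟨u, rfl⟩

/-- In a simple group `z` is fused to `x03` or to `x14`. -/
theorem fused_of_simple [Finite G] [IsSimpleGroup G] (h : Hyp z ι) (T : Sylow 2 G)
    (hT : (T : Subgroup G) = im ι T0)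
    (hctl1 : ∀ b : Fin 64, F z ι b → ∃ n : G, n * z * n⁻¹ = ι (vC b) ∧
      ∀ w ∈ im ι V1, n * w * n⁻¹ ∈ im ι V1)
    (hctl2 : ∀ b : Fin 64, F z (ι.comp tauC) b → ∃ n : G, n * z * n⁻¹ = (ι.comp tauC) (vC b) ∧
      ∀ w ∈ im (ι.comp tauC) V1, n * w * n⁻¹ ∈ im (ι.comp tauC) V1)
    (hb : ¬ IsConj z (ι bC))
    (hrep : ∀ u : CC, u * u = 1 → ∃ g : CC, ((g * u * g⁻¹ : CC) : L5) ∈ V1 ∨
      ((g * u * g⁻¹ : CC) : L5) ∈ V2) :
    IsConj z (ι x03C) ∨ IsConj z (ι x14C) := by
  by_contra hno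
  rw [not_or] at hno
  have hiso := isolated h hctl1 hctl2 hb hrep hno.1 hno.2
  have hz1 := z_ne_one h
  have hzC : zz * zz = 1 := by
    apply cd_inj
    rw [cd_mul, cd_zz, cd_one]; decide +kernel
  have hzz : z * z = 1 := by
    rw [← h.map_zz, ← map_mul]
    have : zC * zC = 1 := Subtype.ext hzC
    rw [this, map_one]
  have hord : orderOf z = 2 := orderOf_eq_prime (by rw [pow_two]; exact hzz) hz1
  have hzT : z ∈ T := by
    show z ∈ (T : Subgroup G)
    rw [hT, mem_im]
    refine ⟨zC, ?_, h.map_zz⟩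
    show zz ∈ T0
    rw [mem_T0_iff, cd_zz]; decide +kernel
  obtain ⟨N, hN, hodd, hcomm⟩ := S0215.result T z hord hzT (by
    intro g hg
    apply hiso g
    have h1 : g * z * g⁻¹ ∈ ι.range := by
      apply T0_le_CC'
      rw [← hT]; exact hg
    rw [h.range, Subgroup.mem_centralizer_singleton_iff] at h1
    exact h1)
  -- `z` is central
  have hcen : ∀ g : G, z * g = g * z := by
    rcases hN.eq_bot_or_eq_top with h1 | h1
    · intro g
      have h2 := hcomm g
      rw [h1, Subgroup.mem_bot] at h2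
      calc z * g = (z * g * z⁻¹ * g⁻¹) * g * z := by group
        _ = g * z := by rw [h2, one_mul]
    · exfalso
      rw [h1, Subgroup.card_top] at hodd
      have : 2 ∣ Nat.card G := by rw [← hord]; exact orderOf_dvd_natCard z
      exact (Nat.not_even_iff_odd.mpr hodd) (even_iff_two_dvd.mpr this)
  have hctop : Subgroup.center G = ⊤ := by
    rcases (inferInstance : (Subgroup.center G).Normal).eq_bot_or_eq_top with h1 | h1
    · exfalso
      have : z ∈ Subgroup.center G := Subgroup.mem_center_iff.2 (fun g => (hcen g).symm)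
      rw [h1, Subgroup.mem_bot] at this
      exact hz1 this
    · exact h1
  -- but `x03` and `x34` do not commute
  have h34 : x 3 4 ∈ CC := mem_CC_of_x 3 4 (by decide) (by decide +kernel)
  have h5 : ι x03C * ι ⟨x 3 4, h34⟩ = ι ⟨x 3 4, h34⟩ * ι x03C := by
    have : ι x03C ∈ Subgroup.center G := by rw [hctop]; trivial
    exact (Subgroup.mem_center_iff.1 this _).symm
  rw [← map_mul, ← map_mul] at h5
  have h6 : x 0 3 * x 3 4 = x 3 4 * x 0 3 := congrArg Subtype.val (h.inj h5)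
  have h7 := congrArg cd h6
  rw [cd_mul, cd_mul, cd_x, cd_x] at h7
  exact absurd h7 (by decide +kernel)

/-- the hypothesis of the tetrachotomy for simple groups -/
theorem hnwc_of_fused (h : Hyp z ι) (hf : IsConj z (ι x03C) ∨ IsConj z (ι x14C)) :
    ∃ g : G, (∃ hq : g * z * g⁻¹ ∈ Subgroup.centralizer ({z} : Set G),
      (⟨g * z * g⁻¹, hq⟩ : Subgroup.centralizer ({z} : Set G)) ∈
        Cfsg.pCore 2 (Subgroup.centralizer ({z} : Set G))) ∧ g * z * g⁻¹ ≠ z := by
  have key : ∀ u : CC, (u : L5) ∈ QQ → (u : L5) ≠ zz → IsConj z (ι u) →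
      ∃ g : G, (∃ hq : g * z * g⁻¹ ∈ Subgroup.centralizer ({z} : Set G),
      (⟨g * z * g⁻¹, hq⟩ : Subgroup.centralizer ({z} : Set G)) ∈
        Cfsg.pCore 2 (Subgroup.centralizer ({z} : Set G))) ∧ g * z * g⁻¹ ≠ z := by
    intro u hu hne hc
    obtain ⟨g, hg⟩ := isConj_iff.1 hc
    have hm : ι u ∈ Subgroup.centralizer ({z} : Set G) := by
      rw [← h.range]; exact ⟨u, rfl⟩
    refine ⟨g, ⟨by rw [hg]; exact hm, ?_⟩, ?_⟩
    · have := mem_pCore h hu hm
      convert this
    · rw [hg, ← h.map_zz]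
      intro e
      exact hne (congrArg Subtype.val (h.inj e))
  rcases hf with hf | hf
  · refine key x03C ?_ ?_ hf
    · show x 0 3 ∈ QQ
      rw [mem_QQ_iff, cd_x]; decide +kernel
    · intro e
      have := congrArg cd e
      have h1 : cd (x 0 3) = cd zz := this
      rw [cd_x, cd_zz] at h1
      exact absurd h1 (by decide +kernel)
  · refine key x14C ?_ ?_ hf
    · show x 1 4 ∈ QQ
      rw [mem_QQ_iff, cd_x]; decide +kernel
    · intro e
      have := congrArg cd e
      have h1 : cd (x 1 4) = cd zz := this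
      rw [cd_x, cd_zz] at h1
      exact absurd h1 (by decide +kernel)

end Cfsg.Agent.Held.HeldFinish
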