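import Mathlib

/-!
# The stabiliser of a non-zero vector in `SL(5,2)` is not simple
-/

set_option autoImplicit false

namespace Cfsg.Agent.Held.StabNotSimple

open Matrix

abbrev L5 := Matrix.SpecialLinearGroup (Fin 5) (ZMod 2)
abbrev V5 := Fin 5 → ZMod 2

/-- the transvection `w ↦ w + f(w) u` -/
def tv (u f : V5) (h : f ⬝ᵥ u = 0) : L5 :=
  ⟨1 + replicateCol Unit u * replicateRow Unit f, by
    rw [det_one_add_replicateCol_mul_replicateRow, h, add_zero]⟩

theorem tv_smul (u f : V5) (h : f ⬝ᵥ u = 0) (w : V5) : tv u f h • w = w + (f ⬝ᵥ w) • u := by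
  rw [Matrix.SpecialLinearGroup.smul_def]
  show (1 + replicateCol Unit u * replicateRow Unit f) *ᵥ w = _
  rw [← Matrix.vecMulVec_eq Unit, Matrix.add_mulVec, Matrix.one_mulVec, Matrix.vecMulVec_mulVec]
  congr 1
  funext i
  simp [mul_comm]

theorem two (v : V5) : v + v = 0 := by
  funext i
  show v i + v i = 0
  generalize v i = a
  revert a; decide

/-- the elements of the stabiliser acting trivially on the quotient by `v` -/
def N (v : V5) : Subgroup (MulAction.stabilizer L5 v) where
  carrier := {g | ∀ w : V5, (g : L5) • w = w ∨ (g : L5) • w = w + v}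
  one_mem' := fun w => Or.inl (by simp)
  mul_mem' := by
    intro g h hg hh w
    have hv : (g : L5) • v = v := g.2
    show ((g : L5) * (h : L5)) • w = w ∨ ((g : L5) * (h : L5)) • w = w + v
    rw [mul_smul]
    rcases hh w with h1 | h1
    · rw [h1]; exact hg w
    · rw [h1, smul_add, hv]
      rcases hg w with h2 | h2
      · right; rw [h2]
      · left; rw [h2, add_assoc, two, add_zero]
  inv_mem' := by
    intro g hg w
    show (g : L5)⁻¹ • w = w ∨ (g : L5)⁻¹ • w = w + v
    rcases hg ((g : L5)⁻¹ • w) with h1 | h1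
    · left; rw [smul_inv_smul] at h1; exact h1.symm
    · right
      rw [smul_inv_smul] at h1
      nth_rewrite 2 [h1]
      rw [add_assoc, two, add_zero]

theorem N_normal (v : V5) : (N v).Normal := by
  constructor
  intro g hg h w
  show ((h : L5) * (g : L5) * (h : L5)⁻¹) • w = w ∨ ((h : L5) * (g : L5) * (h : L5)⁻¹) • w = w + v
  have hv : (h : L5) • v = v := h.2
  rw [mul_smul, mul_smul]
  rcases hg ((h : L5)⁻¹ • w) with h1 | h1
  · left; rw [h1, smul_inv_smul]
  · right; rw [h1, smul_add, smul_inv_smul, hv]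

theorem not_simple (v : V5) (hv : v ≠ 0) : ¬ IsSimpleGroup (MulAction.stabilizer L5 v) := by
  intro hs
  obtain ⟨i, hi⟩ : ∃ i, v i = 1 := by
    by_contra hno
    apply hv
    funext i
    have h1 : v i ≠ 1 := fun e => hno ⟨i, e⟩
    show v i = 0
    generalize v i = a at h1
    revert a; decide
  have hjk : ∀ i : Fin 5, ∃ j k : Fin 5, i ≠ j ∧ i ≠ k ∧ j ≠ k := by decide
  obtain ⟨j, k, hij, hik, hjk⟩ := hjk i
  -- the functional
  let f : V5 := Pi.single j 1 + (v j) • Pi.single i 1
  have hf : ∀ w : V5, f ⬝ᵥ w = w j + v j * w i := by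
    intro w
    simp [f, add_dotProduct]
  have hfv : f ⬝ᵥ v = 0 := by
    rw [hf, hi, mul_one]
    generalize v j = a
    revert a; decide
  have hfk : f ⬝ᵥ (Pi.single k 1 : V5) = 0 := by
    rw [hf, Pi.single_eq_of_ne hjk, Pi.single_eq_of_ne hik, mul_zero, add_zero]
  have hfj : f ⬝ᵥ (Pi.single j 1 : V5) = 1 := by
    rw [hf, Pi.single_eq_same, Pi.single_eq_of_ne hij, mul_zero, add_zero]
  have m1 : tv v f hfv ∈ MulAction.stabilizer L5 v := by
    rw [MulAction.mem_stabilizer_iff, tv_smul, hfv, zero_smul, add_zero]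
  have m2 : tv (Pi.single k 1) f hfk ∈ MulAction.stabilizer L5 v := by
    rw [MulAction.mem_stabilizer_iff, tv_smul, hfv, zero_smul, add_zero]
  have n1 : (⟨_, m1⟩ : MulAction.stabilizer L5 v) ∈ N v := by
    intro w
    show tv v f hfv • w = w ∨ tv v f hfv • w = w + v
    rw [tv_smul]
    generalize f ⬝ᵥ w = a
    have : a = 0 ∨ a = 1 := by revert a; decide
    rcases this with rfl | rfl
    · left; rw [zero_smul, add_zero]
    · right; rw [one_smul]
  rcases (N_normal v).eq_bot_or_eq_top with h | h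
  · rw [h, Subgroup.mem_bot] at n1
    have h1 : tv v f hfv = 1 := congrArg Subtype.val n1
    have h2 := tv_smul v f hfv (Pi.single j 1)
    rw [h1, one_smul, hfj, one_smul] at h2
    exact hv (left_eq_add.mp h2)
  · have h1 : (⟨_, m2⟩ : MulAction.stabilizer L5 v) ∈ N v := by rw [h]; trivial
    have h2 : tv (Pi.single k 1) f hfk • (Pi.single j 1 : V5) = Pi.single j 1 ∨
      tv (Pi.single k 1) f hfk • (Pi.single j 1 : V5) = Pi.single j 1 + v := h1 (Pi.single j 1)
    rw [tv_smul, hfj, one_smul] at h2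
    rcases h2 with h2 | h2
    · have h3 : (Pi.single k 1 : V5) = 0 := (add_eq_left.mp h2)
      have h4 := congrFun h3 k
      rw [Pi.single_eq_same] at h4
      exact one_ne_zero h4
    · have h3 := congrFun (add_left_cancel h2) i
      rw [Pi.single_eq_of_ne hik, hi] at h3
      exact absurd h3 (by decide)

end Cfsg.Agent.Held.StabNotSimple
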