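import Cfsg.Prelude.Def_Sporadic
import Cfsg.Agent.Held.StabNotSimple
import Cfsg.Agent.SporadicRecognition.HeldEnum
import Cfsg.Agent.S0364
import Cfsg.Agent.S0365
import Cfsg.Agent.S1695

/-!
# From the tetrachotomy to the statements on simple groups
-/

set_option autoImplicit false

namespace Cfsg.Agent.Held.HeldTri

/-- the conclusion of the tetrachotomy -/
def Tetra (G : Type*) [Group G] : Prop :=
  (∃ v : Fin 5 → ZMod 2, v ≠ 0 ∧
    Nonempty (G ≃* MulAction.stabilizer (Matrix.SpecialLinearGroup (Fin 5) (ZMod 2)) v)) ∨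
  Nonempty (G ≃* Matrix.SpecialLinearGroup (Fin 5) (ZMod 2)) ∨ Nonempty (G ≃* Cfsg.M24) ∨
  Cfsg.Spor.IsoHe G

theorem simple_of_equiv {G H : Type*} [Group G] [Group H] [IsSimpleGroup G] (e : G ≃* H) :
    IsSimpleGroup H := by
  haveI : Nontrivial H := e.symm.toEquiv.nontrivial
  exact IsSimpleGroup.isSimpleGroup_of_surjective e.toMonoidHom e.surjective

theorem tetra_simple {G : Type*} [Group G] [IsSimpleGroup G] (h : Tetra G) :
    Nonempty (G ≃* Matrix.SpecialLinearGroup (Fin 5) (ZMod 2)) ∨ Nonempty (G ≃* Cfsg.M24) ∨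
    Cfsg.Spor.IsoHe G := by
  rcases h with ⟨v, hv, ⟨e⟩⟩ | h
  · exact (StabNotSimple.not_simple v hv (simple_of_equiv e)).elim
  · exact h

theorem card_SL : Nat.card (Matrix.SpecialLinearGroup (Fin 5) (ZMod 2)) = 9999360 :=
  SporadicRecognition.HeldModel.card_L5

theorem card_He : Nat.card Cfsg.Spor.He = 4030387200 := S1695.result.2

theorem trichotomy {G : Type*} [Group G] [IsSimpleGroup G] (h : Tetra G) :
    Nonempty (G ≃* Matrix.SpecialLinearGroup (Fin 5) (ZMod 2)) ∨ Cfsg.IsM24 G ∨ Cfsg.IsHe G := by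
  rcases tetra_simple h with h | ⟨⟨e⟩⟩ | ⟨⟨e⟩⟩
  · exact Or.inl h
  · right; left
    refine ⟨inferInstance, ?_⟩
    rw [Nat.card_congr e.toEquiv]
    exact S0364.result
  · right; right
    refine ⟨inferInstance, ?_⟩
    rw [Nat.card_congr e.toEquiv]
    exact card_He

theorem iso_of_card {G H : Type*} [Group G] [Group H] [IsSimpleGroup G] [IsSimpleGroup H]
    (hG : Tetra G) (hH : Tetra H) (hc : Nat.card G = Nat.card H) : Nonempty (G ≃* H) := by
  have cM : Nat.card Cfsg.M24 = 244823040 := S0364.result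
  rcases tetra_simple hG with ⟨⟨e⟩⟩ | ⟨⟨e⟩⟩ | ⟨⟨e⟩⟩ <;>
  rcases tetra_simple hH with ⟨⟨f⟩⟩ | ⟨⟨f⟩⟩ | ⟨⟨f⟩⟩ <;>
  first
    | exact ⟨e.trans f.symm⟩
    | (exfalso
       rw [Nat.card_congr e.toEquiv, Nat.card_congr f.toEquiv] at hc
       simp only [card_SL, cM, card_He] at hc
       omega)

end Cfsg.Agent.Held.HeldTri
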