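import Mathlib
import Cfsg.Agent.Held.HeldFinish
import Cfsg.Agent.Held.HeldTri
import Cfsg.Agent.Held.SideHyp
import Cfsg.Agent.Held.NoBFin
import Cfsg.Agent.Held.PCase
import Cfsg.Agent.SporadicRecognition.HeldFusion
import Cfsg.Agent.SporadicRecognition.HeldInv

/-!
# The theorems with the control-of-fusion hypotheses discharged
-/

set_option autoImplicit false

namespace Cfsg.Agent.Held.HeldCtl

open Matrix Cfsg.Agent.SporadicRecognition.HeldModel Cfsg.Agent.Lib.F2Mat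
open Cfsg.Agent.Held.NoBModel Cfsg.Agent.Held.Pattern Cfsg.Agent.Held.PFus
open Cfsg.Agent.Held.Code (Emb X)
open Cfsg.Agent.Held.ConfigThm (xs)
open Cfsg.Agent.Held.SideHyp (Link)

variable {G : Type*} [Group G] {z : G} {ι : CC →* G} {ph : ℕ → G}

theorem zz_mem_V1 : zz ∈ V1 := by
  rw [mem_V1_iff, cd_zz]; decide +kernel

theorem hctl [Finite G] (h : Hyp z ι) : ∀ b : Fin 64, F z ι b → ∃ n : G,
    n * z * n⁻¹ = ι (vC b) ∧ ∀ w ∈ im ι V1, n * w * n⁻¹ ∈ im ι V1 := by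
  intro b hb
  obtain ⟨g, hg⟩ := isConj_iff.1 hb
  obtain ⟨n, hn, hn2⟩ := control_V1 h (a := z) (b := ι (vC b)) (g := g)
    (mem_img.2 ⟨zC, zz_mem_V1, h.map_zz⟩) (mem_img.2 ⟨vC b, ve_mem b, rfl⟩) hg
  exact ⟨n, hn, fun w hw => (hn2 w).1 hw⟩

theorem config [Finite G] (h : Hyp z ι) (E : Emb z ph) (hl : Link ι ph)
    (h1 : IsConj z (ι x03C)) (h2 : IsConj z (ι x14C)) :
    ∃ (t1 t2 : Bool) (y1 y2 : G), Config.Config (xs ph) t1.toNat t2.toNat
      (ConfigThm.f0 ph t1.toNat t2.toNat) y1 y2 :=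
  SideHyp.config h E hl (hctl h) (hctl h.tau) h1 h2

/-- In a simple group `z` is fused to `x03` or to `x14`. -/
theorem fused_of_simple [Finite G] [IsSimpleGroup G] (h : Hyp z ι) :
    IsConj z (ι x03C) ∨ IsConj z (ι x14C) := by
  obtain ⟨T, hT⟩ := exists_sylow h
  exact HeldFinish.fused_of_simple h T hT (hctl h) (hctl h.tau) (NoBFin.not_isConj_bC h)
    exists_conj_V

/-- the hypothesis of the tetrachotomy for simple groups -/
theorem hnwc_of_simple [Finite G] [IsSimpleGroup G] (s : L5)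
    (hs : (s : Matrix (Fin 5) (Fin 5) (ZMod 2)) = transvection 0 1 1) (z : G)
    (hz : orderOf z = 2) (e : (Subgroup.centralizer ({z} : Set G)) ≃*
      Subgroup.centralizer ({s} : Set L5)) :
    ∃ g : G, (∃ hq : g * z * g⁻¹ ∈ Subgroup.centralizer ({z} : Set G),
      (⟨g * z * g⁻¹, hq⟩ : Subgroup.centralizer ({z} : Set G)) ∈
        Cfsg.pCore 2 (Subgroup.centralizer ({z} : Set G))) ∧ g * z * g⁻¹ ≠ z := by
  obtain ⟨ι, h, _⟩ := exists_hyp s hs z hz e
  exact HeldFinish.hnwc_of_fused h (fused_of_simple h)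

end Cfsg.Agent.Held.HeldCtl
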