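import Mathlib
import Cfsg.Agent.Held.ExtFinal
import Cfsg.Agent.Held.HeldCtl
import Cfsg.Agent.Held.HeldTri
import Cfsg.Agent.S1716

/-!
# Simple groups with an involution centraliser `2₊^(1+6).L₃(2)` are `L₅(2)`, `M₂₄`, `He` (S1659)
-/

set_option autoImplicit false

namespace Cfsg.Agent.Held.ExtClassify

/-- the classification -/
theorem classify {G : Type*} [Group G] [Finite G] [IsSimpleGroup G]
    (hna : ∃ a b : G, a * b ≠ b * a) (t : G) (ht : orderOf t = 2)
    (Q : Subgroup (Subgroup.centralizer ({t} : Set G))) [Q.Normal] (hQ : Cfsg.IsExtraspecial 2 Q)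
    (hcard : Nat.card Q = 2 ^ 7)
    (h2c : Subgroup.centralizer (Q : Set (Subgroup.centralizer ({t} : Set G))) ≤ Q)
    (e : (Subgroup.centralizer ({t} : Set G)) ⧸ Q ≃* Matrix.SpecialLinearGroup (Fin 3) (ZMod 2)) :
    Nonempty (G ≃* Matrix.SpecialLinearGroup (Fin 5) (ZMod 2)) ∨ Nonempty (G ≃* Cfsg.M24) ∨
      Cfsg.Spor.IsoHe G := by
  obtain ⟨s, hs⟩ : ∃ s : Matrix.SpecialLinearGroup (Fin 5) (ZMod 2),
      (s : Matrix (Fin 5) (Fin 5) (ZMod 2)) = Matrix.transvection 0 1 1 :=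
    ⟨⟨Matrix.transvection 0 1 1, Matrix.det_transvection_of_ne 0 1 (by decide) 1⟩, rfl⟩
  obtain ⟨f⟩ := ExtFinal.equiv_of_simple hna t ht Q hQ hcard h2c e s hs
  exact HeldTri.tetra_simple (S1716.result s hs t ht f (HeldCtl.hnwc_of_simple s hs t ht f))

/-- the same; nonabelian is automatic -/
theorem classify_all {G : Type*} [Group G] [Finite G] [IsSimpleGroup G] (t : G)
    (ht : orderOf t = 2)
    (Q : Subgroup (Subgroup.centralizer ({t} : Set G))) [Q.Normal] (hQ : Cfsg.IsExtraspecial 2 Q)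
    (hcard : Nat.card Q = 2 ^ 7)
    (h2c : Subgroup.centralizer (Q : Set (Subgroup.centralizer ({t} : Set G))) ≤ Q)
    (e : (Subgroup.centralizer ({t} : Set G)) ⧸ Q ≃* Matrix.SpecialLinearGroup (Fin 3) (ZMod 2)) :
    Nonempty (G ≃* Matrix.SpecialLinearGroup (Fin 5) (ZMod 2)) ∨ Nonempty (G ≃* Cfsg.M24) ∨
      Cfsg.Spor.IsoHe G := by
  apply classify _ t ht Q hQ hcard h2c e
  by_contra hcon
  push Not at hcon
  have hab : ∀ a b : Matrix.SpecialLinearGroup (Fin 3) (ZMod 2), a * b = b * a := by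
    intro a b
    obtain ⟨x, rfl⟩ := e.surjective a
    obtain ⟨y, rfl⟩ := e.surjective b
    obtain ⟨x, rfl⟩ := QuotientGroup.mk'_surjective Q x
    obtain ⟨y, rfl⟩ := QuotientGroup.mk'_surjective Q y
    rw [← map_mul, ← map_mul, ← map_mul, ← map_mul]
    congr 2
    exact Subtype.ext (hcon x y)
  have h1 := hab ⟨Matrix.transvection 0 1 1, Matrix.det_transvection_of_ne 0 1 (by decide) 1⟩
    ⟨Matrix.transvection 1 0 1, Matrix.det_transvection_of_ne 1 0 (by decide) 1⟩
  have h2 : (Matrix.transvection 0 1 1 * Matrix.transvection 1 0 1 : Matrix (Fin 3) (Fin 3) (ZMod 2)) =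
      Matrix.transvection 1 0 1 * Matrix.transvection 0 1 1 := congrArg Subtype.val h1
  have h3 := congrFun (congrFun h2 0) 0
  revert h3
  decide +kernel

end Cfsg.Agent.Held.ExtClassify
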