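import Cfsg.Agent.Held.Side4

/-!
# The mirror: anti-transpose inverse
-/

set_option autoImplicit false

namespace Cfsg.Agent.Held.Code

open Cfsg.Agent.Lib.F2Mat

variable {G : Type*} [Group G] {z : G} {ph : ℕ → G}

/-- anti-transpose of a code: entry `(i, j)` is the entry `(4 - j, 4 - i)` of `a` -/
def flip (a : ℕ) : ℕ :=
  blk 1 (fun p => (Nat.testBit a (5 * (4 - p % 5) + (4 - p / 5))).toNat) 25

theorem flip_lt (a : ℕ) : flip a < 2 ^ 25 := by
  have h := blk_lt (n := 1) (a := fun p => (Nat.testBit a (5 * (4 - p % 5) + (4 - p / 5))).toNat)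
    25 (by
      intro i _
      exact lt_of_le_of_lt (Bool.toNat_le _) (by norm_num))
  exact h

theorem testBit_flip (a : ℕ) (i j : Fin 5) :
    (flip a).testBit (5 * i + j) = a.testBit (5 * (4 - (j : ℕ)) + (4 - (i : ℕ))) := by
  have hi := i.2
  have hj := j.2
  have hp : 5 * (i : ℕ) + j < 25 := by omega
  have h := testBit_blk (n := 1)
    (a := fun p => (Nat.testBit a (5 * (4 - p % 5) + (4 - p / 5))).toNat) 25 (by
      intro i _
      exact lt_of_le_of_lt (Bool.toNat_le _) (by norm_num)) (i := 5 * i + j) (j := 0) hp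
      (by norm_num)
  have e1 : 1 * (5 * (i : ℕ) + j) + 0 = 5 * i + j := by ring
  rw [e1] at h
  unfold flip
  rw [h]
  have e2 : (5 * (i : ℕ) + j) % 5 = j := by omega
  have e3 : (5 * (i : ℕ) + j) / 5 = i := by omega
  simp only [e2, e3]
  cases a.testBit (5 * (4 - (j : ℕ)) + (4 - (i : ℕ))) <;> rfl

theorem toMat_flip (a : ℕ) (i j : Fin 5) : toMat 5 (flip a) i j = toMat 5 a j.rev i.rev := by
  show bz ((flip a).testBit (5 * i + j)) = bz (a.testBit (5 * (j.rev : ℕ) + (i.rev : ℕ)))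
  rw [testBit_flip]
  have e1 : (j.rev : ℕ) = 4 - (j : ℕ) := by rw [Fin.val_rev]; omega
  have e2 : (i.rev : ℕ) = 4 - (i : ℕ) := by rw [Fin.val_rev]; omega
  rw [e1, e2]

theorem flip_flip {a : ℕ} (h : a < 2 ^ 25) : flip (flip a) = a := by
  apply toMat_inj (n := 5) (flip_lt _) h
  ext i j
  rw [toMat_flip, toMat_flip, Fin.rev_rev, Fin.rev_rev]

theorem flip_mu (a b : ℕ) : flip (mu a b) = mu (flip b) (flip a) := by
  apply toMat_inj (n := 5) (flip_lt _) (mu_lt _ _)
  ext i j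
  rw [toMat_flip, mu_ent, mu_ent]
  rw [← Equiv.sum_comp Fin.revPerm]
  apply Finset.sum_congr rfl
  intro k _
  rw [toMat_flip, toMat_flip, Fin.revPerm_apply, mul_comm]

theorem flip_zc : flip zc = zc := by decide +kernel

theorem flip_e1 : flip e1 = e1 := by decide +kernel

theorem C.flip {a : ℕ} (h : C a) : C (flip a) := by
  obtain ⟨h1, h2, b, hb, h3, h4⟩ := h
  refine ⟨flip_lt _, ?_, Code.flip b, flip_lt _, ?_, ?_⟩
  · have := congrArg Code.flip h2
    rw [flip_mu, flip_mu, flip_zc] at this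
    exact this.symm
  · rw [← flip_mu, h4, flip_e1]
  · rw [← flip_mu, h3, flip_e1]

/-- the mirrored embedding -/
def mph (ph : ℕ → G) (a : ℕ) : G := (ph (flip a))⁻¹

theorem Emb.mirror (E : Emb z ph) : Emb z (mph ph) where
  mul {a b} ha hb := by
    unfold mph
    rw [flip_mu, E.mul hb.flip ha.flip, mul_inv_rev]
  inj {a b} ha hb h := by
    unfold mph at h
    have h1 := E.inj ha.flip hb.flip (inv_injective h)
    rw [← flip_flip ha.1, h1, flip_flip hb.1]
  z_eq := by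
    unfold mph
    rw [flip_zc, E.z_eq]
    apply inv_eq_of_mul_eq_one_left
    rw [← E.z_eq, ← E.mul C_zc C_zc, ← E.one, show mu zc zc = e1 by decide +kernel]
  comm {a} ha := by
    unfold mph
    have h := E.comm ha.flip
    have h2 : Commute (ph (flip a)) z := h
    exact h2.inv_left
  surj g hg := by
    have h2 : Commute g z := hg
    obtain ⟨a, ha, h⟩ := E.surj g⁻¹ h2.inv_left
    refine ⟨flip a, ha.flip, ?_⟩
    unfold mph
    rw [flip_flip ha.1, h, inv_inv]

/-- `mph ph a = ph a'` when `a'` is the inverse of `flip a` -/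
theorem Emb.mph_eq (E : Emb z ph) {a a' : ℕ} (ha : C a) (ha' : C a')
    (h : mu (flip a) a' = e1) : mph ph a = ph a' := by
  unfold mph
  exact E.inv_eq ha.flip ha' h

theorem Ac.unflip (E : Emb z ph) {y : G} {a b : ℕ} (h : Ac (mph ph) y a b) {a' b' : ℕ}
    (ha' : C a') (hb' : C b') (e1' : mu (flip a) a' = e1) (e2' : mu (flip b) b' = e1) :
    Ac ph y a' b' :=
  ⟨ha', hb', by rw [← E.mph_eq h.l ha' e1', ← E.mph_eq h.r hb' e2']; exact h.e⟩

theorem Ac.toflip (E : Emb z ph) {y : G} {a b : ℕ} (ha : C a) (hb : C b) {a' b' : ℕ}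
    (h : Ac ph y a' b') (e1' : mu (flip a) a' = e1) (e2' : mu (flip b) b' = e1) :
    Ac (mph ph) y a b :=
  ⟨ha, hb, by rw [E.mph_eq ha h.l e1', E.mph_eq hb h.r e2']; exact h.e⟩

theorem flip_vv {n : ℕ} (hn : n < 64) : flip (vv n) = uu n := by
  have hck : allb 64 (fun n => Nat.beq (flip (vv n)) (uu n)) = true := by decide +kernel
  exact beq_true (of_allb hck n hn)

theorem flip_uu {n : ℕ} (hn : n < 64) : flip (uu n) = vv n := by
  rw [← flip_vv hn, flip_flip (vv_C hn).1]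

theorem uu_sq {n : ℕ} (hn : n < 64) : mu (uu n) (uu n) = e1 := by
  rw [uu_mul hn hn]
  have : Nat.xor n n = 0 := Nat.xor_self n
  rw [this]; rfl

theorem mph_vv (E : Emb z ph) {n : ℕ} (hn : n < 64) : mph ph (vv n) = ph (uu n) :=
  E.mph_eq (vv_C hn) (uu_C hn) (by rw [flip_vv hn, uu_sq hn])

theorem mph_uu (E : Emb z ph) {n : ℕ} (hn : n < 64) : mph ph (uu n) = ph (vv n) :=
  E.mph_eq (uu_C hn) (vv_C hn) (by rw [flip_uu hn, vv_sq hn])

theorem Ac.unflip_vv (E : Emb z ph) {y : G} {n m : ℕ} (hn : n < 64) (hm : m < 64)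
    (h : Ac (mph ph) y (vv n) (vv m)) : Ac ph y (uu n) (uu m) :=
  ⟨uu_C hn, uu_C hm, by rw [← mph_vv E hn, ← mph_vv E hm]; exact h.e⟩

theorem Ac.unflip_uu (E : Emb z ph) {y : G} {n m : ℕ} (hn : n < 64) (hm : m < 64)
    (h : Ac (mph ph) y (uu n) (uu m)) : Ac ph y (vv n) (vv m) :=
  ⟨vv_C hn, vv_C hm, by rw [← mph_uu E hn, ← mph_uu E hm]; exact h.e⟩

end Cfsg.Agent.Held.Code
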