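import Cfsg.Agent.Held.Letters

/-!
# Values of the sixteen letters (rewriting rules), and `Config` from word equations
-/

set_option autoImplicit false

namespace Cfsg.Agent.Held.LetterVals

open Cfsg.Agent.SporadicRecognition.CosetCert Cfsg.Agent.Held.Config Cfsg.Agent.Held.Letters

section
variable {G : Type*} [Group G] (x : ℕ → ℕ → G) (y1 y2 : G)

theorem g0 : gy x y1 y2 0 = x 0 1 := rfl
theorem g1 : gy x y1 y2 1 = x 0 2 := rfl
theorem g2 : gy x y1 y2 2 = x 0 3 := rfl
theorem g3 : gy x y1 y2 3 = x 0 4 := rfl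
theorem g4 : gy x y1 y2 4 = x 1 2 := rfl
theorem g5 : gy x y1 y2 5 = x 1 3 := rfl
theorem g6 : gy x y1 y2 6 = x 1 4 := rfl
theorem g7 : gy x y1 y2 7 = x 2 3 := rfl
theorem g8 : gy x y1 y2 8 = x 2 4 := rfl
theorem g9 : gy x y1 y2 9 = x 3 4 := rfl
theorem g10 : gy x y1 y2 10 = x 2 1 := rfl
theorem g11 : gy x y1 y2 11 = x 3 2 := rfl
theorem g12 : gy x y1 y2 12 = y1 := rfl
theorem g13 : gy x y1 y2 13 = y1⁻¹ := rfl
theorem g14 : gy x y1 y2 14 = y2 := rfl
theorem g15 : gy x y1 y2 15 = y2⁻¹ := rfl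

/-- the equations `u = v` of `Side x t y1`, `Side (mir x) t y2` as pairs of words -/
def eqs1 (t : ℕ) : List (List ℕ × List ℕ) :=
  [([12,12,12], []), ([9,12,9], [13]), ([2,12], [12,3]), ([5,12], [12,6]), ([7,12], [12,8]),
   ([3,12], [12,2,3]), ([6,12], [12,5,6]), ([8,12], [12,7,8]),
   ([0,12], [12,0] ++ (List.replicate t [2,7]).flatten),
   ([1,12], [12,1] ++ (List.replicate t [2,5]).flatten),
   ([4] ++ ((List.replicate t [3]).flatten ++ [12]), [12,4] ++ (List.replicate t [3]).flatten),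
   ([10] ++ ((List.replicate t [3]).flatten ++ [12]), [12,10] ++ (List.replicate t [3]).flatten)]

def eqs2 (t : ℕ) : List (List ℕ × List ℕ) :=
  [([14,14,14], []), ([0,14,0], [15]), ([6,14], [14,3]), ([5,14], [14,2]), ([4,14], [14,1]),
   ([3,14], [14,6,3]), ([2,14], [14,5,2]), ([1,14], [14,4,1]),
   ([9,14], [14,9] ++ (List.replicate t [6,4]).flatten),
   ([8,14], [14,8] ++ (List.replicate t [6,5]).flatten),
   ([7] ++ ((List.replicate t [3]).flatten ++ [14]), [14,7] ++ (List.replicate t [3]).flatten),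
   ([11] ++ ((List.replicate t [3]).flatten ++ [14]), [14,11] ++ (List.replicate t [3]).flatten)]

variable {x y1 y2}

theorem side1_of_eqs {t : ℕ}
    (h : ∀ p ∈ eqs1 t, ev (gy x y1 y2) p.1 = ev (gy x y1 y2) p.2) : Side x t y1 := by
  simp only [eqs1, List.forall_mem_cons, List.not_mem_nil, false_imp_iff, implies_true, and_true,
    ev_append, ev_flatten, ev_cons, ev_nil, mul_one, g0, g1, g2, g3, g4, g5, g6, g7, g8, g9, g10,
    g12, g13, mul_assoc] at h
  obtain ⟨h1, h2, h3, h4, h5, h6, h7, h8, h9, h10, h11, h12⟩ := h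
  refine ⟨?_, ?_, ?_, ?_, ?_, ?_, ?_, ?_⟩
  · rw [pow_succ, pow_two, mul_assoc]; exact h1
  · rw [mul_assoc]; exact h2
  · intro i hi
    interval_cases i
    · exact h3
    · exact h4
    · exact h5
  · intro i hi
    interval_cases i
    · exact h6
    · exact h7
    · exact h8
  · exact h9
  · exact h10
  · rw [mul_assoc]; exact h11
  · rw [mul_assoc]; exact h12

theorem st_of_words (hs : ∀ n < 12, ev (gy x y1 y2) [n, n] = 1)
    (h : ∀ r ∈ relsP, ev (gy x y1 y2) r = 1) : St x where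
  sq := by
    intro n
    rcases Nat.lt_or_ge n 12 with hn | hn
    · have := hs n hn
      rw [ev_cons, ev_cons, ev_nil, mul_one, gy_of_lt x y1 y2 hn] at this
      exact this
    · rw [gx_of_ge _ hn, mul_one]
  rel := by
    intro r hr
    rw [← ev_congr fun l hl => gy_of_lt x y1 y2 (relsP_lt r hr l hl)]
    exact h r hr

theorem side2_of_eqs {t : ℕ}
    (h : ∀ p ∈ eqs2 t, ev (gy x y1 y2) p.1 = ev (gy x y1 y2) p.2) : Side (mir x) t y2 := by
  simp only [eqs2, List.forall_mem_cons, List.not_mem_nil, false_imp_iff, implies_true, and_true,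
    ev_append, ev_flatten, ev_cons, ev_nil, mul_one, g0, g1, g2, g3, g4, g5, g6, g7, g8, g9,
    g11, g14, g15, mul_assoc] at h
  obtain ⟨h1, h2, h3, h4, h5, h6, h7, h8, h9, h10, h11, h12⟩ := h
  refine ⟨?_, ?_, ?_, ?_, ?_, ?_, ?_, ?_⟩
  · rw [pow_succ, pow_two, mul_assoc]; exact h1
  · rw [mul_assoc]; exact h2
  · intro i hi
    interval_cases i
    · exact h3
    · exact h4
    · exact h5
  · intro i hi
    interval_cases i
    · exact h6
    · exact h7
    · exact h8
  · exact h9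
  · exact h10
  · rw [mul_assoc]; exact h11
  · rw [mul_assoc]; exact h12

end

end Cfsg.Agent.Held.LetterVals
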