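import Cfsg.Agent.Held.EmbSt
import Cfsg.Agent.Held.LetterVals
import Cfsg.Agent.HeldType.Code

/-!
# The root elements generate the centraliser
-/

set_option autoImplicit false

namespace Cfsg.Agent.Held.GenC

open Cfsg.Agent.SporadicRecognition.CosetCert Cfsg.Agent.Held.Config Cfsg.Agent.Held.Letters
  Cfsg.Agent.Held.Code Cfsg.Agent.Held.EmbSt Cfsg.Agent.Lib.F2Mat

theorem decode_eq (a : ℕ) : HeldType.Code.decode a = toMat 5 a := by
  ext i j
  rw [toMat_apply]
  unfold HeldType.Code.decode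
  cases a.testBit (5 * i.val + j.val) <;> rfl

theorem good_of_C {a : ℕ} (h : C a) : HeldType.Code.good a = true := by
  rw [HeldType.Code.good_iff]
  obtain ⟨h1, h2, b, _, h4, _⟩ := h
  refine ⟨h1, ?_, ?_⟩
  · rw [decode_eq, decode_eq, ← toMat_mul, ← toMat_mul]
    exact congrArg (toMat 5) h2.symm
  · rw [decode_eq]
    have h6 : (toMat 5 a).det * (toMat 5 b).det = 1 := by
      rw [← Matrix.det_mul, ← toMat_mul, show Lib.F2Mat.mul 5 a b = e1 from h4, ← one_eq_e1,
        toMat_one, Matrix.det_one]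
    generalize (toMat 5 a).det = c at h6
    generalize (toMat 5 b).det = d at h6
    revert h6; revert c d; decide

/-- words for the middle blocks -/
def midsW : List (List ℕ) := [
  [4,7,10,4,11,7,10,4], [4,10,11,7,10,4,7], [7,10,4,11,7,10,4], [10,11,7,10,4,7],
  [4,11,7,10,4,11,7], [11,10,4,11,7,4], [10,4,11,7,10,4], [11,7,10,4,11,7], [7,11,7,4,10,4],
  [7,11,7,10,4], [7,4,11,7,10,4], [4,7,11,7,10,4], [11,7,4,10,4], [11,7,10,4], [4,11,7,10,4],
  [11,7,10,4,7], [11,7,10,4,11,10], [10,11,7,10,4], [4,11,7,10,4,11,10], [4,10,11,7,10,4],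
  [10,11,7,4,10,4], [11,7,10,4,11], [4,11,7,10,4,11], [11,7,10,4,7,11], [4,10,4,7,11,7],
  [10,4,7,11,7], [4,10,4,11,7], [10,4,11,7], [4,7,10,4,11,7], [10,4,11,7,4], [4,10,4,11,7,4],
  [7,10,4,11,7], [7,11,7], [7,11,7,4], [4,7,11,7], [7,4,11,7], [7,10,11,7], [10,11,7,4],
  [4,7,10,11,7], [4,10,11,7,4], [11,7], [11,7,4], [4,11,7,4], [4,11,7], [10,11,7],
  [7,10,11,7,4], [4,7,10,11,7,4], [4,10,11,7], [10,4,11,7,10,11], [10,4,7,11,7,10],
  [10,4,11,7,10], [11,10,4,11,7], [4,7,10,4,11,7,10], [10,4,11,7,4,10], [7,10,4,11,7,10],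
  [7,11,10,4,11,7], [7,11,7,10], [7,11,7,4,10], [4,7,11,7,10], [7,4,11,7,10], [11,7,10,11],
  [10,11,7,4,10], [4,11,7,10,11], [4,10,11,7,4,10], [10,11,7,10], [7,10,11,7,4,10],
  [7,4,11,7,10,11], [4,10,11,7,10], [11,7,10], [11,7,4,10], [4,11,7,4,10], [4,11,7,10],
  [4,10,4], [10,4], [4,10,4,7], [10,4,7], [], [4], [4,7,4,7], [7,4,7], [10], [4,10], [10,4,7,4],
  [7,4,7,10], [7,4,10,4], [7,10,4], [4,7,10,4], [7,10,4,7], [7], [7,4], [4,7,4], [4,7], [7,10],
  [7,4,10], [4,7,4,10], [4,7,10], [4,11,10,4], [11,10,4], [4,11,10,4,7], [11,10,4,7],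
  [10,11,10,11], [10,11,10,4], [4,7,4,11,10,11,7], [7,4,11,10,11,7], [11,10,11], [4,11,10,11],
  [11,7,4,7,10,11], [7,4,7,11,10,11], [7,4,11,10,4], [7,11,10,4], [4,7,4,11,10,4],
  [4,7,11,10,4], [7,11,10,11], [7,4,11,10,11], [4,7,4,11,10,11], [4,7,11,10,11], [11,10,11,7],
  [7,10,11,10,4], [4,7,10,11,10,4], [4,11,10,11,7], [4,10,4,11], [10,4,11], [4,10,4,7,11],
  [10,4,7,11], [11], [4,11], [7,4,7,11], [11,7,4,7], [10,11], [4,10,11], [7,4,7,10,11],
  [10,4,7,4,11], [7,11], [7,4,11], [4,7,11], [4,7,4,11], [7,10,11], [7,4,10,11], [4,7,10,11],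
  [4,7,4,10,11], [7,4,10,4,11], [7,10,4,11], [4,7,10,4,11], [7,10,4,7,11], [10,4,11,10],
  [11,10,4,11], [4,10,4,7,11,10], [10,4,7,11,10], [10,11,10], [4,10,11,10], [7,4,7,10,11,10],
  [10,4,7,4,11,10], [11,10], [4,11,10], [7,4,7,11,10], [11,7,4,7,10], [7,11,10], [7,4,11,10],
  [4,7,11,10], [4,7,4,11,10], [7,10,11,10], [7,4,10,11,10], [4,7,10,11,10], [4,7,4,10,11,10],
  [7,10,4,11,10], [7,11,10,4,11], [4,7,10,4,11,10], [4,7,11,10,4,11]]

theorem mids_words : HeldType.Code.mids.map (fun m => 16777217 + m) = midsW.map evC := by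
  decide +kernel

/-- column part -/
def colC (c : ℕ) : ℕ := 17043521 + 512 * (c % 2) + 16384 * (c / 2 % 2) + 524288 * (c / 4)

/-- words for the column parts -/
def colW : List (List ℕ) := [[], [6], [8], [6, 8], [9], [6, 9], [8, 9], [6, 8, 9]]

/-- words for the row parts -/
def rowW : List (List ℕ) := [[], [0], [1], [0, 1], [2], [0, 2], [1, 2], [0, 1, 2],
  [3], [0, 3], [1, 3], [0, 1, 3], [2, 3], [0, 2, 3], [1, 2, 3], [0, 1, 2, 3]]

theorem col_words : ∀ c < 8, evC (colW.getD c []) = colC c := by decide +kernel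

theorem row_words : ∀ r < 16, evC (rowW.getD r []) = 17043521 + 2 * r := by decide +kernel

/-- the decomposition -/
def decomp (m r c : ℕ) : Bool :=
  Nat.beq (mu (mu (colC c) (16777217 + m)) (17043521 + 2 * r))
    (16777217 + 2 * r + m + 512 * (c % 2) + 16384 * (c / 2 % 2) + 524288 * (c / 4))

theorem decomp_mp {m r c : ℕ} (h : decomp m r c = true) :
    16777217 + 2 * r + m + 512 * (c % 2) + 16384 * (c / 2 % 2) + 524288 * (c / 4) =
      mu (mu (colC c) (16777217 + m)) (17043521 + 2 * r) := (Nat.eq_of_beq_eq_true h).symm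

theorem decomp_all : (HeldType.Code.mids.all fun m => (List.range 16).all fun r =>
    (List.range 8).all fun c => decomp m r c) = true := by
  decide +kernel

/-- the code with given parts -/
def parts (m r c : ℕ) : ℕ :=
  16777217 + 2 * r + m + 512 * (c % 2) + 16384 * (c / 2 % 2) + 524288 * (c / 4)

/-- `a` has parts -/
def Q (a : ℕ) : Prop := ∃ m ∈ HeldType.Code.mids, ∃ r < 16, ∃ c < 8, a = parts m r c

theorem Q_parts {m r c : ℕ} (hm : m ∈ HeldType.Code.mids) (hr : r < 16) (hc : c < 8) :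
    Q (parts m r c) := ⟨m, hm, r, hr, c, hc, rfl⟩

theorem all_congr {α : Type*} (l : List α) (p q : α → Bool) (h : ∀ x, p x = q x) :
    l.all p = l.all q := by
  have : p = q := funext h
  rw [this]

theorem allC_eq (P : ℕ → Bool) : HeldType.Code.allC P =
    HeldType.Code.mids.all fun m => (List.range 16).all fun r => (List.range 8).all fun c =>
      P (parts m r c) := rfl

theorem exists_parts {a : ℕ} (h : C a) : Q a := by
  classical
  have key : HeldType.Code.allC (fun a => decide (Q a)) = true := by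
    rw [allC_eq, List.all_eq_true]
    intro m hm
    rw [List.all_eq_true]
    intro r hr
    rw [List.all_eq_true]
    intro c hc
    rw [List.mem_range] at hr hc
    exact decide_eq_true (Q_parts hm hr hc)
  exact of_decide_eq_true (HeldType.Code.of_allC key (good_of_C h))

/-- Every code is a product of letters. -/
theorem exists_word {a : ℕ} (h : C a) : ∃ w1 w2 w3 : List ℕ,
    a = mu (mu (evC w1) (evC w2)) (evC w3) := by
  obtain ⟨m, hm, r, hr, c, hc, e⟩ := exists_parts h
  have h1 : 16777217 + m ∈ midsW.map evC := by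
    rw [← mids_words]; exact List.mem_map.mpr ⟨m, hm, rfl⟩
  obtain ⟨w2, _, h2⟩ := List.mem_map.mp h1
  refine ⟨colW.getD c [], w2, rowW.getD r [], ?_⟩
  rw [col_words c hc, h2, row_words r hr, e]
  unfold parts
  have h3 := List.all_eq_true.mp (List.all_eq_true.mp (List.all_eq_true.mp decomp_all m hm) r
    (List.mem_range.mpr hr)) c (List.mem_range.mpr hc)
  exact decomp_mp h3

section
variable {G : Type*} [Group G] {z : G} {ph : ℕ → G}

theorem ph_evC_mem (h : Emb z ph) (w : List ℕ) :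
    ph (evC w) ∈ Subgroup.closure (gx (fun i j => ph (X i j)) '' {n | n < 12}) := by
  rw [← ev_ph h]
  refine ev_mem _ _ _ fun l _ => ?_
  rcases Nat.lt_or_ge l 12 with hl | hl
  · exact Subgroup.subset_closure ⟨l, hl, rfl⟩
  · rw [gx_of_ge _ hl]; exact one_mem _

theorem ph_mem (h : Emb z ph) {a : ℕ} (ha : C a) :
    ph a ∈ Subgroup.closure (gx (fun i j => ph (X i j)) '' {n | n < 12}) := by
  obtain ⟨w1, w2, w3, rfl⟩ := exists_word ha
  rw [h.mul ((C_evC w1).mul (C_evC w2)) (C_evC w3), h.mul (C_evC w1) (C_evC w2)]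
  exact mul_mem (mul_mem (ph_evC_mem h w1) (ph_evC_mem h w2)) (ph_evC_mem h w3)

/-- **Generation**: the root elements generate the centraliser of `z`. -/
theorem closure_gx (h : Emb z ph) :
    Subgroup.closure (gx (fun i j => ph (X i j)) '' {n | n < 12}) =
      Subgroup.centralizer ({z} : Set G) := by
  apply le_antisymm
  · rw [Subgroup.closure_le]
    rintro _ ⟨n, _, rfl⟩
    rw [gx_ph h]
    show ph (cx n) ∈ Subgroup.centralizer ({z} : Set G)
    rw [Subgroup.mem_centralizer_singleton_iff]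
    exact h.comm (C_cx n)
  · intro g hg
    rw [Subgroup.mem_centralizer_singleton_iff] at hg
    obtain ⟨a, ha, rfl⟩ := h.surj g hg
    exact ph_mem h ha

theorem closure_gy (h : Emb z ph) (y1 y2 : G) :
    Subgroup.closure (gy (fun i j => ph (X i j)) y1 y2 '' {n | n < 16}) =
      Subgroup.centralizer ({z} : Set G) ⊔ Subgroup.closure {y1, y2} := by
  apply le_antisymm
  · rw [Subgroup.closure_le]
    rintro _ ⟨n, hn, rfl⟩
    have hn' : n < 16 := hn
    rcases Nat.lt_or_ge n 12 with h1 | h1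
    · rw [gy_of_lt _ _ _ h1]
      refine Subgroup.mem_sup_left ?_
      rw [← closure_gx h]
      exact Subgroup.subset_closure ⟨n, h1, rfl⟩
    · have m1 : y1 ∈ Subgroup.closure {y1, y2} := Subgroup.subset_closure (by simp)
      have m2 : y2 ∈ Subgroup.closure {y1, y2} := Subgroup.subset_closure (by simp)
      refine Subgroup.mem_sup_right ?_
      interval_cases n
      · exact m1
      · exact inv_mem m1
      · exact m2
      · exact inv_mem m2
  · refine sup_le ?_ ?_
    · rw [← closure_gx h]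
      refine Subgroup.closure_mono ?_
      rintro _ ⟨n, hn, rfl⟩
      have hn' : n < 12 := hn
      exact ⟨n, by show n < 16; omega, gy_of_lt _ _ _ hn'⟩
    · rw [Subgroup.closure_le]
      rintro _ (rfl | rfl)
      · exact Subgroup.subset_closure ⟨12, by show 12 < 16; norm_num, rfl⟩
      · exact Subgroup.subset_closure ⟨14, by show 14 < 16; norm_num, rfl⟩

end

end Cfsg.Agent.Held.GenC
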