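import Cfsg.Agent.Held.PresL5
import Cfsg.Agent.Held.EmbSt
import Cfsg.Agent.Held.LetterVals
import Cfsg.Agent.LieClassical.SLGen

/-!
# `SL(5, 2)` as a model of the configuration `(0, 0)`
-/

set_option autoImplicit false

namespace Cfsg.Agent.Held.ModelL5

open Matrix Cfsg.Agent.Lib.F2Mat Cfsg.Agent.SporadicRecognition.CosetCert
  Cfsg.Agent.Held.Config Cfsg.Agent.Held.Letters Cfsg.Agent.Held.Code Cfsg.Agent.Held.EmbSt
  Cfsg.Agent.Held.LetterVals

/-- codes of invertible matrices -/
def U (a : ℕ) : Prop := a < 2 ^ 25 ∧ (toMat 5 a).det = 1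

/-- the matrix with code `a` -/
noncomputable def tS (a : ℕ) : SL := if h : (toMat 5 a).det = 1 then (⟨toMat 5 a, h⟩ : SL) else 1

theorem coe_tS {a : ℕ} (h : U a) : ((tS a : SL) : Matrix (Fin 5) (Fin 5) (ZMod 2)) = toMat 5 a := by
  have h2 := h.2
  have : tS a = (⟨toMat 5 a, h2⟩ : SL) := dif_pos h2
  rw [this]

theorem U.mul {a b : ℕ} (ha : U a) (hb : U b) : U (mu a b) := by
  refine ⟨mu_lt a b, ?_⟩
  rw [toMat_mul, det_mul, ha.2, hb.2, one_mul]

theorem tS_mul {a b : ℕ} (ha : U a) (hb : U b) : tS (mu a b) = tS a * tS b := by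
  apply Subtype.ext
  have h1 : ((tS a * tS b : SL) : Matrix (Fin 5) (Fin 5) (ZMod 2)) = toMat 5 a * toMat 5 b := by
    rw [← coe_tS ha, ← coe_tS hb]; rfl
  have h2 := coe_tS (ha.mul hb)
  exact (h2.trans (toMat_mul 5 a b)).trans h1.symm

theorem U_e1 : U e1 := ⟨by decide, by rw [← one_eq_e1, toMat_one, det_one]⟩

theorem tS_e1 : tS e1 = 1 := by
  apply Subtype.ext
  rw [coe_tS U_e1, ← one_eq_e1, toMat_one]
  rfl

theorem tS_inj {a b : ℕ} (ha : U a) (hb : U b) (h : tS a = tS b) : a = b := by
  have h1 := congrArg (fun m : SL => (m : Matrix (Fin 5) (Fin 5) (ZMod 2))) h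
  simp only [coe_tS ha, coe_tS hb] at h1
  exact toMat_inj (n := 5) ha.1 hb.1 h1

theorem U_of_inv {a b : ℕ} (ha : a < 2 ^ 25) (h : mu a b = e1) : U a := by
  refine ⟨ha, ?_⟩
  have h6 : (toMat 5 a).det * (toMat 5 b).det = 1 := by
    rw [← det_mul, ← toMat_mul, show Lib.F2Mat.mul 5 a b = e1 from h, ← one_eq_e1, toMat_one,
      det_one]
  generalize (toMat 5 a).det = c at h6
  generalize (toMat 5 b).det = d at h6
  revert h6; revert c d; decide

theorem U_of_C {a : ℕ} (h : C a) : U a := by
  obtain ⟨h1, _, b, _, h2, _⟩ := h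
  exact U_of_inv h1 h2

theorem tS_eq_toS {a : ℕ} (h : C a) : tS a = toS a h := by
  apply Subtype.ext
  rw [coe_tS (U_of_C h), toS_coe]

/-- codes of `y1, y1⁻¹, y2, y2⁻¹` -/
def cY (n : ℕ) : ℕ := [25694273, 9179201, 17043554, 17043491].getD n e1

/-- codes of the sixteen letters -/
def c16 (n : ℕ) : ℕ :=
  [X 0 1, X 0 2, X 0 3, X 0 4, X 1 2, X 1 3, X 1 4, X 2 3, X 2 4, X 3 4, X 2 1, X 3 2,
    cY 0, cY 1, cY 2, cY 3].getD n e1

/-- code of a word -/
def ec (r : List ℕ) : ℕ := r.foldr (fun l a => mu (c16 l) a) e1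

theorem c16_of_ge {n : ℕ} (h : 16 ≤ n) : c16 n = e1 := by
  unfold c16
  rw [List.getD_eq_getElem?_getD, List.getElem?_eq_none (by simpa using h)]
  rfl

/-- formal inverse letters -/
def inv16 (n : ℕ) : ℕ := [0,1,2,3,4,5,6,7,8,9,10,11,13,12,15,14].getD n 16

theorem U_c16 (n : ℕ) : U (c16 n) := by
  rcases Nat.lt_or_ge n 16 with h | h
  · have key : ∀ n < 16, (Nat.ble (c16 n + 1) 33554432 && Nat.beq (mu (c16 n) (c16 (inv16 n))) e1)
        = true := by decide +kernel
    have h1 := key n h
    rw [Bool.and_eq_true] at h1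
    exact U_of_inv (Nat.le_of_ble_eq_true h1.1) (Nat.eq_of_beq_eq_true h1.2)
  · rw [c16_of_ge h]; exact U_e1

theorem U_ec (r : List ℕ) : U (ec r) := by
  induction r with
  | nil => exact U_e1
  | cons l r ih => exact (U_c16 l).mul ih

/-- the root elements -/
noncomputable def xM (i j : ℕ) : SL := tS (X i j)
/-- `y1` -/
noncomputable def y1M : SL := tS (c16 12)
/-- `y2` -/
noncomputable def y2M : SL := tS (c16 14)

theorem tS_inv {a b : ℕ} (ha : U a) (hb : U b) (h : mu a b = e1) : (tS a)⁻¹ = tS b := by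
  rw [inv_eq_iff_mul_eq_one, ← tS_mul ha hb, h, tS_e1]

theorem gy_eq (n : ℕ) : gy xM y1M y2M n = tS (c16 n) := by
  rcases Nat.lt_or_ge n 16 with h | h
  · interval_cases n
    · rw [g0]; exact congrArg tS rfl
    · rw [g1]; exact congrArg tS rfl
    · rw [g2]; exact congrArg tS rfl
    · rw [g3]; exact congrArg tS rfl
    · rw [g4]; exact congrArg tS rfl
    · rw [g5]; exact congrArg tS rfl
    · rw [g6]; exact congrArg tS rfl
    · rw [g7]; exact congrArg tS rfl
    · rw [g8]; exact congrArg tS rfl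
    · rw [g9]; exact congrArg tS rfl
    · rw [g10]; exact congrArg tS rfl
    · rw [g11]; exact congrArg tS rfl
    · rw [g12]; exact congrArg tS rfl
    · rw [g13]; exact tS_inv (U_c16 12) (U_c16 13) (by decide +kernel)
    · rw [g14]; exact congrArg tS rfl
    · rw [g15]; exact tS_inv (U_c16 14) (U_c16 15) (by decide +kernel)
  · rw [gy_of_ge _ _ _ h, c16_of_ge h, tS_e1]

theorem ev_eq (r : List ℕ) : ev (gy xM y1M y2M) r = tS (ec r) := by
  induction r with
  | nil => exact tS_e1.symm
  | cons l r ih =>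
    rw [ev_cons, ih, gy_eq, ← tS_mul (U_c16 l) (U_ec r)]
    rfl

theorem weq {u v : List ℕ} (h : Nat.beq (ec u) (ec v) = true) :
    ev (gy xM y1M y2M) u = ev (gy xM y1M y2M) v := by
  rw [ev_eq, ev_eq, Nat.eq_of_beq_eq_true h]

theorem rels : PresL5.Rels xM y1M y2M where
  st := by
    refine st_of_words (y1 := y1M) (y2 := y2M) ?_ ?_
    · intro n hn
      have key : ∀ n < 12, Nat.beq (ec [n, n]) (ec []) = true := by decide +kernel
      exact weq (key n hn)
    · intro r hr
      have key : ∀ r ∈ relsP, Nat.beq (ec r) (ec []) = true := by decide +kernel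
      exact weq (key r hr)
  cfg :=
    { side1 := by
        refine side1_of_eqs (y2 := y2M) ?_
        intro p hp
        have key : ∀ p ∈ eqs1 0, Nat.beq (ec p.1) (ec p.2) = true := by decide +kernel
        exact weq (key p hp)
      side2 := by
        refine side2_of_eqs (y1 := y1M) ?_
        intro p hp
        have key : ∀ p ∈ eqs2 0, Nat.beq (ec p.1) (ec p.2) = true := by decide +kernel
        exact weq (key p hp)
      comm := by
        have := weq (u := [14,12]) (v := [12,14]) (by decide +kernel)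
        simp only [ev_cons, ev_nil, mul_one, g12, g14] at this
        simp only [one_mul, mul_one]
        exact this }
  e1 := by
    have := weq (u := [13,11,13,11,13,11]) (v := []) (by decide +kernel)
    simp only [ev_cons, ev_nil, mul_one, g13, g11] at this
    rw [pow_succ, pow_succ, pow_one]
    simp only [mul_assoc]
    exact this
  e2 := by
    have := weq (u := [15,10,15,10,15,10]) (v := []) (by decide +kernel)
    simp only [ev_cons, ev_nil, mul_one, g15, g10] at this
    rw [pow_succ, pow_succ, pow_one]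
    simp only [mul_assoc]
    exact this

/-! ### Generation -/

/-- words for the transvections -/
def wT (i j : ℕ) : List ℕ :=
  ([[[], [0], [1], [2], [3]],
    [[0,14], [], [4], [5], [6]],
    [[14,10,15], [10], [], [7], [8]],
    [[11,14,10,11,10,15], [10,11,10,11], [11], [], [9]],
    [[12,11,14,10,11,10,13,15], [10,12,11,10,11,13], [12,11,13], [9,12], []]].getD i []).getD j []

theorem wT_ok : ∀ i j : Fin 5, i ≠ j → Nat.beq (ec (wT i j)) (X i j) = true := by decide +kernel

theorem coe_tS_X (i j : Fin 5) (h : i ≠ j) :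
    toMat 5 (X i j) = (Matrix.transvection i j (1 : ZMod 2)) := by
  ext k l
  rw [toMat_apply, Matrix.transvection, Matrix.add_apply, Matrix.one_apply, Matrix.single_apply]
  revert i j k l
  decide +kernel

theorem closure_eq : Subgroup.closure (gy xM y1M y2M '' {n | n < 16}) = ⊤ := by
  rw [eq_top_iff, ← Cfsg.Agent.LieClassical.SLGen.closure_transvections, Subgroup.closure_le]
  rintro A ⟨i, j, h, c, rfl⟩
  have hc : c = 0 ∨ c = 1 := by revert c; decide
  rcases hc with rfl | rfl
  · have : SpecialLinearGroup.transvection h (0 : ZMod 2) = 1 := by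
      apply Subtype.ext
      show Matrix.transvection i j (0 : ZMod 2) = 1
      rw [Matrix.transvection_zero]
    rw [this]
    exact one_mem _
  · have h1 : SpecialLinearGroup.transvection h (1 : ZMod 2) = ev (gy xM y1M y2M) (wT i j) := by
      apply Subtype.ext
      rw [ev_eq, coe_tS (U_ec _), Nat.eq_of_beq_eq_true (wT_ok i j h), coe_tS_X i j h]
      rfl
    rw [h1]
    refine ev_mem _ _ _ fun l hl => Subgroup.subset_closure ⟨l, ?_, rfl⟩
    have key : ∀ i j : Fin 5, ∀ l ∈ wT i j, l < 16 := by decide +kernel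
    exact key i j l hl

end Cfsg.Agent.Held.ModelL5
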