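import Cfsg.Agent.Held.PresM24
import Cfsg.Agent.Held.LetterVals
import Cfsg.Agent.SporadicA.M24Trans
import Cfsg.Agent.SporadicA.GolayWalk

/-!
# `M24` as a model of the configuration `(1, 0)`
-/

set_option autoImplicit false

namespace Cfsg.Agent.Held.ModelM24

open Cfsg Cfsg.Agent.SporadicRecognition.CosetCert Cfsg.Agent.SporadicA.GolayWalk
  Cfsg.Agent.Held.Config Cfsg.Agent.Held.Letters Cfsg.Agent.Held.LetterVals

/-- the tables of the sixteen letters, five bits per point -/
def tabs : List ℕ :=
  [610519923311516637246277765738632224,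
   984812760466102605412385163952886785,
   610956390715471154959104471240053761,
   592353204691533442233142632973374465,
   984806797292990878012365697499365538,
   154045676456488069852986216677081250,
   137946475452688126480473909395947682,
   112494624569381642494933542000156195,
   106832945418929216786996674173099555,
   895331677915748499267375548929943108,
   112008758482904261652442838286326816,
   984807527687663223186964578356536900,
   563022143052714033828979765320068743,
   880623587263303768114318017559799364,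
   609223462358287331424896868625257536,
   720034795097686229590439021835814048]

/-- the image of point number `j` under letter `n` -/
def val (n j : ℕ) : ℕ := Nat.land (Nat.shiftRight (tabs.getD n 0) (Nat.mul 5 j)) 31

/-- point number `i` (`23` is the extra point) -/
def pt (i : ℕ) : GolayPt := cond (Nat.beq i 23) none (some (i : ZMod 23))

/-- formal inverse letters -/
def inv16 (n : ℕ) : ℕ := [0,1,2,3,4,5,6,7,8,9,10,11,13,12,15,14].getD n 16

theorem idx_pt : ∀ i < 24, idx (pt i) = i := by decide +kernel

theorem pt_idx : ∀ p, pt (idx p) = p := by decide +kernel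

theorem val_lt : ∀ n < 16, ∀ j < 24, val n j < 24 := by decide +kernel

theorem val_inv : ∀ n < 16, ∀ j < 24, Nat.beq (val (inv16 n) (val n j)) j = true := by
  decide +kernel

theorem inv16_lt : ∀ n < 16, inv16 n < 16 ∧ inv16 (inv16 n) = n := by decide +kernel

/-- the map of letter `n` -/
def fw (n : ℕ) (p : GolayPt) : GolayPt := pt (val n (idx p))

theorem fw_fw {n : ℕ} (hn : n < 16) (p : GolayPt) : fw (inv16 n) (fw n p) = p := by
  unfold fw
  rw [idx_pt _ (val_lt n hn _ (idx_lt p)), Nat.eq_of_beq_eq_true (val_inv n hn _ (idx_lt p)),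
    pt_idx]

open Classical in
/-- the permutations of the letters -/
noncomputable def PP (n : ℕ) : Equiv.Perm GolayPt :=
  if h : n < 16 then
    ⟨fw n, fw (inv16 n), fw_fw h, by
      intro p
      have h1 := inv16_lt n h
      have h2 := fw_fw h1.1 p
      rwa [h1.2] at h2⟩
  else 1

theorem PP_apply {n : ℕ} (hn : n < 16) (p : GolayPt) : PP n p = fw n p := by
  unfold PP
  rw [dif_pos hn]
  rfl

/-- the table as a list -/
def tabL (n : ℕ) : List ℕ := (List.range 24).map (val n)

theorem tabL_code : ∀ n < 16, basis.all (fun b => isCode (pull (tabL n) b)) = true := by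
  decide +kernel

theorem PP_mem (n : ℕ) : PP n ∈ M24 := by
  by_cases hn : n < 16
  · refine mem_M24_of_table (PP n) (tabL n) (by simp [tabL]) ?_ (tabL_code n hn)
    intro p
    have h := idx_lt p
    rw [PP_apply hn, fw, idx_pt _ (val_lt n hn _ h), List.getD_eq_getElem?_getD, tabL,
      List.getElem?_map, List.getElem?_range h]
    rfl
  · unfold PP
    rw [dif_neg hn]
    exact one_mem _

/-- the elements of `M24` -/
noncomputable def gM (n : ℕ) : M24 := ⟨PP n, PP_mem n⟩

/-- the root elements -/
noncomputable def xM (i j : ℕ) : M24 := gM (SideWords.LN i j)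
/-- `y1` -/
noncomputable def y1M : M24 := gM 12
/-- `y2` -/
noncomputable def y2M : M24 := gM 14

theorem gM_inv {n : ℕ} (hn : n < 16) : (gM n)⁻¹ = gM (inv16 n) := by
  rw [inv_eq_iff_mul_eq_one]
  apply Subtype.ext
  apply Equiv.ext
  intro p
  show PP n (PP (inv16 n) p) = p
  have h1 := inv16_lt n hn
  rw [PP_apply hn, PP_apply h1.1]
  have h2 := fw_fw h1.1 p
  rwa [h1.2] at h2

theorem gM_of_ge {n : ℕ} (hn : 16 ≤ n) : gM n = 1 := by
  apply Subtype.ext
  show PP n = 1
  unfold PP
  rw [dif_neg (by omega)]

theorem gy_eq (n : ℕ) : gy xM y1M y2M n = gM n := by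
  rcases Nat.lt_or_ge n 16 with h | h
  · interval_cases n
    · rw [g0]; rfl
    · rw [g1]; rfl
    · rw [g2]; rfl
    · rw [g3]; rfl
    · rw [g4]; rfl
    · rw [g5]; rfl
    · rw [g6]; rfl
    · rw [g7]; rfl
    · rw [g8]; rfl
    · rw [g9]; rfl
    · rw [g10]; rfl
    · rw [g11]; rfl
    · rw [g12]; rfl
    · rw [g13]; exact gM_inv (n := 12) (by norm_num)
    · rw [g14]; rfl
    · rw [g15]; exact gM_inv (n := 14) (by norm_num)
  · rw [gy_of_ge _ _ _ h, gM_of_ge h]

/-- the number of the image of point `j` under a word -/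
def tw (w : List ℕ) (j : ℕ) : ℕ := w.foldr (fun l i => val l i) j

theorem ev_apply (w : List ℕ) (hw : ∀ l ∈ w, l < 16) (j : ℕ) (hj : j < 24) :
    tw w j < 24 ∧ ((ev (gy xM y1M y2M) w : M24) : Equiv.Perm GolayPt) (pt j) = pt (tw w j) := by
  induction w with
  | nil => exact ⟨hj, rfl⟩
  | cons l w ih =>
    obtain ⟨h1, h2⟩ := ih fun l' hl' => hw l' (List.mem_cons_of_mem _ hl')
    have hl : l < 16 := hw l (by simp)
    refine ⟨val_lt l hl _ h1, ?_⟩
    have h3 : ((ev (gy xM y1M y2M) (l :: w) : M24) : Equiv.Perm GolayPt) (pt j) =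
        PP l (((ev (gy xM y1M y2M) w : M24) : Equiv.Perm GolayPt) (pt j)) := by
      rw [ev_cons, gy_eq]
      rfl
    rw [h3, h2, PP_apply hl, fw, idx_pt _ h1]
    rfl

/-- equality of words -/
def chk (u v : List ℕ) : Bool :=
  (u.all fun l => Nat.blt l 16) && (v.all fun l => Nat.blt l 16) &&
    (List.range 24).all fun j => Nat.beq (tw u j) (tw v j)

theorem weq {u v : List ℕ} (h : chk u v = true) :
    ev (gy xM y1M y2M) u = ev (gy xM y1M y2M) v := by
  unfold chk at h
  rw [Bool.and_eq_true, Bool.and_eq_true] at h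
  obtain ⟨⟨h1, h2⟩, h3⟩ := h
  have hu : ∀ l ∈ u, l < 16 := fun l hl => Nat.le_of_ble_eq_true (List.all_eq_true.mp h1 l hl)
  have hv : ∀ l ∈ v, l < 16 := fun l hl => Nat.le_of_ble_eq_true (List.all_eq_true.mp h2 l hl)
  apply Subtype.ext
  apply Equiv.ext
  intro p
  have hp := idx_lt p
  have h4 := (ev_apply u hu _ hp).2
  have h5 := (ev_apply v hv _ hp).2
  have h6 := Nat.eq_of_beq_eq_true (List.all_eq_true.mp h3 (idx p) (List.mem_range.mpr hp))
  rw [pt_idx] at h4 h5
  rw [h4, h5, h6]

theorem rels : PresM24.Rels xM y1M y2M where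
  st := by
    refine st_of_words (y1 := y1M) (y2 := y2M) ?_ ?_
    · intro n hn
      have key : ∀ n < 12, chk [n, n] [] = true := by decide +kernel
      exact weq (key n hn)
    · intro r hr
      have key : ∀ r ∈ relsP, chk r [] = true := by decide +kernel
      exact weq (key r hr)
  cfg :=
    { side1 := by
        refine side1_of_eqs (y2 := y2M) ?_
        intro p hp
        have key : ∀ p ∈ eqs1 1, chk p.1 p.2 = true := by decide +kernel
        exact weq (key p hp)
      side2 := by
        refine side2_of_eqs (y1 := y1M) ?_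
        intro p hp
        have key : ∀ p ∈ eqs2 0, chk p.1 p.2 = true := by decide +kernel
        exact weq (key p hp)
      comm := by
        have := weq (u := [14,6,12,6]) (v := [6,12,6,14]) (by decide +kernel)
        simp only [ev_cons, ev_nil, mul_one, g12, g14, g6] at this
        simp only [mul_assoc]
        exact this }
  e1 := by
    have h1 : xM 1 4 * xM 1 4 = 1 := by
      have := weq (u := [6,6]) (v := []) (by decide +kernel)
      simp only [ev_cons, ev_nil, mul_one, g6] at this
      exact this
    have := weq (u := SideWords.pw 4 [6,13,6,7,11,14]) (v := []) (by decide +kernel)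
    rw [SideWords.ev_pw] at this
    simp only [ev_cons, ev_nil, mul_one, g6, g13, g7, g11, g14] at this
    rw [PresM24.inv_conj h1]
    simp only [mul_assoc]
    exact this
  e2 := by
    have h1 : xM 1 4 * xM 1 4 = 1 := by
      have := weq (u := [6,6]) (v := []) (by decide +kernel)
      simp only [ev_cons, ev_nil, mul_one, g6] at this
      exact this
    have := weq (u := SideWords.pw 3 [6,15,6,10,3]) (v := []) (by decide +kernel)
    rw [SideWords.ev_pw] at this
    simp only [ev_cons, ev_nil, mul_one, g6, g15, g10, g3] at this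
    rw [PresM24.inv_conj h1]
    simp only [mul_assoc]
    exact this

/-! ### Generation -/

theorem closure_eq : Subgroup.closure (gy xM y1M y2M '' {n | n < 16}) = ⊤ := by
  set D := Subgroup.closure (gy xM y1M y2M '' {n | n < 16}) with hD
  have hw : ∀ (w : List ℕ) (g : Equiv.Perm GolayPt), (∀ l ∈ w, l < 16) →
      (∀ j < 24, idx (g (pt j)) = tw w j) → g ∈ D.map M24.subtype := by
    intro w g hw hg
    refine ⟨ev (gy xM y1M y2M) w, ev_mem _ _ _ fun l hl => Subgroup.subset_closure ⟨l, hw l hl, rfl⟩, ?_⟩
    apply Equiv.ext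
    intro p
    have h1 := (ev_apply w hw (idx p) (idx_lt p)).2
    have h2 := hg (idx p) (idx_lt p)
    rw [pt_idx] at h1 h2
    show ((ev (gy xM y1M y2M) w : M24) : Equiv.Perm GolayPt) p = g p
    rw [h1, ← h2, pt_idx]
  have hK : M24 ≤ D.map M24.subtype := by
    refine Cfsg.Agent.SporadicA.M24Trans.closure_eq.ge.trans ?_
    rw [Cfsg.Agent.SporadicA.M24Chain.K, Subgroup.closure_le]
    rintro z (rfl | rfl | rfl)
    · exact hw [11, 12, 4, 11, 12, 10, 11, 13, 10, 11, 10, 11, 13, 6] _ (by decide)
        (by decide +kernel)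
    · exact hw [1, 14, 10, 4, 11, 13, 11, 8, 12, 10, 11, 15, 13, 10] _ (by decide)
        (by decide +kernel)
    · exact hw [4, 12, 11, 14, 12, 0, 11, 10, 11, 15, 13, 10, 11, 5, 7] _ (by decide)
        (by decide +kernel)
  rw [eq_top_iff]
  intro z _
  obtain ⟨w, hw, hwz⟩ := hK z.2
  have : w = z := Subtype.ext hwz
  rwa [← this]

end Cfsg.Agent.Held.ModelM24
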