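import Mathlib
import Cfsg.Prelude.Def_Involutions
import Cfsg.Prelude.Def_TwoFusion
import Cfsg.Agent.TwoFusion.StronglyEmbeddedBasic

/-!
# A strongly closed elementary abelian subgroup with irreducible normalizer

Abstract part of the case "z is fused only into one of E₁, E₂" of the groups whose involution
centralizer is the centralizer of a transvection of SL(5, 2): modulo Goldschmidt's strongly
closed abelian theorem (given as a hypothesis `gold`) the subgroup `E` is normal in `G`.
-/

set_option autoImplicit false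

universe u

namespace Cfsg.Agent.Held.NoSecondFusion

open Cfsg Subgroup

section Basic

variable {G : Type*} [Group G]

/-- An involution acting on `K` without fixed points inverts `K`. -/
theorem inverts [Finite G] (K : Subgroup G) (x : G) (hx : x * x = 1)
    (hK : ∀ k ∈ K, x * k * x⁻¹ ∈ K) (hfix : ∀ k ∈ K, x * k = k * x → k = 1) :
    ∀ k ∈ K, x * k * x⁻¹ = k⁻¹ := by
  let φ : K →* K :=
    { toFun := fun k => ⟨x * k * x⁻¹, hK k k.2⟩
      map_one' := by ext; simp
      map_mul' := by intro a b; ext; simp [mul_assoc] }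
  have h1 : MonoidHom.FixedPointFree φ := by
    intro k hk
    have h2 : x * (k : G) * x⁻¹ = k := congrArg Subtype.val hk
    have h3 : x * (k : G) = k * x := by
      rw [mul_inv_eq_iff_eq_mul] at h2
      exact h2
    exact Subtype.ext (hfix k k.2 h3)
  have h2 : Function.Involutive φ := by
    intro k
    apply Subtype.ext
    show x * (x * (k : G) * x⁻¹) * x⁻¹ = k
    have hxi : x⁻¹ = x := inv_eq_of_mul_eq_one_right hx
    calc x * (x * (k : G) * x⁻¹) * x⁻¹ = (x * x) * k * (x⁻¹ * x⁻¹) := by group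
      _ = k := by rw [hxi, hx]; simp
  have h3 := h1.coe_eq_inv_of_involutive h2
  intro k hk
  have h4 := congrFun h3 ⟨k, hk⟩
  exact congrArg Subtype.val h4

/-- A subgroup of odd order on which two commuting involutions and their product act
fixed point freely is trivial. -/
theorem eq_bot_of_four [Finite G] (K : Subgroup G) (x y : G)
    (hx : x * x = 1) (hy : y * y = 1)
    (hKx : ∀ k ∈ K, x * k * x⁻¹ ∈ K) (hKy : ∀ k ∈ K, y * k * y⁻¹ ∈ K)
    (fx : ∀ k ∈ K, x * k = k * x → k = 1) (fy : ∀ k ∈ K, y * k = k * y → k = 1)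
    (fxy : ∀ k ∈ K, (x * y) * k = k * (x * y) → k = 1) : K = ⊥ := by
  have h1 := inverts K x hx hKx fx
  have h2 := inverts K y hy hKy fy
  rw [eq_bot_iff]
  intro k hk
  have h3 : (x * y) * k = k * (x * y) := by
    have h4 : y * k * y⁻¹ = k⁻¹ := h2 k hk
    have h5 : x * k⁻¹ * x⁻¹ = k := by
      have := h1 k⁻¹ (K.inv_mem hk)
      simpa using this
    have h6 : y * k = k⁻¹ * y := by rw [← h4]; group
    have h7 : x * k⁻¹ = k * x := by
      rw [mul_inv_eq_iff_eq_mul] at h5
      exact h5
    calc (x * y) * k = x * (y * k) := by group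
      _ = x * k⁻¹ * y := by rw [h6]; group
      _ = k * (x * y) := by rw [h7]; group
  exact (Subgroup.mem_bot).2 (fxy k hk h3)

end Basic

variable {G : Type u} [Group G] [Finite G]

/-- A subgroup of even order normalized by a Sylow 2-subgroup `T` contains a nontrivial element
of `Z(T)`. -/
theorem mem_of_normalized (z : G) (T : Sylow 2 G)
    (hZT : ∀ x ∈ (T : Subgroup G), (∀ y ∈ (T : Subgroup G), y * x = x * y) → x = 1 ∨ x = z)
    (M : Subgroup G) (hM : ∀ t ∈ (T : Subgroup G), ∀ m ∈ M, t * m * t⁻¹ ∈ M)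
    (heven : 2 ∣ Nat.card M) : z ∈ M := by
  have : Fact (Nat.Prime 2) := ⟨Nat.prime_two⟩
  have hTM : (T : Subgroup G) ≤ normalizer (M : Set G) := by
    intro t ht
    rw [Subgroup.mem_normalizer_iff]
    intro m
    constructor
    · intro hm; exact hM t ht m hm
    · intro hm
      have := hM t⁻¹ (inv_mem ht) _ hm
      have h2 : t⁻¹ * (t * m * t⁻¹) * t⁻¹⁻¹ = m := by group
      rwa [h2] at this
  -- the subgroup `T ⊔ M`
  let L : Subgroup G := (T : Subgroup G) ⊔ M
  have hTL : (T : Subgroup G) ≤ L := le_sup_left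
  have hML : M ≤ L := le_sup_right
  let TL : Sylow 2 L := T.subtype hTL
  have hMn : (M.subgroupOf L).Normal := by
    rw [Subgroup.normal_subgroupOf_iff_le_normalizer hML]
    exact sup_le hTM Subgroup.le_normalizer
  -- Sylow of `M`
  have hdvd : 2 ∣ Nat.card (M.subgroupOf L) := by
    rwa [Nat.card_congr (Subgroup.subgroupOfEquivOfLe hML).toEquiv]
  obtain ⟨P⟩ : Nonempty (Sylow 2 (M.subgroupOf L)) := inferInstance
  -- intersection with T nontrivial
  have hne : ∃ x ∈ M, x ∈ (T : Subgroup G) ∧ x ≠ 1 := by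
    by_contra hcon
    push Not at hcon
    -- an involution in M.subgroupOf L, is conjugate in L into TL
    obtain ⟨x, hx⟩ := exists_prime_orderOf_dvd_card' 2 hdvd
    have hx1 : orderOf ((x : L) : L) = 2 := by
      rw [← hx]; exact Subgroup.orderOf_coe x
    have hzp : IsPGroup 2 (Subgroup.zpowers (x : L)) := by
      apply IsPGroup.of_card (n := 1)
      rw [Nat.card_zpowers, hx1]; norm_num
    obtain ⟨S, hS⟩ := hzp.exists_le_sylow
    obtain ⟨g, hg⟩ := MulAction.exists_smul_eq L S TL
    have h1 : (x : L) ∈ (S : Subgroup L) := hS (Subgroup.mem_zpowers _)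
    have h2 : g * (x : L) * g⁻¹ ∈ (TL : Subgroup L) := by
      rw [← hg]
      rw [Sylow.coe_subgroup_smul, Subgroup.mem_pointwise_smul_iff_inv_smul_mem]
      have : (MulAut.conj g)⁻¹ • (g * (x : L) * g⁻¹) = (x : L) := by
        rw [← map_inv, MulAut.smul_def, MulAut.conj_apply]; group
      rw [this]; exact h1
    have h3 : g * (x : L) * g⁻¹ ∈ M.subgroupOf L := hMn.conj_mem _ x.2 g
    have h4 := hcon ((g * (x : L) * g⁻¹ : L) : G) h3 h2
    have h5 : g * (x : L) * g⁻¹ = 1 := Subtype.ext h4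
    have h6 : (x : L) = 1 := by
      rw [mul_inv_eq_one] at h5
      exact mul_eq_left.1 h5
    rw [h6, orderOf_one] at hx1
    exact absurd hx1 (by norm_num)
  obtain ⟨x, hxM, hxT, hx1⟩ := hne
  -- `M ∩ T` is normal in `T`, nontrivial
  have hTp : IsPGroup 2 (T : Subgroup G) := T.isPGroup'
  let D : Subgroup G := M ⊓ T
  let act : MulAction (T : Subgroup G) D :=
    { smul := fun t m => ⟨t * m * t⁻¹, hM t t.2 m m.2.1, (T : Subgroup G).mul_mem ((T : Subgroup G).mul_mem t.2 m.2.2) ((T : Subgroup G).inv_mem t.2)⟩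
      one_smul := by
        intro m; apply Subtype.ext
        show ((1 : (T : Subgroup G)) : G) * m * ((1 : (T : Subgroup G)) : G)⁻¹ = m
        simp
      mul_smul := by
        intro a b m; apply Subtype.ext
        show ((a * b : (T : Subgroup G)) : G) * m * ((a * b : (T : Subgroup G)) : G)⁻¹
          = a * (b * m * (b : G)⁻¹) * (a : G)⁻¹
        rw [Subgroup.coe_mul, mul_inv_rev]; group }
  have hDp : IsPGroup 2 D := hTp.to_le inf_le_right
  have hDne : Nontrivial D := ⟨⟨⟨x, hxM, hxT⟩, 1, fun h => hx1 (congrArg Subtype.val h)⟩⟩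
  have hD2 : 2 ∣ Nat.card D := by
    obtain ⟨n, hn, hc⟩ := (IsPGroup.nontrivial_iff_card hDp).1 hDne
    rw [hc]; exact dvd_pow_self 2 (Nat.pos_iff_ne_zero.1 hn)
  have h1fix : (1 : D) ∈ MulAction.fixedPoints (T : Subgroup G) D := by
    intro t
    apply Subtype.ext
    show (t : G) * 1 * (t : G)⁻¹ = 1
    simp
  obtain ⟨b, hb, hb1⟩ := hTp.exists_fixed_point_of_prime_dvd_card_of_fixed_point D hD2 h1fix
  have hbc : ∀ y ∈ (T : Subgroup G), y * (b : G) = b * y := by
    intro y hy
    have h := congrArg Subtype.val (hb ⟨y, hy⟩)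
    have h' : y * (b : G) * y⁻¹ = b := h
    exact mul_inv_eq_iff_eq_mul.1 h'
  rcases hZT b b.2.2 hbc with h | h
  · exact absurd (Subtype.ext h.symm) hb1
  · rw [← h]; exact b.2.1

/-- Hypotheses on `z`, a Sylow 2-subgroup `T` and an abelian subgroup `E` of `T`. -/
structure Hyp (z : G) (T : Sylow 2 G) (E : Subgroup G) : Prop where
  order : orderOf z = 2
  zE : z ∈ E
  ET : E ≤ (T : Subgroup G)
  ZT : ∀ x ∈ (T : Subgroup G), (∀ y ∈ (T : Subgroup G), y * x = x * y) → x = 1 ∨ x = z
  TN : (T : Subgroup G) ≤ normalizer (E : Set G)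
  CN : centralizer ({z} : Set G) ≤ normalizer (E : Set G)
  comm : ∀ x ∈ E, ∀ y ∈ E, x * y = y * x
  cent : ∀ x : G, (∀ y ∈ E, x * y = y * x) → x ∈ E
  core : ∀ K : Subgroup G, K ≤ centralizer ({z} : Set G) →
    (∀ c ∈ centralizer ({z} : Set G), ∀ k ∈ K, c * k * c⁻¹ ∈ K) → Odd (Nat.card K) → K = ⊥
  trans : ∀ x ∈ E, x ≠ 1 → ∃ h ∈ normalizer (E : Set G), h * z * h⁻¹ = x
  fus : ∀ x ∈ (T : Subgroup G), IsConj z x → x ∈ E
  irr : ∀ K : Subgroup G, E ≤ K → K ≤ normalizer (E : Set G) →
    (∀ h ∈ normalizer (E : Set G), ∀ k ∈ K, h * k * h⁻¹ ∈ K) → K = E ∨ normalizer (E : Set G) ≤ K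
  inv : ∃ y ∈ (T : Subgroup G), orderOf y = 2 ∧ y ∉ E

namespace Hyp

variable {z : G} {T : Sylow 2 G} {E : Subgroup G} (h : Hyp z T E)

include h

omit [Finite G] in
theorem sq {x : G} (hx : x ∈ E) : x * x = 1 := by
  by_cases h1 : x = 1
  · rw [h1, mul_one]
  · obtain ⟨g, -, hg⟩ := h.trans x hx h1
    have hz : z * z = 1 := by
      have := pow_orderOf_eq_one z
      rwa [h.order, pow_two] at this
    rw [← hg]
    calc g * z * g⁻¹ * (g * z * g⁻¹) = g * (z * z) * g⁻¹ := by group
      _ = 1 := by rw [hz]; group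

omit [Finite G] in
theorem exists_other : ∃ v ∈ E, v ≠ 1 ∧ v ≠ z := by
  by_contra hcon
  push Not at hcon
  obtain ⟨y, hyT, hy2, hyE⟩ := h.inv
  apply hyE
  apply h.cent
  intro v hv
  by_cases h1 : v = 1
  · rw [h1]; group
  · have hvz := hcon v hv h1
    rw [hvz]
    -- `y` normalizes `E = {1, z}`
    have h2 : y * z * y⁻¹ ∈ E := (Subgroup.mem_normalizer_iff.1 (h.TN hyT) z).1 h.zE
    have h3 : y * z * y⁻¹ ≠ 1 := by
      intro h4
      have h5 : z = 1 := by
        have : z = y⁻¹ * (y * z * y⁻¹) * y := by group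
        rw [this, h4]; group
      have := h.order
      rw [h5, orderOf_one] at this
      exact absurd this (by norm_num)
    have h4 := hcon _ h2 h3
    exact mul_inv_eq_iff_eq_mul.1 h4

omit [Finite G] in
theorem z_ne_one : z ≠ 1 := by
  intro h5
  have := h.order
  rw [h5, orderOf_one] at this
  exact absurd this (by norm_num)

/-- A subgroup normalized by `N_G(E)` and of odd order is trivial. -/
theorem eq_bot_of_odd (K : Subgroup G) (hK : ∀ g ∈ normalizer (E : Set G), ∀ k ∈ K, g * k * g⁻¹ ∈ K)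
    (hodd : Odd (Nat.card K)) : K = ⊥ := by
  have hfz : ∀ k ∈ K, z * k = k * z → k = 1 := by
    have h1 : K ⊓ centralizer ({z} : Set G) = ⊥ := by
      apply h.core _ inf_le_right
      · rintro c hc k ⟨hk1, hk2⟩
        refine ⟨hK c (h.CN hc) k hk1, ?_⟩
        exact (centralizer ({z} : Set G)).mul_mem ((centralizer ({z} : Set G)).mul_mem hc hk2)
          ((centralizer ({z} : Set G)).inv_mem hc)
      · exact hodd.of_dvd_nat (Subgroup.card_dvd_of_le inf_le_left)
    intro k hk hzk
    have : k ∈ K ⊓ centralizer ({z} : Set G) := by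
      refine ⟨hk, ?_⟩
      show k ∈ centralizer ({z} : Set G)
      rw [Subgroup.mem_centralizer_singleton_iff]
      exact hzk.symm
    rw [h1] at this
    exact Subgroup.mem_bot.1 this
  have hf : ∀ x ∈ E, x ≠ 1 → ∀ k ∈ K, x * k = k * x → k = 1 := by
    intro x hx hx1 k hk hxk
    obtain ⟨g, hg, hgx⟩ := h.trans x hx hx1
    have h1 : g⁻¹ * k * g ∈ K := by
      have := hK g⁻¹ (inv_mem hg) k hk
      rwa [inv_inv] at this
    have h2 : z * (g⁻¹ * k * g) = (g⁻¹ * k * g) * z := by
      have h3 : z = g⁻¹ * x * g := by rw [← hgx]; group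
      rw [h3]
      calc g⁻¹ * x * g * (g⁻¹ * k * g) = g⁻¹ * (x * k) * g := by group
        _ = g⁻¹ * (k * x) * g := by rw [hxk]
        _ = g⁻¹ * k * g * (g⁻¹ * x * g) := by group
    have h3 := hfz _ h1 h2
    have h4 : k = g * (g⁻¹ * k * g) * g⁻¹ := by group
    rw [h4, h3]; group
  obtain ⟨v, hv, hv1, hvz⟩ := h.exists_other
  have hE : E ≤ normalizer (E : Set G) := Subgroup.le_normalizer
  have hzv : z * v ≠ 1 := by
    intro h1
    apply hvz
    have h2 : z * z = 1 := h.sq h.zE
    exact (mul_left_cancel (h1.trans h2.symm))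
  exact eq_bot_of_four K z v (h.sq h.zE) (h.sq hv)
    (fun k hk => hK z (hE h.zE) k hk) (fun k hk => hK v (hE hv) k hk)
    (hf z h.zE h.z_ne_one) (hf v hv hv1) (hf (z * v) (E.mul_mem h.zE hv) hzv)

/-- **Main result.** Modulo Goldschmidt's theorem, `E` is normal in `G`. -/
theorem normalizer_eq_top
    (gold : ∀ (N : Type u) [Group N] [Finite N] [IsSimpleGroup N] (S : Sylow 2 N)
      (A : Subgroup N), A ≠ ⊥ → IsMulCommutative A → IsStronglyClosed A (S : Subgroup N) →
      IsMulCommutative (S : Subgroup N) ∨ ∃ H : Subgroup N, IsStronglyEmbedded H) :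
    normalizer (E : Set G) = ⊤ := by
  have f2 : Fact (Nat.Prime 2) := ⟨Nat.prime_two⟩
  have hnt : Nontrivial G := ⟨⟨z, 1, h.z_ne_one⟩⟩
  -- minimal normal subgroup
  have hne : ({N : Subgroup G | N.Normal ∧ N ≠ ⊥}).Nonempty := ⟨⊤, inferInstance, top_ne_bot⟩
  obtain ⟨N, ⟨hNn, hN1⟩, hmin⟩ := (Set.toFinite {N : Subgroup G | N.Normal ∧ N ≠ ⊥}).exists_minimal hne
  have hmin' : ∀ M : Subgroup G, M.Normal → M ≠ ⊥ → M ≤ N → M = N := fun M h1 h2 h3 =>
    le_antisymm h3 (hmin ⟨h1, h2⟩ h3)
  have heven : ∀ M : Subgroup G, M ≠ ⊥ → (∀ g ∈ normalizer (E : Set G), ∀ k ∈ M, g * k * g⁻¹ ∈ M) →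
      z ∈ M := by
    intro M hM1 hM
    apply mem_of_normalized z T h.ZT M (fun t ht m hm => hM t (h.TN ht) m hm)
    by_contra h2
    exact hM1 (h.eq_bot_of_odd M hM (Nat.not_even_iff_odd.1 (fun h3 => h2 h3.two_dvd)))
  have hEof : ∀ M : Subgroup G, (∀ g ∈ normalizer (E : Set G), ∀ k ∈ M, g * k * g⁻¹ ∈ M) → z ∈ M →
      E ≤ M := by
    intro M hM hz x hx
    by_cases hx1 : x = 1
    · rw [hx1]; exact M.one_mem
    · obtain ⟨g, hg, hgx⟩ := h.trans x hx hx1
      rw [← hgx]
      exact hM g hg z hz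
  have hNc : ∀ g ∈ normalizer (E : Set G), ∀ k ∈ N, g * k * g⁻¹ ∈ N := fun g _ k hk =>
    hNn.conj_mem k hk g
  have hzN : z ∈ N := heven N hN1 hNc
  have hEN : E ≤ N := hEof N hNc hzN
  have hirr := h.irr (N ⊓ normalizer (E : Set G)) (le_inf hEN Subgroup.le_normalizer) inf_le_right
    (by
      rintro g hg k ⟨hk1, hk2⟩
      exact ⟨hNn.conj_mem k hk1 g, (normalizer (E : Set G)).mul_mem
        ((normalizer (E : Set G)).mul_mem hg hk2) ((normalizer (E : Set G)).inv_mem hg)⟩)
  rcases hirr with hcase | hcase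
  · -- case `N_N(E) = E` : Burnside
    have hE' : IsPGroup 2 (E.subgroupOf N) := by
      have h1 : IsPGroup 2 E := T.isPGroup'.to_le h.ET
      exact h1.of_equiv (Subgroup.subgroupOfEquivOfLe hEN).symm
    obtain ⟨S, hS⟩ := hE'.exists_le_sylow
    have hNE : ∀ x : N, x ∈ normalizer ((E.subgroupOf N : Subgroup N) : Set N) → x ∈ E.subgroupOf N := by
      intro x hx
      have h1 : (x : G) ∈ N ⊓ normalizer (E : Set G) := by
        refine ⟨x.2, ?_⟩
        show (x : G) ∈ normalizer (E : Set G)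
        rw [Subgroup.mem_normalizer_iff]
        rw [Subgroup.mem_normalizer_iff] at hx
        intro y
        constructor
        · intro hy
          exact (hx ⟨y, hEN hy⟩).1 hy
        · intro hy
          have hyN : y ∈ N := by
            have h2 : y = (x : G)⁻¹ * (x * y * (x : G)⁻¹) * x := by group
            rw [h2]
            exact N.mul_mem (N.mul_mem (N.inv_mem x.2) (hEN hy)) x.2
          exact (hx ⟨y, hyN⟩).2 hy
      rw [hcase] at h1
      exact h1
    have hSE : (S : Subgroup N) = E.subgroupOf N := by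
      by_contra hcon
      have hlt : E.subgroupOf N < (S : Subgroup N) := lt_of_le_of_ne hS (fun h1 => hcon h1.symm)
      have hSn : Group.IsNilpotent (S : Subgroup N) := S.isPGroup'.isNilpotent
      have h2 : (E.subgroupOf N).subgroupOf (S : Subgroup N) ≠ ⊤ := by
        rw [Ne, Subgroup.subgroupOf_eq_top]
        exact not_le_of_gt hlt
      have h3 := (Group.normalizerCondition_of_isNilpotent (G := (S : Subgroup N)))
        ((E.subgroupOf N).subgroupOf (S : Subgroup N)) (lt_top_iff_ne_top.2 h2)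
      obtain ⟨x, hx1, hx2⟩ := SetLike.exists_of_lt h3
      apply hx2
      apply hNE
      rw [Subgroup.mem_normalizer_iff] at hx1 ⊢
      intro y
      constructor
      · intro hy
        exact (hx1 ⟨y, hS hy⟩).1 hy
      · intro hy
        have hyS : y ∈ (S : Subgroup N) := by
          have h4 : y = (x : N)⁻¹ * (x * y * (x : N)⁻¹) * x := by group
          rw [h4]
          exact (S : Subgroup N).mul_mem ((S : Subgroup N).mul_mem
            ((S : Subgroup N).inv_mem x.2) (hS hy)) x.2
        exact (hx1 ⟨y, hyS⟩).2 hy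
    have hP : normalizer ((S : Subgroup N) : Set N) ≤ centralizer ((S : Subgroup N) : Set N) := by
      rw [hSE]
      intro x hx y hy
      have hxE := hNE x hx
      exact Subtype.ext (h.comm _ hy _ hxE)
    have hc := MonoidHom.ker_transferSylow_isComplement' S hP
    set K : Subgroup N := (MonoidHom.transferSylow S hP).ker with hK
    have hKodd : Odd (Nat.card K) := by
      have h1 : (Nat.card K).Coprime 2 := by
        have h2 : ¬ 2 ∣ (S : Subgroup N).index := S.not_dvd_index
        rw [hc.index_eq_card] at h2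
        exact ((Nat.Prime.coprime_iff_not_dvd Nat.prime_two).2 h2).symm
      exact Nat.coprime_two_right.1 h1
    have hK0 := h.eq_bot_of_odd (K.map N.subtype) (by
      rintro g - _ ⟨k, hk, rfl⟩
      have hgN : g * (k : G) * g⁻¹ ∈ N := hNn.conj_mem _ k.2 g
      refine ⟨⟨g * (k : G) * g⁻¹, hgN⟩, ?_, rfl⟩
      show _ ∈ K
      rw [hK, MonoidHom.mem_ker]
      set w : N := ⟨g * (k : G) * g⁻¹, hgN⟩ with hw
      have h1 : orderOf w = orderOf k := by
        rw [← Subgroup.orderOf_coe, ← Subgroup.orderOf_coe]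
        exact TwoFusion.StronglyEmbeddedBasic.orderOf_conj g (k : G)
      have h2 : orderOf k ∣ Nat.card K := by
        rw [← Subgroup.orderOf_mk k hk]
        exact orderOf_dvd_natCard _
      have h3 : orderOf (MonoidHom.transferSylow S hP w) ∣ Nat.card K :=
        (orderOf_map_dvd _ w).trans (h1 ▸ h2)
      obtain ⟨m, hm⟩ := (IsPGroup.iff_orderOf.1 S.isPGroup') (MonoidHom.transferSylow S hP w)
      rw [hm] at h3
      have h4 : m = 0 := by
        by_contra hm0
        exact (Nat.not_even_iff_odd.2 hKodd) (even_iff_two_dvd.2 ((dvd_pow_self 2 hm0).trans h3))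
      rw [h4, pow_zero, orderOf_eq_one_iff] at hm
      exact hm) (by
        rwa [Nat.card_congr (Subgroup.equivMapOfInjective K N.subtype N.subtype_injective).symm.toEquiv])
    rw [Subgroup.map_eq_bot_iff_of_injective _ N.subtype_injective] at hK0
    rw [hK0] at hc
    have hStop : (S : Subgroup N) = ⊤ := Subgroup.isComplement'_bot_left.1 hc
    have hNE' : N ≤ E := by
      intro x hx
      have h1 : (⟨x, hx⟩ : N) ∈ (S : Subgroup N) := by rw [hStop]; trivial
      rw [hSE] at h1
      exact h1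
    have hNeq : N = E := le_antisymm hNE' hEN
    rw [← hNeq]
    exact Subgroup.normalizer_eq_top_iff.2 hNn
  · -- case `N_G(E) ≤ N`
    have hHN : normalizer (E : Set G) ≤ N := hcase.trans inf_le_left
    have hTN : (T : Subgroup G) ≤ N := h.TN.trans hHN
    -- simplicity
    have hsimple : IsSimpleGroup N := by
      let R : Subgroup N := sInf {L : Subgroup N | L.Normal ∧ L ≠ ⊥}
      have hzL : ∀ L : Subgroup N, L.Normal → L ≠ ⊥ → (⟨z, hzN⟩ : N) ∈ L := by
        intro L hL hL1
        have h1 := heven (L.map N.subtype) (by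
          rw [Ne, Subgroup.map_eq_bot_iff_of_injective _ N.subtype_injective]; exact hL1)
          (by
            rintro g hg _ ⟨k, hk, rfl⟩
            exact ⟨⟨g, hHN hg⟩ * k * ⟨g, hHN hg⟩⁻¹, hL.conj_mem k hk _, rfl⟩)
        obtain ⟨w, hw, hwz⟩ := h1
        have : w = ⟨z, hzN⟩ := Subtype.ext hwz
        rwa [← this]
      have hRc : R.Characteristic := by
        rw [Subgroup.characteristic_iff_map_le]
        intro φ
        apply le_sInf
        rintro L ⟨hL, hL1⟩
        rw [Subgroup.map_le_iff_le_comap]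
        apply sInf_le
        refine ⟨hL.comap _, ?_⟩
        intro h1
        apply hL1
        rw [eq_bot_iff]
        intro x hx
        have h2 : φ.symm x ∈ L.comap φ.toMonoidHom := by
          show φ (φ.symm x) ∈ L
          rwa [φ.apply_symm_apply]
        rw [h1, Subgroup.mem_bot] at h2
        have h3 := congrArg φ h2
        rw [φ.apply_symm_apply, map_one] at h3
        rw [Subgroup.mem_bot]; exact h3
      have hRz : (⟨z, hzN⟩ : N) ∈ R := by
        rw [Subgroup.mem_sInf]
        rintro L ⟨hL, hL1⟩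
        exact hzL L hL hL1
      have hRn : (R.map N.subtype).Normal := inferInstance
      have hRN := hmin' _ hRn (by
        rw [Ne, Subgroup.map_eq_bot_iff_of_injective _ N.subtype_injective]
        intro h1
        rw [h1, Subgroup.mem_bot] at hRz
        exact h.z_ne_one (congrArg Subtype.val hRz)) (Subgroup.map_subtype_le R)
      have hRtop : R = ⊤ := by
        rw [eq_top_iff]
        intro x _
        have h1 : (x : G) ∈ R.map N.subtype := by rw [hRN]; exact x.2
        obtain ⟨w, hw, hwx⟩ := h1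
        have : w = x := Subtype.ext hwx
        rwa [← this]
      have hNnt : Nontrivial N := ⟨⟨⟨z, hzN⟩, 1, fun h1 => h.z_ne_one (congrArg Subtype.val h1)⟩⟩
      refine ⟨fun L hL => ?_⟩
      by_cases hL1 : L = ⊥
      · exact Or.inl hL1
      · right
        rw [eq_top_iff, ← hRtop]
        exact sInf_le ⟨hL, hL1⟩
    have hA1 : E.subgroupOf N ≠ ⊥ := by
      intro h1
      have h2 : (⟨z, hzN⟩ : N) ∈ E.subgroupOf N := h.zE
      rw [h1, Subgroup.mem_bot] at h2
      exact h.z_ne_one (congrArg Subtype.val h2)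
    have hAc : IsMulCommutative (E.subgroupOf N) :=
      ⟨⟨fun a b => Subtype.ext (Subtype.ext (h.comm _ a.2 _ b.2))⟩⟩
    obtain ⟨y, hyT, hy2, hyE⟩ := h.inv
    have hsc : IsStronglyClosed (E.subgroupOf N) ((T.subtype hTN : Sylow 2 N) : Subgroup N) := by
      refine ⟨fun x hx => h.ET hx, ?_⟩
      intro x hx g hg
      by_cases hx1 : x = 1
      · rw [hx1]
        simp
      · obtain ⟨k, -, hk⟩ := h.trans (x : G) hx (fun h1 => hx1 (Subtype.ext h1))
        show (g : G) * x * (g : G)⁻¹ ∈ E
        apply h.fus _ hg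
        rw [isConj_iff]
        refine ⟨g * k, ?_⟩
        show (g : G) * k * z * ((g : G) * k)⁻¹ = (g : G) * x * (g : G)⁻¹
        rw [← hk]; group
    rcases gold N (T.subtype hTN) (E.subgroupOf N) hA1 hAc hsc with hcomm | ⟨H, hH⟩
    · exfalso
      apply hyE
      apply h.cent
      intro v hv
      have h1 := hcomm.is_comm.comm (⟨⟨y, hTN hyT⟩, hyT⟩ : ((T.subtype hTN : Sylow 2 N) : Subgroup N))
        ⟨⟨v, hEN hv⟩, h.ET hv⟩
      exact congrArg (fun w : ((T.subtype hTN : Sylow 2 N) : Subgroup N) => ((w : N) : G)) h1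
    · exfalso
      have h1 := TwoFusion.StronglyEmbeddedBasic.isConj_of_involutions hH
        (⟨z, hzN⟩ : N) ⟨y, hTN hyT⟩ (by rw [← Subgroup.orderOf_coe]; exact h.order)
        (by rw [← Subgroup.orderOf_coe]; exact hy2)
      apply hyE
      apply h.fus y hyT
      rw [isConj_iff] at h1 ⊢
      obtain ⟨c, hc⟩ := h1
      exact ⟨c, congrArg Subtype.val hc⟩

end Hyp

end Cfsg.Agent.Held.NoSecondFusion
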