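import Cfsg.Agent.Held.PCData

set_option autoImplicit false
set_option maxRecDepth 100000

namespace Cfsg.Agent.Held.PCChk0

open Cfsg.Agent.SporadicRecognition.CosetCert Cfsg.Agent.Held.PCData

theorem c0 : Part C 0 21 21 := runChunk_sound C 21 (by decide +kernel : runChunk C 10 1023 0xd8f33d0f0300ae300402b4ec3acf1300b33d0f03bcee300402b4ec3acf13d8db348d9368d730080154d434cd83c8c02d0f0300ae300753b4ec3acf130080248d93009730080154d434cd830080104c230086300b5310c3320c030080104c23bcc63a0c0210c3320c0394f338cdf30061300a4378dd388dc3005b338cf368ca300a7330d0334c9398db348d9368d7358c0154d434cd83a4c0104c23008630080210c3320c03a8c0104c2314c630080210c3320c0394c028cdf30061380e4378dd388dc30040238cf3008a30080230d0334c930080104c2314c631cc0210c3320c0394c028cdf30061380e4378dd388dc30040238cf3008a344cb330d0334c93009b348d9368d7358c0154d434cd830040238cf3008a344cb330d0334c930080104c2314c631cc0210c3320c0300802254851d465154450d42505405 1 1 0 0 21 = 22)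

theorem all : Part C 0 21 21 := c0

end Cfsg.Agent.Held.PCChk0
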