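import Cfsg.Agent.Held.PKData

set_option autoImplicit false
set_option maxRecDepth 100000

namespace Cfsg.Agent.Held.PKChk0

open Cfsg.Agent.SporadicRecognition.CosetCert Cfsg.Agent.Held.PKData

theorem c0 : Part C 0 15 15 := runChunk_sound C 15 (by decide +kernel : runChunk C 11 2047 0x14037e710dd9b83002e4c013d3746009e1c13004009f9c43766e0c00b93004f4dd1c2378704c014037e6009d9b83002e4e29bd3746009e1802004c4c00b73566b8c012c36c600969802004c0e19c037e6009d9b83002e4e29bd374708de1c1300400800b73566b8c012c36c600969b33646c0c01313002f8d59ae3004b0c013535a600801002004a4c012a34869cd31a5346600511a13004a0da1b13002f8d59ae3004b0c013535a6ccd91b03004008012a34869cd31a5346600511a135e6a0c01293004004b99932c670cd980234660c010024067cc010012e664cb19c3366008d19833c674c01001246008899031e638c698c32a650c9980200228c318020a610c198931061cc118130062cc0100216a2944a8850ea1942a84506a0940a805 1 1 0 0 15 = 16)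

theorem all : Part C 0 15 15 := c0

end Cfsg.Agent.Held.PKChk0
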