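import Cfsg.Agent.SporadicRecognition.CosetCert

set_option autoImplicit false
set_option maxRecDepth 100000

namespace Cfsg.Agent.Held.PKData

open Cfsg.Agent.SporadicRecognition.CosetCert

noncomputable def tree : Tr := (.L 0x1fffc67e2bf49f8efcf7e23f09992fcb6e8bf31f9ced07e43dffff6adb75e0bae1d7ceb3758aae9d78bc075ebb35f7eeb973fffe91768eb06d7a6adb44da04d3b729f5ada86d52eb1b4cb7fffc9324591c89f649b271986f9464ea65932ec9b54caa4197fffb6751b6357187885c2ae0cf0cbbb7452e1d752d895d2b5fffeee9793b99a094f4a7f55939ed50077d3bf2a69930c7555fffda8eeca652d735ad2e49a16b6267992ac6d4b89dbced07bfffb1a18911ec6442ea1810be85e42e2158ab685a42c998509fff78534a540916b523aa9e116a678153e2950ee096e4b3a6fffe9c54423a293cc9064b3251924c8e6412231914cb084c327ffd0089a6664990cdca7253429f14ecaae83a29c14f486c4afffa198fcaa272911610b88564312181108c5e42d21e14d4b5fff1c10c84946665241918c8864232018f8ca064e32618f0b3ffe1a11b18a88a8828213109086042e216108884041e21d1efffc6861c20c0858428212108083841820a10408184082021f)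

noncomputable def wtree : WT := (.N 35 (.N 17 (.N 8 (.N 4 (.N 2 (.N 1 (.L 1 [13,4,12]) (.L 2 [13,5,12])) (.N 3 (.L 3 [13,6,12]) (.L 7 [13,7,12]))) (.N 6 (.N 5 (.L 8 [13,8,12]) (.L 9 [13,9,12])) (.N 7 (.L 11 [13,11,12]) (.L 4 [1,13,1,12])))) (.N 12 (.N 10 (.N 9 (.L 5 [2,13,2,12]) (.L 6 [3,13,3,12])) (.N 11 (.L 12 [13,13]) (.L 0 [13,0,13]))) (.N 14 (.N 13 (.L 4 [12,1,13]) (.L 5 [12,2,13])) (.N 15 (.L 6 [12,3,13]) (.N 16 (.L 7 [12,7,13]) (.L 8 [12,8,13])))))) (.N 26 (.N 21 (.N 19 (.N 18 (.L 9 [12,9,13]) (.L 11 [12,11,13])) (.N 20 (.L 1 [12,4,1,13]) (.L 2 [12,5,2,13]))) (.N 23 (.N 22 (.L 3 [12,6,3,13]) (.L 7 [10,7,10])) (.N 24 (.L 9 [10,9,10]) (.N 25 (.L 2 [10,2,10]) (.L 8 [10,8,10]))))) (.N 30 (.N 28 (.N 27 (.L 3 [10,3,10]) (.L 5 [7,10,5,10])) (.N 29 (.L 6 [10,8,6,10]) (.L 0 [10,0,10]))) (.N 32 (.N 31 (.L 1 [10,1,0,10]) (.L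 12 [6,10,3,6,13,6,10,3,6,13,6,10,3,6])) (.N 33 (.L 13 [1,13,4]) (.N 34 (.L 2 [4,2,4]) (.L 3 [4,3,4]))))))) (.N 52 (.N 43 (.N 39 (.N 37 (.N 36 (.L 5 [4,5,4]) (.L 9 [4,9,4])) (.N 38 (.L 6 [4,6,4]) (.L 7 [4,7,4,5]))) (.N 41 (.N 40 (.L 8 [4,6,8,4]) (.L 0 [4,1,0,4])) (.N 42 (.L 12 [1,12,1,4]) (.L 10 [4,10,4,10,4])))) (.N 47 (.N 45 (.N 44 (.L 9 [11,9,11]) (.L 6 [11,6,11])) (.N 46 (.L 3 [11,3,11]) (.L 8 [11,8,9,11]))) (.N 49 (.N 48 (.L 1 [4,1,4]) (.L 0 [11,0,11])) (.N 50 (.L 12 [11,12,11]) (.N 51 (.L 1 [11,1,11]) (.L 2 [1,11,2,11])))))) (.N 61 (.N 56 (.N 54 (.N 53 (.L 13 [11,13,11]) (.L 4 [11,4,11])) (.N 55 (.L 5 [11,5,11,4]) (.L 10 [4,11,10,11,10,4,10,11]))) (.N 58 (.N 57 (.L 8 [7,8,7]) (.L 6 [7,6,7])) (.N 59 (.L 3 [7,3,7]) (.N 60 (.L 9 [7,9,7,8]) (.L 1 [7,2,1,7]))))) (.N 65 (.N 63 (.N 62 (.L 4 [7,5,4,7]) (.L 10 [5,10,5,7])) (.N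 64 (.L 11 [7,11,7,11,7]) (.L 12 [7,12,7]))) (.N 67 (.N 66 (.L 0 [7,0,7]) (.L 2 [7,2,7])) (.N 68 (.L 13 [7,13,7]) (.N 69 (.L 10 [7,10,7]) (.L 5 [7,5,7]))))))))

noncomputable def stree : ST := (.N 6 (.N 3 (.N 1 (.L 0 [] []) (.N 2 (.L 1 [] []) (.L 2 [] []))) (.N 4 (.L 3 [] []) (.N 5 (.L 4 [] []) (.L 5 [] [])))) (.N 9 (.N 7 (.L 6 [] []) (.N 8 (.L 7 [] []) (.L 8 [] []))) (.N 10 (.L 9 [] []) (.N 11 (.L 10 [] []) (.L 11 [] [])))))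

noncomputable def C : Cert where
  data := tree
  lm := 15
  rb := 199
  fb := 13
  mask := 8191
  B := 32
  k := 14
  N := 15
  inv := fun x => bif Nat.beq x 0 then 0 else bif Nat.beq x 1 then 1 else bif Nat.beq x 2 then 2 else bif Nat.beq x 3 then 3 else bif Nat.beq x 4 then 4 else bif Nat.beq x 5 then 5 else bif Nat.beq x 6 then 6 else bif Nat.beq x 7 then 7 else bif Nat.beq x 8 then 8 else bif Nat.beq x 9 then 9 else bif Nat.beq x 10 then 10 else bif Nat.beq x 11 then 11 else bif Nat.beq x 12 then 13 else bif Nat.beq x 13 then 12 else x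
  words := wtree
  subs := stree

def rels : List (List Nat) := [[12,12,12], [0,1,0,1], [0,2,0,2], [0,3,0,3], [0,7,0,7], [0,8,0,8], [0,9,0,9], [0,10,0,10], [0,11,0,11], [1,2,1,2], [1,3,1,3], [1,4,1,4], [1,5,1,5], [1,6,1,6], [1,9,1,9], [1,11,1,11], [2,3,2,3], [2,4,2,4], [2,5,2,5], [2,6,2,6], [2,7,2,7], [2,8,2,8], [2,10,2,10], [3,4,3,4], [3,5,3,5], [3,6,3,6], [3,7,3,7], [3,8,3,8], [3,9,3,9], [3,10,3,10], [3,11,3,11], [4,5,4,5], [4,6,4,6], [4,9,4,9], [4,11,4,11], [5,6,5,6], [5,7,5,7], [5,8,5,8], [6,7,6,7], [6,8,6,8], [6,9,6,9], [6,11,6,11], [7,8,7,8], [8,9,8,9], [10,7,10,7], [10,8,10,8], [10,9,10,9], [11,9,11,9], [0,12,0,12], [13,6,12,3], [13,5,12,2], [13,4,12,1], [13,9,12,9], [13,8,12,8], [13,7,12,7], [13,11,12,11], [0,4,0,4,1], [0,5,0,5,2], [0,6,0,6,3], [1,7,1,7,2], [1,8,1,8,3], [1,10,1,10,0], [2,9,2,9,3], [2,11,2,11,1], [4,7,4,7,5],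 [4,8,4,8,6], [5,9,5,9,6], [5,11,5,11,4], [7,9,7,9,8], [10,5,10,5,7], [10,6,10,6,8], [11,8,11,8,9], [13,3,12,3,6], [13,2,12,2,5], [13,1,12,1,4], [4,10,4,10,4,10], [7,11,7,11,7,11], [11,10,11,10,11,10,11,10], [7,11,10,11,10,7,11,10,11], [10,11,10,4,11,10,11,10,4], [0,11,10,11,10,0,11,10,11,10], [1,11,10,11,10,1,11,10,11,10], [3,11,10,11,10,3,11,10,11,10], [8,11,10,11,10,8,11,10,11,10], [11,10,11,10,9,11,10,11,10,9], [2,11,10,11,10,2,11,10,11,10,0], [11,10,11,10,6,11,10,11,10,6,9], [5,11,10,11,10,5,11,10,11,10,5,11,10,11,10], [6,13,6,10,3,6,13,6,10,3,6,13,6,10,3]]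

def subw : List (List Nat) := [[0], [1], [2], [3], [4], [5], [6], [7], [8], [9], [10], [11]]

end Cfsg.Agent.Held.PKData
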