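import Cfsg.Agent.Held.Flip

/-!
# The relation between `y1` and `y2`
-/

set_option autoImplicit false

namespace Cfsg.Agent.Held.Code

open Cfsg.Agent.Lib.F2Mat

variable {G : Type*} [Group G] {z : G} {ph : ℕ → G}

/-- action of `y1` on `V1` -/
def s1 (t : Bool) (n : ℕ) : ℕ := lin 5 10 1 2 (cond t 24 16) (cond t 44 32) n

theorem s1_lt (t : Bool) (n : ℕ) : s1 t n < 64 := by
  unfold s1
  cases t <;> exact lin_lt (by norm_num) (by norm_num) (by norm_num) (by norm_num)
    (by norm_num) (by norm_num) n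

theorem sg_lt (n : ℕ) : sg 8 12 n < 64 :=
  lin_lt (by norm_num) (by norm_num) (by norm_num) (by norm_num) (cI_lt _) (cI_lt _) n

theorem Side.actV {E : Emb z ph} {t : Bool} {y : G} (h : Side z ph t y) :
    ∀ n < 64, Ac ph y (vv n) (vv (sg 8 12 n)) := by
  apply Ac.lin E (by norm_num) (by norm_num) (by norm_num) (by norm_num) (cI_lt _) (cI_lt _)
  · exact h.a03.congr (by decide +kernel) (by decide +kernel)
  · exact h.a04.congr (by decide +kernel) (by decide +kernel)
  · exact h.a13.congr (by decide +kernel) (by decide +kernel)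
  · exact h.a14.congr (by decide +kernel) (by decide +kernel)
  · exact h.a23.congr (by decide +kernel) (by decide +kernel)
  · exact h.a24.congr (by decide +kernel) (by decide +kernel)

theorem Side.x12 {E : Emb z ph} {t : Bool} {y : G} (h : Side z ph t y) :
    Ac ph y (X 1 2) (cond t (mu (X 1 2) (X 0 3)) (X 1 2)) := by
  have h1 := h.a12
  cases t
  · exact h1
  · exact (h1.mul E h.a04).congr (by decide +kernel) (by decide +kernel)

theorem Side.actU {E : Emb z ph} {t : Bool} {y : G} (h : Side z ph t y) :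
    ∀ n < 64, Ac ph y (uu n) (uu (s1 t n)) := by
  have h12 := h.x12 (E := E)
  have h02 := h.a02
  unfold s1
  cases t
  all_goals
    apply Ac.linU E (by norm_num) (by norm_num) (by norm_num) (by norm_num) (by norm_num)
      (by norm_num)
    · exact h.a14.congr (by decide +kernel) (by decide +kernel)
    · exact h.a04.congr (by decide +kernel) (by decide +kernel)
    · exact h.a13.congr (by decide +kernel) (by decide +kernel)
    · exact h.a03.congr (by decide +kernel) (by decide +kernel)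
    · exact h12.congr (by decide +kernel) (by decide +kernel)
    · exact h02.congr (by decide +kernel) (by decide +kernel)

/-- conjugation by `z` -/
theorem Ac.conj_z (E : Emb z ph) {y : G} {a b : ℕ} (h : Ac ph y a b) : Ac ph (z * y * z) a b :=
  ⟨h.l, h.r, by
    calc ph a * (z * y * z) = (ph a * z) * y * z := by group
      _ = z * (ph a * y) * z := by rw [E.comm h.l]; group
      _ = z * y * (ph b * z) := by rw [h.e]; group
      _ = _ := by rw [E.comm h.r]; group⟩

theorem Emb.zz (E : Emb z ph) : z * z = 1 := by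
  rw [← E.z_eq, ← E.mul C_zc C_zc, ← E.one, show mu zc zc = e1 by decide +kernel]

theorem Side.conj_z (E : Emb z ph) {t : Bool} {y : G} (h : Side z ph t y) :
    Side z ph t (z * y * z) where
  cube := by
    have hz : z⁻¹ = z := inv_eq_of_mul_eq_one_left E.zz
    have : z * y * z = z * y * z⁻¹ := by rw [hz]
    rw [this, conj_pow, h.cube]; group
  inv := by
    have hz : z⁻¹ = z := inv_eq_of_mul_eq_one_left E.zz
    have hc := E.comm C_34
    calc ph (X 3 4) * (z * y * z) * ph (X 3 4) = (ph (X 3 4) * z) * y * (z * ph (X 3 4)) := by group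
      _ = (z * ph (X 3 4)) * y * (ph (X 3 4) * z) := by rw [hc]
      _ = z * (ph (X 3 4) * y * ph (X 3 4)) * z := by group
      _ = _ := by rw [h.inv, mul_inv_rev, mul_inv_rev, hz, mul_assoc]
  a03 := h.a03.conj_z E
  a04 := h.a04.conj_z E
  a13 := h.a13.conj_z E
  a14 := h.a14.conj_z E
  a23 := h.a23.conj_z E
  a24 := h.a24.conj_z E
  a01 := h.a01.conj_z E
  a02 := h.a02.conj_z E
  a12 := h.a12.conj_z E
  a21 := h.a21.conj_z E

theorem centJ_ck : allK (fun k =>
    imp (Nat.beq (mu k (X 1 3)) (mu (X 1 3) k))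
    (imp (Nat.beq (mu k (X 1 4)) (mu (X 1 4) k))
    (imp (Nat.beq (mu k (X 2 3)) (mu (X 2 3) k))
    (imp (Nat.beq (mu k (X 2 4)) (mu (X 2 4) k))
    (imp (Nat.beq (mu k (X 0 2)) (mu (X 0 2) k))
    (imp (Nat.beq (mu k (X 1 2)) (mu (X 1 2) k))
      ((anyb 16 fun w => Nat.beq k (vv w)) || sing k))))))) = true := by decide +kernel

/-- swap of the bits `0` and `3` -/
def cv (n : ℕ) : ℕ := lin 8 2 4 1 16 32 n

/-- action of `x01` on `V2` -/
def aI (n : ℕ) : ℕ := lin 1 2 5 10 16 32 n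

/-- the index of `f0` -/
def f0 (t1 t2 : Bool) : ℕ := cond t1 (cond t2 4 8) (cond t2 1 0)

theorem pair_ck (t1 t2 : Bool) : allb 16 (fun p =>
    force (Nat.xor p (aI p)) fun q => force (Nat.xor (Nat.xor q (sg 8 12 q)) (cond t1 17 0)) fun e =>
    imp (Nat.beq (s1 t2 e) e)
    (force (Nat.xor (cv p) (aI (cv p))) fun q =>
      force (Nat.xor (Nat.xor q (sg 8 12 q)) (cond t2 17 0)) fun e =>
    imp (Nat.beq (s1 t1 e) e)
      (Nat.beq p (f0 t1 t2) || Nat.beq p (Nat.xor 2 (f0 t1 t2))))) = true := by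
  cases t1 <;> cases t2 <;> decide +kernel

/-- `y2` commutes with `f y1 f` for some `f ∈ V1 ∩ V2`. -/
theorem pair_exists {E : Emb z ph} {t1 t2 : Bool} {y1 y2 : G} (h1 : Side z ph t1 y1)
    (h2 : Side z (mph ph) t2 y2) :
    ∃ p < 16, (ph (vv p) * y1 * ph (vv p)) * y2 = y2 * (ph (vv p) * y1 * ph (vv p)) := by
  have A1 := h1.actV (E := E)
  have B1 := h1.actU (E := E)
  have A2 : ∀ n < 64, Ac ph y2 (uu n) (uu (sg 8 12 n)) := fun n hn =>
    Ac.unflip_vv E hn (sg_lt n) (h2.actV (E := E.mirror) n hn)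
  have B2 : ∀ n < 64, Ac ph y2 (vv n) (vv (s1 t2 n)) := fun n hn =>
    Ac.unflip_uu E hn (s1_lt t2 n) (h2.actU (E := E.mirror) n hn)
  have ck : ∀ t : Bool, ∀ n < 64, s1 t (sg 8 12 n) = sg 8 12 (s1 t n) := by
    intro t n hn
    have hck : allb 64 (fun n => Nat.beq (s1 t (sg 8 12 n)) (sg 8 12 (s1 t n))) = true := by
      cases t <;> decide +kernel
    exact beq_true (of_allb hck n hn)
  -- `d = (y2 y1)⁻¹ (y1 y2)`
  have hV : ∀ n < 64, Ac ph (y1 * y2) (vv n) (vv (s1 t2 (sg 8 12 n))) := fun n hn =>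
    (A1 n hn).comp (B2 _ (sg_lt n))
  have hV' : ∀ n < 64, Ac ph (y2 * y1) (vv n) (vv (s1 t2 (sg 8 12 n))) := fun n hn => by
    rw [ck t2 n hn]; exact (B2 n hn).comp (A1 _ (s1_lt t2 n))
  have hU : ∀ n < 64, Ac ph (y1 * y2) (uu n) (uu (s1 t1 (sg 8 12 n))) := fun n hn => by
    rw [ck t1 n hn]; exact (B1 n hn).comp (A2 _ (s1_lt t1 n))
  have hU' : ∀ n < 64, Ac ph (y2 * y1) (uu n) (uu (s1 t1 (sg 8 12 n))) := fun n hn =>
    (A2 n hn).comp (B1 _ (sg_lt n))
  -- surjectivity on indices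
  have surV : ∀ t : Bool, ∀ m < 64, ∃ n < 64, s1 t (sg 8 12 n) = m := by
    intro t m hm
    have hck : allb 64 (fun m => anyb 64 fun n => Nat.beq (s1 t (sg 8 12 n)) m) = true := by
      cases t <;> decide +kernel
    obtain ⟨n, hn, h⟩ := of_anyb (of_allb hck m hm)
    exact ⟨n, hn, beq_true h⟩
  have dV : ∀ m < 64, Ac ph ((y2 * y1)⁻¹ * (y1 * y2)) (vv m) (vv m) := by
    intro m hm
    obtain ⟨n, hn, h⟩ := surV t2 m hm
    have := (hV' n hn).inv.comp (hV n hn)
    rwa [h] at this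
  have dU : ∀ m < 64, Ac ph ((y2 * y1)⁻¹ * (y1 * y2)) (uu m) (uu m) := by
    intro m hm
    obtain ⟨n, hn, h⟩ := surV t1 m hm
    have := (hU' n hn).inv.comp (hU n hn)
    rwa [h] at this
  obtain ⟨k, hk, hkd⟩ := E.of_fix ((dV 2 (by norm_num)).congr (b' := zc) (a' := zc)
    (by decide +kernel) (by decide +kernel))
  rw [← hkd] at dV dU
  have fV : ∀ m < 64, mu k (vv m) = mu (vv m) k := fun m hm => comm_of_Ac E hk (dV m hm)
  have fU : ∀ m < 64, mu k (uu m) = mu (uu m) k := fun m hm => comm_of_Ac E hk (dU m hm)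
  have v1 : X 0 3 = vv 1 := by decide +kernel
  have v4 : X 1 3 = vv 4 := by decide +kernel
  have v8 : X 1 4 = vv 8 := by decide +kernel
  have v16 : X 2 3 = vv 16 := by decide +kernel
  have v32 : X 2 4 = vv 32 := by decide +kernel
  have u16 : X 1 2 = uu 16 := by decide +kernel
  have u32 : X 0 2 = uu 32 := by decide +kernel
  have hck := imp_mp (imp_mp (imp_mp (imp_mp (imp_mp (imp_mp (of_allK centJ_ck hk
    (by rw [v1]; exact fV 1 (by norm_num))) (beq_of_eq (by rw [v4]; exact fV 4 (by norm_num))))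
    (beq_of_eq (by rw [v8]; exact fV 8 (by norm_num))))
    (beq_of_eq (by rw [v16]; exact fV 16 (by norm_num))))
    (beq_of_eq (by rw [v32]; exact fV 32 (by norm_num))))
    (beq_of_eq (by rw [u32]; exact fU 32 (by norm_num))))
    (beq_of_eq (by rw [u16]; exact fU 16 (by norm_num)))
  rw [Bool.or_eq_true] at hck
  rcases hck with h5 | h5
  swap
  · exact absurd h5 (not_sing hk)
  obtain ⟨n, hn, h6⟩ := of_anyb h5
  have hkn := beq_true h6
  subst hkn
  -- `n = m xor s(m)`
  have ck1 : ∀ n < 16, ∃ m < 16, Nat.xor m (s1 t2 m) = n := by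
    intro n hn
    have hck : allb 16 (fun n => anyb 16 fun m => Nat.beq (Nat.xor m (s1 t2 m)) n) = true := by
      cases t2 <;> decide +kernel
    obtain ⟨m, hm, h⟩ := of_anyb (of_allb hck n hn)
    exact ⟨m, hm, beq_true h⟩
  have ck2 : ∀ m < 16, ∃ p < 16, Nat.xor p (sg 8 12 p) = m := by
    intro m hm
    have hck : allb 16 (fun n => anyb 16 fun m => Nat.beq (Nat.xor m (sg 8 12 m)) n) = true := by
      decide +kernel
    obtain ⟨p, hp, h⟩ := of_anyb (of_allb hck m hm)
    exact ⟨p, hp, beq_true h⟩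
  obtain ⟨m, hm, h7⟩ := ck1 n hn
  obtain ⟨p, hp, h8⟩ := ck2 m hm
  have hp64 : p < 64 := by omega
  have hm64 : m < 64 := by omega
  have hn64 : n < 64 := by omega
  refine ⟨p, hp, ?_⟩
  -- `f y1 f = y1 f'`
  have e1' : ph (vv p) * y1 * ph (vv p) = y1 * ph (vv m) := by
    rw [(A1 p hp64).e, mul_assoc, ← E.mul (vv_C (sg_lt p)) (vv_C hp64), vv_mul (sg_lt p) hp64]
    have : Nat.xor (sg 8 12 p) p = m := by
      rw [← h8]; exact Nat.xor_comm _ _
    rw [this]
  rw [e1']
  have e2' : y1 * y2 = y2 * y1 * ph (vv n) := by rw [hkd]; group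
  have e3' : ph (vv m) * y2 = y2 * ph (vv (s1 t2 m)) := (B2 m hm64).e
  calc y1 * ph (vv m) * y2 = y1 * y2 * ph (vv (s1 t2 m)) := by rw [mul_assoc, e3', ← mul_assoc]
    _ = y2 * y1 * (ph (vv n) * ph (vv (s1 t2 m))) := by rw [e2', mul_assoc]
    _ = y2 * y1 * ph (vv m) := by
      rw [← E.mul (vv_C hn64) (vv_C (s1_lt t2 m)), vv_mul hn64 (s1_lt t2 m)]
      have : Nat.xor n (s1 t2 m) = m := by
        rw [← h7]
        show (m ^^^ s1 t2 m) ^^^ s1 t2 m = m
        rw [Nat.xor_assoc, Nat.xor_self, Nat.xor_zero]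
      rw [this]
    _ = y2 * (y1 * ph (vv m)) := by rw [mul_assoc]

/-- the constraint on `f` from `x01` -/
theorem pair_cond {E : Emb z ph} {t1 t2 : Bool} {y1 y2 : G} (h1 : Side z ph t1 y1)
    (h2 : Side z (mph ph) t2 y2) {p : ℕ} (hp : p < 64)
    (hc : (ph (vv p) * y1 * ph (vv p)) * y2 = y2 * (ph (vv p) * y1 * ph (vv p))) :
    s1 t2 (Nat.xor (Nat.xor (Nat.xor p (aI p)) (sg 8 12 (Nat.xor p (aI p)))) (cond t1 17 0)) =
      Nat.xor (Nat.xor (Nat.xor p (aI p)) (sg 8 12 (Nat.xor p (aI p)))) (cond t1 17 0) := by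
  have A1 := h1.actV (E := E)
  have B2 : ∀ n < 64, Ac ph y2 (vv n) (vv (s1 t2 n)) := fun n hn =>
    Ac.unflip_uu E hn (s1_lt t2 n) (h2.actU (E := E.mirror) n hn)
  have aI_lt : ∀ n, aI n < 64 := fun n => lin_lt (by norm_num) (by norm_num)
    (by norm_num) (by norm_num) (by norm_num) (by norm_num) n
  set x := ph (X 0 1) with hx
  have hxx : x * x = 1 := by
    rw [hx, ← E.mul C_01 C_01, ← E.one, show mu (X 0 1) (X 0 1) = e1 by decide +kernel]
  have hx2 : x * y2 * x = y2⁻¹ := by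
    have h := h2.inv
    have h34 : mph ph (X 3 4) = x := E.mph_eq C_34 C_01 (by decide +kernel)
    rwa [h34] at h
  have aIa : ∀ n < 64, Ac ph x (vv n) (vv (aI n)) := by
    intro n hn
    have hck : allb 64 (fun n => Nat.beq (mu (vv n) (X 0 1)) (mu (X 0 1) (vv (aI n)))) = true := by
      decide +kernel
    exact Ac.of_ph E (vv_C hn) (vv_C (aI_lt n)) C_01 (beq_true (of_allb hck n hn))
  have hxf : ∀ n < 64, x * ph (vv n) = ph (vv (aI n)) * x := by
    intro n hn
    have h3 := (aIa n hn).e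
    calc x * ph (vv n) = x * (ph (vv n) * x) * x := by
          rw [mul_assoc x, mul_assoc (ph (vv n)), hxx, mul_one]
      _ = x * (x * ph (vv (aI n))) * x := by rw [h3]
      _ = (x * x) * ph (vv (aI n)) * x := by group
      _ = _ := by rw [hxx, one_mul]
  let g : ℕ := cond t1 17 0
  have hg : g < 64 := by
    show (cond t1 17 0 : ℕ) < 64
    cases t1 <;> decide
  have hxy : x * y1 = y1 * (x * ph (vv g)) := by
    have h3 := h1.a01.e
    rw [← hx] at h3
    rw [h3]
    congr 1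
    show ph (cond t1 (mu (X 0 1) (mu (X 0 3) (X 2 3))) (X 0 1)) = x * ph (vv (cond t1 17 0))
    cases t1
    · rw [cond_false, cond_false, show vv 0 = e1 by rfl, E.one, mul_one]
    · rw [cond_true, cond_true, E.mul C_01 (C_03.mul C_23)]
      rw [show mu (X 0 3) (X 2 3) = vv 17 by decide +kernel]
  have hxg : ph (vv g) * x = x * ph (vv g) := by
    have h3 := (aIa g hg).e
    rw [h3]
    have : aI g = g := by
      show aI (cond t1 17 0) = cond t1 17 0
      cases t1 <;> decide +kernel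
    rw [this]
  have comV : ∀ a < 64, ∀ b < 64, ph (vv a) * ph (vv b) = ph (vv (Nat.xor a b)) := by
    intro a ha b hb
    rw [← E.mul (vv_C ha) (vv_C hb), vv_mul ha hb]
  set f := ph (vv p) with hf
  have hq := aI_lt p
  -- `Y = f y1 f`
  have eY : f * y1 * f = y1 * ph (vv (Nat.xor (sg 8 12 p) p)) := by
    rw [hf, (A1 p hp).e, mul_assoc, comV _ (sg_lt p) _ hp]
  have eY' : x * (f * y1 * f) * x = y1 * ph (vv (Nat.xor (Nat.xor (sg 8 12 (aI p)) g) (aI p))) := by
    calc x * (f * y1 * f) * x = (x * f) * y1 * (f * x) := by group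
      _ = (ph (vv (aI p)) * x) * y1 * (x * ph (vv (aI p))) := by
          rw [hf, hxf p hp, (aIa p hp).e]
      _ = ph (vv (aI p)) * (x * y1) * (x * ph (vv (aI p))) := by group
      _ = ph (vv (aI p)) * y1 * (x * (ph (vv g) * x)) * ph (vv (aI p)) := by rw [hxy]; group
      _ = ph (vv (aI p)) * y1 * ((x * x) * ph (vv g)) * ph (vv (aI p)) := by
          rw [hxg]; group
      _ = (ph (vv (aI p)) * y1) * ph (vv g) * ph (vv (aI p)) := by rw [hxx, one_mul]
      _ = y1 * ((ph (vv (sg 8 12 (aI p))) * ph (vv g)) * ph (vv (aI p))) := by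
          rw [(A1 _ hq).e]; group
      _ = _ := by rw [comV _ (sg_lt _) _ hg, comV _ (xor_lt (sg_lt _) hg) _ hq]
  have c1' : Commute (f * y1 * f) y2 := hc
  have c2' : Commute (x * (f * y1 * f) * x) y2 := by
    have h3 : (x * (f * y1 * f) * x) * y2⁻¹ = y2⁻¹ * (x * (f * y1 * f) * x) := by
      rw [← hx2]
      calc x * (f * y1 * f) * x * (x * y2 * x) = x * (f * y1 * f) * (x * x) * y2 * x := by group
        _ = x * ((f * y1 * f) * y2) * x := by rw [hxx]; group
        _ = x * (y2 * (f * y1 * f)) * x := by rw [hc]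
        _ = x * y2 * (x * x) * (f * y1 * f) * x := by rw [hxx]; group
        _ = _ := by group
    have h4 : Commute (x * (f * y1 * f) * x) y2⁻¹ := h3
    exact (Commute.inv_right_iff).mp h4
  rw [eY] at c1'
  rw [eY'] at c2'
  set a := Nat.xor (sg 8 12 p) p with ha
  set b := Nat.xor (Nat.xor (sg 8 12 (aI p)) g) (aI p) with hb
  have ha64 : a < 64 := xor_lt (sg_lt _) hp
  have hb64 : b < 64 := xor_lt (xor_lt (sg_lt _) hg) hq
  have c3 : Commute (ph (vv (Nat.xor a b))) y2 := by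
    have h3 : ph (vv (Nat.xor a b)) = (y1 * ph (vv a))⁻¹ * (y1 * ph (vv b)) := by
      rw [← comV a ha64 b hb64, mul_inv_rev,
        E.inv_eq (vv_C ha64) (vv_C ha64) (vv_sq ha64)]
      group
    rw [h3]
    exact c1'.inv_left.mul_left c2'
  have hab := xor_lt ha64 hb64
  have h5 : s1 t2 (Nat.xor a b) = Nat.xor a b :=
    vv_inj (s1_lt _ _) hab (Ac.uniq E (B2 _ hab) ⟨vv_C hab, vv_C hab, c3⟩)
  have h6 : Nat.xor a b =
      Nat.xor (Nat.xor (Nat.xor p (aI p)) (sg 8 12 (Nat.xor p (aI p)))) (cond t1 17 0) := by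
    have h7 : sg 8 12 (Nat.xor p (aI p)) = Nat.xor (sg 8 12 p) (sg 8 12 (aI p)) :=
      lin_xor _ _ _ _ _ _ _ _
    rw [h7, ha, hb]
    show ((sg 8 12 p ^^^ p) ^^^ ((sg 8 12 (aI p) ^^^ g) ^^^ aI p)) =
      ((p ^^^ aI p) ^^^ (sg 8 12 p ^^^ sg 8 12 (aI p))) ^^^ g
    generalize sg 8 12 p = u1
    generalize sg 8 12 (aI p) = u2
    generalize aI p = u3
    generalize g = u4
    ac_rfl
  rwa [h6] at h5

/-- `(t1, t2, y1, y2)` in standard form -/
structure Pair (z : G) (ph : ℕ → G) (t1 t2 : Bool) (y1 y2 : G) : Prop where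
  s1 : Side z ph t1 y1
  s2 : Side z (mph ph) t2 y2
  comm : (ph (vv (f0 t1 t2)) * y1 * ph (vv (f0 t1 t2))) * y2 =
    y2 * (ph (vv (f0 t1 t2)) * y1 * ph (vv (f0 t1 t2)))

theorem exists_pair {E : Emb z ph} {t1 t2 : Bool} {y1 y2 : G} (h1 : Side z ph t1 y1)
    (h2 : Side z (mph ph) t2 y2) : ∃ y1', Pair z ph t1 t2 y1' y2 := by
  obtain ⟨p, hp, hc⟩ := pair_exists (E := E) h1 h2
  have c1 := pair_cond (E := E) h1 h2 (by omega) hc
  -- the mirrored condition
  have hmm : mph (mph ph) = fun a => ph (flip (flip a)) := by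
    funext a
    unfold mph
    rw [inv_inv]
  have h1' : Side z (mph (mph ph)) t1 y1 := by
    have key : ∀ a, C a → mph (mph ph) a = ph a := by
      intro a ha
      rw [hmm]
      show ph (flip (flip a)) = ph a
      rw [flip_flip ha.1]
    have kA : ∀ {a b : ℕ}, Ac ph y1 a b → Ac (mph (mph ph)) y1 a b := by
      intro a b h
      exact ⟨h.l, h.r, by rw [key a h.l, key b h.r]; exact h.e⟩
    refine ⟨h1.cube, ?_, kA h1.a03, kA h1.a04, kA h1.a13, kA h1.a14, kA h1.a23, kA h1.a24,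
      kA h1.a01, kA h1.a02, kA h1.a12, kA h1.a21⟩
    rw [key _ C_34]; exact h1.inv
  have hcv : mph ph (vv (cv p)) = ph (vv p) := by
    apply E.mph_eq (vv_C _) (vv_C (by omega))
    · have hck : allb 16 (fun p => Nat.beq (mu (flip (vv (cv p))) (vv p)) e1) = true := by
        decide +kernel
      exact beq_true (of_allb hck p hp)
    · exact lin_lt (by norm_num) (by norm_num) (by norm_num) (by norm_num) (by norm_num)
        (by norm_num) p
  have c2 := pair_cond (E := E.mirror) h2 h1' (p := cv p)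
    (lin_lt (by norm_num) (by norm_num) (by norm_num) (by norm_num) (by norm_num)
        (by norm_num) p) (by
      rw [hcv]
      have hff : ph (vv p) * ph (vv p) = 1 := by
        rw [← E.mul (vv_C (by omega)) (vv_C (by omega)), vv_sq (by omega), E.one]
      set f := ph (vv p)
      calc f * y2 * f * y1 = f * (y2 * (f * y1 * f)) * (f * f)⁻¹ * f := by group
        _ = f * (y2 * (f * y1 * f)) * f := by rw [hff]; group
        _ = f * ((f * y1 * f) * y2) * f := by rw [hc]
        _ = (f * f) * y1 * (f * y2 * f) := by group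
        _ = y1 * (f * y2 * f) := by rw [hff, one_mul])
  have hck := of_allb (pair_ck t1 t2) p hp
  rw [force_eq, force_eq] at hck
  have hck1 := imp_mp hck (beq_of_eq c1)
  rw [force_eq, force_eq] at hck1
  have hck2 := imp_mp hck1 (beq_of_eq c2)
  rw [Bool.or_eq_true] at hck2
  rcases hck2 with h | h
  · have := beq_true h
    subst this
    exact ⟨y1, h1, h2, hc⟩
  · have hp2 := beq_true h
    refine ⟨z * y1 * z, h1.conj_z E, h2, ?_⟩
    have e : ph (vv (f0 t1 t2)) * (z * y1 * z) * ph (vv (f0 t1 t2)) = ph (vv p) * y1 * ph (vv p) := by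
      have h3 : f0 t1 t2 < 64 := by cases t1 <;> cases t2 <;> decide
      have h4 : ph (vv p) = ph (vv (f0 t1 t2)) * z := by
        rw [hp2, ← E.z_eq, ← E.mul (vv_C h3) C_zc, show zc = vv 2 by decide +kernel,
          vv_mul h3 (by norm_num)]
        congr 2
        exact Nat.xor_comm _ _
      have h5 : ph (vv p) = z * ph (vv (f0 t1 t2)) := by
        rw [h4]; exact E.comm (vv_C h3)
      calc _ = (ph (vv (f0 t1 t2)) * z) * y1 * (z * ph (vv (f0 t1 t2))) := by group
        _ = _ := by rw [← h4, ← h5]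
    rw [e]
    exact hc

end Cfsg.Agent.Held.Code
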