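import Cfsg.Agent.Held.SideWords
import Cfsg.Agent.Held.PTAll
import Cfsg.Agent.Held.PCAll

/-!
# Bounds from the coset certificates: the centraliser
-/

set_option autoImplicit false

namespace Cfsg.Agent.Held.PresCard

open Cfsg.Agent.SporadicRecognition.CosetCert Cfsg.Agent.SporadicRecognition.CosetCertHyp
  Cfsg.Agent.Held.Config Cfsg.Agent.Held.Letters Cfsg.Agent.Held.SideWords

section
variable {G : Type*} [Group G]

/-- cut off the letters `≥ k` -/
def cut (g : ℕ → G) (k n : ℕ) : G := if n < k then g n else 1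

theorem cut_of_lt (g : ℕ → G) {k n : ℕ} (h : n < k) : cut g k n = g n := if_pos h

theorem cut_self (g : ℕ → G) (k : ℕ) : cut g k k = 1 := if_neg (lt_irrefl k)

theorem ev_cut (g : ℕ → G) (k : ℕ) (r : List ℕ) (h : ∀ l ∈ r, l < k) : ev (cut g k) r = ev g r :=
  ev_congr fun l hl => cut_of_lt g (h l hl)

theorem image_cut (g : ℕ → G) (k : ℕ) : cut g k '' {n | n < k} = g '' {n | n < k} :=
  Set.image_congr fun _ hn => cut_of_lt g hn

/-- bound from a certificate -/
theorem bound (C : Cert) (g : ℕ → G) (H : Subgroup G) [Finite H] (rels subw : List (List ℕ)) {n : ℕ}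
    (hP : Part C 0 C.N n)
    (hinv : ∀ x, x < C.k → C.inv x < C.k ∧ g x * g (C.inv x) = 1)
    (hlt : ∀ r ∈ rels, ∀ l ∈ r, l < C.k) (hrel : ∀ r ∈ rels, ev g r = 1)
    (hslt : ∀ r ∈ subw, ∀ l ∈ r, l < C.k) (hsub : ∀ s ∈ subw, ev g s ∈ H)
    (hcheck : checkHyp C rels subw = true) :
    Finite (Subgroup.closure (g '' {x | x < C.k})) ∧
      Nat.card (Subgroup.closure (g '' {x | x < C.k})) ≤ n * Nat.card H := by
  have hyp : Hyp C H (cut g C.k) := hyp_of_checks H (cut g C.k) C rels subw (cut_self g _)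
    (by
      intro x hx
      have h := hinv x hx
      exact ⟨h.1, by rw [cut_of_lt g hx, cut_of_lt g h.1]; exact h.2⟩)
    (by intro r hr; rw [ev_cut g _ r (hlt r hr)]; exact hrel r hr)
    (by intro r hr; rw [ev_cut g _ r (hslt r hr)]; exact hsub r hr) hcheck
  have h := card_closure_le C H (cut g C.k) hyp hP
  rw [image_cut] at h
  exact h

/-- the relators of the unitriangular group -/
def relsT : List (List ℕ) := relsP.filter fun r => r.all fun l => Nat.blt l 10

theorem relsT_lt : ∀ r ∈ relsT, ∀ l ∈ r, l < 10 := by decide +kernel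

theorem relsT_sub : ∀ r ∈ relsT, r ∈ relsP := by
  intro r hr
  exact List.mem_of_mem_filter hr

theorem card_T {x : ℕ → ℕ → G} (h : St x) :
    Finite (Subgroup.closure (gx x '' {n | n < 10})) ∧
      Nat.card (Subgroup.closure (gx x '' {n | n < 10})) ≤ 1024 := by
  have := bound PTData.C (gx x) (⊥ : Subgroup G) relsT [] PTAll.part
    (fun n hn => ⟨hn, h.sq n⟩) relsT_lt (fun r hr => h.rel r (relsT_sub r hr)) (by simp) (by simp)
    (by decide +kernel)
  refine ⟨this.1, this.2.trans ?_⟩
  rw [Nat.card_eq_one_iff_unique.mpr ⟨inferInstance, inferInstance⟩]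

/-- the words of the subgroup -/
def sT : List (List ℕ) := [[0],[1],[2],[3],[4],[5],[6],[7],[8],[9]]

theorem card_C {x : ℕ → ℕ → G} (h : St x) :
    Finite (Subgroup.closure (gx x '' {n | n < 12})) ∧
      Nat.card (Subgroup.closure (gx x '' {n | n < 12})) ≤ 21504 := by
  obtain ⟨h1, h2⟩ := card_T h
  have := bound PCData.C (gx x) (Subgroup.closure (gx x '' {n | n < 10})) relsP sT PCAll.part
    (fun n hn => ⟨hn, h.sq n⟩) relsP_lt (fun r hr => h.rel r hr) (by decide +kernel) (by
      intro r hr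
      refine ev_mem _ _ _ fun l hl => Subgroup.subset_closure ⟨l, ?_, rfl⟩
      revert r l
      decide +kernel)
    (by decide +kernel)
  exact ⟨this.1, this.2.trans (by omega)⟩

end

end Cfsg.Agent.Held.PresCard
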