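import Cfsg.Agent.Held.PresY
import Cfsg.Agent.Held.PL5All

/-!
# The configuration `(0, 0)`: the group generated has order at most `|SL(5, 2)| = 9999360`
-/

set_option autoImplicit false

namespace Cfsg.Agent.Held.PresL5

open Cfsg.Agent.SporadicRecognition.CosetCert Cfsg.Agent.SporadicRecognition.CosetCertHyp
  Cfsg.Agent.Held.Config Cfsg.Agent.Held.Letters Cfsg.Agent.Held.SideWords
  Cfsg.Agent.Held.PresCard Cfsg.Agent.Held.PresY

/-- the additional relators -/
def extraW : List (List ℕ) := [[15, 13, 14, 12], pw 3 [13, 11], pw 3 [15, 10]]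

/-- all relators -/
def relsL5 : List (List ℕ) := relsP ++ (sideW LN 12 13 0 ++ (sideW LM 14 15 0 ++ extraW))

/-- The relations of the configuration `(0, 0)`. -/
structure Rels {G : Type*} [Group G] (x : ℕ → ℕ → G) (y1 y2 : G) : Prop where
  st : St x
  cfg : Config x 0 0 1 y1 y2
  e1 : (y1⁻¹ * x 3 2) ^ 3 = 1
  e2 : (y2⁻¹ * x 2 1) ^ 3 = 1

section
variable {G : Type*} [Group G] {x : ℕ → ℕ → G} {y1 y2 : G}

theorem comm_aux (h : y2 * (1 * y1 * 1) = 1 * y1 * 1 * y2) : y2⁻¹ * (y1⁻¹ * (y2 * y1)) = 1 := by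
  simp only [one_mul, mul_one] at h
  rw [h, inv_mul_cancel_left, inv_mul_cancel]

theorem rels_y (h : Rels x y1 y2) : ∀ r ∈ relsL5, ev (gy x y1 y2) r = 1 := by
  intro r hr
  simp only [relsL5, List.mem_append] at hr
  rcases hr with hr | hr | hr | hr
  · exact relsP_y h.st y1 y2 r hr
  · exact side1_y h.st y2 h.cfg.side1 r hr
  · exact side2_y h.st y1 h.cfg.side2 r hr
  · simp only [extraW, List.mem_cons, List.not_mem_nil, or_false] at hr
    rcases hr with rfl | rfl | rfl
    · simp only [ev_cons, ev_nil, mul_one]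
      exact comm_aux h.cfg.comm
    · rw [ev_pw]
      simp only [ev_cons, ev_nil, mul_one]
      exact h.e1
    · rw [ev_pw]
      simp only [ev_cons, ev_nil, mul_one]
      exact h.e2

theorem relsL5_lt : ∀ r ∈ relsL5, ∀ l ∈ r, l < 16 := by decide +kernel

theorem check : checkHyp PL5Data.C relsL5 sX = true := by decide +kernel

/-- **Upper bound** for the configuration `(0, 0)`. -/
theorem card_le (h : Rels x y1 y2) :
    Finite (Subgroup.closure (gy x y1 y2 '' {n | n < 16})) ∧
      Nat.card (Subgroup.closure (gy x y1 y2 '' {n | n < 16})) ≤ 9999360 := by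
  obtain ⟨h1, h2⟩ := card_C h.st
  have := bound PL5Data.C (gy x y1 y2) (Subgroup.closure (gx x '' {n | n < 12})) relsL5 sX
    PL5All.part (gy_inv h.st y1 y2 _ (by decide) rfl rfl rfl rfl) relsL5_lt (rels_y h)
    (fun r hr l hl => lt_of_lt_of_le (sX_lt r hr l hl) (by decide)) (ev_sX y1 y2) check
  exact ⟨this.1, this.2.trans (by omega)⟩

theorem Rels.prod {H : Type*} [Group H] {x' : ℕ → ℕ → H} {y1' y2' : H} (h : Rels x y1 y2)
    (h' : Rels x' y1' y2') : Rels (fun i j => (x i j, x' i j)) (y1, y1') (y2, y2') where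
  st := h.st.prod h'.st
  cfg := Letters.Config.prod h.cfg h'.cfg
  e1 := Prod.ext h.e1 h'.e1
  e2 := Prod.ext h.e2 h'.e2

end

end Cfsg.Agent.Held.PresL5
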