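import Cfsg.Agent.Held.PresY
import Cfsg.Agent.Held.PKAll
import Cfsg.Agent.Held.PM24All

/-!
# The configuration `(1, 0)`: the group generated has order at most `|M24| = 244823040`
-/

set_option autoImplicit false

namespace Cfsg.Agent.Held.PresM24

open Cfsg.Agent.SporadicRecognition.CosetCert Cfsg.Agent.SporadicRecognition.CosetCertHyp
  Cfsg.Agent.Held.Config Cfsg.Agent.Held.Letters Cfsg.Agent.Held.SideWords
  Cfsg.Agent.Held.PresCard Cfsg.Agent.Held.PresY

/-- the relators of the subgroup generated by the root elements and `y2` (letters 12, 13) -/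
def relsK : List (List ℕ) := relsP ++ (sideW LM 12 13 0 ++ [pw 3 [6, 13, 6, 10, 3]])

/-- the additional relators -/
def extraW : List (List ℕ) :=
  [[15, 6, 13, 6, 14, 6, 12, 6], pw 4 [6, 13, 6, 7, 11, 14], pw 3 [6, 15, 6, 10, 3]]

/-- all relators -/
def relsM : List (List ℕ) := relsP ++ (sideW LN 12 13 1 ++ (sideW LM 14 15 0 ++ extraW))

/-- The relations of the configuration `(1, 0)`. -/
structure Rels {G : Type*} [Group G] (x : ℕ → ℕ → G) (y1 y2 : G) : Prop where
  st : St x
  cfg : Config x 1 0 (x 1 4) y1 y2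
  e1 : ((x 1 4 * y1 * x 1 4)⁻¹ * x 2 3 * x 3 2 * y2) ^ 4 = 1
  e2 : ((x 1 4 * y2 * x 1 4)⁻¹ * x 2 1 * x 0 4) ^ 3 = 1

section
variable {G : Type*} [Group G] {x : ℕ → ℕ → G} {y1 y2 : G}

theorem comm_aux {f : G} (hf : f * f = 1) (h : y2 * (f * y1 * f) = f * y1 * f * y2) :
    y2⁻¹ * (f * (y1⁻¹ * (f * (y2 * (f * (y1 * f)))))) = 1 := by
  have hf' : f⁻¹ = f := inv_eq_of_mul_eq_one_left hf
  have h1 : f * (y1⁻¹ * f) = (f * y1 * f)⁻¹ := by
    rw [mul_inv_rev, mul_inv_rev, hf']
  have h2 : y2⁻¹ * (f * (y1⁻¹ * (f * (y2 * (f * (y1 * f)))))) =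
      y2⁻¹ * ((f * (y1⁻¹ * f)) * (y2 * (f * y1 * f))) := by
    simp only [mul_assoc]
  rw [h2, h1, h, inv_mul_cancel_left, inv_mul_cancel]

theorem inv_conj {f y : G} (hf : f * f = 1) : (f * y * f)⁻¹ = f * y⁻¹ * f := by
  have hf' : f⁻¹ = f := inv_eq_of_mul_eq_one_left hf
  rw [mul_inv_rev, mul_inv_rev, hf', mul_assoc]

theorem rels_y (h : Rels x y1 y2) : ∀ r ∈ relsM, ev (gy x y1 y2) r = 1 := by
  have hf : x 1 4 * x 1 4 = 1 := h.st.sq 6
  intro r hr
  simp only [relsM, List.mem_append] at hr
  rcases hr with hr | hr | hr | hr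
  · exact relsP_y h.st y1 y2 r hr
  · exact side1_y h.st y2 h.cfg.side1 r hr
  · exact side2_y h.st y1 h.cfg.side2 r hr
  · simp only [extraW, List.mem_cons, List.not_mem_nil, or_false] at hr
    rcases hr with rfl | rfl | rfl
    · simp only [ev_cons, ev_nil, mul_one]
      exact comm_aux hf h.cfg.comm
    · rw [ev_pw]
      simp only [ev_cons, ev_nil, mul_one]
      have := h.e1
      rw [inv_conj hf] at this
      simp only [mul_assoc] at this
      exact this
    · rw [ev_pw]
      simp only [ev_cons, ev_nil, mul_one]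
      have := h.e2
      rw [inv_conj hf] at this
      simp only [mul_assoc] at this
      exact this

theorem rels_k (h : Rels x y1 y2) : ∀ r ∈ relsK, ev (gy x y2 1) r = 1 := by
  have hf : x 1 4 * x 1 4 = 1 := h.st.sq 6
  intro r hr
  simp only [relsK, List.mem_append] at hr
  rcases hr with hr | hr | hr
  · exact relsP_y h.st y2 1 r hr
  · refine sideW_ok ?_ (sq_pairs_mir h.st) rfl rfl h.cfg.side2 r hr
    intro p hp
    simp only [pairs, List.mem_cons, List.not_mem_nil, or_false] at hp
    rcases hp with rfl | rfl | rfl | rfl | rfl | rfl | rfl | rfl | rfl | rfl | rfl <;> rfl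
  · simp only [List.mem_cons, List.not_mem_nil, or_false] at hr
    subst hr
    rw [ev_pw]
    simp only [ev_cons, ev_nil, mul_one]
    have := h.e2
    rw [inv_conj hf] at this
    simp only [mul_assoc] at this
    exact this

theorem relsM_lt : ∀ r ∈ relsM, ∀ l ∈ r, l < 16 := by decide +kernel
theorem relsK_lt : ∀ r ∈ relsK, ∀ l ∈ r, l < 14 := by decide +kernel

theorem checkK : checkHyp PKData.C relsK sX = true := by decide +kernel
theorem checkM : checkHyp PM24Data.C relsM (sX ++ [[14]]) = true := by decide +kernel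

theorem card_K (h : Rels x y1 y2) :
    Finite (Subgroup.closure (gy x y2 1 '' {n | n < 14})) ∧
      Nat.card (Subgroup.closure (gy x y2 1 '' {n | n < 14})) ≤ 322560 := by
  obtain ⟨h1, h2⟩ := card_C h.st
  have key : ∀ n < 14, PKData.C.inv n < 14 := by decide
  have := bound PKData.C (gy x y2 1) (Subgroup.closure (gx x '' {n | n < 12})) relsK sX
    PKAll.part (by
      have := gy_inv h.st y2 1 (fun n => if n < 14 then PKData.C.inv n else 29 - n) (by decide)
        rfl rfl rfl rfl
      intro n hn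
      have hn' : n < 14 := hn
      have h1 := this n (by omega)
      simp only [hn', if_true] at h1
      exact ⟨key n hn', h1.2⟩) relsK_lt (rels_k h)
    (fun r hr l hl => lt_of_lt_of_le (sX_lt r hr l hl) (by decide)) (ev_sX y2 1) checkK
  exact ⟨this.1, this.2.trans (by omega)⟩

/-- **Upper bound** for the configuration `(1, 0)`. -/
theorem card_le (h : Rels x y1 y2) :
    Finite (Subgroup.closure (gy x y1 y2 '' {n | n < 16})) ∧
      Nat.card (Subgroup.closure (gy x y1 y2 '' {n | n < 16})) ≤ 244823040 := by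
  obtain ⟨h1, h2⟩ := card_K h
  have := bound PM24Data.C (gy x y1 y2) (Subgroup.closure (gy x y2 1 '' {n | n < 14})) relsM
    (sX ++ [[14]]) PM24All.part (gy_inv h.st y1 y2 _ (by decide) rfl rfl rfl rfl) relsM_lt
    (rels_y h) (by decide) (by
      intro s hs
      rcases List.mem_append.mp hs with hs | hs
      · refine ev_mem _ _ _ fun l hl => ?_
        have h3 := sX_lt s hs l hl
        rw [gy_of_lt x y1 y2 h3, ← gy_of_lt x y2 1 h3]
        exact Subgroup.subset_closure ⟨l, by show l < 14; omega, rfl⟩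
      · rw [List.mem_singleton] at hs
        subst hs
        rw [ev_one]
        exact Subgroup.subset_closure ⟨12, by show 12 < 14; norm_num, rfl⟩) checkM
  exact ⟨this.1, this.2.trans (by omega)⟩

theorem Rels.prod {H : Type*} [Group H] {x' : ℕ → ℕ → H} {y1' y2' : H} (h : Rels x y1 y2)
    (h' : Rels x' y1' y2') : Rels (fun i j => (x i j, x' i j)) (y1, y1') (y2, y2') where
  st := h.st.prod h'.st
  cfg := Letters.Config.prod h.cfg h'.cfg
  e1 := Prod.ext h.e1 h'.e1
  e2 := Prod.ext h.e2 h'.e2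

end

end Cfsg.Agent.Held.PresM24
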