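import Cfsg.Agent.Held.PresCard

/-!
# The relators of a configuration as words in the sixteen letters
-/

set_option autoImplicit false

namespace Cfsg.Agent.Held.PresY

open Cfsg.Agent.SporadicRecognition.CosetCert Cfsg.Agent.SporadicRecognition.CosetCertHyp
  Cfsg.Agent.Held.Config Cfsg.Agent.Held.Letters Cfsg.Agent.Held.SideWords
  Cfsg.Agent.Held.PresCard

section
variable {G : Type*} [Group G] {x : ℕ → ℕ → G}

theorem sq_pairs (h : St x) : ∀ p ∈ pairs, x p.1 p.2 * x p.1 p.2 = 1 := by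
  intro p hp
  simp only [pairs, List.mem_cons, List.not_mem_nil, or_false] at hp
  rcases hp with rfl | rfl | rfl | rfl | rfl | rfl | rfl | rfl | rfl | rfl | rfl
  · exact h.sq 0
  · exact h.sq 1
  · exact h.sq 2
  · exact h.sq 3
  · exact h.sq 4
  · exact h.sq 5
  · exact h.sq 6
  · exact h.sq 10
  · exact h.sq 7
  · exact h.sq 8
  · exact h.sq 9

theorem sq_pairs_mir (h : St x) : ∀ p ∈ pairs, mir x p.1 p.2 * mir x p.1 p.2 = 1 := by
  intro p hp
  simp only [pairs, List.mem_cons, List.not_mem_nil, or_false] at hp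
  rcases hp with rfl | rfl | rfl | rfl | rfl | rfl | rfl | rfl | rfl | rfl | rfl
  · exact h.sq 9
  · exact h.sq 8
  · exact h.sq 6
  · exact h.sq 3
  · exact h.sq 7
  · exact h.sq 5
  · exact h.sq 2
  · exact h.sq 11
  · exact h.sq 4
  · exact h.sq 1
  · exact h.sq 0

theorem relsP_y (h : St x) (y1 y2 : G) : ∀ r ∈ relsP, ev (gy x y1 y2) r = 1 := by
  intro r hr
  rw [ev_congr fun l hl => gy_of_lt x y1 y2 (relsP_lt r hr l hl)]
  exact h.rel r hr

theorem side1_y (h : St x) {y1 : G} (y2 : G) {t : ℕ} (s : Side x t y1) :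
    ∀ r ∈ sideW LN 12 13 t, ev (gy x y1 y2) r = 1 := by
  refine sideW_ok ?_ (sq_pairs h) rfl rfl s
  intro p hp
  simp only [pairs, List.mem_cons, List.not_mem_nil, or_false] at hp
  rcases hp with rfl | rfl | rfl | rfl | rfl | rfl | rfl | rfl | rfl | rfl | rfl <;> rfl

theorem side2_y (h : St x) (y1 : G) {y2 : G} {t : ℕ} (s : Side (mir x) t y2) :
    ∀ r ∈ sideW LM 14 15 t, ev (gy x y1 y2) r = 1 := by
  refine sideW_ok ?_ (sq_pairs_mir h) rfl rfl s
  intro p hp
  simp only [pairs, List.mem_cons, List.not_mem_nil, or_false] at hp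
  rcases hp with rfl | rfl | rfl | rfl | rfl | rfl | rfl | rfl | rfl | rfl | rfl <;> rfl

theorem gy_inv (h : St x) (y1 y2 : G) (ι : ℕ → ℕ) (h0 : ∀ n < 12, ι n = n) (h12 : ι 12 = 13)
    (h13 : ι 13 = 12) (h14 : ι 14 = 15) (h15 : ι 15 = 14) :
    ∀ n, n < 16 → ι n < 16 ∧ gy x y1 y2 n * gy x y1 y2 (ι n) = 1 := by
  intro n hn
  rcases Nat.lt_or_ge n 12 with h1 | h1
  · rw [h0 n h1, gy_of_lt x y1 y2 h1]
    exact ⟨hn, h.sq n⟩
  · interval_cases n
    · rw [h12]; exact ⟨by norm_num, mul_inv_cancel y1⟩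
    · rw [h13]; exact ⟨by norm_num, inv_mul_cancel y1⟩
    · rw [h14]; exact ⟨by norm_num, mul_inv_cancel y2⟩
    · rw [h15]; exact ⟨by norm_num, inv_mul_cancel y2⟩

/-- the words of the root elements -/
def sX : List (List ℕ) := [[0],[1],[2],[3],[4],[5],[6],[7],[8],[9],[10],[11]]

theorem sX_lt : ∀ r ∈ sX, ∀ l ∈ r, l < 12 := by decide +kernel

theorem ev_sX (y1 y2 : G) : ∀ s ∈ sX, ev (gy x y1 y2) s ∈ Subgroup.closure (gx x '' {n | n < 12}) := by
  intro s hs
  refine ev_mem _ _ _ fun l hl => ?_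
  rw [gy_of_lt x y1 y2 (sX_lt s hs l hl)]
  exact Subgroup.subset_closure ⟨l, sX_lt s hs l hl, rfl⟩

end

end Cfsg.Agent.Held.PresY
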