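import Cfsg.Agent.Held.Ac

/-!
# Step 1: an element of `N(V2)` permuting `z, x03, x03 z` cyclically
-/

set_option autoImplicit false

namespace Cfsg.Agent.Held.Code

open Cfsg.Agent.Lib.F2Mat

variable {G : Type*} [Group G] {z : G} {ph : ℕ → G}

/-- some involutions of `C` normalising `V2` -/
def yg (i : ℕ) : ℕ :=
  cond (Nat.beq i 0) (X 0 1) (cond (Nat.beq i 1) (X 0 2) (cond (Nat.beq i 2) (X 1 2)
    (cond (Nat.beq i 3) (X 2 1) (X 3 4))))

/-- code of `x03 z` -/
abbrev xz : ℕ := 17043545

theorem xz_eq : mu (X 0 3) zc = xz := by decide +kernel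

theorem xz_eq' : mu zc (X 0 3) = xz := by decide +kernel

theorem X03 : X 0 3 = 17043529 := by decide +kernel

theorem yg_ck : allb 5 (fun i => isC (yg i) (yg i) && normV (yg i) (yg i)) = true := by
  decide +kernel

theorem yg_C {i : ℕ} (hi : i < 5) : C (yg i) := by
  have := of_allb yg_ck i hi
  rw [Bool.and_eq_true] at this
  exact C_of_isC this.1

theorem yg_sq {i : ℕ} (hi : i < 5) : mu (yg i) (yg i) = e1 := by
  have hck : allb 5 (fun i => Nat.beq (mu (yg i) (yg i)) e1) = true := by decide +kernel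
  exact beq_true (of_allb hck i hi)

theorem yg_NV {E : Emb z ph} {i : ℕ} (hi : i < 5) : ph (yg i) ∈ NV E := by
  have := of_allb yg_ck i hi
  rw [Bool.and_eq_true] at this
  exact NV.of_normV (yg_C hi) (yg_sq hi) this.2

/-- elements of `C ∩ N(V2)` -/
theorem NV.x03 {E : Emb z ph} {c : ℕ} (hc : C c) (h : ph c ∈ NV E) :
    Ac ph (ph c) (X 0 3) (X 0 3) ∨ Ac ph (ph c) (X 0 3) xz := by
  have hcol : ∀ v < 64, ∀ k j : Fin 5, j.val < 3 → toMat 5 (vv v) k j = if k = j then 1 else 0 := by
    intro v hv k j hj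
    have hck : allb 64 (fun v => allb 5 fun k => allb 3 fun j =>
      cond (Nat.testBit (vv v) (5 * k + j)) (Nat.beq k j) (!(Nat.beq k j))) = true := by
      decide +kernel
    have h1 := of_allb (of_allb (of_allb hck v hv) k k.2) j hj
    have h2 : toMat 5 (vv v) k j = bz (Nat.testBit (vv v) (5 * k + j)) := rfl
    rw [h2]
    rcases hb : Nat.testBit (vv v) (5 * k + j) with _ | _
    · rw [hb] at h1
      have h3 : Nat.beq (k : ℕ) j = false := by simpa using h1
      have h4 : ¬ k = j := by
        rintro rfl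
        rw [Nat.beq_refl] at h3; exact absurd h3 (by decide)
      rw [if_neg h4]; rfl
    · rw [hb] at h1
      have h3 : Nat.beq (k : ℕ) j = true := by simpa using h1
      have h4 : k = j := Fin.ext (beq_true h3)
      rw [if_pos h4]; rfl
  have h23 : vv 16 = X 2 3 := by decide +kernel
  obtain ⟨m, hm, h1⟩ := NV.act h (n := 16) (by norm_num)
  have h2 : mu (X 2 3) c = mu c (vv m) := by
    rw [← h23]
    apply E.inj (h1.l.mul hc) (hc.mul h1.r)
    rw [E.mul h1.l hc, E.mul hc h1.r, h1.e]
  have hX := X_ent 2 3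
  have c2 : ((2 : Fin 5) : ℕ) = 2 := rfl
  have c3 : ((3 : Fin 5) : ℕ) = 3 := rfl
  rw [c2, c3] at hX
  have h3 : ∀ j : Fin 5, j.val < 3 → toMat 5 c 3 j = 0 := by
    intro j hj
    have h4 : toMat 5 (mu (X 2 3) c) 2 j = toMat 5 (mu c (vv m)) 2 j := by rw [h2]
    rw [mu_ent, mu_ent, Fin.sum_univ_five, Fin.sum_univ_five] at h4
    simp only [hX _ _ (by decide : (2 : Fin 5) ≠ 3)] at h4
    simp only [hcol m hm _ j hj] at h4
    have hj3 : j ≠ 3 := by rintro rfl; exact absurd hj (by decide)
    have hj4 : j ≠ 4 := by rintro rfl; exact absurd hj (by decide)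
    have h5 : toMat 5 c 2 j + toMat 5 c 3 j = toMat 5 c 2 j := by
      simp at h4
      refine h4.trans ?_
      have hjj : j = 0 ∨ j = 1 ∨ j = 2 := by
        have := j.2
        rcases j with ⟨j, hj'⟩
        simp only at hj
        interval_cases j
        · left; rfl
        · right; left; rfl
        · right; right; rfl
      rcases hjj with rfl | rfl | rfl <;> simp
    exact (add_eq_left.mp h5)
  obtain ⟨a, ha, b, hb, d, hd, f, hf, e, e3⟩ := hc.exists_mkC
  -- row 3 of `c` is supported on the last two columns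
  have r1 : (row c 3).testBit 1 = false := by
    have := bz_row c 3 1
    rw [h3 1 (by decide)] at this
    exact bz_eq_zero this
  have r2 : (row c 3).testBit 2 = false := by
    have := bz_row c 3 2
    rw [h3 2 (by decide)] at this
    exact bz_eq_zero this
  rw [e3] at r1 r2
  have hf' : f = 0 ∨ f = 4 ∨ f = 8 ∨ f = 12 := by
    interval_cases f <;> first | (left; rfl) | (right; left; rfl) | (right; right; left; rfl) |
      (right; right; right; rfl) | exact absurd r1 (by decide) | exact absurd r2 (by decide)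
  have ck : allb 16 (fun a => allb 16 fun b => allb 16 fun d => allb 4 fun f =>
      force (mkC a b d (4 * f)) fun c => force (mu (X 0 3) c) fun u =>
        (Nat.beq u c || Nat.beq u (mu c zc) || Nat.beq u (mu c (X 0 3)) || Nat.beq u (mu c xz)))
        = true := by decide +kernel
  have hcc : (Nat.beq (mu (X 0 3) c) c || Nat.beq (mu (X 0 3) c) (mu c zc) ||
      Nat.beq (mu (X 0 3) c) (mu c (X 0 3)) || Nat.beq (mu (X 0 3) c) (mu c xz)) = true := by
    have h4 : ∃ f' < 4, f = 4 * f' := by
      rcases hf' with rfl | rfl | rfl | rfl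
      · exact ⟨0, by norm_num, rfl⟩
      · exact ⟨1, by norm_num, rfl⟩
      · exact ⟨2, by norm_num, rfl⟩
      · exact ⟨3, by norm_num, rfl⟩
    obtain ⟨f', hf1, rfl⟩ := h4
    have := of_allb (of_allb (of_allb (of_allb ck a ha) b hb) d hd) f' hf1
    rw [force_eq, force_eq, ← e] at this
    exact this
  have C03 : C (X 0 3) := C_of_isC (b := X 0 3) (by decide +kernel)
  have Cxz : C xz := C_of_isC (b := xz) (by decide +kernel)
  simp only [Bool.or_eq_true] at hcc
  rcases hcc with ((h4 | h4) | h4) | h4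
  · exfalso
    obtain ⟨d', hd', h5, h6⟩ := hc.exists_inv
    have h7 := congrArg (fun t => mu t d') (beq_true h4)
    simp only [mu_assoc, h5] at h7
    rw [mu_e1 (by decide +kernel)] at h7
    exact absurd h7 (by decide +kernel)
  · exfalso
    have h5 : ph (X 0 3) * ph c = ph c * z := by
      rw [← E.z_eq, ← E.mul C03 hc, ← E.mul hc C_zc, beq_true h4]
    rw [E.comm hc] at h5
    have h6 := mul_right_cancel h5
    rw [← E.z_eq] at h6
    exact absurd (E.inj C03 C_zc h6) (by decide +kernel)
  · left; exact Ac.of_ph E C03 C03 hc (beq_true h4)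
  · right; exact Ac.of_ph E C03 Cxz hc (beq_true h4)

theorem three_ck : allb 64 (fun n => force (vv n) fun w =>
    (Nat.beq w e1 || Nat.beq w zc || Nat.beq w (X 0 3) || Nat.beq w xz) ||
      anyb 5 fun i => anyb 5 fun j =>
        force (mu (yg i) (mu w (yg i))) fun a => force (mu (yg j) (mu w (yg j))) fun b =>
          (!(Nat.beq a w)) && (!(Nat.beq b w)) && (!(Nat.beq a b))) = true := by
  decide +kernel

theorem card_aux {E : Emb z ph} [Finite G] {g : G} (hg : g ∈ NV E) {n : ℕ} (hn : n < 64)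
    (h1 : Ac ph g (vv n) zc) (h2 : Ac ph g zc (X 0 3)) {i j : ℕ} (hi : i < 5) (hj : j < 5)
    (ha : mu (yg i) (mu (vv n) (yg i)) ≠ vv n) (hb : mu (yg j) (mu (vv n) (yg j)) ≠ vv n)
    (hab : mu (yg i) (mu (vv n) (yg i)) ≠ mu (yg j) (mu (vv n) (yg j))) : False := by
  classical
  have C03 : C (X 0 3) := C_of_isC (b := X 0 3) (by decide +kernel)
  let Y : Subgroup G := NV E ⊓ Subgroup.centralizer {z}
  let Sv : Subgroup G := Y ⊓ Subgroup.centralizer {ph (X 0 3)}
  let Sw : Subgroup G := Y ⊓ Subgroup.centralizer {ph (vv n)}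
  have hw := vv_C hn
  -- `|Sv| ≤ |Sw|`
  have hSv : ∀ c : Sv, g * c * g⁻¹ ∈ Sw := by
    rintro ⟨c, hc⟩
    obtain ⟨⟨hc1, hc2⟩, hc3⟩ := hc
    have hc2' := Subgroup.mem_centralizer_singleton_iff.mp hc2
    have hc3' := Subgroup.mem_centralizer_singleton_iff.mp hc3
    have e1 := h1.e
    have e2 := h2.e
    rw [E.z_eq] at e1 e2
    refine ⟨⟨(NV E).mul_mem ((NV E).mul_mem hg hc1) ((NV E).inv_mem hg), ?_⟩, ?_⟩
    · apply Subgroup.mem_centralizer_singleton_iff.mpr
      have e2' : z = g * ph (X 0 3) * g⁻¹ := by rw [← e2]; group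
      have : ∀ t : G, c * t = t * c → (g * c * g⁻¹) * (g * t * g⁻¹) =
          (g * t * g⁻¹) * (g * c * g⁻¹) := by
        intro t ht
        have e3 : (g * c * g⁻¹) * (g * t * g⁻¹) = g * (c * t) * g⁻¹ := by group
        rw [e3, ht]; group
      have h4 := this _ (by first | exact hc3' | exact hc3'.symm)
      rw [← e2'] at h4
      first | exact h4 | exact h4.symm
    · apply Subgroup.mem_centralizer_singleton_iff.mpr
      have e1' : ph (vv n) = g * z * g⁻¹ := by rw [← e1]; group
      have : ∀ t : G, c * t = t * c → (g * c * g⁻¹) * (g * t * g⁻¹) =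
          (g * t * g⁻¹) * (g * c * g⁻¹) := by
        intro t ht
        have e3 : (g * c * g⁻¹) * (g * t * g⁻¹) = g * (c * t) * g⁻¹ := by group
        rw [e3, ht]; group
      have h4 := this _ (by first | exact hc2' | exact hc2'.symm)
      rw [← e1'] at h4
      first | exact h4 | exact h4.symm
  have hle : Nat.card Sv ≤ Nat.card Sw := by
    apply Nat.card_le_card_of_injective (fun c : Sv => (⟨g * c * g⁻¹, hSv c⟩ : Sw))
    intro a b hab
    have := congrArg Subtype.val hab
    exact Subtype.ext (mul_left_cancel (mul_right_cancel this))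
  -- `|Y| ≤ 2 |Sv|`
  have hy : ∀ i < 5, ph (yg i) ∈ Y := by
    intro i hi
    refine ⟨yg_NV hi, Subgroup.mem_centralizer_singleton_iff.mpr ?_⟩
    have := E.comm (yg_C hi)
    first | exact this | exact this.symm
  have h34 : yg 4 = X 3 4 := by decide +kernel
  have hx34 : Ac ph (ph (yg 4)) (X 0 3) xz := by
    apply Ac.of_ph E C03 (C_of_isC (b := xz) (by decide +kernel)) (yg_C (by norm_num))
    decide +kernel
  have hle2 : Nat.card Y ≤ 2 * Nat.card Sv := by
    have e2 : 2 * Nat.card Sv = Nat.card (Bool × Sv) := by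
      rw [Nat.card_prod]; simp
    rw [e2]
    let F : Bool × Sv → Y := fun p =>
      ⟨(p.2 : G) * (if p.1 then ph (yg 4) else 1), Y.mul_mem p.2.2.1 (by
        split_ifs
        · exact hy 4 (by norm_num)
        · exact Y.one_mem)⟩
    apply Nat.card_le_card_of_surjective F
    rintro ⟨y, hy'⟩
    have hcy := Subgroup.mem_centralizer_singleton_iff.mp hy'.2
    obtain ⟨c, hc, rfl⟩ := E.surj y (by first | exact hcy | exact hcy.symm)
    rcases NV.x03 hc hy'.1 with h3 | h3
    · refine ⟨(false, ⟨ph c, hy', Subgroup.mem_centralizer_singleton_iff.mpr ?_⟩), ?_⟩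
      · first | exact h3.e | exact h3.e.symm
      · apply Subtype.ext
        simp [F]
    · have h4 : Ac ph (ph c * (ph (yg 4))⁻¹) (X 0 3) (X 0 3) := h3.comp hx34.inv
      refine ⟨(true, ⟨ph c * (ph (yg 4))⁻¹, Y.mul_mem hy' (Y.inv_mem (hy 4 (by norm_num))),
        Subgroup.mem_centralizer_singleton_iff.mpr ?_⟩), ?_⟩
      · first | exact h4.e | exact h4.e.symm
      · apply Subtype.ext
        simp [F]
  -- `3 |Sw| ≤ |Y|`
  have hle3 : 3 * Nat.card Sw ≤ Nat.card Y := by
    have e2 : 3 * Nat.card Sw = Nat.card (Fin 3 × Sw) := by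
      rw [Nat.card_prod]; simp
    rw [e2]
    let t : Fin 3 → G := ![1, ph (yg i), ph (yg j)]
    let u : Fin 3 → ℕ := ![vv n, mu (yg i) (mu (vv n) (yg i)), mu (yg j) (mu (vv n) (yg j))]
    have htY : ∀ k, t k ∈ Y := by
      intro k
      fin_cases k
      · exact Y.one_mem
      · exact hy i hi
      · exact hy j hj
    have hconj : ∀ i < 5, Ac ph (ph (yg i)) (vv n) (mu (yg i) (mu (vv n) (yg i))) := by
      intro i hi
      refine Ac.of_ph E hw ((yg_C hi).mul (hw.mul (yg_C hi))) (yg_C hi) ?_
      rw [← mu_assoc (yg i), yg_sq hi, e1_mu (mu_lt _ _)]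
    have htu : ∀ k, Ac ph (t k) (vv n) (u k) := by
      intro k
      fin_cases k
      · exact Ac.one_right hw
      · exact hconj i hi
      · exact hconj j hj
    have hu : Function.Injective u := by
      intro k l hkl
      fin_cases k <;> fin_cases l <;> first
        | rfl
        | exact absurd hkl ha
        | exact absurd hkl.symm ha
        | exact absurd hkl hb
        | exact absurd hkl.symm hb
        | exact absurd hkl hab
        | exact absurd hkl.symm hab
    let F : Fin 3 × Sw → Y := fun p => ⟨(p.2 : G) * t p.1, Y.mul_mem p.2.2.1 (htY p.1)⟩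
    apply Nat.card_le_card_of_injective F
    rintro ⟨k, s, hs⟩ ⟨l, s', hs'⟩ hkl
    have h5 : s * t k = s' * t l := congrArg Subtype.val hkl
    have h6 : ∀ s, s ∈ Sw → ∀ k, Ac ph (s * t k) (vv n) (u k) := by
      intro s hs k
      have h7 : Ac ph s (vv n) (vv n) := ⟨hw, hw, by
        have := Subgroup.mem_centralizer_singleton_iff.mp hs.2
        first | exact this | exact this.symm⟩
      exact h7.comp (htu k)
    have h8 := h6 s hs k
    rw [h5] at h8
    have h9 := hu (Ac.uniq E h8 (h6 s' hs' l))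
    subst h9
    have h10 : s = s' := mul_right_cancel h5
    subst h10
    rfl
  have hpos : 0 < Nat.card Sw := Nat.card_pos
  omega

/-- Step 1 -/
theorem exists_rho {E : Emb z ph} [Finite G] {g : G} (hg : g ∈ NV E)
    (h : Ac ph g zc (X 0 3)) :
    ∃ h ∈ NV E, Ac ph h (X 0 3) zc ∧ Ac ph h zc xz := by
  have C03 : C (X 0 3) := C_of_isC (b := X 0 3) (by decide +kernel)
  have Cxz : C xz := C_of_isC (b := xz) (by decide +kernel)
  have hz1 : vv 2 = zc := by decide +kernel
  obtain ⟨n, hn, hw⟩ := NV.act ((NV E).inv_mem hg) (n := 2) (by norm_num)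
  rw [hz1] at hw
  have h1 : Ac ph g (vv n) zc := by
    have := hw.inv
    rwa [inv_inv] at this
  have hck := of_allb three_ck n hn
  rw [force_eq, Bool.or_eq_true] at hck
  rcases hck with h3 | h3
  · simp only [Bool.or_eq_true] at h3
    rcases h3 with ((h3 | h3) | h3) | h3
    · exfalso
      rw [beq_true h3] at h1
      have := h1.e
      rw [E.one, one_mul] at this
      have h4 := (mul_eq_left.mp this.symm)
      exact absurd (E.eq_one C_zc h4) (by decide)
    · exfalso
      rw [beq_true h3] at h1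
      exact absurd (Ac.uniq E h1 h) (by decide +kernel)
    · -- `w = x03`
      rw [beq_true h3] at h1
      have h34 : yg 4 = X 3 4 := by decide +kernel
      have hx34 : Ac ph (ph (yg 4)) (X 0 3) xz := by
        apply Ac.of_ph E C03 Cxz (yg_C (by norm_num))
        decide +kernel
      have hxz : Ac ph (ph (yg 4)) zc zc := by
        apply Ac.of_ph E C_zc C_zc (yg_C (by norm_num))
        decide +kernel
      exact ⟨g * ph (yg 4), (NV E).mul_mem hg (yg_NV (by norm_num)), h1.comp hxz, h.comp hx34⟩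
    · -- `w = x03 z`
      rw [beq_true h3] at h1
      have h4 : Ac ph g⁻¹ (X 0 3) zc := h.inv
      have h5 : Ac ph g⁻¹ zc xz := h1.inv
      exact ⟨g⁻¹, (NV E).inv_mem hg, h4, h5⟩
  · exfalso
    obtain ⟨i, hi, h4⟩ := of_anyb h3
    obtain ⟨j, hj, h5⟩ := of_anyb h4
    rw [force_eq, force_eq] at h5
    simp only [Bool.and_eq_true, Bool.not_eq_true', ← Bool.not_eq_true] at h5
    obtain ⟨⟨h6, h7⟩, h8⟩ := h5
    exact card_aux hg hn h1 h hi hj (fun e => h6 (beq_of_eq e)) (fun e => h7 (beq_of_eq e))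
      (fun e => h8 (beq_of_eq e))

end Cfsg.Agent.Held.Code
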