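import Cfsg.Agent.Held.Side1

/-!
# Steps 2 and 3: the element `y` of order 3 inverted by `x34` and commuting with `x12 x21`
-/

set_option autoImplicit false

namespace Cfsg.Agent.Held.Code

open Cfsg.Agent.Lib.F2Mat

variable {G : Type*} [Group G] {z : G} {ph : ℕ → G}

theorem Ac.comm_of (E : Emb z ph) {y : G} {a b a' b' : ℕ} (h : Ac ph y a b) (h' : Ac ph y a' b')
    (e : mu a a' = mu a' a) : mu b b' = mu b' b :=
  Ac.uniq E (h.mul E h') ((h'.mul E h).congr e.symm rfl)

theorem Emb.exists_ac (E : Emb z ph) {y : G} {a c : ℕ} (h : Ac ph y a zc) (hc : C c)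
    (hac : mu c a = mu a c) : ∃ k, Ac ph y c k := by
  have h1 := h.e
  rw [E.z_eq] at h1
  have h2 : ph c * ph a = ph a * ph c := (E.comm_iff hc h.l).mpr hac
  have h3 : ph a = y * z * y⁻¹ := by rw [← h1]; group
  rw [h3] at h2
  obtain ⟨k, hk, h4⟩ := E.surj (y⁻¹ * ph c * y) (by
    have h5 : y⁻¹ * ph c * y * z = y⁻¹ * (ph c * (y * z * y⁻¹)) * y := by group
    rw [h5, h2]; group)
  exact ⟨k, hc, hk, by rw [h4]; group⟩

/-- code of `x12 x21` -/
abbrev c1 : ℕ := 17045633

/-- code of its inverse -/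
abbrev c1i : ℕ := 17041601

theorem c1_eq : mu (X 1 2) (X 2 1) = c1 := by decide +kernel
theorem c1i_eq : mu (X 2 1) (X 1 2) = c1i := by decide +kernel
theorem c1_sq : mu c1 c1 = c1i := by decide +kernel
theorem c1_cube : mu c1 (mu c1 c1) = e1 := by decide +kernel

theorem C_c1 : C c1 := C_of_isC (b := c1i) (by decide +kernel)
theorem C_c1i : C c1i := C_of_isC (b := c1) (by decide +kernel)
theorem C_03 : C (X 0 3) := C_of_isC (b := X 0 3) (by decide +kernel)
theorem C_xz : C xz := C_of_isC (b := xz) (by decide +kernel)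
theorem C_34 : C (X 3 4) := C_of_isC (b := X 3 4) (by decide +kernel)
theorem C_12 : C (X 1 2) := C_of_isC (b := X 1 2) (by decide +kernel)
theorem C_21 : C (X 2 1) := C_of_isC (b := X 2 1) (by decide +kernel)

/-- the elements of `B1 = V2 <x01, x02>` -/
def bb (n : ℕ) : ℕ := Nat.add (vv (Nat.mod n 64)) (Nat.mul 2 (Nat.div n 64))

/-- `e1, x01, x02, x01 x02` -/
def xx (n : ℕ) : ℕ := Nat.add 17043521 (Nat.mul 2 n)

theorem bb_ck : allb 256 (fun n => force (bb n) fun b =>
    Nat.beq (mu (vv (Nat.mod n 64)) (xx (Nat.div n 64))) b &&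
    Nat.beq (mu zc b) (mu b zc) && Nat.beq (mu (X 0 3) b) (mu b (X 0 3))) = true := by
  decide +kernel

theorem xx_ck : allb 4 (fun n => isC (xx n) (xx n) && normV (xx n) (xx n)) = true := by
  decide +kernel

theorem xx_C {n : ℕ} (hn : n < 4) : C (xx n) := by
  have := of_allb xx_ck n hn
  rw [Bool.and_eq_true] at this
  exact C_of_isC this.1

theorem xx_NV {E : Emb z ph} {n : ℕ} (hn : n < 4) : ph (xx n) ∈ NV E := by
  have := of_allb xx_ck n hn
  rw [Bool.and_eq_true] at this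
  refine NV.of_normV (xx_C hn) ?_ this.2
  have hck : allb 4 (fun i => Nat.beq (mu (xx i) (xx i)) e1) = true := by decide +kernel
  exact beq_true (of_allb hck n hn)

theorem bb_fac {n : ℕ} (hn : n < 256) : mu (vv (n % 64)) (xx (n / 64)) = bb n := by
  have := of_allb bb_ck n hn
  rw [force_eq] at this
  simp only [Bool.and_eq_true] at this
  exact beq_true this.1.1

theorem bb_C {n : ℕ} (hn : n < 256) : C (bb n) := by
  rw [← bb_fac hn]
  exact (vv_C (Nat.mod_lt _ (by norm_num))).mul (xx_C (by omega))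

theorem bb_NV {E : Emb z ph} {n : ℕ} (hn : n < 256) : ph (bb n) ∈ NV E := by
  have h1 : n % 64 < 64 := Nat.mod_lt _ (by norm_num)
  rw [← bb_fac hn, E.mul (vv_C h1) (xx_C (by omega))]
  exact (NV E).mul_mem (Subgroup.le_normalizer ⟨_, h1, rfl⟩) (xx_NV (by omega))

theorem bb_z {E : Emb z ph} {n : ℕ} (hn : n < 256) : Ac ph (ph (bb n)) zc zc := by
  have := of_allb bb_ck n hn
  rw [force_eq] at this
  simp only [Bool.and_eq_true] at this
  exact Ac.of_ph E C_zc C_zc (bb_C hn) (beq_true this.1.2)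

theorem bb_x03 {E : Emb z ph} {n : ℕ} (hn : n < 256) : Ac ph (ph (bb n)) (X 0 3) (X 0 3) := by
  have := of_allb bb_ck n hn
  rw [force_eq] at this
  simp only [Bool.and_eq_true] at this
  exact Ac.of_ph E C_03 C_03 (bb_C hn) (beq_true this.2)

theorem syl3_ck : allK (fun k => imp (Nat.beq (mu k (mu k k)) e1)
    (Nat.beq k e1 || anyb 256 fun n => force (mu k (bb n)) fun u =>
      (Nat.beq u (mu (bb n) c1) || Nat.beq u (mu (bb n) c1i)))) = true := by
  decide +kernel

/-- Step 2 -/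
theorem exists_p {E : Emb z ph} {h : G} (hN : h ∈ NV E) (h1 : Ac ph h (X 0 3) zc)
    (h2 : Ac ph h zc xz) :
    ∃ p ∈ NV E, Ac ph p (X 0 3) zc ∧ Ac ph p zc xz ∧ Ac ph p c1 c1 := by
  have h3 : Ac ph h xz (X 0 3) :=
    (h1.mul E h2).congr (by decide +kernel) (by decide +kernel)
  obtain ⟨k, hk⟩ := E.exists_ac h1 C_c1 (by decide +kernel)
  have hk3 : mu k (X 0 3) = mu (X 0 3) k := hk.comm_of E h3 (by decide +kernel)
  have hkc : mu k (mu k k) = e1 := by
    have h4 := hk.mul E (hk.mul E hk)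
    rw [c1_cube] at h4
    exact Ac.uniq E h4 (Ac.one E h)
  have hk1 : k ≠ e1 := by
    rintro rfl
    exact absurd (Ac.inj E hk (Ac.one E h)) (by decide +kernel)
  have hck := of_allK syl3_ck hk.r hk3
  have hck2 := imp_mp hck (beq_of_eq hkc)
  rw [Bool.or_eq_true] at hck2
  rcases hck2 with h4 | h4
  · exact absurd (beq_true h4) hk1
  · obtain ⟨n, hn, h5⟩ := of_anyb h4
    rw [force_eq, Bool.or_eq_true] at h5
    rcases h5 with h5 | h5
    · have h6 : Ac ph (ph (bb n)) k c1 := Ac.of_ph E hk.r C_c1 (bb_C hn) (beq_true h5)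
      exact ⟨h * ph (bb n), (NV E).mul_mem hN (bb_NV hn), h1.comp (bb_z (E := E) hn),
        h2.comp (((bb_x03 (E := E) hn).mul E (bb_z (E := E) hn)).congr xz_eq xz_eq), hk.comp h6⟩
    · have h6 : Ac ph (ph (bb n)) k c1i := Ac.of_ph E hk.r C_c1i (bb_C hn) (beq_true h5)
      have h7 : Ac ph (ph (X 1 2)) c1i c1 := Ac.of_ph E C_c1i C_c1 C_12 (by decide +kernel)
      have h8 : Ac ph (ph (X 1 2)) zc zc := Ac.of_ph E C_zc C_zc C_12 (by decide +kernel)
      have h9 : Ac ph (ph (X 1 2)) xz xz := Ac.of_ph E C_xz C_xz C_12 (by decide +kernel)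
      have h10 : ph (X 1 2) ∈ NV E := by
        have : X 1 2 = yg 2 := by decide +kernel
        rw [this]; exact yg_NV (by norm_num)
      exact ⟨h * ph (bb n) * ph (X 1 2), (NV E).mul_mem ((NV E).mul_mem hN (bb_NV hn)) h10,
        (h1.comp (bb_z (E := E) hn)).comp h8,
        (h2.comp (((bb_x03 (E := E) hn).mul E (bb_z (E := E) hn)).congr xz_eq xz_eq)).comp h9,
        (hk.comp h6).comp h7⟩

/-- `k` is singular: some nonzero combination of the rows `1, …, 4` vanishes -/
def sing (k : ℕ) : Bool :=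
  anyb 15 fun m => Nat.beq (mu (Nat.add 17043523 (Nat.mul 2 m)) k) k

theorem not_sing {k : ℕ} (hk : C k) : ¬ sing k = true := by
  intro h
  obtain ⟨m, hm, h1⟩ := of_anyb h
  obtain ⟨d, hd, h2, h3⟩ := hk.exists_inv
  have h4 := congrArg (fun t => mu t d) (beq_true h1)
  simp only [mu_assoc, h2] at h4
  have h5 : Nat.add 17043523 (Nat.mul 2 m) < 2 ^ 25 := by
    show 17043523 + 2 * m < 2 ^ 25
    norm_num; omega
  rw [mu_e1 h5] at h4
  have h6 : 17043523 + 2 * m = 17043521 := h4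
  omega

/-- the elements of `W1 × <c1>` -/
def wc (i w : ℕ) : ℕ := mu (cond (Nat.beq i 0) e1 (cond (Nat.beq i 1) c1 c1i)) (vv w)

theorem cent_c1_ck : allK (fun k => imp (Nat.beq (mu k c1) (mu c1 k))
    ((anyb 3 fun i => anyb 4 fun w => Nat.beq k (wc i w)) || sing k)) = true := by
  decide +kernel

/-- Step 3 -/
theorem exists_q {E : Emb z ph} {p : G} (hN : p ∈ NV E) (h1 : Ac ph p (X 0 3) zc)
    (h2 : Ac ph p zc xz) (h3 : Ac ph p c1 c1) :
    ∃ q ∈ NV E, Ac ph q (X 0 3) zc ∧ Ac ph q zc xz ∧ Ac ph q c1 c1 ∧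
      ph (X 3 4) * q * ph (X 3 4) = q⁻¹ ∧ q ^ 3 = 1 := by
  have h34 : ph (X 3 4) * ph (X 3 4) = 1 := by
    rw [← E.mul C_34 C_34, ← E.one, show mu (X 3 4) (X 3 4) = e1 by decide +kernel]
  have N34 : ph (X 3 4) ∈ NV E := by
    have : X 3 4 = yg 4 := by decide +kernel
    rw [this]; exact yg_NV (by norm_num)
  have a1 : Ac ph (ph (X 3 4)) (X 0 3) xz := Ac.of_ph E C_03 C_xz C_34 (by decide +kernel)
  have a2 : Ac ph (ph (X 3 4)) zc zc := Ac.of_ph E C_zc C_zc C_34 (by decide +kernel)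
  have a3 : Ac ph (ph (X 3 4)) xz (X 0 3) := Ac.of_ph E C_xz C_03 C_34 (by decide +kernel)
  have a4 : Ac ph (ph (X 3 4)) c1 c1 := Ac.of_ph E C_c1 C_c1 C_34 (by decide +kernel)
  have h4 : Ac ph p xz (X 0 3) :=
    (h1.mul E h2).congr (by decide +kernel) (by decide +kernel)
  refine ⟨p⁻¹ * (ph (X 3 4) * p * ph (X 3 4)), ?_, ?_, ?_, ?_, ?_, ?_⟩
  · exact (NV E).mul_mem ((NV E).inv_mem hN)
      ((NV E).mul_mem ((NV E).mul_mem N34 hN) N34)
  · exact h4.inv.comp ((a3.comp h1).comp a2)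
  · exact h1.inv.comp ((a1.comp h4).comp a1)
  · exact h3.inv.comp ((a4.comp h3).comp a4)
  · have e : ph (X 3 4) * (p⁻¹ * (ph (X 3 4) * p * ph (X 3 4))) * ph (X 3 4) =
        ph (X 3 4) * p⁻¹ * ph (X 3 4) * p * (ph (X 3 4) * ph (X 3 4)) := by group
    rw [e, h34, mul_one]
    have h5 : (ph (X 3 4))⁻¹ = ph (X 3 4) := inv_eq_of_mul_eq_one_left h34
    rw [mul_inv_rev, mul_inv_rev, mul_inv_rev, inv_inv, h5]
    group
  · set q := p⁻¹ * (ph (X 3 4) * p * ph (X 3 4)) with hq
    have b1 : Ac ph q (X 0 3) zc := h4.inv.comp ((a3.comp h1).comp a2)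
    have b2 : Ac ph q zc xz := h1.inv.comp ((a1.comp h4).comp a1)
    have b3 : Ac ph q c1 c1 := h3.inv.comp ((a4.comp h3).comp a4)
    have b4 : Ac ph q xz (X 0 3) :=
      (b1.mul E b2).congr (by decide +kernel) (by decide +kernel)
    have hinv : ph (X 3 4) * q * ph (X 3 4) = q⁻¹ := by
      have e : ph (X 3 4) * (p⁻¹ * (ph (X 3 4) * p * ph (X 3 4))) * ph (X 3 4) =
          ph (X 3 4) * p⁻¹ * ph (X 3 4) * p * (ph (X 3 4) * ph (X 3 4)) := by group
      rw [hq, e, h34, mul_one]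
      have h5 : (ph (X 3 4))⁻¹ = ph (X 3 4) := inv_eq_of_mul_eq_one_left h34
      rw [mul_inv_rev, mul_inv_rev, mul_inv_rev, inv_inv, h5]
      group
    have c3 : Ac ph (q * q * q) zc zc := (b2.comp b4).comp b1
    obtain ⟨k, hk, hkq⟩ := E.of_fix c3
    have d1 : Ac ph (ph k) (X 0 3) (X 0 3) := by rw [hkq]; exact (b1.comp b2).comp b4
    have d2 : Ac ph (ph k) c1 c1 := by rw [hkq]; exact (b3.comp b3).comp b3
    have e1' : mu k (X 0 3) = mu (X 0 3) k := by
      apply E.inj (hk.mul C_03) (C_03.mul hk)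
      rw [E.mul hk C_03, E.mul C_03 hk]; exact d1.e.symm
    have e2' : mu k c1 = mu c1 k := by
      apply E.inj (hk.mul C_c1) (C_c1.mul hk)
      rw [E.mul hk C_c1, E.mul C_c1 hk]; exact d2.e.symm
    have hck := imp_mp (of_allK cent_c1_ck hk e1') (beq_of_eq e2')
    rw [Bool.or_eq_true] at hck
    rcases hck with h6 | h6
    swap
    · exact absurd h6 (not_sing hk)
    obtain ⟨i, hi, h7⟩ := of_anyb h6
    obtain ⟨w, hw, h8⟩ := of_anyb h7
    have hkk : k = wc i w := beq_true h8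
    -- `q` commutes with `k`
    have d3 : Ac ph q k k := ⟨hk, hk, by rw [hkq]; group⟩
    -- `x34` inverts `k`
    have d4 : ph (X 3 4) * ph k * ph (X 3 4) = (ph k)⁻¹ := by
      rw [hkq]
      have e : ph (X 3 4) * (q * q * q) * ph (X 3 4) = (ph (X 3 4) * q * ph (X 3 4)) *
          ((ph (X 3 4) * ph (X 3 4))⁻¹ * (ph (X 3 4) * q * ph (X 3 4))) *
          ((ph (X 3 4) * ph (X 3 4))⁻¹ * (ph (X 3 4) * q * ph (X 3 4))) := by group
      rw [e, h34, hinv]; group
    have p1 : ∀ i < 3, Ac ph q (cond (Nat.beq i 0) e1 (cond (Nat.beq i 1) c1 c1i))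
        (cond (Nat.beq i 0) e1 (cond (Nat.beq i 1) c1 c1i)) := by
      intro i hi
      interval_cases i
      · exact Ac.one E q
      · exact b3
      · exact (b3.mul E b3).congr c1_sq c1_sq
    have p2 : ∀ w < 4, ∃ w' < 4, Ac ph q (vv w) (vv w') ∧ (w = w' → w = 0) := by
      intro w hw
      interval_cases w
      · exact ⟨0, by norm_num, Ac.one E q, fun _ => rfl⟩
      · exact ⟨2, by norm_num, b1.congr (by decide +kernel) (by decide +kernel), by norm_num⟩
      · exact ⟨3, by norm_num, b2.congr (by decide +kernel) (by decide +kernel), by norm_num⟩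
      · exact ⟨1, by norm_num, b4.congr (by decide +kernel) (by decide +kernel), by norm_num⟩
    obtain ⟨w', hw', h9, h10⟩ := p2 w hw
    have h11 : wc i w = wc i w' := by
      have h12 := (p1 i hi).mul E h9
      rw [hkk] at d3
      exact Ac.uniq E d3 h12
    have h13 : w = w' := by
      have hck : allb 3 (fun i => allb 4 fun w => allb 4 fun w' =>
        imp (Nat.beq (wc i w) (wc i w')) (Nat.beq w w')) = true := by decide +kernel
      exact beq_true (imp_mp (of_allb (of_allb (of_allb hck i hi) w hw) w' hw') (beq_of_eq h11))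
    have hw0 := h10 h13
    subst hw0
    have h14 : mu (X 3 4) (mu (wc i 0) (X 3 4)) = wc i 0 := by
      have hck : allb 3 (fun i => Nat.beq (mu (X 3 4) (mu (wc i 0) (X 3 4))) (wc i 0)) = true := by
        decide +kernel
      exact beq_true (of_allb hck i hi)
    rw [← hkk] at h14
    have h15 : ph k = (ph k)⁻¹ := by
      rw [← d4, mul_assoc, ← E.mul hk C_34, ← E.mul C_34 (hk.mul C_34), h14]
    have h16 : mu k k = e1 := by
      apply E.inj (hk.mul hk) C_e1
      rw [E.mul hk hk, E.one]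
      nth_rewrite 2 [h15]
      exact mul_inv_cancel _
    have h17 : i = 0 := by
      have hck : allb 3 (fun i => imp (Nat.beq (mu (wc i 0) (wc i 0)) e1) (Nat.beq i 0)) = true := by
        decide +kernel
      rw [hkk] at h16
      exact beq_true (imp_mp (of_allb hck i hi) (beq_of_eq h16))
    subst h17
    have h18 : ph k = 1 := by
      rw [hkk, ← E.one]; congr 1
    rw [hkq] at h18
    rw [pow_succ, pow_two]; exact h18

end Cfsg.Agent.Held.Code
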