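import Cfsg.Agent.Held.Side2

/-!
# Steps 4 and 5: the action of `y` on `V2` and `x01`
-/

set_option autoImplicit false

namespace Cfsg.Agent.Held.Code

open Cfsg.Agent.Lib.F2Mat

variable {G : Type*} [Group G] {z : G} {ph : ℕ → G}

theorem C_01 : C (X 0 1) := C_of_isC (b := X 0 1) (by decide +kernel)
theorem C_02 : C (X 0 2) := C_of_isC (b := X 0 2) (by decide +kernel)
theorem C_13 : C (X 1 3) := C_of_isC (b := X 1 3) (by decide +kernel)
theorem C_14 : C (X 1 4) := C_of_isC (b := X 1 4) (by decide +kernel)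
theorem C_23 : C (X 2 3) := C_of_isC (b := X 2 3) (by decide +kernel)
theorem C_24 : C (X 2 4) := C_of_isC (b := X 2 4) (by decide +kernel)

/-- `x` if bit `i` of `n` is set -/
def bi (n i x : ℕ) : ℕ := cond (Nat.testBit n i) x 0

theorem bi_xor (n m i x : ℕ) : bi (Nat.xor n m) i x = Nat.xor (bi n i x) (bi m i x) := by
  unfold bi
  have h : Nat.testBit (Nat.xor n m) i = (Nat.testBit n i ^^ Nat.testBit m i) :=
    Nat.testBit_xor n m i
  rw [h]
  cases Nat.testBit n i <;> cases Nat.testBit m i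
  · exact (Nat.xor_zero 0).symm
  · exact (Nat.zero_xor x).symm
  · exact (Nat.xor_zero x).symm
  · exact (Nat.xor_self x).symm

/-- the linear map with prescribed values at the six bits -/
def lin (a0 a1 a2 a3 a4 a5 n : ℕ) : ℕ :=
  Nat.xor (Nat.xor (Nat.xor (Nat.xor (Nat.xor (bi n 0 a0) (bi n 1 a1)) (bi n 2 a2)) (bi n 3 a3))
    (bi n 4 a4)) (bi n 5 a5)

theorem lin_xor (a0 a1 a2 a3 a4 a5 n m : ℕ) : lin a0 a1 a2 a3 a4 a5 (Nat.xor n m) =
    Nat.xor (lin a0 a1 a2 a3 a4 a5 n) (lin a0 a1 a2 a3 a4 a5 m) := by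
  unfold lin
  simp only [bi_xor]
  have hx : ∀ a b : ℕ, Nat.xor a b = a ^^^ b := fun _ _ => rfl
  simp only [hx]
  generalize bi n 0 a0 = p0
  generalize bi n 1 a1 = p1
  generalize bi n 2 a2 = p2
  generalize bi n 3 a3 = p3
  generalize bi n 4 a4 = p4
  generalize bi n 5 a5 = p5
  ac_rfl

theorem bi_lt {n i x N : ℕ} (hx : x < N) (hN : 0 < N) : bi n i x < N := by
  unfold bi; cases Nat.testBit n i
  · exact hN
  · exact hx

theorem lin_lt {a0 a1 a2 a3 a4 a5 : ℕ} (h0 : a0 < 64) (h1 : a1 < 64) (h2 : a2 < 64)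
    (h3 : a3 < 64) (h4 : a4 < 64) (h5 : a5 < 64) (n : ℕ) : lin a0 a1 a2 a3 a4 a5 n < 64 := by
  unfold lin
  exact xor_lt (xor_lt (xor_lt (xor_lt (xor_lt (bi_lt h0 (by norm_num)) (bi_lt h1 (by norm_num)))
    (bi_lt h2 (by norm_num))) (bi_lt h3 (by norm_num))) (bi_lt h4 (by norm_num)))
    (bi_lt h5 (by norm_num))

theorem gen6 {P : ℕ → Prop} (h0 : P 0)
    (hx : ∀ n < 64, ∀ m < 64, P n → P m → P (Nat.xor n m))
    (h1 : P 1) (h2 : P 2) (h4 : P 4) (h8 : P 8) (h16 : P 16) (h32 : P 32) :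
    ∀ n < 64, P n := by
  intro n hn
  have hck : allb 64 (fun n => Nat.beq n (lin 1 2 4 8 16 32 n)) = true := by decide +kernel
  have e : n = lin 1 2 4 8 16 32 n := beq_true (of_allb hck n hn)
  have hb : ∀ i x, P x → x < 64 → P (bi n i x) ∧ bi n i x < 64 := by
    intro i x hx hx'
    refine ⟨?_, bi_lt hx' (by norm_num)⟩
    unfold bi; cases Nat.testBit n i
    · exact h0
    · exact hx
  obtain ⟨p0, q0⟩ := hb 0 1 h1 (by norm_num)
  obtain ⟨p1, q1⟩ := hb 1 2 h2 (by norm_num)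
  obtain ⟨p2, q2⟩ := hb 2 4 h4 (by norm_num)
  obtain ⟨p3, q3⟩ := hb 3 8 h8 (by norm_num)
  obtain ⟨p4, q4⟩ := hb 4 16 h16 (by norm_num)
  obtain ⟨p5, q5⟩ := hb 5 32 h32 (by norm_num)
  rw [e]
  unfold lin
  have r1 := hx _ q0 _ q1 p0 p1
  have s1 := xor_lt q0 q1
  have r2 := hx _ s1 _ q2 r1 p2
  have s2 := xor_lt s1 q2
  have r3 := hx _ s2 _ q3 r2 p3
  have s3 := xor_lt s2 q3
  have r4 := hx _ s3 _ q4 r3 p4
  have s4 := xor_lt s3 q4
  exact hx _ s4 _ q5 r4 p5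

theorem lin_gen (a0 a1 a2 a3 a4 a5 : ℕ) :
    lin a0 a1 a2 a3 a4 a5 0 = 0 ∧ lin a0 a1 a2 a3 a4 a5 1 = a0 ∧ lin a0 a1 a2 a3 a4 a5 2 = a1 ∧
    lin a0 a1 a2 a3 a4 a5 4 = a2 ∧ lin a0 a1 a2 a3 a4 a5 8 = a3 ∧ lin a0 a1 a2 a3 a4 a5 16 = a4 ∧
    lin a0 a1 a2 a3 a4 a5 32 = a5 := by
  have hx : ∀ a b : ℕ, Nat.xor a b = a ^^^ b := fun _ _ => rfl
  unfold lin bi
  simp only [hx]
  have t0 : ∀ i, Nat.testBit 0 i = false := Nat.zero_testBit
  have t : ∀ k i : ℕ, Nat.testBit (2 ^ k) i = decide (k = i) := fun k i => Nat.testBit_two_pow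
  have t1 : ∀ i, Nat.testBit 1 i = decide (0 = i) := fun i => t 0 i
  have t2 : ∀ i, Nat.testBit 2 i = decide (1 = i) := fun i => t 1 i
  have t4 : ∀ i, Nat.testBit 4 i = decide (2 = i) := fun i => t 2 i
  have t8 : ∀ i, Nat.testBit 8 i = decide (3 = i) := fun i => t 3 i
  have t16 : ∀ i, Nat.testBit 16 i = decide (4 = i) := fun i => t 4 i
  have t32 : ∀ i, Nat.testBit 32 i = decide (5 = i) := fun i => t 5 i
  simp only [t0, t1, t2, t4, t8, t16, t32]
  simp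

/-- the action of `y` on `V2` from the action on generators -/
theorem Ac.lin (E : Emb z ph) {y : G} {a0 a1 a2 a3 a4 a5 : ℕ}
    (l0 : a0 < 64) (l1 : a1 < 64) (l2 : a2 < 64) (l3 : a3 < 64) (l4 : a4 < 64) (l5 : a5 < 64)
    (h0 : Ac ph y (vv 1) (vv a0)) (h1 : Ac ph y (vv 2) (vv a1)) (h2 : Ac ph y (vv 4) (vv a2))
    (h3 : Ac ph y (vv 8) (vv a3)) (h4 : Ac ph y (vv 16) (vv a4)) (h5 : Ac ph y (vv 32) (vv a5)) :
    ∀ n < 64, Ac ph y (vv n) (vv (Code.lin a0 a1 a2 a3 a4 a5 n)) := by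
  obtain ⟨g0, g1, g2, g3, g4, g5, g6⟩ := lin_gen a0 a1 a2 a3 a4 a5
  apply gen6
  · rw [g0]; exact Ac.one E y
  · intro n hn m hm h h'
    have h6 := h.mul E h'
    rw [vv_mul hn hm, vv_mul (lin_lt l0 l1 l2 l3 l4 l5 n) (lin_lt l0 l1 l2 l3 l4 l5 m),
      ← lin_xor] at h6
    exact h6
  · rw [g1]; exact h0
  · rw [g2]; exact h1
  · rw [g3]; exact h2
  · rw [g4]; exact h3
  · rw [g5]; exact h4
  · rw [g6]; exact h5

/-- action of `x34` on indices -/
def tI (n : ℕ) : ℕ := lin 3 2 12 8 48 32 n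

/-- action of `c1i` on indices -/
def cI (n : ℕ) : ℕ := lin 1 2 16 32 20 40 n

theorem tI_ck : allb 64 (fun n => Nat.beq (mu (vv n) (X 3 4)) (mu (X 3 4) (vv (tI n)))) = true := by
  decide +kernel

theorem cI_ck : allb 64 (fun n => Nat.beq (mu (vv n) c1i) (mu c1i (vv (cI n)))) = true := by
  decide +kernel

theorem tI_lt (n : ℕ) : tI n < 64 := lin_lt (by norm_num) (by norm_num) (by norm_num)
  (by norm_num) (by norm_num) (by norm_num) n

theorem cI_lt (n : ℕ) : cI n < 64 := lin_lt (by norm_num) (by norm_num) (by norm_num)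
  (by norm_num) (by norm_num) (by norm_num) n

theorem tI_ac (E : Emb z ph) {n : ℕ} (hn : n < 64) : Ac ph (ph (X 3 4)) (vv n) (vv (tI n)) :=
  Ac.of_ph E (vv_C hn) (vv_C (tI_lt n)) C_34 (beq_true (of_allb tI_ck n hn))

theorem cI_ac (E : Emb z ph) {n : ℕ} (hn : n < 64) : Ac ph (ph c1i) (vv n) (vv (cI n)) :=
  Ac.of_ph E (vv_C hn) (vv_C (cI_lt n)) C_c1i (beq_true (of_allb cI_ck n hn))

/-- the action of `y` on indices -/
def sg (a b n : ℕ) : ℕ := lin 2 3 a b (cI a) (cI b) n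

theorem vv_inj {n m : ℕ} (hn : n < 64) (hm : m < 64) (h : vv n = vv m) : n = m := by
  have hck : allb 64 (fun n => allb 64 (fun m => imp (Nat.beq (vv n) (vv m)) (Nat.beq n m)))
    = true := by decide +kernel
  exact beq_true (imp_mp (of_allb (of_allb hck n hn) m hm) (beq_of_eq h))

theorem sg_ck : allb 16 (fun a => allb 16 fun b =>
    imp (Nat.beq (sg (4 * a) (4 * b) (tI (4 * a))) 12)
    (imp (Nat.beq (sg (4 * a) (4 * b) (tI (4 * b))) 8)
    (imp (Nat.beq (sg (4 * a) (4 * b) (sg (4 * a) (4 * b) (4 * a))) 4)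
    (imp (Nat.beq (sg (4 * a) (4 * b) (sg (4 * a) (4 * b) (4 * b))) 8)
    (allb 256 fun n => force (bb n) fun k1 => force (mu c1i (mu k1 c1)) fun k2 =>
      imp (Nat.beq (mu k1 (vv (4 * a))) (mu (mu (vv (4 * a)) k1) zc))
      (imp (Nat.beq (mu k2 (vv (4 * a))) (mu (vv (4 * a)) k2))
      (imp (Nat.beq (mu k1 (vv (4 * b))) (mu (mu (vv (4 * b)) k1) xz))
      (imp (Nat.beq (mu k2 (vv (4 * b))) (mu (vv (4 * b)) k2))
        (Nat.beq a 2 && Nat.beq b 3 && anyb 64 fun m => Nat.beq k1 (mu (X 0 1) (vv m))))))))))) =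
    true := by decide +kernel

theorem f_ck : allb 64 (fun m => force (mu (X 0 1) (vv m)) fun k1 =>
    force (mu c1i (mu k1 c1)) fun k2 =>
    imp (Nat.beq (sg 8 12 (tI m)) m)
    (imp (Nat.beq (mu k1 k1) e1)
    (imp (Nat.beq (mu k1 k2) (mu k2 k1))
    (imp (Nat.beq (mu c1i (mu k2 c1)) (mu k1 k2))
      (Nat.beq m 0 || Nat.beq m 17))))) = true := by decide +kernel

theorem B1_ck : allK (fun k =>
    imp (anyb 4 fun w => Nat.beq (mu k (X 1 3)) (mu (mu (X 1 3) k) (vv w)))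
    (imp (anyb 4 fun w => Nat.beq (mu k (X 1 4)) (mu (mu (X 1 4) k) (vv w)))
    (imp (anyb 4 fun w => Nat.beq (mu k (X 2 3)) (mu (mu (X 2 3) k) (vv w)))
    (imp (anyb 4 fun w => Nat.beq (mu k (X 2 4)) (mu (mu (X 2 4) k) (vv w)))
      ((anyb 256 fun n => Nat.beq k (bb n)) || sing k))))) = true := by decide +kernel

theorem Ac.cI {E : Emb z ph} {q : G} (hc : Ac ph q c1 c1) {n m : ℕ} (hn : n < 64) (hm : m < 64)
    (h : Ac ph q (vv n) (vv m)) : Ac ph q (vv (Code.cI n)) (vv (Code.cI m)) := by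
  have hci : Ac ph q c1i c1i := (hc.mul E hc).congr c1_sq c1_sq
  have key : ∀ n < 64, mu c1 (mu (vv n) c1i) = vv (Code.cI n) := by
    intro n hn
    rw [beq_true (of_allb cI_ck n hn), ← mu_assoc, show mu c1 c1i = e1 by decide +kernel,
      e1_mu (vv_C (cI_lt n)).1]
  exact (hc.mul E (h.mul E hci)).congr (key n hn) (key m hm)

theorem cI_ck2 : allb 64 (fun m => anyb 16 fun a => Nat.beq (Nat.xor m (cI (cI m))) (4 * a)) = true
    := by decide +kernel

theorem x01_ck : allb 64 (fun n => anyb 4 fun w => Nat.beq (mu (X 0 1) (vv n))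
    (mu (mu (vv n) (X 0 1)) (vv w))) = true := by decide +kernel

theorem x01_ck2 : allb 64 (fun n => allb 64 fun m =>
    imp (Nat.beq (mu (mu (X 0 1) (vv n)) (vv m)) (X 0 1)) (Nat.beq m n)) = true := by
  decide +kernel

theorem Emb.of_eq (E : Emb z ph) {a b : ℕ} (ha : C a) (hb : C b) {c d : ℕ} (hc : C c) (hd : C d)
    (h : mu a b = mu c d) : ph a * ph b = ph c * ph d := by
  rw [← E.mul ha hb, ← E.mul hc hd, h]

/-- Steps 4 and 5 -/
theorem exists_t {E : Emb z ph} {q : G} (hN : q ∈ NV E) (h1 : Ac ph q (X 0 3) zc)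
    (h2 : Ac ph q zc xz) (h3 : Ac ph q c1 c1) (h4 : ph (X 3 4) * q * ph (X 3 4) = q⁻¹)
    (h5 : q ^ 3 = 1) :
    (∀ n < 64, Ac ph q (vv n) (vv (sg 8 12 n))) ∧
      ∃ m, (m = 0 ∨ m = 17) ∧ Ac ph q (X 0 1) (mu (X 0 1) (vv m)) := by
  have h6 : Ac ph q xz (X 0 3) :=
    (h1.mul E h2).congr (by decide +kernel) (by decide +kernel)
  have v1 : X 0 3 = vv 1 := by decide +kernel
  have v2 : zc = vv 2 := by decide +kernel
  have v3 : xz = vv 3 := by decide +kernel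
  have v4 : X 1 3 = vv 4 := by decide +kernel
  have v8 : X 1 4 = vv 8 := by decide +kernel
  have v16 : X 2 3 = vv 16 := by decide +kernel
  have v32 : X 2 4 = vv 32 := by decide +kernel
  have key : ∀ e < 64, ∀ f < 64, Code.cI (Code.cI e) = f → ∃ a < 16,
      Ac ph q (vv (Nat.xor e f)) (vv (4 * a)) := by
    intro e he f hf hef
    obtain ⟨m, hm, h7⟩ := NV.act hN he
    have h8 := Ac.cI (E := E) h3 (cI_lt e) (cI_lt m) (Ac.cI (E := E) h3 he hm h7)
    rw [hef] at h8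
    have h9 := h7.mul E h8
    rw [vv_mul he hf, vv_mul hm (cI_lt _)] at h9
    obtain ⟨a, ha, h10⟩ := of_anyb (of_allb cI_ck2 m hm)
    rw [beq_true h10] at h9
    exact ⟨a, ha, h9⟩
  obtain ⟨a, ha, h7⟩ := key 20 (by norm_num) 16 (by norm_num) (by decide +kernel)
  obtain ⟨b, hb, h8⟩ := key 40 (by norm_num) 32 (by norm_num) (by decide +kernel)
  have e4 : Nat.xor 20 16 = 4 := rfl
  have e8 : Nat.xor 40 32 = 8 := rfl
  rw [e4] at h7
  rw [e8] at h8
  have h9 := Ac.cI (E := E) h3 (by norm_num) (by omega) h7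
  have h10 := Ac.cI (E := E) h3 (by norm_num) (by omega) h8
  have e16 : Code.cI 4 = 16 := by decide +kernel
  have e32 : Code.cI 8 = 32 := by decide +kernel
  rw [e16] at h9
  rw [e32] at h10
  have hl : ∀ n < 64, Ac ph q (vv n) (vv (sg (4 * a) (4 * b) n)) := by
    apply Ac.lin E (by norm_num) (by norm_num) (by omega) (by omega) (cI_lt _) (cI_lt _)
    · rw [← v1, ← v2]; exact h1
    · rw [← v2, ← v3]; exact h2
    · exact h7
    · exact h8
    · exact h9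
    · exact h10
  have sgl : ∀ n, sg (4 * a) (4 * b) n < 64 := fun n =>
    lin_lt (by norm_num) (by norm_num) (by omega) (by omega) (cI_lt _) (cI_lt _) n
  -- `q x34 q = x34`
  have h34 : ph (X 3 4) * ph (X 3 4) = 1 := by
    rw [← E.mul C_34 C_34, ← E.one, show mu (X 3 4) (X 3 4) = e1 by decide +kernel]
  have hq34 : q * ph (X 3 4) * q = ph (X 3 4) := by
    have e : q * ph (X 3 4) * q = q * (ph (X 3 4) * q * ph (X 3 4)) * (ph (X 3 4))⁻¹ := by group
    rw [e, h4, mul_inv_cancel, one_mul]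
    exact inv_eq_of_mul_eq_one_left h34
  have hq3 : q * q * q = 1 := by rw [← h5, pow_succ, pow_two]
  have hsg1 : ∀ n < 64, sg (4 * a) (4 * b) (tI (sg (4 * a) (4 * b) n)) = tI n := by
    intro n hn
    have h11 : Ac ph (q * ph (X 3 4) * q) (vv n) (vv (sg (4 * a) (4 * b)
      (tI (sg (4 * a) (4 * b) n)))) := ((hl n hn).comp (tI_ac E (sgl n))).comp (hl _ (tI_lt _))
    rw [hq34] at h11
    exact vv_inj (sgl _) (tI_lt _) (Ac.uniq E h11 (tI_ac E hn))
  have hsg2 : ∀ n < 64, sg (4 * a) (4 * b) (sg (4 * a) (4 * b) (sg (4 * a) (4 * b) n)) = n := by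
    intro n hn
    have h11 : Ac ph (q * q * q) (vv n) (vv (sg (4 * a) (4 * b) (sg (4 * a) (4 * b)
      (sg (4 * a) (4 * b) n)))) := ((hl n hn).comp (hl _ (sgl _))).comp (hl _ (sgl _))
    rw [hq3] at h11
    exact vv_inj (sgl _) hn (Ac.uniq E h11 (Ac.one_right (vv_C hn)))
  have s4 : sg (4 * a) (4 * b) 4 = 4 * a :=
    vv_inj (sgl _) (by omega) (Ac.uniq E (hl 4 (by norm_num)) h7)
  have s8 : sg (4 * a) (4 * b) 8 = 4 * b :=
    vv_inj (sgl _) (by omega) (Ac.uniq E (hl 8 (by norm_num)) h8)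
  have c1' := hsg1 4 (by norm_num)
  have c2' := hsg1 8 (by norm_num)
  have c3' := hsg2 4 (by norm_num)
  have c4' := hsg2 8 (by norm_num)
  rw [s4, show tI 4 = 12 by decide +kernel] at c1'
  rw [s8, show tI 8 = 8 by decide +kernel] at c2'
  rw [s4] at c3'
  rw [s8] at c4'
  -- the image of `x01`
  obtain ⟨k1, hk1⟩ := E.exists_ac h1 C_01 (by decide +kernel)
  have hkx : mu k1 (X 0 3) = mu (X 0 3) k1 := hk1.comm_of E h6 (by decide +kernel)
  have hw : ∀ w < 4, ∃ w' < 4, Ac ph q (vv w) (vv w') := by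
    intro w hw
    interval_cases w
    · exact ⟨0, by norm_num, Ac.one E q⟩
    · exact ⟨2, by norm_num, h1.congr v1 v2⟩
    · exact ⟨3, by norm_num, h2.congr v2 v3⟩
    · exact ⟨1, by norm_num, h6.congr v3 v1⟩
  have hB : ∀ n < 64, (anyb 4 fun w => Nat.beq (mu k1 (vv n)) (mu (mu (vv n) k1) (vv w))) = true := by
    intro n hn
    obtain ⟨n', hn', h11⟩ := NV.act ((NV E).inv_mem hN) hn
    have h12 : Ac ph q (vv n') (vv n) := by
      have := h11.inv
      rwa [inv_inv] at this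
    obtain ⟨w, hw1, h13⟩ := of_anyb (of_allb x01_ck n' hn')
    obtain ⟨w', hw2, h14⟩ := hw w hw1
    have h15 : mu k1 (vv n) = mu (mu (vv n) k1) (vv w') :=
      Ac.uniq E (hk1.mul E h12) (((h12.mul E hk1).mul E h14).congr (beq_true h13).symm rfl)
    have : ∀ {N : ℕ} {P : ℕ → Bool} (k : ℕ), k < N → P k = true → anyb N P = true := by
      intro N P k hk hP
      induction N with
      | zero => omega
      | succ N ih =>
        show cond (P N) true (anyb N P) = true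
        rcases hp : P N with _ | _
        · rcases Nat.lt_succ_iff_lt_or_eq.mp hk with h | h
          · exact ih h
          · subst h; rw [hP] at hp; exact absurd hp (by decide)
        · rfl
    exact this w' hw2 (beq_of_eq h15)
  have hB1 := imp_mp (imp_mp (imp_mp (imp_mp (of_allK B1_ck hk1.r hkx)
    (by rw [v4]; exact hB 4 (by norm_num))) (by rw [v8]; exact hB 8 (by norm_num)))
    (by rw [v16]; exact hB 16 (by norm_num))) (by rw [v32]; exact hB 32 (by norm_num))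
  rw [Bool.or_eq_true] at hB1
  rcases hB1 with h11 | h11
  swap
  · exact absurd h11 (not_sing hk1.r)
  obtain ⟨n, hn, h12⟩ := of_anyb h11
  have hkn := beq_true h12
  have hci : Ac ph q c1i c1i := (h3.mul E h3).congr c1_sq c1_sq
  have hk2 : Ac ph q (X 0 2) (mu c1i (mu k1 c1)) :=
    (hci.mul E (hk1.mul E h3)).congr (by decide +kernel) rfl
  have hfin := of_allb (of_allb sg_ck a ha) b hb
  have hfin2 := imp_mp (imp_mp (imp_mp (imp_mp hfin (beq_of_eq c1')) (beq_of_eq c2'))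
    (beq_of_eq c3')) (beq_of_eq c4')
  have hfin3 := of_allb hfin2 n hn
  rw [force_eq, ← hkn, force_eq] at hfin3
  have r1 : mu k1 (vv (4 * a)) = mu (mu (vv (4 * a)) k1) zc :=
    Ac.uniq E (hk1.mul E h7) (((h7.mul E hk1).mul E h1).congr (by decide +kernel) rfl)
  have r2 : mu (mu c1i (mu k1 c1)) (vv (4 * a)) = mu (vv (4 * a)) (mu c1i (mu k1 c1)) :=
    Ac.uniq E (hk2.mul E h7) ((h7.mul E hk2).congr (by decide +kernel) rfl)
  have r3 : mu k1 (vv (4 * b)) = mu (mu (vv (4 * b)) k1) xz :=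
    Ac.uniq E (hk1.mul E h8) (((h8.mul E hk1).mul E h2).congr (by decide +kernel) rfl)
  have r4 : mu (mu c1i (mu k1 c1)) (vv (4 * b)) = mu (vv (4 * b)) (mu c1i (mu k1 c1)) :=
    Ac.uniq E (hk2.mul E h8) ((h8.mul E hk2).congr (by decide +kernel) rfl)
  have hfin4 := imp_mp (imp_mp (imp_mp (imp_mp hfin3 (beq_of_eq r1)) (beq_of_eq r2))
    (beq_of_eq r3)) (beq_of_eq r4)
  simp only [Bool.and_eq_true] at hfin4
  obtain ⟨⟨ha2, hb3⟩, hm⟩ := hfin4
  have ha2' := beq_true ha2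
  have hb3' := beq_true hb3
  obtain ⟨m, hm1, hm2⟩ := of_anyb hm
  have hk1m := beq_true hm2
  clear hfin hfin2 hfin3
  subst ha2' hb3'
  have e88 : 4 * 2 = 8 := rfl
  have e12 : 4 * 3 = 12 := rfl
  rw [e88, e12] at hl sgl
  refine ⟨hl, m, ?_, hk1m ▸ hk1⟩
  have hck := of_allb f_ck m hm1
  rw [force_eq, force_eq, ← hk1m] at hck
  have q1 : sg 8 12 (tI m) = m := by
    have x1 : Ac ph (ph (X 3 4)) (X 0 1) (X 0 1) := Ac.of_ph E C_01 C_01 C_34 (by decide +kernel)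
    have h13 : Ac ph (q * ph (X 3 4) * q) (X 0 1) (mu k1 (vv (sg 8 12 (tI m)))) := by
      refine (hk1.comp (?_ : Ac ph (ph (X 3 4)) k1 (mu (X 0 1) (vv (tI m))))).comp
        (hk1.mul E (hl _ (tI_lt _)))
      rw [hk1m]
      exact x1.mul E (tI_ac E hm1)
    rw [hq34] at h13
    have h14 := Ac.uniq E h13 x1
    rw [hk1m] at h14
    exact beq_true (imp_mp (of_allb (of_allb x01_ck2 m hm1) _ (sgl _)) (beq_of_eq h14))
  have q2 : mu k1 k1 = e1 :=
    Ac.uniq E (hk1.mul E hk1) ((Ac.one E q).congr (by decide +kernel) rfl)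
  have q3 : mu k1 (mu c1i (mu k1 c1)) = mu (mu c1i (mu k1 c1)) k1 :=
    Ac.uniq E (hk1.mul E hk2) ((hk2.mul E hk1).congr (by decide +kernel) rfl)
  have q4 : mu c1i (mu (mu c1i (mu k1 c1)) c1) = mu k1 (mu c1i (mu k1 c1)) :=
    Ac.uniq E (hci.mul E (hk2.mul E h3)) ((hk1.mul E hk2).congr (by decide +kernel) rfl)
  have hck2 := imp_mp (imp_mp (imp_mp (imp_mp hck (beq_of_eq q1)) (beq_of_eq q2)) (beq_of_eq q3))
    (beq_of_eq q4)
  rw [Bool.or_eq_true] at hck2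
  rcases hck2 with h | h
  · left; exact beq_true h
  · right; exact beq_true h

end Cfsg.Agent.Held.Code
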