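import Cfsg.Agent.Held.Side3

/-!
# Steps 6 and 7: `y` and `x12`, `x21`; the theorem `side`
-/

set_option autoImplicit false

namespace Cfsg.Agent.Held.Code

open Cfsg.Agent.Lib.F2Mat

variable {G : Type*} [Group G] {z : G} {ph : ℕ → G}

theorem centB1_ck : allK (fun k =>
    imp (Nat.beq (mu k (X 1 3)) (mu (X 1 3) k))
    (imp (Nat.beq (mu k (X 1 4)) (mu (X 1 4) k))
    (imp (Nat.beq (mu k (X 2 3)) (mu (X 2 3) k))
    (imp (Nat.beq (mu k (X 2 4)) (mu (X 2 4) k))
    (imp (Nat.beq (mu k (X 0 1)) (mu (X 0 1) k))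
    (imp (Nat.beq (mu k (X 0 2)) (mu (X 0 2) k))
      ((anyb 4 fun w => Nat.beq k (vv w)) || sing k))))))) = true := by decide +kernel

theorem comm_of_Ac (E : Emb z ph) {k a : ℕ} (hk : C k) (h : Ac ph (ph k) a a) :
    mu k a = mu a k := by
  apply E.inj (hk.mul h.l) (h.l.mul hk)
  rw [E.mul hk h.l, E.mul h.l hk]; exact h.e.symm

/-- Step 6 -/
theorem exists_eps {E : Emb z ph} {y : G} {m : ℕ}
    (hl : ∀ n < 64, Ac ph y (vv n) (vv (sg 8 12 n))) (hm : m = 0 ∨ m = 17)
    (h1 : Ac ph y (X 0 1) (mu (X 0 1) (vv m))) (hc : Ac ph y c1 c1)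
    (hi : ph (X 3 4) * y * ph (X 3 4) = y⁻¹) :
    ∃ t : Bool, Ac ph y (cond t (mu (X 1 2) zc) (X 1 2)) (cond t (mu (X 1 2) zc) (X 1 2)) ∧
      Ac ph y (cond t (mu (X 2 1) zc) (X 2 1)) (cond t (mu (X 2 1) zc) (X 2 1)) := by
  have v1 : X 0 3 = vv 1 := by decide +kernel
  have v2 : zc = vv 2 := by decide +kernel
  have v3 : xz = vv 3 := by decide +kernel
  have v4 : X 1 3 = vv 4 := by decide +kernel
  have v8 : X 1 4 = vv 8 := by decide +kernel
  have v16 : X 2 3 = vv 16 := by decide +kernel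
  have v32 : X 2 4 = vv 32 := by decide +kernel
  have sgl : ∀ n, sg 8 12 n < 64 := fun n =>
    lin_lt (by norm_num) (by norm_num) (by norm_num) (by norm_num) (cI_lt _) (cI_lt _) n
  have h03 : Ac ph y (X 0 3) zc := by
    have := hl 1 (by norm_num)
    rwa [← v1, show sg 8 12 1 = 2 by decide +kernel, ← v2] at this
  have hz : Ac ph y zc xz := by
    have := hl 2 (by norm_num)
    rwa [← v2, show sg 8 12 2 = 3 by decide +kernel, ← v3] at this
  have h12 : ph (X 1 2) * ph (X 1 2) = 1 := by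
    rw [← E.mul C_12 C_12, ← E.one, show mu (X 1 2) (X 1 2) = e1 by decide +kernel]
  have h34 : ph (X 3 4) * ph (X 3 4) = 1 := by
    rw [← E.mul C_34 C_34, ← E.one, show mu (X 3 4) (X 3 4) = e1 by decide +kernel]
  have hcom : ph (X 1 2) * ph (X 3 4) = ph (X 3 4) * ph (X 1 2) :=
    (E.comm_iff C_12 C_34).mpr (by decide +kernel)
  -- the action of `x12` on indices
  have a12 : ∀ n < 64, Ac ph (ph (X 1 2)) (vv n) (vv (Code.lin 1 2 4 8 20 40 n)) := by
    intro n hn
    have hck : allb 64 (fun n => Nat.beq (mu (vv n) (X 1 2))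
      (mu (X 1 2) (vv (Code.lin 1 2 4 8 20 40 n)))) = true := by decide +kernel
    exact Ac.of_ph E (vv_C hn) (vv_C (lin_lt (by norm_num) (by norm_num) (by norm_num)
      (by norm_num) (by norm_num) (by norm_num) n)) C_12 (beq_true (of_allb hck n hn))
  have l12 : ∀ n, Code.lin 1 2 4 8 20 40 n < 64 := fun n => lin_lt (by norm_num) (by norm_num)
    (by norm_num) (by norm_num) (by norm_num) (by norm_num) n
  set y' := ph (X 1 2) * y * ph (X 1 2) with hy'
  have hl' : ∀ n < 64, Ac ph y' (vv n) (vv (sg 8 12 n)) := by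
    intro n hn
    have h := ((a12 n hn).comp (hl _ (l12 n))).comp (a12 _ (sgl _))
    have hck : allb 64 (fun n => Nat.beq (Code.lin 1 2 4 8 20 40
      (sg 8 12 (Code.lin 1 2 4 8 20 40 n))) (sg 8 12 n)) = true := by decide +kernel
    rw [beq_true (of_allb hck n hn)] at h
    exact h
  have x01a : Ac ph (ph (X 1 2)) (X 0 1) (mu (X 0 1) (X 0 2)) :=
    Ac.of_ph E C_01 (C_01.mul C_02) C_12 (by decide +kernel)
  have x02a : Ac ph (ph (X 1 2)) (X 0 2) (X 0 2) := Ac.of_ph E C_02 C_02 C_12 (by decide +kernel)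
  have hci : Ac ph y c1i c1i := (hc.mul E hc).congr c1_sq c1_sq
  have h2 : Ac ph y (X 0 2) (mu c1i (mu (mu (X 0 1) (vv m)) c1)) :=
    (hci.mul E (h1.mul E hc)).congr (by decide +kernel) rfl
  have hm' : m < 64 := by rcases hm with rfl | rfl <;> norm_num
  have h1' : Ac ph y' (X 0 1) (mu (X 0 1) (vv m)) := by
    have h := (x01a.comp (h1.mul E h2))
    have hx : Ac ph (ph (X 1 2)) (mu (mu (X 0 1) (vv m)) (mu c1i (mu (mu (X 0 1) (vv m)) c1)))
        (mu (X 0 1) (vv m)) := by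
      refine Ac.of_ph E ?_ (C_01.mul (vv_C hm')) C_12 ?_
      · exact (h1.mul E h2).r
      · rcases hm with rfl | rfl <;> decide +kernel
    exact h.comp hx
  have h2' : Ac ph y' (X 0 2) (mu c1i (mu (mu (X 0 1) (vv m)) c1)) := by
    have hx : Ac ph (ph (X 1 2)) (mu c1i (mu (mu (X 0 1) (vv m)) c1))
        (mu c1i (mu (mu (X 0 1) (vv m)) c1)) := by
      refine Ac.of_ph E h2.r h2.r C_12 ?_
      rcases hm with rfl | rfl <;> decide +kernel
    exact (x02a.comp h2).comp hx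
  -- `w = y' y⁻¹`
  have hfix : ∀ a b, Ac ph y' a b → Ac ph y a b → Ac ph (y' * y⁻¹) a a :=
    fun a b h h' => h.comp h'.inv
  obtain ⟨k, hk, hkw⟩ := E.of_fix (hfix zc _ (by rw [v2]; exact hl' 2 (by norm_num))
    (by rw [v2]; exact hl 2 (by norm_num)))
  have hfv : ∀ n < 64, mu k (vv n) = mu (vv n) k := by
    intro n hn
    apply comm_of_Ac E hk
    rw [hkw]; exact hfix _ _ (hl' n hn) (hl n hn)
  have hf1 : mu k (X 0 1) = mu (X 0 1) k := by
    apply comm_of_Ac E hk
    rw [hkw]; exact hfix _ _ h1' h1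
  have hf2 : mu k (X 0 2) = mu (X 0 2) k := by
    apply comm_of_Ac E hk
    rw [hkw]; exact hfix _ _ h2' h2
  have hck := imp_mp (imp_mp (imp_mp (imp_mp (imp_mp (imp_mp (of_allK centB1_ck hk
    (by rw [v1]; exact hfv 1 (by norm_num))) (beq_of_eq (by rw [v4]; exact hfv 4 (by norm_num))))
    (beq_of_eq (by rw [v8]; exact hfv 8 (by norm_num))))
    (beq_of_eq (by rw [v16]; exact hfv 16 (by norm_num))))
    (beq_of_eq (by rw [v32]; exact hfv 32 (by norm_num)))) (beq_of_eq hf1)) (beq_of_eq hf2)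
  rw [Bool.or_eq_true] at hck
  rcases hck with h5 | h5
  swap
  · exact absurd h5 (not_sing hk)
  obtain ⟨w, hw, h6⟩ := of_anyb h5
  have hkw' := beq_true h6
  subst hkw'
  have hy2 : y' = ph (vv w) * y := by rw [hkw]; group
  -- `x34` inverts `y'`
  have hi' : ph (X 3 4) * y' * ph (X 3 4) = y'⁻¹ := by
    have e : ph (X 3 4) * y' * ph (X 3 4) = ph (X 1 2) * (ph (X 3 4) * y * ph (X 3 4)) *
        ph (X 1 2) := by
      rw [hy']
      calc ph (X 3 4) * (ph (X 1 2) * y * ph (X 1 2)) * ph (X 3 4)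
          = (ph (X 3 4) * ph (X 1 2)) * y * (ph (X 1 2) * ph (X 3 4)) := by group
        _ = (ph (X 1 2) * ph (X 3 4)) * y * (ph (X 3 4) * ph (X 1 2)) := by rw [hcom]
        _ = _ := by group
    have h5 : (ph (X 1 2))⁻¹ = ph (X 1 2) := inv_eq_of_mul_eq_one_left h12
    rw [e, hi, hy', mul_inv_rev, mul_inv_rev, h5, mul_assoc]
  have hw64 : w < 64 := by omega
  have hAc : Ac ph y (vv w) (vv (tI w)) := by
    refine ⟨vv_C hw64, vv_C (tI_lt _), ?_⟩
    have e1 := (tI_ac E hw64).e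
    rw [hy2] at hi'
    have e2 : ph (vv (tI w)) = ph (X 3 4) * ph (vv w) * ph (X 3 4) := by
      have : ph (X 3 4) * (ph (X 3 4) * ph (vv (tI w))) = ph (X 3 4) * (ph (vv w) * ph (X 3 4)) := by
        rw [e1]
      rw [← mul_assoc, h34, one_mul] at this
      rw [this]; group
    have e3 : ph (X 3 4) * (ph (vv w) * y) * ph (X 3 4) =
        (ph (X 3 4) * ph (vv w) * ph (X 3 4)) * ((ph (X 3 4) * ph (X 3 4))⁻¹ *
          (ph (X 3 4) * y * ph (X 3 4))) := by group
    rw [e3, h34, inv_one, one_mul, hi, ← e2, mul_inv_rev] at hi'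
    have e4 : (ph (vv w))⁻¹ = ph (vv w) := E.inv_eq (vv_C hw64) (vv_C hw64) (vv_sq hw64)
    rw [e4] at hi'
    -- `k' y⁻¹ = y⁻¹ k`
    have e5 : y * (ph (vv (tI w)) * y⁻¹) * y = y * (y⁻¹ * ph (vv w)) * y := by rw [hi']
    have e6 : y * (ph (vv (tI w)) * y⁻¹) * y = y * ph (vv (tI w)) := by group
    have e7 : y * (y⁻¹ * ph (vv w)) * y = ph (vv w) * y := by group
    rw [← e7, ← e5, e6]
  have hsw : sg 8 12 w = tI w := vv_inj (sgl _) (tI_lt _) (Ac.uniq E (hl w hw64) hAc)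
  have hw03 : w = 0 ∨ w = 3 := by
    have hck : allb 4 (fun w => imp (Nat.beq (sg 8 12 w) (tI w)) (Nat.beq w 0 || Nat.beq w 3)) = true
      := by decide +kernel
    have := imp_mp (of_allb hck w hw) (beq_of_eq hsw)
    rw [Bool.or_eq_true] at this
    rcases this with h | h
    · left; exact beq_true h
    · right; exact beq_true h
  rcases hw03 with rfl | rfl
  · refine ⟨false, ⟨C_12, C_12, ?_⟩, ?_⟩
    · have : y' = y := by
        rw [hy2, show vv 0 = e1 by rfl, E.one, one_mul]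
      show ph (X 1 2) * y = y * ph (X 1 2)
      rw [hy'] at this
      calc ph (X 1 2) * y = ph (X 1 2) * y * (ph (X 1 2) * ph (X 1 2)) := by rw [h12, mul_one]
        _ = (ph (X 1 2) * y * ph (X 1 2)) * ph (X 1 2) := by group
        _ = _ := by rw [this]
    · have hx : Ac ph y (X 1 2) (X 1 2) := ⟨C_12, C_12, by
        have : y' = y := by
          rw [hy2, show vv 0 = e1 by rfl, E.one, one_mul]
        rw [hy'] at this
        calc ph (X 1 2) * y = ph (X 1 2) * y * (ph (X 1 2) * ph (X 1 2)) := by rw [h12, mul_one]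
          _ = (ph (X 1 2) * y * ph (X 1 2)) * ph (X 1 2) := by group
          _ = _ := by rw [this]⟩
      exact (hx.mul E hc).congr (by decide +kernel) (by decide +kernel)
  · have hx : Ac ph y (mu (X 1 2) zc) (mu (X 1 2) zc) := ⟨C_12.mul C_zc, C_12.mul C_zc, by
      rw [E.mul C_12 C_zc, E.z_eq]
      have hzy : z * y * z = ph (vv 3) * y := by
        have e2 := h03.e
        rw [E.z_eq] at e2
        rw [mul_assoc, ← e2, ← mul_assoc, ← v3, ← E.z_eq, ← E.mul C_zc C_03, xz_eq']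
      rw [← hy2, hy'] at hzy
      have hzz : z * z = 1 := by
        rw [← E.z_eq, ← E.mul C_zc C_zc, ← E.one, show mu zc zc = e1 by decide +kernel]
      have hcz : ph (X 1 2) * z = z * ph (X 1 2) := E.comm C_12
      calc ph (X 1 2) * z * y = ph (X 1 2) * (z * y * z) * z⁻¹ := by group
        _ = ph (X 1 2) * (ph (X 1 2) * y * ph (X 1 2)) * z⁻¹ := by rw [hzy]
        _ = (ph (X 1 2) * ph (X 1 2)) * y * (ph (X 1 2) * z⁻¹) := by group
        _ = y * (ph (X 1 2) * z) := by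
          rw [h12, one_mul, inv_eq_of_mul_eq_one_left hzz]⟩
    exact ⟨true, hx, (hx.mul E hc).congr (by decide +kernel) (by decide +kernel)⟩

/-! ### exclusion of the mixed types -/

theorem rank1 {c d : ℕ} (h : mu d c = e1) (i j k l : Fin 5) (hij : i ≠ j) :
    toMat 5 (mu d (mu (X i j) c)) k l =
      (if k = l then 1 else 0) + toMat 5 d k i * toMat 5 c j l := by
  have h1 : toMat 5 d * toMat 5 c = 1 := by
    rw [← toMat_mul]
    have : Lib.F2Mat.mul 5 d c = e1 := h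
    rw [this, ← one_eq_e1, toMat_one]
  have h2 : toMat 5 (X i j) = Matrix.transvection i j 1 := by
    ext a b
    rw [X_ent i j a b hij, Matrix.transvection, Matrix.add_apply, Matrix.one_apply,
      Matrix.single_apply]
    by_cases hab : a = b
    · subst hab
      by_cases h3 : i = a ∧ j = a
      · exact absurd (h3.1.trans h3.2.symm) hij
      · simp [h3]
    · by_cases h3 : i = a ∧ j = b
      · obtain ⟨rfl, rfl⟩ := h3
        simp [hab]
      · have h4 : ¬ (a = i ∧ b = j) := fun h => h3 ⟨h.1.symm, h.2.symm⟩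
        simp [hab, h3, h4]
  have h3 : toMat 5 (mu d (mu (X i j) c)) =
      1 + toMat 5 d * (Matrix.single i j 1 * toMat 5 c) := by
    show toMat 5 (Lib.F2Mat.mul 5 d (Lib.F2Mat.mul 5 (X i j) c)) = _
    rw [toMat_mul, toMat_mul, h2, Matrix.transvection, add_mul, one_mul, mul_add, h1]
  rw [h3, Matrix.add_apply, Matrix.one_apply]
  congr 1
  rw [Matrix.mul_apply]
  have h4 : ∀ a, (Matrix.single i j (1 : ZMod 2) * toMat 5 c) a l =
      if a = i then toMat 5 c j l else 0 := by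
    intro a
    rw [Matrix.mul_apply]
    simp only [Matrix.single_apply]
    by_cases ha : a = i
    · subst ha
      simp
    · have : ∀ x, ¬ (i = a ∧ j = x) := fun x h => ha h.1.symm
      simp [ha, this]
  simp only [h4]
  simp

theorem rank1_minor {E : Emb z ph} {c f' : ℕ} (i j : Fin 5) (hij : i ≠ j)
    (h : Ac ph (ph c) (X i j) f') (hc : C c) (h02 : toMat 5 f' 0 2 = 0) (h03 : toMat 5 f' 0 3 = 1)
    (h12 : toMat 5 f' 1 2 = 1) : False := by
  obtain ⟨d, hd, h1, h2⟩ := hc.exists_inv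
  have h3 : mu (X i j) c = mu c f' := by
    apply E.inj (h.l.mul hc) (hc.mul h.r)
    rw [E.mul h.l hc, E.mul hc h.r]; exact h.e
  have h4 : mu d (mu (X i j) c) = f' := by
    rw [h3, ← mu_assoc, h2, e1_mu h.r.1]
  have key := fun k l => rank1 h2 i j k l hij
  rw [h4] at key
  have k02 := key 0 2
  have k03 := key 0 3
  have k12 := key 1 2
  rw [h02] at k02
  rw [h03] at k03
  rw [h12] at k12
  simp only [show ¬ ((0 : Fin 5) = 2) by decide, show ¬ ((0 : Fin 5) = 3) by decide,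
    show ¬ ((1 : Fin 5) = 2) by decide, if_false, zero_add] at k02 k03 k12
  generalize toMat 5 d 0 i = p at *
  generalize toMat 5 d 1 i = q at *
  generalize toMat 5 c j 2 = r at *
  generalize toMat 5 c j 3 = s at *
  revert k02 k03 k12
  revert p q r s
  decide

theorem C_32 : C (X 3 2) := C_of_isC (b := X 3 2) (by decide +kernel)

theorem no01 {E : Emb z ph} {y : G} (h03 : Ac ph y (X 0 3) zc) (hz : Ac ph y zc xz)
    (h13 : Ac ph y (X 1 3) (X 1 4)) (h14 : Ac ph y (X 1 4) (mu (X 1 3) (X 1 4)))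
    (h02 : Ac ph y (X 0 2) (X 0 2)) (h12 : Ac ph y (mu (X 1 2) zc) (mu (X 1 2) zc)) : False := by
  have x12 : Ac ph y (X 1 2) (mu (X 1 2) (X 0 3)) :=
    (h12.mul E hz).congr (by decide +kernel) (by decide +kernel)
  have o : ∀ a b, C a → C b → mu a (X 3 2) = mu (X 3 2) b → Ac ph (ph (X 3 2)) a b :=
    fun a b ha hb h => Ac.of_ph E ha hb C_32 h
  have c1' : C (mu (X 1 3) (X 1 4)) := C_13.mul C_14
  -- the image of `z`
  have hz' : Ac ph (y * ph (X 3 2) * y * ph (X 3 2) * y) zc zc := by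
    have s1 := hz
    have s2 := o xz (mu (X 0 2) xz) C_xz (C_02.mul C_xz) (by decide +kernel)
    have hxz : Ac ph y xz (X 0 3) := (h03.mul E hz).congr (by decide +kernel) (by decide +kernel)
    have s3 := h02.mul E hxz
    have s4 := o (mu (X 0 2) (X 0 3)) (X 0 3) (C_02.mul C_03) C_03 (by decide +kernel)
    exact ((((s1.comp s2).comp s3).comp s4).comp h03)
  have h13' : Ac ph (y * ph (X 3 2) * y * ph (X 3 2) * y) (X 1 3)
      (mu (X 0 3) (mu (X 1 2) (X 1 3))) := by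
    have s2 := o (X 1 4) (X 1 4) C_14 C_14 (by decide +kernel)
    have s4 := o (mu (X 1 3) (X 1 4)) (mu (X 1 2) (mu (X 1 3) (X 1 4))) c1' (C_12.mul c1')
      (by decide +kernel)
    have s5 := (x12.mul E (h13.mul E h14)).congr (b' := mu (X 0 3) (mu (X 1 2) (X 1 3))) rfl
      (by decide +kernel)
    exact ((((h13.comp s2).comp h14).comp s4).comp s5)
  obtain ⟨c, hc, hcw⟩ := E.of_fix hz'
  rw [← hcw] at h13'
  exact rank1_minor (E := E) 1 3 (by decide) h13' hc (by decide +kernel) (by decide +kernel)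
    (by decide +kernel)

/-- the elements of `V1`: bits of `n` are the entries `14, 04, 13, 03, 12, 02` -/
def uu (n : ℕ) : ℕ :=
  Nat.add (Nat.add (Nat.add (Nat.add (Nat.add (Nat.add 17043521 (Nat.mul (Nat.mod n 2) 512))
    (Nat.mul (Nat.mod (Nat.div n 2) 2) 16)) (Nat.mul (Nat.mod (Nat.div n 4) 2) 256))
    (Nat.mul (Nat.mod (Nat.div n 8) 2) 8)) (Nat.mul (Nat.mod (Nat.div n 16) 2) 128))
    (Nat.mul (Nat.div n 32) 4)

theorem uu_ck : allb 64 (fun n => isC (uu n) (uu n)) = true := by decide +kernel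

theorem uu_C {n : ℕ} (hn : n < 64) : C (uu n) := C_of_isC (of_allb uu_ck n hn)

theorem uu_mul_ck : allb 64 (fun n => allb 64 (fun m =>
    Nat.beq (mu (uu n) (uu m)) (uu (Nat.xor n m)))) = true := by decide +kernel

theorem uu_mul {n m : ℕ} (hn : n < 64) (hm : m < 64) :
    mu (uu n) (uu m) = uu (Nat.xor n m) := beq_true (of_allb (of_allb uu_mul_ck n hn) m hm)

/-- the action of `y` on `V1` from the action on generators -/
theorem Ac.linU (E : Emb z ph) {y : G} {a0 a1 a2 a3 a4 a5 : ℕ}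
    (l0 : a0 < 64) (l1 : a1 < 64) (l2 : a2 < 64) (l3 : a3 < 64) (l4 : a4 < 64) (l5 : a5 < 64)
    (h0 : Ac ph y (uu 1) (uu a0)) (h1 : Ac ph y (uu 2) (uu a1)) (h2 : Ac ph y (uu 4) (uu a2))
    (h3 : Ac ph y (uu 8) (uu a3)) (h4 : Ac ph y (uu 16) (uu a4)) (h5 : Ac ph y (uu 32) (uu a5)) :
    ∀ n < 64, Ac ph y (uu n) (uu (Code.lin a0 a1 a2 a3 a4 a5 n)) := by
  obtain ⟨g0, g1, g2, g3, g4, g5, g6⟩ := lin_gen a0 a1 a2 a3 a4 a5
  apply gen6
  · rw [g0]; exact Ac.one E y
  · intro n hn m hm h h'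
    have h6 := h.mul E h'
    rw [uu_mul hn hm, uu_mul (lin_lt l0 l1 l2 l3 l4 l5 n) (lin_lt l0 l1 l2 l3 l4 l5 m),
      ← lin_xor] at h6
    exact h6
  · rw [g1]; exact h0
  · rw [g2]; exact h1
  · rw [g3]; exact h2
  · rw [g4]; exact h3
  · rw [g5]; exact h4
  · rw [g6]; exact h5

theorem no10 {E : Emb z ph} {y : G} (h03 : Ac ph y (X 0 3) zc) (hz : Ac ph y zc xz)
    (h13 : Ac ph y (X 1 3) (X 1 4)) (h14 : Ac ph y (X 1 4) (mu (X 1 3) (X 1 4)))
    (h02 : Ac ph y (X 0 2) (mu (X 0 2) (mu (X 0 3) (X 1 3)))) (h12 : Ac ph y (X 1 2) (X 1 2)) :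
    False := by
  have hy : ∀ n < 64, Ac ph y (uu n) (uu (Code.lin 5 10 1 2 16 44 n)) := by
    apply Ac.linU E (by norm_num) (by norm_num) (by norm_num) (by norm_num) (by norm_num)
      (by norm_num)
    · exact h14.congr (by decide +kernel) (by decide +kernel)
    · exact hz.congr (by decide +kernel) (by decide +kernel)
    · exact h13.congr (by decide +kernel) (by decide +kernel)
    · exact h03.congr (by decide +kernel) (by decide +kernel)
    · exact h12.congr (by decide +kernel) (by decide +kernel)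
    · exact h02.congr (by decide +kernel) (by decide +kernel)
  have ly : ∀ n, Code.lin 5 10 1 2 16 44 n < 64 := fun n => lin_lt (by norm_num) (by norm_num)
    (by norm_num) (by norm_num) (by norm_num) (by norm_num) n
  have l32 : ∀ n, Code.lin 1 2 20 40 16 32 n < 64 := fun n => lin_lt (by norm_num) (by norm_num)
    (by norm_num) (by norm_num) (by norm_num) (by norm_num) n
  have l23 : ∀ n, Code.lin 1 2 4 8 20 40 n < 64 := fun n => lin_lt (by norm_num) (by norm_num)
    (by norm_num) (by norm_num) (by norm_num) (by norm_num) n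
  have h32 : ∀ n < 64, Ac ph (ph (X 3 2)) (uu n) (uu (Code.lin 1 2 20 40 16 32 n)) := by
    intro n hn
    have hck : allb 64 (fun n => Nat.beq (mu (uu n) (X 3 2))
      (mu (X 3 2) (uu (Code.lin 1 2 20 40 16 32 n)))) = true := by decide +kernel
    exact Ac.of_ph E (uu_C hn) (uu_C (l32 n)) C_32 (beq_true (of_allb hck n hn))
  have h23 : ∀ n < 64, Ac ph (ph (X 2 3)) (uu n) (uu (Code.lin 1 2 4 8 20 40 n)) := by
    intro n hn
    have hck : allb 64 (fun n => Nat.beq (mu (uu n) (X 2 3))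
      (mu (X 2 3) (uu (Code.lin 1 2 4 8 20 40 n)))) = true := by decide +kernel
    exact Ac.of_ph E (uu_C hn) (uu_C (l23 n)) C_23 (beq_true (of_allb hck n hn))
  have hw : ∀ n < 64, ∃ m, Ac ph (y * ph (X 3 2) * y * ph (X 3 2) * ph (X 2 3) * y * y *
      ph (X 3 2) * y * ph (X 3 2) * y) (uu n) (uu m) ∧
      m = Code.lin 5 10 1 2 16 44 (Code.lin 1 2 20 40 16 32 (Code.lin 5 10 1 2 16 44
        (Code.lin 1 2 20 40 16 32 (Code.lin 5 10 1 2 16 44 (Code.lin 5 10 1 2 16 44
        (Code.lin 1 2 4 8 20 40 (Code.lin 1 2 20 40 16 32 (Code.lin 5 10 1 2 16 44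
        (Code.lin 1 2 20 40 16 32 (Code.lin 5 10 1 2 16 44 n)))))))))) := by
    intro n hn
    refine ⟨_, ?_, rfl⟩
    exact ((((((((((hy n hn).comp (h32 _ (ly _))).comp (hy _ (l32 _))).comp (h32 _ (ly _))).comp
      (h23 _ (l32 _))).comp (hy _ (l23 _))).comp (hy _ (ly _))).comp (h32 _ (ly _))).comp
      (hy _ (l32 _))).comp (h32 _ (ly _))).comp (hy _ (l32 _))
  obtain ⟨m, h1, h2⟩ := hw 2 (by norm_num)
  have hm : m = 2 := by rw [h2]; decide +kernel
  subst hm
  obtain ⟨c, hc, hcw⟩ := E.of_fix (h1.congr (b' := zc) (a' := zc) (by decide +kernel)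
    (by decide +kernel))
  obtain ⟨m, h3, h4⟩ := hw 32 (by norm_num)
  rw [← hcw] at h3
  have hm : m = 29 := by rw [h4]; decide +kernel
  subst hm
  exact rank1_minor (E := E) 0 2 (by decide) (h3.congr (a' := X 0 2) (by decide +kernel) rfl) hc
    (by decide +kernel) (by decide +kernel) (by decide +kernel)

/-! ### the theorem `side` -/

/-- the element `y` of order 3 -/
structure Side (z : G) (ph : ℕ → G) (t : Bool) (y : G) : Prop where
  cube : y ^ 3 = 1
  inv : ph (X 3 4) * y * ph (X 3 4) = y⁻¹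
  a03 : Ac ph y (X 0 3) (X 0 4)
  a04 : Ac ph y (X 0 4) (mu (X 0 3) (X 0 4))
  a13 : Ac ph y (X 1 3) (X 1 4)
  a14 : Ac ph y (X 1 4) (mu (X 1 3) (X 1 4))
  a23 : Ac ph y (X 2 3) (X 2 4)
  a24 : Ac ph y (X 2 4) (mu (X 2 3) (X 2 4))
  a01 : Ac ph y (X 0 1) (cond t (mu (X 0 1) (mu (X 0 3) (X 2 3))) (X 0 1))
  a02 : Ac ph y (X 0 2) (cond t (mu (X 0 2) (mu (X 0 3) (X 1 3))) (X 0 2))
  a12 : Ac ph y (cond t (mu (X 1 2) zc) (X 1 2)) (cond t (mu (X 1 2) zc) (X 1 2))
  a21 : Ac ph y (cond t (mu (X 2 1) zc) (X 2 1)) (cond t (mu (X 2 1) zc) (X 2 1))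

theorem side {E : Emb z ph} [Finite G] {g : G} (hg : g ∈ NV E) (h : Ac ph g zc (X 0 3)) :
    ∃ t y, Side z ph t y := by
  obtain ⟨r, hr, h1, h2⟩ := exists_rho hg h
  obtain ⟨p, hp, h3, h4, h5⟩ := exists_p hr h1 h2
  obtain ⟨y, hy, a03, a04, ac, inv, cube⟩ := exists_q hp h3 h4 h5
  obtain ⟨hl, m, hm, a01⟩ := exists_t (E := E) hy a03 a04 ac inv cube
  obtain ⟨t, a12, a21⟩ := exists_eps (E := E) hl hm a01 ac inv
  have a13 : Ac ph y (X 1 3) (X 1 4) :=
    (hl 4 (by norm_num)).congr (by decide +kernel) (by decide +kernel)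
  have a14 : Ac ph y (X 1 4) (mu (X 1 3) (X 1 4)) :=
    (hl 8 (by norm_num)).congr (by decide +kernel) (by decide +kernel)
  have a23 : Ac ph y (X 2 3) (X 2 4) :=
    (hl 16 (by norm_num)).congr (by decide +kernel) (by decide +kernel)
  have a24 : Ac ph y (X 2 4) (mu (X 2 3) (X 2 4)) :=
    (hl 32 (by norm_num)).congr (by decide +kernel) (by decide +kernel)
  have aci : Ac ph y c1i c1i := (ac.mul E ac).congr c1_sq c1_sq
  have a02 : Ac ph y (X 0 2) (mu c1i (mu (mu (X 0 1) (vv m)) c1)) :=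
    (aci.mul E (a01.mul E ac)).congr (by decide +kernel) rfl
  rcases hm with rfl | rfl
  · -- `γ = 0`
    have a01' : Ac ph y (X 0 1) (X 0 1) := a01.congr rfl (by decide +kernel)
    have a02' : Ac ph y (X 0 2) (X 0 2) := a02.congr rfl (by decide +kernel)
    cases t
    · exact ⟨false, y, cube, inv, a03, a04, a13, a14, a23, a24, a01', a02', a12, a21⟩
    · exact (no01 (E := E) a03 a04 a13 a14 a02' a12).elim
  · have a01' : Ac ph y (X 0 1) (mu (X 0 1) (mu (X 0 3) (X 2 3))) :=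
      a01.congr rfl (by decide +kernel)
    have a02' : Ac ph y (X 0 2) (mu (X 0 2) (mu (X 0 3) (X 1 3))) :=
      a02.congr rfl (by decide +kernel)
    cases t
    · exact (no10 (E := E) a03 a04 a13 a14 a02' a12).elim
    · exact ⟨true, y, cube, inv, a03, a04, a13, a14, a23, a24, a01', a02', a12, a21⟩

end Cfsg.Agent.Held.Code
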