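import Cfsg.Agent.Held.Code

/-!
# The interface `Side`, the mirror, and `Config` (statements only, no proofs needed)

0-based indices: `X i j` is the code of `1 + E_ij`, `zc = X 0 4`.
-/

set_option autoImplicit false

namespace Cfsg.Agent.Held.SideDef

open Cfsg.Agent.Held.Code

/-- `g` if `t`, else `1` -/
def tw {G : Type*} [Group G] (t : Bool) (g : G) : G := cond t g 1

/-- One side of the amalgam: `y` has order 3, acts as a scalar of order 3 (on the columns 3, 4)
on `V2 = ⟨x_i3, x_i4⟩`; `t` is the twist. `a * y = y * b` means `y⁻¹ a y = b`. -/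
structure Side {G : Type*} [Group G] (z : G) (ph : ℕ → G) (t : Bool) (y : G) : Prop where
  cube : y ^ 3 = 1
  inv34 : ph (X 3 4) * y * ph (X 3 4) = y⁻¹
  a03 : ph (X 0 3) * y = y * ph (X 0 4)
  a13 : ph (X 1 3) * y = y * ph (X 1 4)
  a23 : ph (X 2 3) * y = y * ph (X 2 4)
  a04 : ph (X 0 4) * y = y * (ph (X 0 3) * ph (X 0 4))
  a14 : ph (X 1 4) * y = y * (ph (X 1 3) * ph (X 1 4))
  a24 : ph (X 2 4) * y = y * (ph (X 2 3) * ph (X 2 4))
  a01 : ph (X 0 1) * y = y * (ph (X 0 1) * tw t (ph (X 0 3) * ph (X 2 3)))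
  a02 : ph (X 0 2) * y = y * (ph (X 0 2) * tw t (ph (X 0 3) * ph (X 1 3)))
  a12 : (ph (X 1 2) * tw t z) * y = y * (ph (X 1 2) * tw t z)
  a21 : (ph (X 2 1) * tw t z) * y = y * (ph (X 2 1) * tw t z)

end Cfsg.Agent.Held.SideDef
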